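import Mathlib
import Cfsg.Agent.Base

/-! An invariant commutative product satisfying the "projective" identity on an irreducible
module `V` gives a proper subgroup of index at most `dim V + 1`. -/

set_option autoImplicit false
set_option linter.unusedSectionVars false
set_option linter.style.haveILetI false

namespace H17.Ord

theorem exists_common_eig {A ι : Type*} [AddCommGroup A] [Module ℂ A] [FiniteDimensional ℂ A]
    [Nontrivial A] (N : ι → Module.End ℂ A) (hc : ∀ a b, N a * N b = N b * N a) :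
    ∃ w : A, w ≠ 0 ∧ ∀ a, ∃ c : ℂ, N a w = c • w := by
  classical
  have hex : ∃ n, ∃ W : Submodule ℂ A, W ≠ ⊥ ∧ (∀ a, ∀ x ∈ W, N a x ∈ W) ∧
      Module.finrank ℂ W = n := ⟨_, ⊤, top_ne_bot, fun _ _ _ => trivial, rfl⟩
  obtain ⟨W, hW, hi, hn⟩ := Nat.find_spec hex
  obtain ⟨w, hw, hw0⟩ := Submodule.exists_mem_ne_zero_of_ne_bot hW
  refine ⟨w, hw0, fun a => ?_⟩
  haveI : Nontrivial W := Submodule.nontrivial_iff_ne_bot.mpr hW
  obtain ⟨c, hc'⟩ := Module.End.exists_eigenvalue ((N a).restrict (hi a))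
  obtain ⟨v, hv⟩ := hc'.exists_hasEigenvector
  have hv1 : N a v = c • (v : A) := congrArg Subtype.val hv.apply_eq_smul
  let W' : Submodule ℂ A := W ⊓ LinearMap.ker (N a - c • LinearMap.id)
  have mem : ∀ x, x ∈ W' ↔ x ∈ W ∧ N a x = c • x := fun x => by
    simp [W', sub_eq_zero]
  have h1 : W' ≠ ⊥ := fun h => hv.2 (Subtype.ext (by
    have := (mem v).mpr ⟨v.2, hv1⟩
    rw [h] at this
    exact this))
  have h2 := Nat.find_min' hex ⟨W', h1, fun b x hx => (mem _).mpr ⟨hi b x ((mem x).mp hx).1, by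
    rw [← Module.End.mul_apply, hc, Module.End.mul_apply, ((mem x).mp hx).2, map_smul]⟩, rfl⟩
  have h3 : W' = W := Submodule.eq_of_le_of_finrank_le inf_le_left (hn ▸ h2)
  exact ⟨c, ((mem w).mp (h3 ▸ hw)).2⟩

/-- `ℂ ⊕ V` with the product `(s, a)(t, b) = (st + l(a, b), sb + ta + ab)` -/
def AlgT {V : Type*} [AddCommGroup V] [Module ℂ V] (_m : V →ₗ[ℂ] V →ₗ[ℂ] V)
    (_l : V →ₗ[ℂ] V →ₗ[ℂ] ℂ) := ℂ × V

noncomputable instance {V : Type*} [AddCommGroup V] [Module ℂ V] (m : V →ₗ[ℂ] V →ₗ[ℂ] V)
    (l : V →ₗ[ℂ] V →ₗ[ℂ] ℂ) : MulOneClass (AlgT m l) where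
  mul x y := (x.1 * y.1 + l x.2 y.2, x.1 • y.2 + y.1 • x.2 + m x.2 y.2)
  one := (1, 0)
  one_mul x := by
    change ((1 : ℂ) * x.1 + l 0 x.2, (1 : ℂ) • x.2 + x.1 • (0 : V) + m 0 x.2) = (x.1, x.2)
    simp
  mul_one x := by
    change (x.1 * (1 : ℂ) + l x.2 0, x.1 • (0 : V) + (1 : ℂ) • x.2 + m x.2 0) = (x.1, x.2)
    simp

theorem ncard_chars_le {V : Type*} [AddCommGroup V] [Module ℂ V] [FiniteDimensional ℂ V]
    (m : V →ₗ[ℂ] V →ₗ[ℂ] V) (l : V →ₗ[ℂ] V →ₗ[ℂ] ℂ) {κ : Type*} [Finite κ]
    (φ : κ → V →ₗ[ℂ] ℂ) (hi : Function.Injective φ)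
    (h : ∀ k a b, φ k a * φ k b = φ k (m a b) + l a b) :
    Nat.card κ ≤ Module.finrank ℂ V + 1 := by
  letI := Fintype.ofFinite κ
  let f : κ → (AlgT m l →* ℂ) := fun k =>
    { toFun := fun x => x.1 + φ k x.2
      map_one' := by change (1 : ℂ) + φ k 0 = 1; simp
      map_mul' := fun x y => by
        change x.1 * y.1 + l x.2 y.2 + φ k (x.1 • y.2 + y.1 • x.2 + m x.2 y.2) = _
        simp only [map_add, map_smul, smul_eq_mul]
        linear_combination -h k x.2 y.2 }
  have hf : Function.Injective f := fun k k' e => hi (LinearMap.ext fun v => by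
    have : (0 : ℂ) + φ k v = 0 + φ k' v := DFunLike.congr_fun e ((0, v) : ℂ × V)
    simpa using this)
  have h1 := (linearIndependent_monoidHom (AlgT m l) ℂ).comp f hf
  let ψ : κ → (ℂ × V) →ₗ[ℂ] ℂ := fun k => LinearMap.fst ℂ ℂ V + (φ k).comp (LinearMap.snd ℂ ℂ V)
  have h2 : LinearIndependent ℂ ψ :=
    LinearIndependent.of_comp (LinearMap.ltoFun ℂ (ℂ × V) ℂ ℂ) h1
  have h3 := h2.fintype_card_le_finrank
  rw [Subspace.dual_finrank_eq, Module.finrank_prod, Module.finrank_self] at h3
  rw [Nat.card_eq_fintype_card]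
  omega

theorem exists_index_of_alg {G V : Type*} [Group G] [Finite G] [AddCommGroup V] [Module ℂ V]
    [FiniteDimensional ℂ V] (ρ : Representation ℂ G V)
    (hirr : ∀ W : Submodule ℂ V, (∀ g, ∀ x ∈ W, ρ g x ∈ W) → W = ⊥ ∨ W = ⊤)
    (hd : 2 ≤ Module.finrank ℂ V) (m : V →ₗ[ℂ] V →ₗ[ℂ] V) (l : V →ₗ[ℂ] V →ₗ[ℂ] ℂ) (hm0 : m ≠ 0)
    (mc : ∀ a b, m a b = m b a) (mg : ∀ g a b, ρ g (m a b) = m (ρ g a) (ρ g b))
    (lc : ∀ a b, l a b = l b a) (lg : ∀ g a b, l (ρ g a) (ρ g b) = l a b)
    (lm : ∀ a b c, l a (m b c) = l b (m a c))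
    (id : ∀ a b c, m a (m b c) + l b c • a = m b (m a c) + l a c • b) :
    ∃ H : Subgroup G, H ≠ ⊤ ∧ H.index ≤ Module.finrank ℂ V + 1 := by
  classical
  have ρi : ∀ g a, ρ g (ρ g⁻¹ a) = a := fun g a => by
    rw [← Module.End.mul_apply, ← map_mul, mul_inv_cancel, map_one, Module.End.one_apply]
  let N : V → Module.End ℂ (ℂ × V) := fun a =>
    ((l a).comp (LinearMap.snd ℂ ℂ V)).prod
      ((LinearMap.fst ℂ ℂ V).smulRight a + (m a).comp (LinearMap.snd ℂ ℂ V))
  have Na : ∀ a x, N a x = (l a x.2, x.1 • a + m a x.2) := fun a x => rfl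
  obtain ⟨w, hw0, hw⟩ := exists_common_eig N fun a b => LinearMap.ext fun x => by
    simp only [Module.End.mul_apply, Na, map_add, map_smul, smul_eq_mul, Prod.mk.injEq]
    refine ⟨by rw [lc a b, lm a b], ?_⟩
    rw [mc a b]
    linear_combination (norm := module) id a b x.2
  choose c hc using hw
  have inj : ∀ s t : ℂ, s • w = t • w → s = t := fun s t h => smul_left_injective ℂ hw0 h
  let φ : V →ₗ[ℂ] ℂ :=
    { toFun := c
      map_add' := fun a b => inj _ _ (by
        rw [add_smul, ← hc, ← hc, ← hc, Na, Na, Na]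
        simp only [map_add, LinearMap.add_apply, smul_add, Prod.mk_add_mk, Prod.mk.injEq, true_and]
        abel)
      map_smul' := fun s a => inj _ _ (by
        rw [RingHom.id_apply, smul_eq_mul, mul_smul, ← hc, ← hc, Na, Na]
        simp only [map_smul, LinearMap.smul_apply, Prod.smul_mk, smul_add, smul_comm s w.1]) }
  have hφ : ∀ a b, φ a * φ b = φ (m a b) + l a b := fun a b => inj _ _ (by
    change (c a * c b) • w = (c (m a b) + l a b) • w
    rw [mul_comm, mul_smul, ← hc, ← map_smul, ← hc, add_smul, ← hc]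
    simp only [Na, map_add, map_smul, smul_eq_mul]
    refine Prod.ext ?_ ?_
    · simp only [Prod.fst_add, Prod.smul_fst, smul_eq_mul]
      rw [lc (m a b), lm w.2, mc w.2]
      ring
    · simp only [Prod.snd_add, Prod.smul_snd]
      rw [mc (m a b), mc b w.2, lc b w.2]
      linear_combination (norm := module) id a w.2 b)
  have hφ0 : φ ≠ 0 := fun h0 => by
    have h1 : ∀ a, w.1 • a + m a w.2 = 0 := fun a => by
      have := hc a
      rw [show c a = 0 from LinearMap.congr_fun h0 a, zero_smul, Na] at this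
      exact congrArg Prod.snd this
    by_cases hs : w.1 = 0
    · let W : Submodule ℂ V := LinearMap.ker m
      rcases hirr W (fun g x hx => LinearMap.mem_ker.mpr (LinearMap.ext fun a => by
        rw [← ρi g a, ← mg, LinearMap.mem_ker.mp hx]; simp)) with h | h
      · have : w.2 ∈ W := LinearMap.mem_ker.mpr (LinearMap.ext fun a => by
          have := h1 a
          rw [hs, zero_smul, zero_add, mc] at this
          exact this)
        rw [h] at this
        exact hw0 (Prod.ext hs this)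
      · exact hm0 (LinearMap.ker_eq_top.mp h)
    · let e : V := -(w.1⁻¹ • w.2)
      have he : ∀ a, m a e = a := fun a => by
        have := h1 a
        simp only [e, map_neg, map_smul]
        rw [eq_neg_of_add_eq_zero_right this, smul_neg, neg_neg, smul_smul, inv_mul_cancel₀ hs,
          one_smul]
      have hge : ∀ g, ρ g e = e := fun g => by
        have := mg g (ρ g⁻¹ e) e
        rw [he, ρi, mc, he] at this
        exact this.symm
      rcases hirr (Submodule.span ℂ {e}) (fun g x hx => by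
        obtain ⟨t, rfl⟩ := Submodule.mem_span_singleton.mp hx
        rw [map_smul, hge]
        exact hx) with h | h
      · rw [Submodule.span_singleton_eq_bot] at h
        refine hm0 (LinearMap.ext fun a => ?_)
        rw [← he a, h, map_zero, map_zero, LinearMap.zero_apply]
      · have := (finrank_span_le_card (R := ℂ) ({e} : Set V))
        rw [h, finrank_top] at this
        simp at this
        omega
  let H : Subgroup G :=
    { carrier := {g | ∀ a, φ (ρ g a) = φ a}
      mul_mem' := fun {g h} hg hh a => by rw [map_mul, Module.End.mul_apply, hg, hh]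
      one_mem' := fun a => by simp
      inv_mem' := fun {g} hg a => by rw [← hg, ρi] }
  refine ⟨H, fun hH => ?_, ?_⟩
  · rcases hirr (LinearMap.ker φ) (fun g x hx => LinearMap.mem_ker.mpr (by
      rw [(hH ▸ Subgroup.mem_top g : g ∈ H) x]; exact hx)) with h | h
    · have := LinearMap.finrank_le_finrank_of_injective (LinearMap.ker_eq_bot.mp h)
      rw [Module.finrank_self] at this
      omega
    · exact hφ0 (LinearMap.ker_eq_top.mp h)
  · refine ncard_chars_le m l (κ := G ⧸ H) (fun q => φ.comp (ρ q.out⁻¹)) (fun q q' e => ?_)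
      fun q a b => ?_
    · rw [← q.out_eq, ← q'.out_eq]
      refine QuotientGroup.eq.mpr fun a => ?_
      have := LinearMap.congr_fun e (ρ q'.out a)
      simp only [LinearMap.comp_apply] at this
      rw [map_mul, Module.End.mul_apply, this, ← Module.End.mul_apply, ← map_mul, inv_mul_cancel,
        map_one, Module.End.one_apply]
    · simp only [LinearMap.comp_apply]
      rw [hφ, mg, lg]

end H17.Ord
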