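import Mathlib
import Cfsg.Agent.Base

/-! Invariant lattices of rank 11 with an element of order 11 whose normaliser is `11:5`:
such a lattice is a root lattice, and the group has a proper subgroup of index at most 12. -/

set_option autoImplicit false
set_option linter.unusedSectionVars false
set_option linter.style.haveILetI false

namespace H17.Ord.Lat

local notation "Z11" => ZMod 11

instance f11 : Fact (Nat.Prime 11) := ⟨by norm_num⟩

/-- lattice data -/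
structure LD (G V : Type*) [Group G] [AddCommGroup V] [Module ℚ V] where
  ρ : Representation ℚ G V
  B : V →ₗ[ℚ] V →ₗ[ℚ] ℚ
  Λ : Submodule ℤ V
  φ : V →ₗ[ℚ] ℚ
  v : V
  y : Z11 → G
  s : G
  symm : ∀ a b, B a b = B b a
  pos : ∀ a, a ≠ 0 → 0 < B a a
  inv : ∀ g a b, B (ρ g a) (ρ g b) = B a b
  int : ∀ a ∈ Λ, ∀ b ∈ Λ, ∃ n : ℤ, B a b = n
  mem : ∀ g, ∀ a ∈ Λ, ρ g a ∈ Λ
  φint : ∀ a ∈ Λ, ∃ n : ℤ, φ a = n
  vmem : v ∈ Λ
  φv : φ v = 11
  norm : ∀ a ∈ Λ, ∑ i, ρ (y i) a = φ a • v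
  yadd : ∀ i j, y (i + j) = y i * y j
  sy : ∀ i, s * y i = y (4 * i) * s
  s5 : s ^ 5 = 1
  rank : ∀ u : Option Z11 → V, (∀ i, u i ∈ Submodule.span ℚ (Λ : Set V)) →
    ¬ LinearIndependent ℚ u
  ex : ∃ g, ∀ n : ℤ, φ (ρ g v) ≠ 11 * n

namespace LD
variable {G V : Type*} [Group G] [AddCommGroup V] [Module ℚ V] (D : LD G V)

theorem y0 : D.y 0 = 1 := by
  have := D.yadd 0 0
  rw [add_zero] at this
  exact left_eq_mul.mp this

theorem ρy (i j : Z11) (a : V) : D.ρ (D.y i) (D.ρ (D.y j) a) = D.ρ (D.y (i + j)) a := by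
  rw [D.yadd, map_mul]; rfl

theorem ρy0 (a : V) : D.ρ (D.y 0) a = a := by rw [D.y0, map_one]; rfl

theorem ρs (i : Z11) (a : V) : D.ρ D.s (D.ρ (D.y i) a) = D.ρ (D.y (4 * i)) (D.ρ D.s a) := by
  change (D.ρ D.s * D.ρ (D.y i)) a = (D.ρ _ * D.ρ _) a
  rw [← map_mul, ← map_mul, D.sy]

theorem ρs5 (a : V) : D.ρ D.s (D.ρ D.s (D.ρ D.s (D.ρ D.s (D.ρ D.s a)))) = a := by
  have : D.ρ (D.s ^ 5) a = a := by rw [D.s5, map_one]; rfl
  rw [show D.s ^ 5 = D.s * (D.s * (D.s * (D.s * D.s))) by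
    simp only [pow_succ, pow_zero, one_mul, mul_assoc]] at this
  simpa only [map_mul, Module.End.mul_apply] using this

theorem inv' (g : G) (a b : V) : D.B (D.ρ g a) b = D.B a (D.ρ g⁻¹ b) := by
  rw [← D.inv g⁻¹]
  change D.B ((D.ρ g⁻¹ * D.ρ g) a) _ = _
  rw [← map_mul, inv_mul_cancel, map_one]; rfl

theorem ρ_inv (g : G) (a : V) : D.ρ g⁻¹ (D.ρ g a) = a := by
  change (D.ρ g⁻¹ * D.ρ g) a = a
  rw [← map_mul, inv_mul_cancel, map_one]; rfl

theorem nonneg (a : V) : 0 ≤ D.B a a := by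
  by_cases h : a = 0
  · simp [h]
  · exact (D.pos a h).le

theorem v_ne : D.v ≠ 0 := fun h => by have := D.φv; rw [h, map_zero] at this; norm_num at this

theorem sum_mul (c : Z11) (hc : c ≠ 0) (a : V) :
    ∑ i, D.ρ (D.y (c * i)) a = ∑ i, D.ρ (D.y i) a :=
  Fintype.sum_equiv (Equiv.mulLeft₀ c hc) _ _ fun _ => rfl

theorem y_sum (j : Z11) (a : V) : D.ρ (D.y j) (∑ i, D.ρ (D.y i) a) = ∑ i, D.ρ (D.y i) a := by
  rw [map_sum]
  exact Fintype.sum_equiv (Equiv.addLeft j) _ _ fun i => D.ρy j i a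

theorem yv (j : Z11) : D.ρ (D.y j) D.v = D.v := by
  have := D.y_sum j D.v
  rw [D.norm _ D.vmem, D.φv, map_smul] at this
  exact smul_right_injective V (by norm_num) this

theorem φy (j : Z11) {a : V} (ha : a ∈ D.Λ) : D.φ (D.ρ (D.y j) a) = D.φ a := by
  have h1 := D.norm _ (D.mem (D.y j) a ha)
  have h2 : ∑ i, D.ρ (D.y i) (D.ρ (D.y j) a) = ∑ i, D.ρ (D.y i) a :=
    Fintype.sum_equiv (Equiv.addRight j) _ _ fun i => D.ρy i j a
  rw [h2, D.norm _ ha] at h1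
  exact (smul_left_injective ℚ D.v_ne h1).symm

theorem sv : D.ρ D.s D.v = D.v := by
  have h1 := D.norm _ (D.mem D.s _ D.vmem)
  rw [← D.sum_mul 4 (by decide)] at h1
  simp only [← D.ρs, D.yv, Finset.sum_const, Finset.card_univ, ZMod.card] at h1
  set c := D.φ (D.ρ D.s D.v) / 11 with hc
  have h2 : D.ρ D.s D.v = c • D.v := by
    rw [hc, div_eq_inv_mul, mul_smul, ← h1, ← Nat.cast_smul_eq_nsmul ℚ, smul_smul]; norm_num
  have h3 := D.ρs5 D.v
  simp only [h2, map_smul, smul_smul] at h3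
  have h4 : c ^ 5 = 1 := by
    have := smul_left_injective ℚ D.v_ne (h3.trans (one_smul ℚ D.v).symm)
    rw [← this]; ring
  rw [h2, (Odd.strictMono_pow (by decide : Odd 5)).injective (h4.trans (one_pow 5).symm), one_smul]

theorem φs {a : V} (ha : a ∈ D.Λ) : D.φ (D.ρ D.s a) = D.φ a := by
  have h1 := D.norm _ (D.mem D.s a ha)
  rw [← D.sum_mul 4 (by decide)] at h1
  simp only [← D.ρs] at h1
  rw [← map_sum, D.norm _ ha, map_smul, D.sv] at h1
  exact (smul_left_injective ℚ D.v_ne h1).symm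

theorem Bv {a : V} (ha : a ∈ D.Λ) : D.B a D.v = D.φ a * D.B D.v D.v / 11 := by
  have h1 := congrArg (fun x => D.B x D.v) (D.norm _ ha)
  simp only [map_sum, LinearMap.sum_apply, map_smul, LinearMap.smul_apply, smul_eq_mul] at h1
  rw [Finset.sum_congr rfl fun i _ => show D.B (D.ρ (D.y i) a) D.v = D.B a D.v by
    rw [← D.inv (D.y i) a, D.yv]] at h1
  simp only [Finset.sum_const, Finset.card_univ, ZMod.card, nsmul_eq_mul] at h1
  push_cast at h1
  linarith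

/-- eleven times the projection orthogonal to `v` -/
def π : V →ₗ[ℚ] V := (11 : ℚ) • LinearMap.id - D.φ.smulRight D.v

theorem π_apply (a : V) : D.π a = (11 : ℚ) • a - D.φ a • D.v := rfl

theorem smul_mem {c : ℚ} {n : ℤ} (h : c = n) {a : V} (ha : a ∈ D.Λ) : c • a ∈ D.Λ := by
  rw [h, Int.cast_smul_eq_zsmul]; exact D.Λ.smul_mem n ha

theorem π_mem {a : V} (ha : a ∈ D.Λ) : D.π a ∈ D.Λ := by
  obtain ⟨n, hn⟩ := D.φint a ha
  exact sub_mem (D.smul_mem (n := 11) rfl ha) (D.smul_mem hn D.vmem)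

theorem φπ (a : V) : D.φ (D.π a) = 0 := by
  rw [π_apply, map_sub, map_smul, map_smul, D.φv]; simp [mul_comm]

theorem πv : D.π D.v = 0 := by rw [π_apply, D.φv, sub_self]

theorem π_y (j : Z11) {a : V} (ha : a ∈ D.Λ) : D.π (D.ρ (D.y j) a) = D.ρ (D.y j) (D.π a) := by
  rw [π_apply, π_apply, D.φy j ha, map_sub, map_smul, map_smul, D.yv]

theorem π_s {a : V} (ha : a ∈ D.Λ) : D.π (D.ρ D.s a) = D.ρ D.s (D.π a) := by
  rw [π_apply, π_apply, D.φs ha, map_sub, map_smul, map_smul, D.sv]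

theorem Bπv {a : V} (ha : a ∈ D.Λ) : D.B (D.π a) D.v = 0 := by
  rw [D.Bv (D.π_mem ha), D.φπ]; simp

theorem prim {k : ℤ} (h : ((k : ℚ) / 11) • D.v ∈ D.Λ) : (11 : ℤ) ∣ k := by
  obtain ⟨g, hg⟩ := D.ex
  obtain ⟨n, hn⟩ := D.φint _ (D.mem g _ h)
  obtain ⟨m, hm⟩ := D.φint _ (D.mem g _ D.vmem)
  rw [map_smul, map_smul, hm, smul_eq_mul] at hn
  have h1 : k * m = 11 * n := by
    have : (k : ℚ) * m = 11 * n := by linarith
    exact_mod_cast this
  refine ((Int.prime_iff_natAbs_prime.mpr (by norm_num) : Prime (11 : ℤ)).dvd_or_dvd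
    (Dvd.intro _ h1.symm)).resolve_right fun ⟨c, hc⟩ => hg c ?_
  rw [hm, hc]; push_cast; ring

/-- trace of the group generated by `s` -/
def tr (a : V) : V := a + D.ρ D.s a + D.ρ D.s (D.ρ D.s a) + D.ρ D.s (D.ρ D.s (D.ρ D.s a)) +
  D.ρ D.s (D.ρ D.s (D.ρ D.s (D.ρ D.s a)))

theorem tr_mem {a : V} (ha : a ∈ D.Λ) : D.tr a ∈ D.Λ := by
  unfold tr
  have m := D.mem D.s
  exact add_mem (add_mem (add_mem (add_mem ha (m _ ha)) (m _ (m _ ha))) (m _ (m _ (m _ ha))))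
    (m _ (m _ (m _ (m _ ha))))

theorem s_tr (a : V) : D.ρ D.s (D.tr a) = D.tr a := by
  simp only [tr, map_add, D.ρs5]; abel

theorem φ_tr {a : V} (ha : a ∈ D.Λ) : D.φ (D.tr a) = 5 * D.φ a := by
  have m := D.mem D.s
  simp only [tr, map_add, D.φs (m _ (m _ (m _ ha))), D.φs (m _ (m _ ha)), D.φs (m _ ha), D.φs ha]
  ring

theorem π_tr {a : V} (ha : a ∈ D.Λ) : D.π (D.tr a) = D.tr (D.π a) := by
  have m := D.mem D.s
  simp only [tr, map_add, D.π_s (m _ (m _ (m _ ha))), D.π_s (m _ (m _ ha)), D.π_s (m _ ha),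
    D.π_s ha]

theorem sum_tr {a : V} (ha : a ∈ D.Λ) (h0 : D.φ a = 0) :
    ∑ i, D.ρ (D.y (-i)) (D.tr (D.ρ (D.y i) a)) = (11 : ℚ) • a := by
  have m := D.mem D.s
  have z : ∀ (c : Z11) (b : V), c ≠ 0 → b ∈ D.Λ → D.φ b = 0 → ∑ i, D.ρ (D.y (c * i)) b = 0 :=
    fun c b hc hb h => by rw [D.sum_mul c hc, D.norm b hb, h, zero_smul]
  simp only [tr, map_add, D.ρs, D.ρy, Finset.sum_add_distrib]
  have e1 : ∀ i : Z11, -i + 4 * i = 3 * i := by decide
  have e2 : ∀ i : Z11, -i + 4 * (4 * i) = 4 * i := by decide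
  have e3 : ∀ i : Z11, -i + 4 * (4 * (4 * i)) = 8 * i := by decide
  have e4 : ∀ i : Z11, -i + 4 * (4 * (4 * (4 * i))) = 2 * i := by decide
  simp only [e1, e2, e3, e4, neg_add_cancel, D.ρy0]
  rw [z 3 _ (by decide) (m _ ha) (by rw [D.φs ha, h0]),
    z 4 _ (by decide) (m _ (m _ ha)) (by rw [D.φs (m _ ha), D.φs ha, h0]),
    z 8 _ (by decide) (m _ (m _ (m _ ha))) (by rw [D.φs (m _ (m _ ha)), D.φs (m _ ha), D.φs ha, h0]),
    z 2 _ (by decide) (m _ (m _ (m _ (m _ ha))))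
      (by rw [D.φs (m _ (m _ (m _ ha))), D.φs (m _ (m _ ha)), D.φs (m _ ha), D.φs ha, h0])]
  simp [← Nat.cast_smul_eq_nsmul ℚ]

theorem exists_u0 : ∃ u ∈ D.Λ, D.ρ D.s u = u ∧ ∃ k : ℤ, D.φ u = k ∧ ¬ (11 : ℤ) ∣ k := by
  obtain ⟨g, hg⟩ := D.ex
  have hm := D.mem g _ D.vmem
  obtain ⟨m, hm'⟩ := D.φint _ hm
  refine ⟨_, D.tr_mem hm, D.s_tr _, 5 * m, by rw [D.φ_tr hm, hm']; push_cast; ring, fun h => ?_⟩
  obtain ⟨c, hc⟩ : (11 : ℤ) ∣ m := by omega
  exact hg c (by rw [hm', hc]; push_cast; ring)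

theorem π_ne {u : V} (hu : u ∈ D.Λ) {k : ℤ} (hk : D.φ u = k) (h : ¬ (11 : ℤ) ∣ k) : D.π u ≠ 0 := by
  intro e
  rw [π_apply, sub_eq_zero, hk] at e
  refine h (D.prim ?_)
  rwa [div_eq_inv_mul, mul_smul, ← e, smul_smul, inv_mul_cancel₀ (by norm_num), one_smul]

theorem exists_min : ∃ u ∈ D.Λ, D.ρ D.s u = u ∧ D.π u ≠ 0 ∧ ∀ a ∈ D.Λ, D.ρ D.s a = a →
    D.π a ≠ 0 → D.B (D.π u) (D.π u) ≤ D.B (D.π a) (D.π a) := by
  classical
  obtain ⟨u0, h1, h2, k, h3, h4⟩ := D.exists_u0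
  have nat : ∀ a ∈ D.Λ, ∃ n : ℕ, D.B (D.π a) (D.π a) = n := fun a ha => by
    obtain ⟨n, hn⟩ := D.int _ (D.π_mem ha) _ (D.π_mem ha)
    have := D.nonneg (D.π a)
    rw [hn] at this
    lift n to ℕ using (by exact_mod_cast this)
    exact ⟨n, hn⟩
  have ex : ∃ n : ℕ, ∃ u ∈ D.Λ, D.ρ D.s u = u ∧ D.π u ≠ 0 ∧ D.B (D.π u) (D.π u) = n := by
    obtain ⟨n, hn⟩ := nat u0 h1
    exact ⟨n, u0, h1, h2, D.π_ne h1 h3 h4, hn⟩
  obtain ⟨u, a1, a2, a3, a4⟩ := Nat.find_spec ex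
  refine ⟨u, a1, a2, a3, fun a b1 b2 b3 => ?_⟩
  obtain ⟨n, hn⟩ := nat a b1
  rw [a4, hn]
  exact_mod_cast Nat.find_min' ex ⟨a, b1, b2, b3, hn⟩

/-- the minimal `s`-fixed vector -/
noncomputable def u : V := D.exists_min.choose

theorem u_mem : D.u ∈ D.Λ := D.exists_min.choose_spec.1
theorem su : D.ρ D.s D.u = D.u := D.exists_min.choose_spec.2.1

/-- the frame -/
noncomputable def w (i : Z11) : V := D.ρ (D.y i) (D.π D.u)

noncomputable def κ : ℚ := D.B (D.π D.u) (D.π D.u) / 10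

theorem κ_pos : 0 < D.κ := div_pos (D.pos _ D.exists_min.choose_spec.2.2.1) (by norm_num)

theorem w_mem (i : Z11) : D.w i ∈ D.Λ := D.mem _ _ (D.π_mem D.u_mem)
theorem y_w (i j : Z11) : D.ρ (D.y i) (D.w j) = D.w (i + j) := D.ρy _ _ _
theorem s_w (i : Z11) : D.ρ D.s (D.w i) = D.w (4 * i) := by
  rw [w, D.ρs, ← D.π_s D.u_mem, D.su, w]
theorem sum_w : ∑ i, D.w i = 0 := by
  simp only [w]; rw [D.norm _ (D.π_mem D.u_mem), D.φπ, zero_smul]
theorem w0 : D.w 0 = D.π D.u := D.ρy0 _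
theorem Bwv (i : Z11) : D.B (D.w i) D.v = 0 := by
  rw [w, ← D.π_y _ D.u_mem]; exact D.Bπv (D.mem _ _ D.u_mem)

theorem Bww (i j : Z11) : D.B (D.w i) (D.w j) = D.κ * ((if i = j then 11 else 0) - 1) := by
  let β : Z11 → ℚ := fun i => D.B (D.w i) (D.w 0)
  have h1 : ∀ i j, D.B (D.w i) (D.w j) = β (i - j) := fun i j => by
    rw [← D.inv (D.y (-j)), D.y_w, D.y_w, neg_add_cancel, neg_add_eq_sub]
  have h2 : ∀ i, β (4 * i) = β i := fun i => by
    simp only [β]; rw [← D.inv D.s (D.w i), D.s_w, D.s_w, mul_zero]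
  have h3 : ∀ i, β (-i) = β i := fun i => by
    rw [← zero_sub, ← h1, D.symm]
  have h4 : ∀ i, i ≠ 0 → β i = β 1 := fun i hi => by
    have : ∀ i : Z11, i ≠ 0 → i = 1 ∨ i = 4 * 1 ∨ i = 4 * (4 * 1) ∨ i = 4 * (4 * (4 * 1)) ∨
      i = 4 * (4 * (4 * (4 * 1))) ∨ i = -1 ∨ i = -(4 * 1) ∨ i = -(4 * (4 * 1)) ∨
      i = -(4 * (4 * (4 * 1))) ∨ i = -(4 * (4 * (4 * (4 * 1)))) := by decide
    rcases this i hi with rfl | rfl | rfl | rfl | rfl | rfl | rfl | rfl | rfl | rfl <;>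
      simp only [h2, h3]
  have h5 : ∑ i, β i = 0 := by
    simp only [β]; rw [← LinearMap.sum_apply, ← map_sum, D.sum_w]; simp
  rw [← Finset.add_sum_erase _ _ (Finset.mem_univ 0),
    Finset.sum_congr rfl fun i hi => h4 i (Finset.ne_of_mem_erase hi)] at h5
  simp only [Finset.sum_const, Finset.card_erase_of_mem (Finset.mem_univ _), Finset.card_univ,
    ZMod.card, nsmul_eq_mul] at h5
  have h6 : β 0 = 10 * D.κ := by simp only [β, κ, D.w0]; ring
  rw [h1]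
  split_ifs with h
  · rw [h, sub_self, h6]; ring
  · rw [h4 _ (sub_ne_zero.mpr h)]; push_cast at h5; linarith

/-- the combination of the frame with coefficients `n` -/
noncomputable def cb (n : Z11 → ℚ) : V := ∑ i, n i • D.w i

theorem B_cb_w (n : Z11 → ℚ) (j : Z11) : D.B (D.cb n) (D.w j) = D.κ * (11 * n j - ∑ i, n i) := by
  simp only [cb, map_sum, map_smul, LinearMap.sum_apply, LinearMap.smul_apply, D.Bww, smul_eq_mul,
    mul_sub, mul_ite, mul_zero, Finset.sum_sub_distrib, Finset.sum_ite_eq', Finset.mem_univ, if_true,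
    mul_one, Finset.mul_sum]
  congr 1
  · ring
  · exact Finset.sum_congr rfl fun _ _ => mul_comm _ _

theorem B_cb (n n' : Z11 → ℚ) :
    D.B (D.cb n) (D.cb n') = D.κ * (11 * ∑ i, n i * n' i - (∑ i, n i) * ∑ i, n' i) := by
  conv_lhs => rw [show D.cb n' = ∑ i, n' i • D.w i from rfl, map_sum]
  simp only [map_smul, D.B_cb_w, smul_eq_mul]
  rw [Finset.mul_sum, Finset.mul_sum (s := Finset.univ) (f := n'), ← Finset.sum_sub_distrib,
    Finset.mul_sum]
  exact Finset.sum_congr rfl fun _ _ => by ring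

theorem B_cb_v (n : Z11 → ℚ) : D.B (D.cb n) D.v = 0 := by simp [cb, D.Bwv]

theorem cb_add (n n' : Z11 → ℚ) : D.cb (n + n') = D.cb n + D.cb n' := by
  simp [cb, add_smul, Finset.sum_add_distrib]

theorem cb_sub (n n' : Z11 → ℚ) : D.cb (n - n') = D.cb n - D.cb n' := by
  simp [cb, sub_smul, Finset.sum_sub_distrib]

theorem cb_smul (c : ℚ) (n : Z11 → ℚ) : D.cb (c • n) = c • D.cb n := by
  simp [cb, mul_smul, Finset.smul_sum]

theorem cb_const (c : ℚ) : D.cb (fun _ => c) = 0 := by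
  rw [cb, ← Finset.smul_sum, D.sum_w, smul_zero]

theorem cb_single (j : Z11) : D.cb (Pi.single j 1) = D.w j := by
  simp [cb, Pi.single_apply]

theorem y_cb (j : Z11) (n : Z11 → ℚ) : D.ρ (D.y j) (D.cb n) = D.cb fun i => n (i - j) := by
  simp only [cb, map_sum, map_smul, D.y_w]
  exact Fintype.sum_equiv (Equiv.addLeft j) _ _ fun i => by simp

theorem const_of_cb {n : Z11 → ℚ} (h : D.cb n = 0) (i : Z11) : n i = n 0 := by
  have h1 := D.B_cb_w n i
  have h2 := D.B_cb_w n 0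
  rw [h] at h1 h2
  simp only [map_zero, LinearMap.zero_apply] at h1 h2
  have := D.κ_pos
  have h3 := (mul_eq_zero.mp h1.symm).resolve_left this.ne'
  have h4 := (mul_eq_zero.mp h2.symm).resolve_left this.ne'
  linarith

theorem eq_cb {a : V} (ha : a ∈ D.Λ) (h0 : D.B a D.v = 0) :
    a = D.cb fun i => D.B a (D.w i) / (11 * D.κ) := by
  set c : Z11 → ℚ := fun i => D.B a (D.w i) / (11 * D.κ) with hc
  have hκ := D.κ_pos
  have h1 : ∑ i, c i = 0 := by
    simp only [hc]; rw [← Finset.sum_div, ← map_sum, D.sum_w]; simp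
  have h2 : ∀ j, D.B (a - D.cb c) (D.w j) = 0 := fun j => by
    rw [map_sub, LinearMap.sub_apply, D.B_cb_w, h1, hc]; field_simp; ring
  have h3 : D.B (a - D.cb c) D.v = 0 := by rw [map_sub, LinearMap.sub_apply, h0, D.B_cb_v, sub_self]
  by_contra hne
  have sp : ∀ x ∈ D.Λ, x ∈ Submodule.span ℚ (D.Λ : Set V) := fun x hx => Submodule.subset_span hx
  refine D.rank (fun o => o.elim (a - D.cb c) fun i => D.w i + D.v) ?_ ?_
  · rintro (_ | i)
    · exact sub_mem (sp _ ha) (Submodule.sum_mem _ fun i _ => Submodule.smul_mem _ _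
        (sp _ (D.w_mem i)))
    · exact sp _ (add_mem (D.w_mem i) D.vmem)
  · rw [Fintype.linearIndependent_iff]
    intro d hd
    rw [Fintype.sum_option] at hd
    simp only [Option.elim, smul_add, Finset.sum_add_distrib, ← Finset.sum_smul] at hd
    change d none • (a - D.cb c) + (D.cb (fun i => d (some i)) + _) = 0 at hd
    have e1 := congrArg (fun x => D.B x D.v) hd
    have e2 := fun j => congrArg (fun x => D.B x (D.w j)) hd
    have e3 := congrArg (fun x => D.B (a - D.cb c) x) hd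
    simp only [map_add, map_smul, LinearMap.add_apply, LinearMap.smul_apply, h3, D.B_cb_v, h2,
      D.B_cb_w, smul_eq_mul, mul_zero, zero_add, map_zero, LinearMap.zero_apply,
      D.symm D.v (D.w _), D.Bwv, add_zero] at e1 e2 e3
    have e4 := (mul_eq_zero.mp e1).resolve_right (D.pos _ D.v_ne).ne'
    have e5 : D.B (a - D.cb c) (D.cb fun i => d (some i)) = 0 := by
      change D.B _ (∑ i, d (some i) • D.w i) = 0
      simp only [map_sum, map_smul, h2, smul_zero, Finset.sum_const_zero]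
    rw [e5, add_zero] at e3
    rintro (_ | j)
    · exact (mul_eq_zero.mp e3).resolve_right (D.pos _ (sub_ne_zero.mpr hne)).ne'
    · have := (mul_eq_zero.mp (e2 j)).resolve_left hκ.ne'
      linarith

/-- the lattice spanned by the frame -/
def L : Submodule ℤ V := Submodule.span ℤ (Set.range D.w)

theorem mem_L {x : V} : x ∈ D.L ↔ ∃ n : Z11 → ℤ, x = D.cb fun i => n i := by
  rw [L, Submodule.mem_span_range_iff_exists_fun]
  simp only [cb, Int.cast_smul_eq_zsmul, eq_comm]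

theorem w_L (i : Z11) : D.w i ∈ D.L := Submodule.subset_span ⟨i, rfl⟩

theorem y_L (j : Z11) {x : V} (h : x ∈ D.L) : D.ρ (D.y j) x ∈ D.L := by
  obtain ⟨n, rfl⟩ := D.mem_L.mp h
  exact D.mem_L.mpr ⟨fun i => n (i - j), D.y_cb j _⟩

/-- indicator of the orbit of `1` -/
def qr (i : Z11) : ℤ := if i = 1 ∨ i = 4 ∨ i = 5 ∨ i = 9 ∨ i = 3 then 1 else 0
def e0 (i : Z11) : ℤ := if i = 0 then 1 else 0

noncomputable def η (a : V) : V := ∑ i, qr i • D.ρ (D.y i) a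

theorem η_mem {a : V} (ha : a ∈ D.Λ) : D.η a ∈ D.Λ :=
  Submodule.sum_mem _ fun _ _ => D.Λ.smul_mem _ (D.mem _ _ ha)

theorem s_η {a : V} (h : D.ρ D.s a = a) : D.ρ D.s (D.η a) = D.η a := by
  simp only [η, map_sum, map_zsmul, D.ρs, h]
  refine Fintype.sum_equiv (Equiv.mulLeft₀ (4 : Z11) (by decide)) _ _ fun i => ?_
  rw [Equiv.mulLeft₀_apply, (by decide : ∀ i : Z11, qr (4 * i) = qr i)]

theorem φ_η {a : V} (ha : a ∈ D.Λ) : D.φ (D.η a) = 5 * D.φ a := by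
  simp only [η, map_sum, map_zsmul, D.φy _ ha, ← Finset.sum_smul]
  rw [show ∑ i, qr i = 5 by decide]; simp

theorem π_η_u : D.π (D.η D.u) = D.cb fun i => qr i := by
  simp only [η, map_sum, map_zsmul, D.π_y _ D.u_mem, cb, Int.cast_smul_eq_zsmul, w]

theorem π_u : D.π D.u = D.cb fun i => e0 i := by
  rw [← D.w0, ← D.cb_single]
  congr 1; funext i; simp [e0, Pi.single_apply]

theorem B_ab (a b : ℚ) : D.B (D.cb fun i => a * e0 i + b * qr i) (D.cb fun i => a * e0 i + b * qr i)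
    = 10 * D.κ * (a ^ 2 - a * b + 3 * b ^ 2) := by
  have s1 : ∑ i, (e0 i : ℚ) = 1 := by exact_mod_cast (by decide : ∑ i, e0 i = 1)
  have s2 : ∑ i, (qr i : ℚ) = 5 := by exact_mod_cast (by decide : ∑ i, qr i = 5)
  have s3 : ∑ i, (e0 i : ℚ) * e0 i = 1 := by exact_mod_cast (by decide : ∑ i, e0 i * e0 i = 1)
  have s4 : ∑ i, (e0 i : ℚ) * qr i = 0 := by exact_mod_cast (by decide : ∑ i, e0 i * qr i = 0)
  have s5 : ∑ i, (qr i : ℚ) * qr i = 5 := by exact_mod_cast (by decide : ∑ i, qr i * qr i = 5)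
  rw [D.B_cb, Finset.sum_congr rfl fun i _ => show (a * e0 i + b * qr i) * (a * e0 i + b * qr i) =
    a ^ 2 * (e0 i * e0 i) + 2 * a * b * (e0 i * qr i) + b ^ 2 * (qr i * qr i) by ring]
  simp only [Finset.sum_add_distrib, ← Finset.mul_sum, s1, s2, s3, s4, s5]
  ring

theorem euclid {a : V} (ha : a ∈ D.Λ) (hs : D.ρ D.s a = a) :
    ∃ m n : ℤ, D.π a = D.π (m • D.u + n • D.η D.u) := by
  have hκ := D.κ_pos
  have h1 := D.eq_cb (D.π_mem ha) (D.Bπv ha)
  set c : Z11 → ℚ := fun i => D.B (D.π a) (D.w i) / (11 * D.κ) with hc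
  have h2 : ∀ i, c (4 * i) = c i := fun i => by
    simp only [hc]; rw [← D.s_w, ← D.inv D.s (D.π a) (D.w i), ← D.π_s ha, hs]
  have h3 : c = (fun i => (c 0 - c 2) * e0 i + (c 1 - c 2) * qr i) + fun _ => c 2 := by
    funext i
    have : ∀ i : Z11, (i = 0 ∧ e0 i = 1 ∧ qr i = 0) ∨ (e0 i = 0 ∧ qr i = 1 ∧ (i = 1 ∨ i = 4 * 1 ∨
      i = 4 * (4 * 1) ∨ i = 4 * (4 * (4 * 1)) ∨ i = 4 * (4 * (4 * (4 * 1))))) ∨
      (e0 i = 0 ∧ qr i = 0 ∧ (i = 2 ∨ i = 4 * 2 ∨
      i = 4 * (4 * 2) ∨ i = 4 * (4 * (4 * 2)) ∨ i = 4 * (4 * (4 * (4 * 2))))) := by decide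
    rw [Pi.add_apply]
    rcases this i with ⟨rfl, b1, b2⟩ | ⟨b1, b2, b3⟩ | ⟨b1, b2, b3⟩ <;> rw [b1, b2]
    · simp
    · rcases b3 with rfl | rfl | rfl | rfl | rfl <;> (try simp only [h2]) <;> simp
    · rcases b3 with rfl | rfl | rfl | rfl | rfl <;> (try simp only [h2]) <;> simp
  rw [h3, cb_add, cb_const, add_zero] at h1
  generalize c 0 - c 2 = x at h1
  generalize c 1 - c 2 = z at h1
  set n := round z
  set m := round (x - (z - n) / 2)
  refine ⟨m, n, ?_⟩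
  have hm : m • D.u + n • D.η D.u ∈ D.Λ :=
    add_mem (D.Λ.smul_mem _ D.u_mem) (D.Λ.smul_mem _ (D.η_mem D.u_mem))
  by_contra hne
  have h4 := D.exists_min.choose_spec.2.2.2 _ (sub_mem ha hm)
    (by rw [map_sub, map_add, map_zsmul, map_zsmul, hs, D.su, D.s_η D.su])
    (by rw [map_sub]; exact sub_ne_zero.mpr hne)
  have h5 : D.π (a - (m • D.u + n • D.η D.u)) = D.cb fun i => (x - m) * e0 i + (z - n) * qr i := by
    rw [map_sub, map_add, map_zsmul, map_zsmul, h1, D.π_u, D.π_η_u, ← Int.cast_smul_eq_zsmul ℚ,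
      ← Int.cast_smul_eq_zsmul ℚ, ← cb_smul, ← cb_smul, ← cb_add, ← cb_sub]
    congr 1; funext i; simp; ring
  rw [h5, D.B_ab] at h4
  change D.B (D.π D.u) (D.π D.u) ≤ _ at h4
  have h6 : D.B (D.π D.u) (D.π D.u) = 10 * D.κ := by rw [κ]; ring
  have h7 := abs_le.mp (abs_sub_round z)
  have h8 := abs_le.mp (abs_sub_round (x - (z - n) / 2))
  have h9 : (x - m) ^ 2 - (x - m) * (z - n) + 3 * (z - n) ^ 2 < 1 := by
    have : (x - m) ^ 2 - (x - m) * (z - n) + 3 * (z - n) ^ 2 =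
      (x - (z - n) / 2 - m) ^ 2 + 11 / 4 * (z - n) ^ 2 := by ring
    rw [this]; nlinarith
  nlinarith

theorem π_fix {a : V} (ha : a ∈ D.Λ) (hs : D.ρ D.s a = a) : D.π a ∈ D.L := by
  obtain ⟨m, n, h⟩ := D.euclid ha hs
  rw [h, map_add, map_zsmul, map_zsmul, D.π_u, D.π_η_u]
  exact add_mem (D.L.smul_mem _ (D.mem_L.mpr ⟨_, rfl⟩)) (D.L.smul_mem _ (D.mem_L.mpr ⟨_, rfl⟩))

theorem eleven_L {a : V} (ha : a ∈ D.Λ) : (11 : ℚ) • D.π a ∈ D.L := by
  rw [← D.sum_tr (D.π_mem ha) (D.φπ a)]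
  refine Submodule.sum_mem _ fun i _ => D.y_L _ ?_
  rw [← D.π_y _ ha, ← D.π_tr (D.mem _ _ ha)]
  exact D.π_fix (D.tr_mem (D.mem _ _ ha)) (D.s_tr _)

theorem φu : ∃ k : ℤ, D.φ D.u = k ∧ ¬ (11 : ℤ) ∣ k := by
  obtain ⟨a, h1, h2, k, h3, h4⟩ := D.exists_u0
  obtain ⟨m, n, h⟩ := D.euclid h1 h2
  obtain ⟨l, hl⟩ := D.φint _ D.u_mem
  refine ⟨l, hl, fun h5 => h4 ?_⟩
  have hm : m • D.u + n • D.η D.u ∈ D.Λ :=
    add_mem (D.Λ.smul_mem _ D.u_mem) (D.Λ.smul_mem _ (D.η_mem D.u_mem))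
  have h6 : D.φ (a - (m • D.u + n • D.η D.u)) = (k - (m + 5 * n) * l : ℤ) := by
    rw [map_sub, map_add, map_zsmul, map_zsmul, D.φ_η D.u_mem, h3, hl]; simp; ring
  have h7 : (11 : ℤ) ∣ k - (m + 5 * n) * l := by
    by_contra h8
    exact D.π_ne (sub_mem h1 hm) h6 h8 (by rw [map_sub, h, sub_self])
  exact (dvd_sub_left (h5.mul_left _)).mp h7

/-- `1 - y` -/
noncomputable def T : Module.End ℚ V := 1 - D.ρ (D.y 1)

theorem T_apply (a : V) : D.T a = a - D.ρ (D.y 1) a := rfl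

theorem T_mem {a : V} (ha : a ∈ D.Λ) : D.T a ∈ D.Λ := sub_mem ha (D.mem _ _ ha)

theorem π_T {a : V} (ha : a ∈ D.Λ) : D.π (D.T a) = D.T (D.π a) := by
  rw [T_apply, map_sub, D.π_y _ ha, T_apply]

theorem y_pow (k : ℕ) : D.ρ (D.y 1) ^ k = D.ρ (D.y k) := by
  induction k with
  | zero => simp [D.y0]
  | succ k ih => rw [pow_succ, ih, ← map_mul, ← D.yadd]; simp

theorem T11 {a : V} (h : (11 : ℚ) • a ∈ D.L) : (D.T ^ 11) a ∈ D.L := by
  have e : ∀ Y : Module.End ℚ V, (1 - Y) ^ 11 = 1 - Y ^ 11 + (-Y ^ 1 + 5 • Y ^ 2 - 15 • Y ^ 3 +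
      30 • Y ^ 4 - 42 • Y ^ 5 + 42 • Y ^ 6 - 30 • Y ^ 7 + 15 • Y ^ 8 - 5 • Y ^ 9 + Y ^ 10) *
      (11 : ℚ) • 1 := fun Y => by
    have := congrArg (Polynomial.aeval (R := ℚ) Y) (show (1 - Polynomial.X) ^ 11 =
      1 - Polynomial.X ^ 11 + (-Polynomial.X ^ 1 + 5 • Polynomial.X ^ 2 - 15 • Polynomial.X ^ 3 +
      30 • Polynomial.X ^ 4 - 42 • Polynomial.X ^ 5 + 42 • Polynomial.X ^ 6 - 30 • Polynomial.X ^ 7 +
      15 • Polynomial.X ^ 8 - 5 • Polynomial.X ^ 9 + Polynomial.X ^ 10) * Polynomial.C (11 : ℚ) by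
        rw [show Polynomial.C (11 : ℚ) = 11 from rfl]; simp only [nsmul_eq_mul]; push_cast; ring)
    simpa only [map_pow, map_sub, map_add, map_mul, map_neg, map_nsmul, map_one, Polynomial.aeval_X,
      Polynomial.aeval_C, Algebra.algebraMap_eq_smul_one] using this
  rw [T, e]
  simp only [D.y_pow, show ((11 : ℕ) : Z11) = 0 from rfl, D.y0, map_one, sub_self, zero_add,
    Module.End.mul_apply, LinearMap.smul_apply, Module.End.one_apply, LinearMap.add_apply,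
    LinearMap.sub_apply, LinearMap.neg_apply]
  have m := fun j => D.y_L j h
  have n := fun (k : ℕ) j => nsmul_mem (m j) k
  exact add_mem (sub_mem (add_mem (sub_mem (add_mem (sub_mem (add_mem (sub_mem (add_mem
    (neg_mem (m _)) (n _ _)) (n _ _)) (n _ _)) (n _ _)) (n _ _)) (n _ _)) (n _ _)) (n _ _)) (m _)

theorem L_of_T {a : V} (ha : a ∈ D.Λ) (h : D.T (D.π a) ∈ D.L) : D.π a ∈ D.L := by
  obtain ⟨n, hn⟩ := D.mem_L.mp (D.eleven_L ha)
  obtain ⟨k, hk⟩ := D.mem_L.mp h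
  have h1 : D.cb (fun i => (n i : ℚ) - n (i - 1) - 11 * k i) = 0 := by
    have := congrArg D.T hn
    rw [map_smul, hk, T_apply, y_cb, ← cb_smul, ← cb_sub, eq_comm, ← sub_eq_zero, ← cb_sub] at this
    rw [← this]; congr 1
  have h2 : ∀ i, n i - n (i - 1) - 11 * k i = n 0 - n (0 - 1) - 11 * k 0 := fun i => by
    exact_mod_cast D.const_of_cb h1 i
  generalize n 0 - n (0 - 1) - 11 * k 0 = c at h2
  have h3 : ∑ i, k i = -c := by
    have := Finset.sum_congr rfl fun i (_ : i ∈ Finset.univ) => h2 i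
    rw [Finset.sum_sub_distrib, Finset.sum_sub_distrib, ← Finset.mul_sum,
      Fintype.sum_equiv (Equiv.subRight (1 : Z11)) (fun i => n (i - 1)) n fun _ => rfl] at this
    simp at this
    omega
  by_cases hc : (11 : ℤ) ∣ c
  · have h4 : ∀ j : ℕ, (11 : ℤ) ∣ n j - n 0 := fun j => by
      induction j with
      | zero => simp
      | succ j ih =>
        have := h2 (j + 1 : ℕ)
        rw [Nat.cast_succ, add_sub_cancel_right] at this
        rw [Nat.cast_succ]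
        omega
    have h5 : ∀ i, (11 : ℤ) ∣ n i - n 0 := fun i => by simpa using h4 i.val
    refine D.mem_L.mpr ⟨fun i => (n i - n 0) / 11, smul_right_injective V
      (by norm_num : (11 : ℚ) ≠ 0) ?_⟩
    simp only
    rw [hn, ← cb_smul, ← add_zero (D.cb (_ • _)), ← D.cb_const (n 0), ← cb_add]
    congr 1; funext i
    obtain ⟨j, hj⟩ := h5 i
    simp only [Pi.add_apply, Pi.smul_apply, hj, smul_eq_mul]
    rw [Int.mul_ediv_cancel_left _ (by norm_num), show n i = 11 * j + n 0 by omega]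
    push_cast; ring
  · exfalso
    obtain ⟨l, hl, hl'⟩ := D.φu
    -- everything congruent to a multiple of `w 0` modulo `11 Λ`
    have h4 : ∀ i, D.w i = D.w 0 + (11 : ℚ) • (D.ρ (D.y i) D.u - D.u) := fun i => by
      rw [D.w0, w, ← D.π_y _ D.u_mem, π_apply, π_apply, D.φy _ D.u_mem, smul_sub]; abel
    have h5 : D.T (D.π a) = (11 : ℚ) • D.T a := by
      rw [π_apply, map_sub, map_smul, map_smul, D.T_apply D.v, D.yv, sub_self, smul_zero, sub_zero]
    have h6 : D.cb (fun i => k i) = (-c : ℤ) • D.w 0 +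
        (11 : ℚ) • ∑ i, k i • (D.ρ (D.y i) D.u - D.u) := by
      rw [cb, Finset.sum_congr rfl fun i _ => by rw [h4 i], ← h3, Finset.sum_smul, Finset.smul_sum,
        ← Finset.sum_add_distrib]
      refine Finset.sum_congr rfl fun i _ => ?_
      rw [smul_add, Int.cast_smul_eq_zsmul, Int.cast_smul_eq_zsmul, smul_comm (k i)]
    have h7 : (((c * l : ℤ) : ℚ) / 11) • D.v =
        D.T a - ∑ i, k i • (D.ρ (D.y i) D.u - D.u) + c • D.u := by
      apply smul_right_injective V (by norm_num : (11 : ℚ) ≠ 0)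
      simp only
      rw [smul_add, smul_sub, ← h5, hk, h6, D.w0, π_apply, hl, smul_smul,
        ← Int.cast_smul_eq_zsmul ℚ, ← Int.cast_smul_eq_zsmul ℚ]
      push_cast
      module
    have h8 := D.prim (h7 ▸ add_mem (sub_mem (D.T_mem ha) (Submodule.sum_mem _ fun i _ =>
      D.Λ.smul_mem _ (sub_mem (D.mem _ _ D.u_mem) D.u_mem))) (D.Λ.smul_mem _ D.u_mem))
    exact ((Int.prime_iff_natAbs_prime.mpr (by norm_num) : Prime (11 : ℤ)).dvd_or_dvd h8).elim hc hl'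

theorem π_L {a : V} (ha : a ∈ D.Λ) : D.π a ∈ D.L := by
  have h : ∀ k : ℕ, ∀ a ∈ D.Λ, (D.T ^ k) (D.π a) ∈ D.L → D.π a ∈ D.L := fun k => by
    induction k with
    | zero => simp
    | succ k ih =>
      intro a ha h
      rw [pow_succ, Module.End.mul_apply, ← D.π_T ha] at h
      exact D.L_of_T ha (D.π_T ha ▸ ih _ (D.T_mem ha) h)
  exact h 11 a ha (D.T11 (D.eleven_L ha))

theorem exists_cb {a : V} (ha : a ∈ D.Λ) :
    ∃ n : Z11 → ℤ, D.π a = D.cb (fun i => n i) ∧ |∑ i, n i| ≤ 5 := by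
  obtain ⟨n, hn⟩ := D.mem_L.mp (D.π_L ha)
  refine ⟨fun i => n i - (∑ i, n i + 5) / 11, ?_, ?_⟩
  · rw [hn, ← sub_zero (D.cb fun i => (n i : ℚ)), ← D.cb_const (((∑ i, n i + 5) / 11 : ℤ) : ℚ),
      ← cb_sub]
    congr 1; funext i; simp
  · rw [Finset.sum_sub_distrib]
    simp only [Finset.sum_const, Finset.card_univ, ZMod.card, nsmul_eq_mul, abs_le]
    push_cast; omega

noncomputable def α : ℚ := D.κ / 11
noncomputable def t : ℚ := D.B D.v D.v / D.κ

theorem α_pos : 0 < D.α := div_pos D.κ_pos (by norm_num)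
theorem t_pos : 0 < D.t := div_pos (D.pos _ D.v_ne) D.κ_pos

theorem eq_π (a : V) : a = (11 : ℚ)⁻¹ • (D.π a + D.φ a • D.v) := by
  rw [π_apply, sub_add_cancel, smul_smul]; norm_num

theorem ext' {a b : V} (h1 : D.π a = D.π b) (h2 : D.φ a = D.φ b) : a = b := by
  rw [D.eq_π a, D.eq_π b, h1, h2]

theorem B_eq {a b : V} {n n' : Z11 → ℚ} (h1 : D.π a = D.cb n) (h2 : D.π b = D.cb n') :
    11 * D.B a b = D.α * (11 * ∑ i, n i * n' i - (∑ i, n i) * (∑ i, n' i) +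
      D.t * D.φ a * D.φ b) := by
  have := D.κ_pos
  conv_lhs => rw [D.eq_π a, D.eq_π b, h1, h2]
  simp only [map_smul, map_add, LinearMap.smul_apply, LinearMap.add_apply, D.B_cb, D.B_cb_v,
    D.symm D.v (D.cb _), smul_eq_mul, α, t]
  field_simp
  ring

/-- roots -/
noncomputable def r (i j : Z11) : V := D.ρ (D.y i) D.u - D.ρ (D.y j) D.u

theorem r_mem (i j : Z11) : D.r i j ∈ D.Λ := sub_mem (D.mem _ _ D.u_mem) (D.mem _ _ D.u_mem)

theorem φ_r (i j : Z11) : D.φ (D.r i j) = 0 := by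
  rw [r, map_sub, D.φy _ D.u_mem, D.φy _ D.u_mem, sub_self]

theorem π_r (i j : Z11) : D.π (D.r i j) = D.cb (Pi.single i 1 - Pi.single j 1) := by
  rw [r, map_sub, D.π_y _ D.u_mem, D.π_y _ D.u_mem, cb_sub, cb_single, cb_single, w, w]

theorem B_r {a : V} {n : Z11 → ℚ} (h : D.π a = D.cb n) (i j : Z11) :
    D.B a (D.r i j) = D.α * (n i - n j) := by
  have := D.B_eq h (D.π_r i j)
  simp only [D.φ_r, Pi.sub_apply, mul_sub, Finset.sum_sub_distrib, Pi.single_apply, mul_ite,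
    mul_one, mul_zero, Finset.sum_ite_eq', Finset.mem_univ, if_true] at this
  linarith

def Φ : Set V := {x | ∃ g i j, i ≠ j ∧ x = D.ρ g (D.r i j)}

theorem Φ_mem {x : V} (h : x ∈ D.Φ) : x ∈ D.Λ := by
  obtain ⟨g, i, j, -, rfl⟩ := h
  exact D.mem _ _ (D.r_mem i j)

theorem Φ_neg {x : V} (h : x ∈ D.Φ) : -x ∈ D.Φ := by
  obtain ⟨g, i, j, h, rfl⟩ := h
  exact ⟨g, j, i, h.symm, by rw [← map_neg, r, r, neg_sub]⟩

theorem Φ_ρ (k : G) {x : V} (h : x ∈ D.Φ) : D.ρ k x ∈ D.Φ := by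
  obtain ⟨g, i, j, h, rfl⟩ := h
  exact ⟨k * g, i, j, h, by rw [map_mul]; rfl⟩

theorem r_Φ {i j : Z11} (h : i ≠ j) : D.r i j ∈ D.Φ := ⟨1, i, j, h, by rw [map_one]; rfl⟩

theorem Φ_int {a x : V} (ha : a ∈ D.Λ) (h : x ∈ D.Φ) : ∃ k : ℤ, D.B a x = D.α * k := by
  obtain ⟨g, i, j, h, rfl⟩ := h
  obtain ⟨n, hn, -⟩ := D.exists_cb (D.mem g⁻¹ _ ha)
  refine ⟨n i - n j, ?_⟩
  rw [← D.inv g⁻¹, D.ρ_inv, D.B_r hn]; push_cast; ring

theorem Φ_norm {x : V} (h : x ∈ D.Φ) : D.B x x = 2 * D.α := by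
  obtain ⟨g, i, j, h, rfl⟩ := h
  rw [D.inv, D.B_r (D.π_r i j)]
  simp [h, h.symm]; ring

theorem abs_sum_le (n : Z11 → ℤ) : |∑ i, n i| ≤ ∑ i, n i * n i ∧ (∑ i, n i * n i - ∑ i, n i) % 2 = 0 := by
  constructor
  · refine (Finset.abs_sum_le_sum_abs _ _).trans (Finset.sum_le_sum fun i _ => ?_)
    rw [← abs_mul_abs_self]
    by_cases h : n i = 0
    · simp [h]
    · have := Int.one_le_abs h
      nlinarith
  · rw [← Finset.sum_sub_distrib]
    refine Int.emod_eq_zero_of_dvd (Finset.dvd_sum fun i _ => ?_)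
    have := Int.even_mul_pred_self (n i)
    rw [mul_sub, mul_one] at this
    exact this.two_dvd

theorem small {n : Z11 → ℤ} (h : ∑ i, n i * n i ≤ 1) :
    n = 0 ∨ ∃ j, n = Pi.single j 1 ∨ n = -Pi.single j 1 := by
  by_cases h0 : n = 0
  · exact Or.inl h0
  obtain ⟨j, hj⟩ := Function.ne_iff.mp h0
  rw [← Finset.add_sum_erase _ _ (Finset.mem_univ j)] at h
  have h1 := Finset.sum_nonneg fun i (_ : i ∈ Finset.univ.erase j) => mul_self_nonneg (n i)
  have h2 : 0 < n j * n j := mul_self_pos.mpr hj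
  have h3 := (Finset.sum_eq_zero_iff_of_nonneg fun i (_ : i ∈ Finset.univ.erase j) =>
    mul_self_nonneg (n i)).mp (by omega)
  have h4 : ∀ i, i ≠ j → n i = 0 := fun i hi => mul_self_eq_zero.mp (h3 i (by simp [hi]))
  refine Or.inr ⟨j, (mul_self_eq_one_iff.mp (by omega : n j * n j = 1)).imp ?_ ?_⟩ <;>
  · intro e; funext i
    by_cases hi : i = j
    · simp [hi, e]
    · simp [hi, h4 i hi]

theorem not_line : ¬ ∀ g, D.ρ g D.v = D.v ∨ D.ρ g D.v = -D.v := fun h => by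
  obtain ⟨g, hg⟩ := D.ex
  rcases h g with e | e
  · exact hg 1 (by rw [e, D.φv]; simp)
  · exact hg (-1) (by rw [e, map_neg, D.φv]; simp)

/-- stabiliser of a vector up to sign -/
def line (a : V) : Subgroup G where
  carrier := {g | D.ρ g a = a ∨ D.ρ g a = -a}
  one_mem' := Or.inl (by rw [map_one]; rfl)
  mul_mem' := by
    intro g h hg hh
    simp only [Set.mem_ofPred_eq, map_mul, Module.End.mul_apply] at hg hh ⊢
    rcases hg with e | e <;> rcases hh with e' | e' <;> simp [e, e']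
  inv_mem' := by
    intro g hg
    have := D.ρ_inv g a
    rcases hg with e | e <;> rw [e] at this
    · exact Or.inl this
    · exact Or.inr (by rw [map_neg] at this; exact neg_eq_iff_eq_neg.mp this)

theorem line_ne_top {a : V} (ha : a ∈ D.Λ) (h0 : a ≠ 0) : D.line a ≠ ⊤ := by
  intro h
  have hg : ∀ g, D.ρ g a = a ∨ D.ρ g a = -a := fun g => h.ge (Subgroup.mem_top g)
  have h1 : ∀ i, D.ρ (D.y i) a = a := fun i => by
    rw [show i = 6 * i + 6 * i by revert i; decide, ← D.ρy]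
    rcases hg (D.y (6 * i)) with e | e <;> simp [e]
  have h2 := D.norm a ha
  simp only [h1, Finset.sum_const, Finset.card_univ, ZMod.card, ← Nat.cast_smul_eq_nsmul ℚ] at h2
  have h3 : D.φ a ≠ 0 := fun e => h0 (by simpa [e] using h2)
  refine D.not_line fun g => (hg g).imp (fun e => ?_) fun e => ?_
  · apply smul_right_injective V h3
    simp only; rw [← map_smul, ← h2, map_smul, e]
  · apply smul_right_injective V h3
    simp only; rw [← map_smul, smul_neg, ← h2, map_smul, e, smul_neg]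

theorem key [Finite G] {a : V} (ha : a ∈ D.Λ) (h0 : a ≠ 0) {μ : ℚ} (hμ : μ ≠ 0)
    (h1 : ∀ x ∈ D.Φ, ∃ k : ℤ, D.B a x = μ * D.α * k) (h2 : D.B a a ≤ μ ^ 2 * D.α)
    {x0 : V} (hx0 : x0 ∈ D.Φ) (hφ : D.φ x0 ≠ 0) : ∃ H : Subgroup G, H ≠ ⊤ ∧ H.index ≤ 12 := by
  have hα := D.α_pos
  have ht := D.t_pos
  have hμ2 : 0 < μ ^ 2 := by positivity
  let O : V → Prop := fun b => ∃ g, b = D.ρ g a ∨ b = -D.ρ g a
  have O1 : ∀ b, O b → ∀ x ∈ D.Φ, ∃ k : ℤ, D.B b x = μ * D.α * k := by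
    rintro b ⟨g, rfl | rfl⟩ x hx <;> obtain ⟨k, hk⟩ := h1 _ (D.Φ_ρ g⁻¹ hx)
    · exact ⟨k, by rw [D.inv', hk]⟩
    · exact ⟨-k, by rw [map_neg, LinearMap.neg_apply, D.inv', hk]; push_cast; ring⟩
  have O2 : ∀ b, O b → D.B b b = D.B a a := by
    rintro b ⟨g, rfl | rfl⟩ <;> simp [D.inv]
  let f : Option Z11 → Z11 → ℚ := fun o => o.elim 0 fun j => μ • Pi.single j 1
  have c1 : ∀ g, ∃ o, ∃ b, (b = D.ρ g a ∨ b = -D.ρ g a) ∧ D.π b = D.cb (f o) := fun g => by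
    obtain ⟨n, hn, -⟩ := D.exists_cb (D.mem g _ ha)
    have e1 : ∀ i, ∃ k : ℤ, (n i : ℚ) - n 0 = μ * k := fun i => by
      by_cases hi : i = 0
      · exact ⟨0, by simp [hi]⟩
      obtain ⟨k, hk⟩ := O1 _ ⟨g, Or.inl rfl⟩ _ (D.r_Φ hi)
      rw [D.B_r hn] at hk
      exact ⟨k, mul_left_cancel₀ hα.ne' (by rw [hk]; ring)⟩
    choose k hk using e1
    set c := (∑ i, k i + 5) / 11 with hc
    have e2 : D.π (D.ρ g a) = D.cb fun i => μ * (k i - c : ℤ) := by
      rw [hn, ← sub_zero (D.cb fun i => (n i : ℚ)), ← D.cb_const (n 0 + μ * c), ← cb_sub]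
      congr 1; funext i; simp only [Pi.sub_apply]; push_cast; linear_combination hk i
    have e3 := D.B_eq e2 e2
    have e4 : |∑ i, (k i - c)| ≤ 5 := by
      rw [Finset.sum_sub_distrib]
      simp only [Finset.sum_const, Finset.card_univ, ZMod.card, nsmul_eq_mul, abs_le]
      push_cast; omega
    obtain ⟨m, hm⟩ : ∃ m : Z11 → ℤ, ∀ i, k i - c = m i := ⟨_, fun _ => rfl⟩
    simp only [hm] at e2 e3 e4
    rw [D.inv, ← Finset.mul_sum, Finset.sum_congr rfl fun i _ =>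
      show μ * (m i : ℚ) * (μ * m i) = μ ^ 2 * (m i * m i : ℤ) by push_cast; ring,
      ← Finset.mul_sum, ← Int.cast_sum, ← Int.cast_sum] at e3
    obtain ⟨e5, e6⟩ := abs_sum_le m
    have e7 : 11 * ∑ i, m i * m i - (∑ i, m i) ^ 2 ≤ 11 := by
      have : (11 * (∑ i, m i * m i : ℤ) - (∑ i, m i : ℤ) ^ 2 : ℚ) ≤ 11 := by
        have := mul_nonneg ht.le (mul_self_nonneg (D.φ (D.ρ g a)))
        by_contra hh
        have := mul_pos hα (mul_pos hμ2 (sub_pos.mpr (not_le.mp hh)))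
        nlinarith
      exact_mod_cast this
    have e8 : ∑ i, m i * m i ≤ 1 := by
      generalize ∑ i, m i * m i = q at *
      generalize ∑ i, m i = s at *
      rw [abs_le] at e4 e5
      obtain ⟨e4, e4'⟩ := e4
      interval_cases s <;> omega
    rcases small e8 with rfl | ⟨j, rfl | rfl⟩
    · exact ⟨none, _, Or.inl rfl, by rw [e2]; congr 1; funext i; simp [f]⟩
    · exact ⟨some j, _, Or.inl rfl, by rw [e2]; congr 1; funext i; simp [f, Pi.single_apply]⟩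
    · refine ⟨some j, _, Or.inr rfl, ?_⟩
      rw [map_neg, e2, ← neg_one_smul ℚ, ← cb_smul]; congr 1; funext i; simp [f, Pi.single_apply]
      split_ifs <;> simp
  have c2 : ∀ o b b', O b → O b' → D.π b = D.cb (f o) → D.π b' = D.cb (f o) → b = b' ∨ b = -b' := by
    intro o b b' hb hb' e1 e2
    have e3 := D.B_eq e1 e1
    have e4 := D.B_eq e2 e2
    rw [O2 _ hb] at e3
    rw [O2 _ hb', e3] at e4
    have e5 : D.φ b * D.φ b = D.φ b' * D.φ b' := by
      have := mul_left_cancel₀ hα.ne' e4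
      exact mul_left_cancel₀ ht.ne' (by linarith)
    rcases mul_self_eq_mul_self_iff.mp e5 with e | e
    · exact Or.inl (D.ext' (e1.trans e2.symm) e)
    rcases o with _ | j
    · have z : D.cb (f none) = 0 := D.cb_const 0
      exact Or.inr (D.ext' (by rw [map_neg, e1, e2, z, neg_zero]) (by rw [map_neg, e]))
    refine Or.inl (D.ext' (e1.trans e2.symm) ?_)
    obtain ⟨k, hk⟩ := O1 _ hb _ hx0
    obtain ⟨k', hk'⟩ := O1 _ hb' _ hx0
    obtain ⟨n, hn, -⟩ := D.exists_cb (D.Φ_mem hx0)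
    have f1 := D.B_eq e1 hn
    have f2 := D.B_eq e2 hn
    have f3 := D.B_eq hn hn
    have f4 := D.nonneg (D.cb fun i => n i)
    rw [D.B_cb] at f4
    rw [D.Φ_norm hx0] at f3
    rw [hk] at f1; rw [hk'] at f2
    simp only [f, Option.elim, Pi.smul_apply, Pi.single_apply, smul_eq_mul, mul_ite, mul_one,
      mul_zero, ite_mul, zero_mul, Finset.sum_ite_eq', Finset.mem_univ, if_true] at e3
    have g1 : D.t * D.φ b * D.φ b ≤ μ ^ 2 := by
      by_contra hh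
      have := mul_pos hα (sub_pos.mpr (not_le.mp hh))
      nlinarith
    have g2 : D.t * D.φ x0 * D.φ x0 ≤ 22 := by
      by_contra hh
      have := mul_pos hα (sub_pos.mpr (not_le.mp hh))
      have := mul_nonneg hα.le ((mul_nonneg_iff_of_pos_left D.κ_pos).mp f4)
      nlinarith
    have g3 : 11 * μ * (k - k' : ℤ) = 2 * D.t * D.φ b * D.φ x0 := by
      apply mul_left_cancel₀ hα.ne'
      push_cast
      rw [show D.φ b' = -D.φ b by rw [e, neg_neg]] at f2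
      linear_combination f1 - f2
    have g4 : k - k' = 0 := by
      by_contra hh
      have : (1 : ℚ) ≤ ((k - k' : ℤ) : ℚ) ^ 2 := by exact_mod_cast (one_le_sq_iff_one_le_abs _).mpr (Int.one_le_abs hh)
      have g5 : (11 * μ * (k - k' : ℤ)) ^ 2 = 4 * (D.t * D.φ b * D.φ b) * (D.t * D.φ x0 * D.φ x0) := by
        rw [g3]; ring
      have g6 := mul_le_mul g1 g2 (by rw [mul_assoc]; exact mul_nonneg ht.le (mul_self_nonneg _)) hμ2.le
      nlinarith
    rw [g4] at g3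
    have g5 : D.φ b = 0 := by
      have : D.t * D.φ x0 * D.φ b = 0 := by push_cast at g3; linarith
      exact (mul_eq_zero.mp this).resolve_left (mul_ne_zero ht.ne' hφ)
    rw [g5] at e ⊢
    exact (neg_eq_zero.mp e.symm).symm
  choose o b hb hπ using c1
  refine ⟨D.line a, D.line_ne_top ha h0, ?_⟩
  have hinj : Function.Injective fun q : G ⧸ D.line a => o q.out := fun q q' h => by
    rw [← q.out_eq, ← q'.out_eq]
    refine QuotientGroup.eq.mpr ?_
    have e := c2 _ _ _ ⟨_, hb q'.out⟩ ⟨_, hb q.out⟩ (hπ _) (by rw [hπ]; exact congrArg _ (congrArg f h))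
    have e' : D.ρ q'.out a = D.ρ q.out a ∨ D.ρ q'.out a = -D.ρ q.out a := by
      rcases hb q'.out with e1 | e1 <;> rcases hb q.out with e2 | e2 <;> rw [e1, e2] at e
      · exact e
      · rw [neg_neg] at e; exact e.symm
      · exact e.symm.imp neg_inj.mp neg_eq_iff_eq_neg.mp
      · rw [neg_neg] at e; exact e.imp neg_inj.mp neg_eq_iff_eq_neg.mp
    change D.ρ _ a = a ∨ D.ρ _ a = -a
    rw [map_mul, Module.End.mul_apply]
    rcases e' with e | e <;> simp [e, D.ρ_inv]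
  simpa [Subgroup.index] using Nat.card_le_card_of_injective _ hinj

theorem Φ_type {x : V} (h : x ∈ D.Φ) : ∃ n : Z11 → ℤ, D.π x = D.cb (fun i => n i) ∧
    ((n = 0 ∧ D.t * D.φ x * D.φ x = 22) ∨ D.t * D.φ x * D.φ x = 12 ∨
    (∑ i, n i * n i = 2 ∧ (∑ i, n i = 2 ∨ ∑ i, n i = -2) ∧ D.t * D.φ x * D.φ x = 4) ∨
    (∑ i, n i = 0 ∧ D.φ x = 0)) := by
  obtain ⟨n, hn, h1⟩ := D.exists_cb (D.Φ_mem h)
  refine ⟨n, hn, ?_⟩
  have e := D.B_eq hn hn
  rw [D.Φ_norm h, show 11 * (2 * D.α) = D.α * 22 by ring] at e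
  have e1 := mul_left_cancel₀ D.α_pos.ne' e
  have e2 : D.t * D.φ x * D.φ x = (22 - 11 * ∑ i, n i * n i + (∑ i, n i) * ∑ i, n i : ℤ) := by
    push_cast; linarith
  have e3 : 0 ≤ D.t * D.φ x * D.φ x := by
    rw [mul_assoc]; exact mul_nonneg D.t_pos.le (mul_self_nonneg _)
  have e4 : D.t * D.φ x * D.φ x = 0 → D.φ x = 0 := fun e => by
    rw [mul_assoc] at e
    exact mul_self_eq_zero.mp ((mul_eq_zero.mp e).resolve_left D.t_pos.ne')
  have e5 : ∑ i, n i * n i = 0 → n = 0 := fun e => funext fun i => mul_self_eq_zero.mp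
    ((Finset.sum_eq_zero_iff_of_nonneg fun i _ => mul_self_nonneg (n i)).mp e i (Finset.mem_univ _))
  obtain ⟨e6, e7⟩ := abs_sum_le n
  rw [e2] at e3 e4 ⊢
  have e3' : 0 ≤ 22 - 11 * ∑ i, n i * n i + (∑ i, n i) * ∑ i, n i := by exact_mod_cast e3
  generalize ∑ i, n i * n i = q at *
  generalize ∑ i, n i = s at *
  rw [abs_le] at h1 e6
  obtain ⟨h1, h2⟩ := h1
  have : (q = 0 ∧ s = 0) ∨ (q = 1 ∧ (s = 1 ∨ s = -1)) ∨ (q = 2 ∧ (s = 2 ∨ s = -2)) ∨
      (q = 2 ∧ s = 0) := by interval_cases s <;> omega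
  rcases this with ⟨rfl, rfl⟩ | ⟨rfl, rfl | rfl⟩ | ⟨rfl, rfl | rfl⟩ | ⟨rfl, rfl⟩
  · exact Or.inl ⟨e5 rfl, by norm_num⟩
  · exact Or.inr (Or.inl (by norm_num))
  · exact Or.inr (Or.inl (by norm_num))
  · exact Or.inr (Or.inr (Or.inl ⟨rfl, Or.inl rfl, by norm_num⟩))
  · exact Or.inr (Or.inr (Or.inl ⟨rfl, Or.inr rfl, by norm_num⟩))
  · exact Or.inr (Or.inr (Or.inr ⟨rfl, e4 (by norm_num)⟩))

theorem Φ_pair {x x' : V} (h : x ∈ D.Φ) (h' : x' ∈ D.Φ) {n n' : Z11 → ℤ}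
    (hn : D.π x = D.cb fun i => n i) (hn' : D.π x' = D.cb fun i => n' i) :
    ∃ z : ℤ, D.t * D.φ x * D.φ x' = z ∧ (11 : ℤ) ∣ z - (∑ i, n i) * ∑ i, n' i ∧
      ∀ a b : ℤ, D.t * D.φ x * D.φ x = a → D.t * D.φ x' * D.φ x' = b → z * z = a * b := by
  obtain ⟨k, hk⟩ := D.Φ_int (D.Φ_mem h) h'
  have e := D.B_eq hn hn'
  rw [hk, mul_left_comm] at e
  have e1 := mul_left_cancel₀ D.α_pos.ne' e
  have e2 : D.t * D.φ x * D.φ x' = (11 * k - 11 * ∑ i, n i * n' i + (∑ i, n i) * ∑ i, n' i : ℤ) := by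
    push_cast; linarith
  refine ⟨_, e2, ⟨k - ∑ i, n i * n' i, by ring⟩, fun a b ha hb => ?_⟩
  apply Int.cast_injective (α := ℚ)
  rw [Int.cast_mul, Int.cast_mul, ← e2, ← ha, ← hb]; ring

theorem two_ones {n : Z11 → ℤ} (h1 : ∑ i, n i * n i = 2) (h2 : ∑ i, n i = 2) :
    ∃ j k, j ≠ k ∧ n = Pi.single j 1 + Pi.single k 1 := by
  have h3 : ∀ i, n i = 0 ∨ n i = 1 := fun i => by
    have h0 : ∀ i, 0 ≤ n i * n i - n i := fun i => by
      by_cases h : 1 ≤ n i <;> nlinarith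
    have := (Finset.sum_eq_zero_iff_of_nonneg fun i _ => h0 i).mp
      (by rw [Finset.sum_sub_distrib, h1, h2, sub_self]) i (Finset.mem_univ _)
    exact (mul_eq_zero.mp (by linarith : n i * (n i - 1) = 0)).imp_right sub_eq_zero.mp
  have h4 : ∑ i, n i = (Finset.univ.filter fun i => n i = 1).card := by
    rw [Finset.card_filter]; push_cast
    exact Finset.sum_congr rfl fun i _ => by rcases h3 i with e | e <;> simp [e]
  obtain ⟨j, k, hjk, e⟩ := Finset.card_eq_two.mp (by omega :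
    (Finset.univ.filter fun i => n i = 1).card = 2)
  refine ⟨j, k, hjk, funext fun i => ?_⟩
  have := Finset.ext_iff.mp e i
  simp only [Finset.mem_filter, Finset.mem_univ, true_and, Finset.mem_insert,
    Finset.mem_singleton] at this
  by_cases a : i = j
  · subst a; simp [hjk, this.mpr (Or.inl rfl)]
  by_cases b : i = k
  · subst b; simp [a, this.mpr (Or.inr rfl)]
  · simp [a, b, (h3 i).resolve_right fun e => (this.mp e).elim a b]

theorem sq_ne : ∀ z : ℤ, z * z ≠ 264 ∧ z * z ≠ 88 ∧ z * z ≠ 48 ∧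
    (z * z = 484 → z = 22 ∨ z = -22) ∧ (z * z = 144 → z = 12 ∨ z = -12) ∧
    (z * z = 16 → z = 4 ∨ z = -4) := fun z => by
  by_cases h : -23 < z ∧ z < 23
  · obtain ⟨h1, h2⟩ := h
    interval_cases z <;> simp
  · have : 484 < z * z := by rcases not_and_or.mp h with h | h <;> nlinarith
    omega

theorem case_two [Finite G] {x : V} (h : x ∈ D.Φ) {n : Z11 → ℤ} (hn : D.π x = D.cb fun i => n i)
    (h1 : ∑ i, n i * n i = 2) (h2 : ∑ i, n i = 2) (h3 : D.t * D.φ x * D.φ x = 4) :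
    ∃ H : Subgroup G, H ≠ ⊤ ∧ H.index ≤ 12 := by
  obtain ⟨j, k, hjk, e⟩ := two_ones h1 h2
  have hα := D.α_pos
  have e1 : D.π (x + D.r j k) = D.cb ((2 : ℚ) • Pi.single j 1) := by
    rw [map_add, hn, D.π_r, ← cb_add, e]
    congr 1; funext i; simp [Pi.single_apply]; split_ifs <;> norm_num
  have e2 : D.φ (x + D.r j k) = D.φ x := by rw [map_add, D.φ_r, add_zero]
  have e3 : D.φ x ≠ 0 := fun e => by rw [e] at h3; norm_num at h3
  refine D.key (add_mem (D.Φ_mem h) (D.r_mem j k)) (fun e => e3 (by rw [← e2, e, map_zero]))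
    two_ne_zero (fun x' h' => ?_) ?_ h e3
  · obtain ⟨n', hn', ty⟩ := D.Φ_type h'
    obtain ⟨z, z1, z2, z3⟩ := D.Φ_pair h h' hn hn'
    have b := D.B_eq e1 hn'
    have z4 : z = 2 * ∑ i, n' i := by
      rw [h2] at z2
      obtain ⟨s1, s2, s3, s4, s5, s6⟩ := sq_ne z
      rcases ty with ⟨-, ty⟩ | ty | ⟨-, ty, ty'⟩ | ⟨ty, ty'⟩
      · exact absurd (z3 4 22 h3 ty) s2
      · exact absurd (z3 4 12 h3 ty) s3
      · have := s6 (z3 4 4 h3 ty'); omega
      · rw [ty', mul_zero] at z1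
        have : z = 0 := by exact_mod_cast z1.symm
        omega
    rw [e2, z1, z4] at b
    simp only [Pi.smul_apply, Pi.single_apply, smul_eq_mul, mul_ite, mul_one,
      mul_zero, ite_mul, zero_mul, Finset.sum_ite_eq', Finset.mem_univ, if_true] at b
    push_cast at b
    exact ⟨n' j, by linarith⟩
  · have b := D.B_eq e1 e1
    rw [e2, h3] at b
    simp only [Pi.smul_apply, Pi.single_apply, smul_eq_mul, mul_ite, mul_one,
      mul_zero, ite_mul, zero_mul, Finset.sum_ite_eq', Finset.mem_univ, if_true] at b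
    linarith

include D in
theorem exists_index [Finite G] : ∃ H : Subgroup G, H ≠ ⊤ ∧ H.index ≤ 12 := by
  have hα := D.α_pos
  have ht := D.t_pos
  by_cases h0 : ∀ x ∈ D.Φ, D.φ x = 0
  · refine absurd (fun g => ?_) D.not_line
    obtain ⟨n, hn, -⟩ := D.exists_cb (D.mem g _ D.vmem)
    have e1 : D.π (D.ρ g D.v) = 0 := by
      rw [hn, ← D.cb_const (n 0)]
      congr 1; funext i
      by_cases hi : i = 0
      · rw [hi]
      have := D.B_r hn i 0
      rw [D.inv', D.symm, D.Bv (D.mem _ _ (D.r_mem _ _)), h0 _ (D.Φ_ρ _ (D.r_Φ hi))] at this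
      have := (mul_eq_zero.mp (this.symm.trans (by simp))).resolve_left hα.ne'
      linarith
    have e2 := D.eq_π (D.ρ g D.v)
    rw [e1, zero_add, smul_smul] at e2
    have e3 := D.inv g D.v D.v
    rw [e2] at e3 ⊢
    simp only [map_smul, LinearMap.smul_apply, smul_eq_mul, ← mul_assoc] at e3
    have e4 := mul_right_cancel₀ (D.pos _ D.v_ne).ne' (e3.trans (one_mul _).symm)
    rcases mul_self_eq_one_iff.mp (show (11⁻¹ * D.φ (D.ρ g D.v)) * (11⁻¹ * D.φ (D.ρ g D.v)) = 1 by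
      linarith) with e | e <;> rw [e] <;> simp
  push Not at h0
  obtain ⟨x, h, hφ⟩ := h0
  obtain ⟨n, hn, ty⟩ := D.Φ_type h
  rcases ty with ⟨rfl, ty⟩ | ty | ⟨t1, t2 | t2, t3⟩ | ⟨-, ty⟩
  · refine D.key (D.Φ_mem h) (fun e => hφ (by rw [e, map_zero])) two_ne_zero (fun x' h' => ?_)
      (by rw [D.Φ_norm h]; linarith) h hφ
    obtain ⟨n', hn', ty'⟩ := D.Φ_type h'
    obtain ⟨z, z1, -, z3⟩ := D.Φ_pair h h' hn hn'
    have b := D.B_eq hn hn'
    rw [z1] at b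
    simp only [Pi.zero_apply, Int.cast_zero, zero_mul, Finset.sum_const_zero] at b
    obtain ⟨s1, s2, s3, s4, s5, s6⟩ := sq_ne z
    rcases ty' with ⟨-, ty'⟩ | ty' | ⟨-, -, ty'⟩ | ⟨-, ty'⟩
    · rcases s4 (z3 22 22 ty ty') with rfl | rfl
      · exact ⟨1, by push_cast at b ⊢; linarith⟩
      · exact ⟨-1, by push_cast at b ⊢; linarith⟩
    · exact absurd (z3 22 12 ty ty') s1
    · exact absurd (z3 22 4 ty ty') s2
    · rw [← z1, ty'] at b; exact ⟨0, by push_cast; linarith⟩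
  · have hv : D.π D.v = D.cb 0 := D.πv.trans (D.cb_const 0).symm
    refine D.key D.vmem D.v_ne (μ := 12 / D.φ x) (div_ne_zero (by norm_num) hφ) (fun x' h' => ?_)
      ?_ h hφ
    · obtain ⟨n', hn', ty'⟩ := D.Φ_type h'
      obtain ⟨z, z1, -, z3⟩ := D.Φ_pair h h' hn hn'
      have b := D.B_eq hv hn'
      simp only [Pi.zero_apply, zero_mul, Finset.sum_const_zero, D.φv] at b
      have b' : D.B D.v x' = D.α * z / D.φ x := by
        rw [← z1]; field_simp; linear_combination b / 11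
      obtain ⟨s1, s2, s3, s4, s5, s6⟩ := sq_ne z
      rw [b']
      rcases ty' with ⟨-, ty'⟩ | ty' | ⟨-, -, ty'⟩ | ⟨-, ty'⟩
      · exact absurd (z3 12 22 ty ty') s1
      · rcases s5 (z3 12 12 ty ty') with rfl | rfl
        · exact ⟨1, by push_cast; ring⟩
        · exact ⟨-1, by push_cast; ring⟩
      · exact absurd (z3 12 4 ty ty') s3
      · rw [← z1, ty']; exact ⟨0, by simp⟩
    · have b := D.B_eq hv hv
      simp only [Pi.zero_apply, zero_mul, Finset.sum_const_zero, D.φv] at b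
      have e : (12 / D.φ x) ^ 2 = 12 * D.t := by
        field_simp; linear_combination -ty
      rw [e]; nlinarith
  · exact D.case_two h hn t1 t2 t3
  · refine D.case_two (D.Φ_neg h) (n := -n) ?_ (by simpa using t1) (by simp [t2])
      (by simpa using t3)
    rw [map_neg, hn, ← neg_one_smul ℚ, ← cb_smul]; congr 1; funext i; simp
  · exact absurd ty hφ

end LD

end H17.Ord.Lat
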