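import Mathlib
import Cfsg.Agent.Base
import Cfsg.Agent.Lib.Ord.B0
import Cfsg.Agent.Lib.Ord.Lat11

/-! A rational irreducible character of degree 11 together with a subgroup `11:5` gives a proper
subgroup of index at most 12. -/

set_option autoImplicit false
set_option linter.unusedSectionVars false
set_option linter.style.haveILetI false

open Cfsg
open scoped ComplexConjugate

namespace H17.Ord

theorem sum_eq_card_smul {G A : Type*} [Group G] [Fintype G] [AddCommMonoid A] (P : Subgroup G)
    [Fintype (G ⧸ P)] (F : G → A) (h : ∀ g, ∀ p ∈ P, F (g * p) = F g) :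
    ∑ g, F g = Nat.card P • ∑ q : G ⧸ P, F q.out := by
  classical
  have hb : Function.Bijective fun x : (G ⧸ P) × P => x.1.out * x.2 := by
    constructor
    · rintro ⟨q, p⟩ ⟨q', p'⟩ e
      have e1 : q = q' := by
        have := congrArg (QuotientGroup.mk (s := P)) e
        simpa using this
      subst e1
      exact Prod.ext rfl (Subtype.ext (mul_left_cancel e))
    · intro g
      obtain ⟨p, hp⟩ := QuotientGroup.mk_out_eq_mul P g
      exact ⟨(QuotientGroup.mk g, p⁻¹), by simp [hp]⟩
  rw [← Fintype.sum_bijective _ hb _ F fun _ => rfl, Fintype.sum_prod_type, Finset.smul_sum]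
  refine Finset.sum_congr rfl fun q _ => ?_
  simp only [h _ _ (Subtype.prop _), Finset.sum_const, Finset.card_univ, Nat.card_eq_fintype_card]

theorem exists_rank_one {V : Type*} [AddCommGroup V] [Module ℂ V] [FiniteDimensional ℂ V]
    {e : V →ₗ[ℂ] V} (he : e * e = e) (ht : LinearMap.trace ℂ V e = 1) :
    ∃ (v : V) (ψ : V →ₗ[ℂ] ℂ), e = ψ.smulRight v := by
  have h1 : Module.finrank ℂ (LinearMap.range e) = 1 := by
    have := (LinearMap.IsIdempotentElem.isProj_range e he).trace
    rw [ht] at this
    exact_mod_cast this.symm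
  let b := Module.finBasisOfFinrankEq ℂ _ h1
  refine ⟨b 0, (b.coord 0).comp e.rangeRestrict, LinearMap.ext fun x => ?_⟩
  have := congrArg Subtype.val (b.sum_repr (e.rangeRestrict x))
  simpa using this.symm

theorem not_li {X ι : Type*} [Finite X] [Fintype ι] {n : ℕ} (T : (Fin n → ℂ) →ₗ[ℂ] (X → ℂ))
    (u : ι → X → ℚ) (h : ∀ i, algebraMap ℚ ℂ ∘ u i ∈ LinearMap.range T) (hn : n < Fintype.card ι) :
    ¬ LinearIndependent ℚ u := fun hli => by
  have h1 := (linearIndependent_algebraMap_comp_iff (S := ℂ)).mpr hli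
  have h2 := Submodule.finrank_mono (Submodule.span_le.mpr (Set.range_subset_iff.mpr h))
  rw [finrank_span_eq_card h1] at h2
  have h3 := h2.trans (LinearMap.finrank_range_le T)
  rw [Module.finrank_fin_fun] at h3
  omega

theorem exists_index_of_char {G : Type*} [Group G] [Finite G] {χ : IrrCharacter G}
    (hd : dg χ = 11) (hint : ∀ g, ∃ z : ℤ, (χ : G → ℂ) g = z) (hG : ¬ 11 ^ 2 ∣ Nat.card G)
    {y s : G} (hy : orderOf y = 11) (hs : s ^ 5 = 1) (hsy : s * y * s⁻¹ = y ^ 4) :
    ∃ H : Subgroup G, H ≠ ⊤ ∧ H.index ≤ 12 := by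
  classical
  letI := Fintype.ofFinite G
  choose z hz using hint
  let Y : ZMod 11 → G := fun i => y ^ i.val
  have ymod : ∀ k, y ^ (k % 11) = y ^ k := fun k => by rw [← hy, pow_mod_orderOf]
  have Yadd : ∀ i j, Y (i + j) = Y i * Y j := fun i j => by
    simp only [Y]; rw [← pow_add, ZMod.val_add, ymod]
  have Y0 : Y 0 = 1 := pow_zero y
  have Yneg : ∀ i, Y (-i) = (Y i)⁻¹ := fun i =>
    eq_inv_of_mul_eq_one_left (by rw [← Yadd, neg_add_cancel, Y0])
  have sY : ∀ i, s * Y i = Y (4 * i) * s := fun i => by
    simp only [Y]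
    rw [ZMod.val_mul, ymod, show (4 : ZMod 11).val = 4 from rfl, pow_mul, ← hsy,
      conj_pow, inv_mul_cancel_right]
  have hχY : ∀ i, (χ : G → ℂ) (Y i) = if i = 0 then 11 else 0 := fun i => by
    split_ifs with h
    · rw [h, Y0, dg_cast, hd]; rfl
    · refine van_of_dvd (by norm_num) hG hd.symm.dvd ?_
      simp only [Y]
      rw [(Nat.Coprime.orderOf_pow (by
        rw [hy]; revert i; decide)), hy]
  have zc : ∀ a b, z (a * b) = z (b * a) := fun a b => by
    have := irr_cls χ (b * a) a
    rw [show a * (b * a) * a⁻¹ = a * b by group, hz, hz] at this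
    exact_mod_cast this
  have zi : ∀ a, z a⁻¹ = z a := fun a => by
    have := H6.char_inv (irr_chr χ) a
    rw [hz, hz, map_intCast] at this
    exact_mod_cast this
  let m : G → ℤ := fun g => ∑ i, z (g * Y i)
  have mr : ∀ g j, m (g * Y j) = m g := fun g j =>
    Fintype.sum_equiv (Equiv.addLeft j) _ _ fun i => by simp [Yadd, mul_assoc]
  have mi : ∀ g, m g⁻¹ = m g := fun g =>
    Fintype.sum_equiv (Equiv.neg _) _ _ fun i => by
      rw [← zi, mul_inv_rev, inv_inv, zc, Equiv.neg_apply, Yneg]
  have m1 : m 1 = 11 := by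
    have : ((m 1 : ℤ) : ℂ) = 11 := by simp [m, ← hz, hχY]
    exact_mod_cast this
  obtain ⟨n, ρ, -, hρ⟩ := id χ.2
  have hn : n = 11 := by
    have := congrFun hρ 1
    rw [dg_cast, hd, Representation.char_one] at this
    exact_mod_cast (by simpa using this : (n : ℂ) = 11)
  obtain ⟨v, ψ, he⟩ := exists_rank_one (e := (11 : ℂ)⁻¹ • ∑ i, ρ (Y i)) (by
    rw [smul_mul_smul, Finset.sum_mul, Finset.sum_congr rfl fun i _ => show
      ρ (Y i) * ∑ j, ρ (Y j) = ∑ j, ρ (Y j) by
        rw [Finset.mul_sum]
        exact Fintype.sum_equiv (Equiv.addLeft i) _ _ fun j => by simp [Yadd]]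
    simp [← Nat.cast_smul_eq_nsmul ℂ, smul_smul]) (by
    rw [map_smul, map_sum]
    change _ • ∑ i, ρ.character (Y i) = 1
    simp [hρ, hχY])
  have he' : ∑ i, ρ (Y i) = (11 : ℂ) • ψ.smulRight v := by rw [← he, smul_smul]; norm_num
  have mψ : ∀ g, (m g : ℂ) = 11 * ψ (ρ g v) := fun g => by
    simp only [m, Int.cast_sum, ← hz, ← hρ, Representation.character, map_mul]
    rw [← map_sum, ← Finset.mul_sum, he', mul_smul_comm, map_smul,
      show ρ g * ψ.smulRight v = ψ.smulRight (ρ g v) by ext; simp, LinearMap.trace_smulRight]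
    rfl
  have m3 : ∀ h g, ∑ j, m (h * (Y j * g)) = m g * m h := fun h g => by
    apply Int.cast_injective (α := ℂ)
    simp only [Int.cast_sum, Int.cast_mul, mψ, map_mul, Module.End.mul_apply]
    rw [← Finset.mul_sum, ← map_sum, ← map_sum, ← LinearMap.sum_apply, he']
    simp; ring
  have m4 : ∑ g, m g * m g = 11 * Nat.card G := by
    apply Int.cast_injective (α := ℂ)
    simp only [m, Int.cast_sum, Int.cast_mul, Finset.sum_mul_sum]
    rw [Finset.sum_comm]
    have : ∀ i, ∑ g, ∑ j, (z (g * Y i) : ℂ) * z (g * Y j) = Nat.card G := fun i => by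
      rw [Finset.sum_comm]
      have : ∀ j, ∑ g, (z (g * Y i) : ℂ) * z (g * Y j) = if i - j = 0 then Nat.card G else 0 :=
        fun j => by
        have h1 := H6.sum_irr_mul_conj χ.2 χ.2 (Y (i - j))
        rw [if_pos rfl, hχY, dg_cast, hd] at h1
        rw [Fintype.sum_equiv (Equiv.mulRight (Y j)) _
          (fun g => (χ : G → ℂ) (g * Y (i - j)) * conj ((χ : G → ℂ) g)) fun g => by
            simp only [Equiv.coe_mulRight, hz, map_intCast, mul_assoc, ← Yadd, add_sub_cancel], h1]
        split_ifs <;> simp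
      simp [this, sub_eq_zero]
    simp [this]
  let f : G → G → ℚ := fun g h => m (h⁻¹ * g)
  let R : Representation ℚ G (G → ℚ) :=
    { toFun := fun g => LinearMap.funLeft ℚ ℚ fun h => g⁻¹ * h
      map_one' := by ext; simp
      map_mul' := fun a b => by ext; simp [mul_assoc] }
  have Ra : ∀ g u h, R g u h = u (g⁻¹ * h) := fun _ _ _ => rfl
  have Rf : ∀ g k, R g (f k) = f (g * k) := fun g k => by funext h; simp [Ra, f, mul_assoc]
  letI : Module ℤ (G → ℚ) := AddCommGroup.toIntModule _
  let Λ := Submodule.span ℤ (Set.range f)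
  have val : ∀ a ∈ Λ, ∀ h, ∃ k : ℤ, a h = k := fun a ha h => by
    induction ha using Submodule.span_induction with
    | mem x hx => obtain ⟨g, rfl⟩ := hx; exact ⟨_, rfl⟩
    | zero => exact ⟨0, by simp⟩
    | add x w _ _ h1 h2 =>
      obtain ⟨k, h1⟩ := h1; obtain ⟨l, h2⟩ := h2; exact ⟨k + l, by simp [h1, h2]⟩
    | smul c x _ h1 => obtain ⟨k, h1⟩ := h1; exact ⟨c * k, by simp [h1]⟩
  have hrank : ∀ u : Option (ZMod 11) → G → ℚ, (∀ i, u i ∈ Submodule.span ℚ (Λ : Set (G → ℚ))) →
      ¬ LinearIndependent ℚ u := fun u hu hli => by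
    let T : (Fin n → ℂ) →ₗ[ℂ] (G → ℂ) := LinearMap.pi fun h => (11 : ℂ) • ψ.comp (ρ h⁻¹)
    have hT : ∀ a ∈ Submodule.span ℚ (Λ : Set (G → ℚ)), algebraMap ℚ ℂ ∘ a ∈ LinearMap.range T := by
      intro a ha
      rw [Submodule.span_span_of_tower] at ha
      induction ha using Submodule.span_induction with
      | mem x hx =>
        obtain ⟨k, rfl⟩ := hx
        exact ⟨ρ k v, funext fun h => by simp [T, f, mψ]⟩
      | zero => exact ⟨0, by ext; simp⟩
      | add x w _ _ h1 h2 => convert add_mem h1 h2 using 1; ext; simp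
      | smul c x _ h1 => convert Submodule.smul_mem _ (c : ℂ) h1 using 1; ext; simp
    exact not_li T u (fun i => hT _ (hu i)) (by rw [Fintype.card_option, ZMod.card]; omega) hli
  refine Lat.LD.exists_index (V := G → ℚ)
    { ρ := R
      B := dotProductBilin ℚ ℚ
      Λ := Λ
      φ := LinearMap.proj 1
      v := f 1
      y := Y
      s := s
      symm := fun a b => dotProduct_comm a b
      pos := fun a ha => lt_of_le_of_ne (Finset.sum_nonneg fun _ _ => mul_self_nonneg _)
        fun e => ha (dotProduct_self_eq_zero.mp e.symm)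
      inv := fun g a b => Fintype.sum_equiv (Equiv.mulLeft g⁻¹) _ _ fun _ => rfl
      int := fun a ha b hb => by
        choose k hk using val a ha
        choose l hl using val b hb
        exact ⟨∑ h, k h * l h, by simp [dotProduct, hk, hl]⟩
      mem := fun g a ha => by
        induction ha using Submodule.span_induction with
        | mem x hx => obtain ⟨k, rfl⟩ := hx; exact Submodule.subset_span ⟨_, (Rf g k).symm⟩
        | zero => simp
        | add x w _ _ h1 h2 => rw [map_add]; exact add_mem h1 h2
        | smul c x _ h1 => rw [map_zsmul]; exact Λ.smul_mem _ h1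
      φint := fun a ha => val a ha 1
      vmem := Submodule.subset_span ⟨1, rfl⟩
      φv := by simp [f, m1]
      norm := fun a ha => by
        induction ha using Submodule.span_induction with
        | mem x hx =>
          obtain ⟨k, rfl⟩ := hx
          funext h
          simp only [Rf, Finset.sum_apply, f, LinearMap.proj_apply, Pi.smul_apply, smul_eq_mul,
            inv_one, one_mul, mul_one]
          exact_mod_cast m3 h⁻¹ k
        | zero => simp
        | add x w _ _ h1 h2 => simp only [map_add, Finset.sum_add_distrib, h1, h2, add_smul]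
        | smul c x _ h1 =>
          simp only [map_zsmul, ← Finset.smul_sum, h1, smul_assoc]
      yadd := Yadd
      sy := sY
      s5 := hs
      rank := hrank
      ex := ?_ }
  · by_contra hc
    push Not at hc
    choose k hk using hc
    have hk' : ∀ g, m g = 11 * k g := fun g => by
      have := hk g
      rw [Rf] at this
      simp only [LinearMap.proj_apply, f, inv_one, one_mul, mul_one] at this
      exact_mod_cast this
    letI := Fintype.ofFinite (G ⧸ Subgroup.zpowers y)
    have h1 := sum_eq_card_smul (Subgroup.zpowers y) (fun g => k g * k g) fun g p hp => by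
      obtain ⟨j, rfl⟩ := (mem_zpowers_iff_mem_range_orderOf.trans Finset.mem_image).mp hp |>.imp
        fun _ h => h.2
      have := mr g j
      rw [show Y j = y ^ j by simp only [Y]; rw [ZMod.val_natCast, ymod], hk', hk'] at this
      rw [show k (g * y ^ j) = k g by omega]
    rw [Nat.card_zpowers, hy] at h1
    simp only [hk', show ∀ a : ℤ, 11 * a * (11 * a) = 121 * (a * a) from fun a => by ring,
      ← Finset.mul_sum, h1, nsmul_eq_mul] at m4
    exact hG (by omega)

end H17.Ord
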