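import Mathlib
import Cfsg.Agent.Base
import Cfsg.Agent.Lib.Ord.AlgA
import Cfsg.Agent.Lib.Ord.Lat11b
import Cfsg.Agent.Lib.Deg.FS
import Cfsg.Agent.Lib.Block.Fix

/-! An irreducible character `χ` of orthogonal type with irreducible alternating square and
`∑ χ³ ≠ 0` gives a proper subgroup of index at most `χ(1) + 1`. -/

set_option autoImplicit false
set_option linter.unusedSectionVars false
set_option linter.style.haveILetI false

open Cfsg Matrix
open scoped ComplexConjugate Kronecker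

namespace H17.Ord

section Avg
variable {G κ : Type*} [Group G] [Fintype G] [Fintype κ] [DecidableEq κ]
  (A : G → Matrix κ κ ℂ) (hA : ∀ g h, A (g * h) = A g * A h)

noncomputable def avgL (A : G → Matrix κ κ ℂ) : (κ → ℂ) →ₗ[ℂ] (κ → ℂ) :=
  (Nat.card G : ℂ)⁻¹ • ∑ g, Matrix.toLin' (A g)ᵀ

theorem avgL_apply (x : κ → ℂ) : avgL A x = (Nat.card G : ℂ)⁻¹ • ∑ g, x ᵥ* A g := by
  simp [avgL, LinearMap.sum_apply, mulVec_transpose]

theorem avgL_fix {x : κ → ℂ} (hx : ∀ g, x ᵥ* A g = x) : avgL A x = x := by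
  rw [avgL_apply]
  simp only [hx, Finset.sum_const, Finset.card_univ, ← Nat.card_eq_fintype_card]
  rw [← Nat.cast_smul_eq_nsmul ℂ, smul_smul, inv_mul_cancel₀ H6.card_ne_zero, one_smul]

include hA in
theorem avgL_mul (x : κ → ℂ) (h : G) : avgL A x ᵥ* A h = avgL A x := by
  rw [avgL_apply, smul_vecMul, sum_vecMul]
  congr 1
  exact Fintype.sum_equiv (Equiv.mulRight h) _ _ fun g => by simp [hA]

include hA in
theorem avgL_idem : avgL A * avgL A = avgL A :=
  LinearMap.ext fun x => avgL_fix A (avgL_mul A hA x)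

theorem avgL_trace : LinearMap.trace ℂ _ (avgL A) = (Nat.card G : ℂ)⁻¹ * ∑ g, (A g).trace := by
  simp [avgL, Matrix.trace_toLin'_eq]

include hA in
theorem fix_eq_zero (h : ∑ g, (A g).trace = 0) {x : κ → ℂ} (hx : ∀ g, x ᵥ* A g = x) : x = 0 := by
  have := (LinearMap.IsIdempotentElem.isProj_range _ (avgL_idem A hA)).trace
  rw [avgL_trace, h, mul_zero] at this
  have h2 : LinearMap.range (avgL A) = ⊥ := Submodule.finrank_eq_zero.mp (by exact_mod_cast this.symm)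
  rw [← avgL_fix A hx, LinearMap.range_eq_bot.mp h2, LinearMap.zero_apply]

include hA in
theorem fix_prop (h : ∑ g, (A g).trace = Nat.card G) {x y : κ → ℂ} (hx : ∀ g, x ᵥ* A g = x)
    (hy : ∀ g, y ᵥ* A g = y) (h0 : y ≠ 0) : ∃ c : ℂ, x = c • y := by
  obtain ⟨v, ψ, e⟩ := exists_rank_one (avgL_idem A hA) (by
    rw [avgL_trace, h, inv_mul_cancel₀ H6.card_ne_zero])
  have h1 := avgL_fix A hx
  have h2 := avgL_fix A hy
  rw [e, LinearMap.smulRight_apply] at h1 h2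
  have h3 : ψ y ≠ 0 := fun h3 => h0 (by rw [← h2, h3, zero_smul])
  refine ⟨ψ x / ψ y, ?_⟩
  calc x = ψ x • v := h1.symm
    _ = (ψ x / ψ y) • ψ y • v := by rw [smul_smul, div_mul_cancel₀ _ h3]
    _ = _ := by rw [h2]

include hA in
theorem exists_fix (h : ∑ g, (A g).trace ≠ 0) : ∃ x : κ → ℂ, x ≠ 0 ∧ ∀ g, x ᵥ* A g = x := by
  have : avgL A ≠ 0 := fun h0 => by
    have := avgL_trace A
    rw [h0, map_zero] at this
    exact mul_ne_zero (inv_ne_zero H6.card_ne_zero) h this.symm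
  obtain ⟨x, hx⟩ := DFunLike.ne_iff.mp this
  exact ⟨_, hx, avgL_mul A hA x⟩

end Avg

section Alt
variable {ι : Type*} [Fintype ι] [DecidableEq ι]

noncomputable def alt2 (X : Matrix ι ι ℂ) : Matrix (ι × ι) (ι × ι) ℂ :=
  Matrix.of fun p q => (X p.1 q.1 * X p.2 q.2 - X p.1 q.2 * X p.2 q.1) / 2

theorem alt2_mul (X Y : Matrix ι ι ℂ) : alt2 (X * Y) = alt2 X * alt2 Y := by
  ext p q
  simp only [alt2, Matrix.of_apply, Matrix.mul_apply, Fintype.sum_prod_type, Finset.sum_mul_sum]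
  have h1 : ∑ a, ∑ b, X p.1 a * Y a q.1 * (X p.2 b * Y b q.2) =
      ∑ a, ∑ b, X p.1 b * Y b q.1 * (X p.2 a * Y a q.2) := Finset.sum_comm
  have h2 : ∑ a, ∑ b, X p.1 a * Y a q.2 * (X p.2 b * Y b q.1) =
      ∑ a, ∑ b, X p.1 b * Y b q.2 * (X p.2 a * Y a q.1) := Finset.sum_comm
  have h3 : ∑ a, ∑ b, (X p.1 a * X p.2 b - X p.1 b * X p.2 a) / 2 *
      ((Y a q.1 * Y b q.2 - Y a q.2 * Y b q.1) / 2) =
      (∑ a, ∑ b, X p.1 a * Y a q.1 * (X p.2 b * Y b q.2) -
        ∑ a, ∑ b, X p.1 a * Y a q.2 * (X p.2 b * Y b q.1) +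
        ∑ a, ∑ b, X p.1 b * Y b q.1 * (X p.2 a * Y a q.2) -
        ∑ a, ∑ b, X p.1 b * Y b q.2 * (X p.2 a * Y a q.1)) / 4 := by
    simp only [← Finset.sum_sub_distrib, ← Finset.sum_add_distrib, Finset.sum_div]
    exact Finset.sum_congr rfl fun a _ => Finset.sum_congr rfl fun b _ => by ring
  rw [h3, ← h1, ← h2]
  ring

theorem alt2_trace (X : Matrix ι ι ℂ) :
    (alt2 X).trace = (X.trace * X.trace - (X * X).trace) / 2 := by
  simp only [alt2, Matrix.trace, Matrix.diag_apply, Matrix.of_apply, Matrix.mul_apply,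
    Fintype.sum_prod_type, Finset.sum_mul_sum, ← Finset.sum_sub_distrib, Finset.sum_div]

theorem lin_col {W : Type*} [AddCommGroup W] [Module ℂ W] (f : (ι → ℂ) →ₗ[ℂ] W)
    (X : Matrix ι ι ℂ) (a : ι) :
    f (X *ᵥ Pi.single a 1) = ∑ i, X i a • f (Pi.single i 1) := by
  simp only [← map_smul, ← map_sum]
  congr 1
  ext j
  simp [Finset.sum_apply, Pi.single_apply]

theorem bil_alt {W : Type*} [AddCommGroup W] [Module ℂ W] (f : (ι → ℂ) →ₗ[ℂ] (ι → ℂ) →ₗ[ℂ] W)
    (hf : ∀ a b, f a b = -f b a) (X : Matrix ι ι ℂ) (q : ι × ι) :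
    ∑ p, alt2 X p q • f (Pi.single p.1 1) (Pi.single p.2 1) =
      f (X *ᵥ Pi.single q.1 1) (X *ᵥ Pi.single q.2 1) := by
  have h : ∀ a b, f (X *ᵥ Pi.single a 1) (X *ᵥ Pi.single b 1) =
      ∑ p : ι × ι, (X p.1 a * X p.2 b) • f (Pi.single p.1 1) (Pi.single p.2 1) := fun a b => by
    rw [lin_col f, LinearMap.sum_apply, Fintype.sum_prod_type]
    refine Finset.sum_congr rfl fun i _ => ?_
    rw [LinearMap.smul_apply, lin_col (f _), Finset.smul_sum]
    simp only [mul_smul]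
  have h2 : f (X *ᵥ Pi.single q.1 1) (X *ᵥ Pi.single q.2 1) = (1 / 2 : ℂ) •
      (f (X *ᵥ Pi.single q.1 1) (X *ᵥ Pi.single q.2 1) -
        f (X *ᵥ Pi.single q.2 1) (X *ᵥ Pi.single q.1 1)) := by
    rw [hf (X *ᵥ Pi.single q.2 1)]
    module
  rw [h2, h, h, ← Finset.sum_sub_distrib, Finset.smul_sum]
  refine Finset.sum_congr rfl fun p _ => ?_
  simp only [alt2, Matrix.of_apply]
  module

theorem tri_ext {W : Type*} [AddCommGroup W] [Module ℂ W]
    {f f' : (ι → ℂ) →ₗ[ℂ] (ι → ℂ) →ₗ[ℂ] (ι → ℂ) →ₗ[ℂ] W}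
    (h : ∀ i j k, f (Pi.single i 1) (Pi.single j 1) (Pi.single k 1) =
      f' (Pi.single i 1) (Pi.single j 1) (Pi.single k 1)) : f = f' :=
  (Pi.basisFun ℂ ι).ext fun i => (Pi.basisFun ℂ ι).ext fun j => (Pi.basisFun ℂ ι).ext fun k => by
    simpa using h i j k

variable {G : Type*} [Group G] [Fintype G] (Φ : G →* Matrix ι ι ℂ)

theorem tri_zero (h : ∑ g, (alt2 (Φ g)).trace * (Φ g).trace = 0)
    (f : (ι → ℂ) →ₗ[ℂ] (ι → ℂ) →ₗ[ℂ] (ι → ℂ) →ₗ[ℂ] ℂ) (hf : ∀ a b, f a b = -f b a)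
    (hg : ∀ g a b c, f (Φ g *ᵥ a) (Φ g *ᵥ b) (Φ g *ᵥ c) = f a b c) : f = 0 := by
  have := fix_eq_zero (fun g => alt2 (Φ g) ⊗ₖ Φ g)
    (fun g h => by rw [map_mul, alt2_mul, mul_kronecker_mul]) (by simpa only [trace_kronecker])
    (x := fun p => f (Pi.single p.1.1 1) (Pi.single p.1.2 1) (Pi.single p.2 1)) fun g => by
      ext q
      rw [← hg g, ← bil_alt f hf, lin_col, vecMul, dotProduct, Fintype.sum_prod_type_right]
      refine Finset.sum_congr rfl fun r _ => ?_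
      rw [LinearMap.sum_apply, Finset.smul_sum]
      refine Finset.sum_congr rfl fun p _ => ?_
      simp only [kroneckerMap_apply, LinearMap.smul_apply, smul_eq_mul]
      ring
  exact tri_ext fun i j k => congrFun this ((i, j), k)

theorem quad_prop (h : ∑ g, (alt2 (Φ g)).trace * (alt2 (Φ g)).trace = Nat.card G)
    (f f' : (ι → ℂ) →ₗ[ℂ] (ι → ℂ) →ₗ[ℂ] (ι → ℂ) →ₗ[ℂ] (ι → ℂ) →ₗ[ℂ] ℂ)
    (hf : ∀ a b, f a b = -f b a) (hf2 : ∀ a b c d, f a b c d = -f a b d c)
    (hg : ∀ g a b c d, f (Φ g *ᵥ a) (Φ g *ᵥ b) (Φ g *ᵥ c) (Φ g *ᵥ d) = f a b c d)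
    (hf' : ∀ a b, f' a b = -f' b a) (hf2' : ∀ a b c d, f' a b c d = -f' a b d c)
    (hg' : ∀ g a b c d, f' (Φ g *ᵥ a) (Φ g *ᵥ b) (Φ g *ᵥ c) (Φ g *ᵥ d) = f' a b c d)
    (h0 : f' ≠ 0) : ∃ c : ℂ, f = c • f' := by
  have key : ∀ f : (ι → ℂ) →ₗ[ℂ] (ι → ℂ) →ₗ[ℂ] (ι → ℂ) →ₗ[ℂ] (ι → ℂ) →ₗ[ℂ] ℂ,
      (∀ a b, f a b = -f b a) → (∀ a b c d, f a b c d = -f a b d c) →
      (∀ g a b c d, f (Φ g *ᵥ a) (Φ g *ᵥ b) (Φ g *ᵥ c) (Φ g *ᵥ d) = f a b c d) → ∀ g,
      (fun p : (ι × ι) × ι × ι => f (Pi.single p.1.1 1) (Pi.single p.1.2 1) (Pi.single p.2.1 1)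
        (Pi.single p.2.2 1)) ᵥ* (alt2 (Φ g) ⊗ₖ alt2 (Φ g)) = fun p : (ι × ι) × ι × ι =>
        f (Pi.single p.1.1 1) (Pi.single p.1.2 1) (Pi.single p.2.1 1) (Pi.single p.2.2 1) :=
    fun f hf hf2 hg g => by
      ext q
      rw [← hg g, ← bil_alt _ (hf2 _ _), ← bil_alt f hf, vecMul, dotProduct,
        Fintype.sum_prod_type_right]
      refine Finset.sum_congr rfl fun r _ => ?_
      rw [LinearMap.sum_apply, LinearMap.sum_apply, Finset.smul_sum]
      refine Finset.sum_congr rfl fun p _ => ?_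
      simp only [kroneckerMap_apply, LinearMap.smul_apply, smul_eq_mul]
      ring
  obtain ⟨c, hc⟩ := fix_prop (fun g => alt2 (Φ g) ⊗ₖ alt2 (Φ g))
    (fun g h => by rw [map_mul, alt2_mul, mul_kronecker_mul]) (by simpa only [trace_kronecker])
    (key f hf hf2 hg) (key f' hf' hf2' hg') fun e => h0 (tri_ext fun i j k =>
      (Pi.basisFun ℂ ι).ext fun l => by simpa using congrFun e ((i, j), k, l))
  exact ⟨c, tri_ext fun i j k => (Pi.basisFun ℂ ι).ext fun l => by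
    simpa using congrFun hc ((i, j), k, l)⟩

theorem exists_tri (h : ∑ g, (Φ g).trace * (Φ g).trace * (Φ g).trace ≠ 0) :
    ∃ f : (ι → ℂ) →ₗ[ℂ] (ι → ℂ) →ₗ[ℂ] (ι → ℂ) →ₗ[ℂ] ℂ, f ≠ 0 ∧
      ∀ g a b c, f (Φ g *ᵥ a) (Φ g *ᵥ b) (Φ g *ᵥ c) = f a b c := by
  obtain ⟨x, hx0, hx⟩ := exists_fix (fun g => (Φ g ⊗ₖ Φ g) ⊗ₖ Φ g)
    (fun g h => by rw [map_mul, ← mul_kronecker_mul, ← mul_kronecker_mul])
    (by simpa only [trace_kronecker])
  let b := Pi.basisFun ℂ ι
  let f : (ι → ℂ) →ₗ[ℂ] (ι → ℂ) →ₗ[ℂ] (ι → ℂ) →ₗ[ℂ] ℂ :=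
    b.constr ℂ fun i => b.constr ℂ fun j => b.constr ℂ fun k => x ((i, j), k)
  have hf : ∀ i j k, f (Pi.single i 1) (Pi.single j 1) (Pi.single k 1) = x ((i, j), k) :=
    fun i j k => by
      rw [← Pi.basisFun_apply, ← Pi.basisFun_apply, ← Pi.basisFun_apply]
      simp only [f, b, Module.Basis.constr_basis]
  refine ⟨f, fun h0 => hx0 (funext fun p => by rw [← hf, h0]; rfl), fun g a b c => ?_⟩
  have : (f.compl₁₂ (Φ g).mulVecLin (Φ g).mulVecLin).compr₂
      (LinearMap.lcomp ℂ ℂ (Φ g).mulVecLin) = f := tri_ext fun i j k => by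
    change f (Φ g *ᵥ _) (Φ g *ᵥ _) (Φ g *ᵥ _) = _
    rw [hf, ← hx g, lin_col f, vecMul, dotProduct, Fintype.sum_prod_type, Fintype.sum_prod_type,
      LinearMap.sum_apply, LinearMap.sum_apply]
    refine Finset.sum_congr rfl fun p _ => ?_
    rw [LinearMap.smul_apply, lin_col (f _), LinearMap.smul_apply, LinearMap.sum_apply,
      Finset.smul_sum]
    refine Finset.sum_congr rfl fun q _ => ?_
    rw [LinearMap.smul_apply, lin_col (f _ _), Finset.smul_sum, Finset.smul_sum]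
    refine Finset.sum_congr rfl fun r _ => ?_
    simp only [kroneckerMap_apply, smul_eq_mul, hf]
    ring
  exact LinearMap.congr_fun (LinearMap.congr_fun (LinearMap.congr_fun this a) b) c

end Alt

theorem exists_index_of_alt {G : Type*} [Group G] [Fintype G] {χ : IrrCharacter G}
    (hν : H87.nu (χ : G → ℂ) = 1) (hd : 3 < dg χ)
    (h3 : ∑ g, (χ : G → ℂ) g * (χ : G → ℂ) g * (χ : G → ℂ) g ≠ 0)
    (h2 : (∑ g, H84.alt (χ : G → ℂ) g * H84.alt (χ : G → ℂ) g).re < 2 * Nat.card G) :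
    ∃ H : Subgroup G, H ≠ ⊤ ∧ H.index ≤ dg χ + 1 := by
  classical
  have hr := H87.isReal_iff_conj.mp (H87.isReal_of_nu_eq_one χ.2 hν)
  have hψ := H84.isCharacter_alt (irr_chr χ)
  have ψr : ∀ g, conj (H84.alt (χ : G → ℂ) g) = H84.alt (χ : G → ℂ) g := fun g => by
    simp only [H84.alt, map_div₀, map_sub, map_mul, hr, map_ofNat]
  have hd' : (3 : ℝ) < dg χ := by exact_mod_cast hd
  have ψ1 : (H84.alt (χ : G → ℂ) 1).re = (dg χ * dg χ - dg χ) / 2 := by
    simp only [H84.alt, mul_one, dg_cast]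
    norm_cast
  have hN : (0 : ℝ) < Nat.card G := by exact_mod_cast Nat.card_pos
  have h4 : classInner (H84.alt (χ : G → ℂ)) (H84.alt (χ : G → ℂ)) = 1 := by
    obtain ⟨k, hk⟩ := H6.char_inner_nat hψ hψ
    have e := H6.card_mul_classInner (H84.alt (χ : G → ℂ)) (H84.alt (χ : G → ℂ))
    simp only [ψr] at e
    rw [← e, hk] at h2
    have k0 : k ≠ 0 := fun h => by
      rw [h, Nat.cast_zero, H6.classInner_self_eq_zero] at hk
      rw [hk] at ψ1
      simp only [Pi.zero_apply, Complex.zero_re] at ψ1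
      nlinarith
    have k2 : k < 2 := by
      have : (Nat.card G : ℝ) * k < Nat.card G * 2 := by simpa [mul_comm] using h2
      exact_mod_cast lt_of_mul_lt_mul_left this hN.le
    rw [hk, show k = 1 by omega, Nat.cast_one]
  have h5 : classInner (H84.alt (χ : G → ℂ)) (χ : G → ℂ) = 0 :=
    H6.irr_inner_ne (H6.isIrr_of_char_of_inner_self hψ h4) χ.2 fun e => by
      rw [e, dg_cast] at ψ1
      simp only [Complex.natCast_re] at ψ1
      nlinarith
  have e4 := H6.card_mul_classInner (H84.alt (χ : G → ℂ)) (H84.alt (χ : G → ℂ))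
  have e5 := H6.card_mul_classInner (H84.alt (χ : G → ℂ)) (χ : G → ℂ)
  simp only [ψr, hr, h4, h5, mul_one, mul_zero] at e4 e5
  obtain ⟨n, Φ, M, hχ, hM, hu, hs⟩ := H87.exists_form_of_nu_ne_zero χ.2 (by rw [hν]; exact one_ne_zero)
  rw [hν, one_smul] at hs
  have hirr := H87.isIrreducible_of_trace (hχ ▸ χ.2 : IsIrrCharacter G fun g => (Φ g).trace)
  have hn : n = dg χ := by
    have := congrFun hχ 1
    rw [dg_cast, map_one, trace_one, Fintype.card_fin] at this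
    exact_mod_cast this.symm
  have ta : ∀ g, (alt2 (Φ g)).trace = H84.alt (χ : G → ℂ) g := fun g => by
    rw [alt2_trace, H84.alt, hχ, ← map_mul]
  have t0 : ∑ g, (alt2 (Φ g)).trace * (Φ g).trace = 0 := by
    simp only [ta]; rw [e5, hχ]
  obtain ⟨T, hT0, hT⟩ := exists_tri Φ (by rwa [hχ] at h3)
  have s1 : ∀ a b, T a b = T b a := fun a b => by
    have := tri_zero Φ t0 (T - T.flip) (fun a b => by simp) fun g a b c => by simp [hT]
    exact sub_eq_zero.mp (LinearMap.congr_fun₂ this a b)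
  have s2 : ∀ a b c, T a b c = T a c b := fun a b c => by
    let T' := LinearMap.lflip.toLinearMap.comp T.flip
    have := tri_zero Φ t0 (T' - T'.flip) (fun a b => by simp) fun g a b c => by simp [T', hT]
    exact sub_eq_zero.mp (LinearMap.congr_fun (LinearMap.congr_fun₂ this b c) a)
  let B : LinearMap.BilinForm ℂ (Fin n → ℂ) := Matrix.toBilin' M
  have Ba : ∀ a b, B a b = a ⬝ᵥ M *ᵥ b := Matrix.toBilin'_apply' M
  have Bs : ∀ a b, B a b = B b a := fun a b => by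
    rw [Ba, Ba, dotProduct_mulVec, dotProduct_comm, ← mulVec_transpose, hs]
  have Bg : ∀ g a b, B (Φ g *ᵥ a) (Φ g *ᵥ b) = B a b := fun g a b => by
    rw [Ba, Ba, ← vecMul_transpose, ← dotProduct_mulVec, mulVec_mulVec, mulVec_mulVec, hM g]
  have Bn : B.Nondegenerate := Matrix.Nondegenerate.toBilin'
    (Matrix.nondegenerate_of_det_ne_zero ((Matrix.isUnit_iff_isUnit_det M).mp hu).ne_zero)
  have Bi : ∀ a b, (∀ c, B a c = B b c) → a = b := fun a b h =>
    (B.toDual Bn).injective (LinearMap.ext h)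
  let m := T.compr₂ (B.toDual Bn).symm.toLinearMap
  have mB : ∀ a b c, B (m a b) c = T a b c := fun a b c =>
    LinearMap.BilinForm.apply_toDual_symm_apply (hB := Bn) (T a b) c
  have Φi : ∀ g (a : Fin n → ℂ), Φ g *ᵥ (Φ g⁻¹ *ᵥ a) = a := fun g a => by
    rw [mulVec_mulVec, H87.hom_mul_inv, one_mulVec]
  have mc : ∀ a b, m a b = m b a := fun a b => Bi _ _ fun c => by rw [mB, mB, s1]
  have mg : ∀ g a b, Φ g *ᵥ m a b = m (Φ g *ᵥ a) (Φ g *ᵥ b) := fun g a b => Bi _ _ fun c => by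
    rw [← Φi g c, Bg, mB, mB, hT]
  have lm : ∀ a b c, B (m a b) c = B b (m a c) := fun a b c => by
    rw [Bs b, mB, mB, s2]
  let C : (Fin n → ℂ) →ₗ[ℂ] (Fin n → ℂ) →ₗ[ℂ] (Fin n → ℂ) →ₗ[ℂ] (Fin n → ℂ) :=
    LinearMap.mk₂ ℂ (fun a b => m a ∘ₗ m b - m b ∘ₗ m a)
      (fun a a' b => by simp only [map_add, LinearMap.add_comp, LinearMap.comp_add]; abel)
      (fun s a b => by simp only [map_smul, LinearMap.smul_comp, LinearMap.comp_smul, smul_sub])
      (fun a b b' => by simp only [map_add, LinearMap.add_comp, LinearMap.comp_add]; abel)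
      (fun s a b => by simp only [map_smul, LinearMap.smul_comp, LinearMap.comp_smul, smul_sub])
  let C0 : (Fin n → ℂ) →ₗ[ℂ] (Fin n → ℂ) →ₗ[ℂ] (Fin n → ℂ) →ₗ[ℂ] (Fin n → ℂ) :=
    LinearMap.mk₂ ℂ (fun a b => (B b).smulRight a - (B a).smulRight b)
      (fun a a' b => LinearMap.ext fun c => by simp; module)
      (fun s a b => LinearMap.ext fun c => by simp; module)
      (fun a b b' => LinearMap.ext fun c => by simp; module)
      (fun s a b => LinearMap.ext fun c => by simp; module)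
  have hC : ∀ a b c d, C.compr₂ (LinearMap.llcomp ℂ _ _ _ B) a b c d =
      B (m a (m b c)) d - B (m b (m a c)) d := fun a b c d => by simp [C]
  have hC0 : ∀ a b c d, C0.compr₂ (LinearMap.llcomp ℂ _ _ _ B) a b c d =
      B b c * B a d - B a c * B b d := fun a b c d => by simp [C0]
  have hn2 : 2 ≤ Module.finrank ℂ (Fin n → ℂ) := by rw [Module.finrank_fin_fun]; omega
  obtain ⟨κ, hκ⟩ := quad_prop Φ (by simp only [ta]; exact e4.symm)
    (C.compr₂ (LinearMap.llcomp ℂ _ _ _ B)) (C0.compr₂ (LinearMap.llcomp ℂ _ _ _ B))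
    (fun a b => LinearMap.ext₂ fun c d => by
      rw [LinearMap.neg_apply, LinearMap.neg_apply, hC, hC]; ring)
    (fun a b c d => by
      rw [hC, hC, lm a (m b c), lm b (m a c), lm a (m b d), lm b (m a d), Bs (m b c), Bs (m a c)]
      ring)
    (fun g a b c d => by rw [hC, hC, ← mg, ← mg, ← mg, ← mg, Bg, Bg])
    (fun a b => LinearMap.ext₂ fun c d => by
      rw [LinearMap.neg_apply, LinearMap.neg_apply, hC0, hC0]; ring)
    (fun a b c d => by rw [hC0, hC0]; ring)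
    (fun g a b c d => by rw [hC0, hC0, Bg, Bg, Bg, Bg])
    (fun h0 => by
      let i : Fin n := ⟨0, by omega⟩
      let j : Fin n := ⟨1, by omega⟩
      let c := (B.toDual Bn).symm (LinearMap.proj i)
      let d := (B.toDual Bn).symm (LinearMap.proj j)
      have hc : ∀ v, B c v = v i := fun v => LinearMap.BilinForm.apply_toDual_symm_apply _ _
      have hd : ∀ v, B d v = v j := fun v => LinearMap.BilinForm.apply_toDual_symm_apply _ _
      have := hC0 c d (Pi.single i 1) (Pi.single j 1)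
      rw [h0, hc, hc, hd, hd] at this
      simp [i, j] at this)
  obtain ⟨H, h1, h2⟩ := exists_index_of_alg (H7.repOfMatrix Φ) (fun W hW => by
      rcases hirr.eq_bot_or_eq_top ⟨W, fun g v hv => hW g v hv⟩ with h | h
      · exact Or.inl (congrArg Subrepresentation.toSubmodule h)
      · exact Or.inr (congrArg Subrepresentation.toSubmodule h))
    hn2 m ((-κ) • B) (fun h0 => hT0 (LinearMap.ext₂ fun a b => LinearMap.ext fun c => by
      rw [← mB, h0]; simp)) mc mg (fun a b => by simp [Bs a b]) (fun g a b => by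
        change -κ * B (Φ g *ᵥ a) (Φ g *ᵥ b) = -κ * B a b
        rw [Bg]) (fun a b c => by
        change -κ * B a (m b c) = -κ * B b (m a c)
        rw [← lm, ← lm, mc]) fun a b c => Bi _ _ fun d => by
      have := hC a b c d
      rw [hκ, LinearMap.smul_apply, LinearMap.smul_apply, LinearMap.smul_apply,
        LinearMap.smul_apply, hC0] at this
      simp only [map_add, map_smul, LinearMap.add_apply, LinearMap.smul_apply, smul_eq_mul] at this ⊢
      linear_combination -this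
  exact ⟨H, h1, by rwa [Module.finrank_fin_fun, hn] at h2⟩

end H17.Ord
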