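import Mathlib
import Cfsg.Agent.Base
import Cfsg.Agent.Lib.Design.Sharp
import Cfsg.Agent.Lib.Design.Aut
import Cfsg.Agent.Lib.Small36.SylAct
import Cfsg.Agent.Lib.Perm.PrimeDegree4
import Cfsg.Agent.Lib.Core.GrpBasic
import Cfsg.Agent.Lib.GL.Basic
import Cfsg.Agent.Lib.Ord.B0
import Cfsg.Agent.S0679

/-! Sharply 5-transitive groups of degree 12 are `M₁₂`; a simple group of order 95040 with a proper
subgroup of index at most 12 is `M₁₂`. -/

set_option autoImplicit false
set_option linter.unusedSectionVars false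
set_option linter.style.haveILetI false

open Cfsg MulAction
open scoped Pointwise

namespace H17.Ord

section steiner
variable {G α : Type*} [Group G] [Finite G] [MulAction G α] [Fintype α] [DecidableEq α]
  (hα : Fintype.card α = 12) (ht : IsMultiplyPretransitive G α 5) (h : FixTriv G α 5)
include hα ht h

theorem s5_move {x y : Fin 5 → α} (hx : Function.Injective x) (hy : Function.Injective y) :
    ∃ g : G, ∀ i, g • x i = y i := by
  obtain ⟨g, hg⟩ := ht.exists_smul_eq ⟨x, hx⟩ ⟨y, hy⟩
  exact ⟨g, fun i => DFunLike.congr_fun hg i⟩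

theorem s5_fix {g : G} (hg : g ≠ 1) : {ω : α | g • ω = ω}.ncard ≤ 4 := by
  by_contra hc
  refine hg (h.eq_one g (Set.toFinset {ω : α | g • ω = ω}) ?_ fun a ha => by simpa using ha)
  rw [← Set.ncard_eq_toFinset_card']; omega

theorem s5_tau {F : Finset α} (hF : F.card = 5) {a d : α} (ha : a ∈ F) (hd : d ∈ F) (had : a ≠ d) :
    ∃ τ : G, τ ^ 3 = 1 ∧ τ • a = a ∧ τ • d = d ∧ τ • F = F ∧ {ω : α | τ • ω = ω}.ncard = 3 := by
  obtain ⟨b, c, e, h1, h2, h3, h4⟩ := Finset.card_eq_three.mp (show ((F.erase a).erase d).card = 3 by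
    rw [Finset.card_erase_of_mem (by simp [hd, had.symm]), Finset.card_erase_of_mem ha, hF])
  have m : ∀ u, u = b ∨ u = c ∨ u = e → u ≠ d ∧ u ≠ a ∧ u ∈ F := fun u hu => by
    simpa using h4.ge (by simpa using hu : u ∈ ({b, c, e} : Finset α))
  obtain ⟨b1, b2, -⟩ := m b (by simp)
  obtain ⟨c1, c2, -⟩ := m c (by simp)
  obtain ⟨e1, e2, -⟩ := m e (by simp)
  have hFe : F = {a, d, b, c, e} := by
    rw [← h4, Finset.insert_erase (by simp [hd, had.symm]), Finset.insert_erase ha]
  obtain ⟨τ, hτ⟩ := s5_move hα ht h (x := ![a, d, b, c, e]) (y := ![a, d, c, e, b])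
    (by intro i j; fin_cases i <;> fin_cases j <;>
          simp [had, had.symm, b1, b2, c1, c2, e1, e2, h1, h2, h3, b1.symm, b2.symm, c1.symm, c2.symm,
            e1.symm, e2.symm, h1.symm, h2.symm, h3.symm])
    (by intro i j; fin_cases i <;> fin_cases j <;>
          simp [had, had.symm, b1, b2, c1, c2, e1, e2, h1, h2, h3, b1.symm, b2.symm, c1.symm, c2.symm,
            e1.symm, e2.symm, h1.symm, h2.symm, h3.symm])
  have t0 : τ • a = a := hτ 0
  have t1 : τ • d = d := hτ 1
  have t2 : τ • b = c := hτ 2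
  have t3 : τ • c = e := hτ 3
  have t4 : τ • e = b := hτ 4
  have t5 : τ ^ 3 = 1 := h.eq_one _ F hF.ge fun u hu => by
    rw [hFe] at hu
    simp only [Finset.mem_insert, Finset.mem_singleton] at hu
    rcases hu with rfl | rfl | rfl | rfl | rfl <;> simp [pow_succ, mul_smul, *]
  refine ⟨τ, t5, t0, t1, ?_, ?_⟩
  · rw [hFe]; simp only [Finset.smul_finset_insert, Finset.smul_finset_singleton, t0, t1, t2, t3, t4]
    ext; simp; tauto
  · have k1 := s5_fix hα ht h (g := τ) fun e => h1 (by rw [← t2, e, one_smul])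
    have k2 := H36.fixed_modEq_card (Ω := α) Nat.prime_three t5
    have k3 : 0 < {ω : α | τ • ω = ω}.ncard := (Set.ncard_pos (Set.toFinite _)).mpr ⟨a, t0⟩
    rw [Nat.card_eq_fintype_card, hα] at k2
    unfold Nat.ModEq at k2
    omega

theorem s5_four {τ : G} (h3 : {ω : α | τ • ω = ω}.ncard = 3) {a d r r' : α} (ha : τ • a = a)
    (hd : τ • d = d) (hr : τ • r = r) (hr' : τ • r' = r') (h1 : a ≠ d) (h2 : a ≠ r) (h4 : d ≠ r) :
    r' = a ∨ r' = d ∨ r' = r := by
  have := Set.eq_of_subset_of_ncard_le (s := {a, d, r}) (t := {ω : α | τ • ω = ω})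
    (by rintro u (rfl | rfl | rfl) <;> assumption)
    (by rw [h3, Set.ncard_eq_three.mpr ⟨a, d, r, h1, h2, h4, rfl⟩])
  exact this.ge hr'

theorem s5_exists {F : Finset α} (hF : F.card = 5) :
    ∃ r, r ∉ F ∧ ∀ g : G, g • F = F → g • r = r := by
  have hG : Nat.card G = 95040 := by rw [card_of_sharp ht h (by omega), hα]; rfl
  set K := stabilizer G F
  have inv : ∀ g ∈ K, ∀ ω, ω ∉ F → g • ω ∉ F := fun g hg ω hω e => hω (by
    rwa [← mem_stabilizer_iff.mp hg, Finset.smul_mem_smul_finset_iff] at e)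
  have hc : ((F : Set α)ᶜ).ncard = 7 := by
    have := Set.ncard_add_ncard_compl (F : Set α)
    rw [Set.ncard_coe_finset, hF, Nat.card_eq_fintype_card, hα] at this
    omega
  obtain ⟨S⟩ : Nonempty (Sylow 2 K) := inferInstance
  have h1 := H36.ncard_modEq_fixed (G := K) (s := (F : Set α)ᶜ) S.isPGroup'
    fun q _ ω hω => inv q q.2 ω hω
  obtain ⟨r, hr, hr'⟩ : {ω ∈ (F : Set α)ᶜ | ∀ q ∈ (S : Subgroup K), q • ω = ω}.Nonempty := by
    rw [Set.nonempty_iff_ne_empty]
    intro e
    rw [e, hc] at h1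
    simp [Nat.ModEq] at h1
  have h2 : ¬ 2 ∣ (orbit K r).ncard := fun e => S.not_dvd_index (by
    rw [← index_stabilizer] at e
    exact e.trans (Subgroup.index_dvd_of_le hr'))
  have h3 : (orbit K r).ncard ∣ 95040 := by
    rw [← index_stabilizer, ← hG]
    exact (Subgroup.index_dvd_card _).trans (Subgroup.card_subgroup_dvd_card K)
  have h4 : orbit K r ⊆ (F : Set α)ᶜ := by rintro _ ⟨g, rfl⟩; exact inv g g.2 r hr
  have h5 := Set.ncard_le_ncard h4
  obtain ⟨a, d, b, c, e, hne, rfl⟩ : ∃ a d b c e, Function.Injective ![a, d, b, c, e] ∧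
      F = {a, d, b, c, e} := by
    let x := (Finset.equivFinOfCardEq hF).symm
    refine ⟨x 0, x 1, x 2, x 3, x 4, ?_, ?_⟩
    · intro i j; fin_cases i <;> fin_cases j <;> simp
    · ext u
      refine ⟨fun hu => ?_, fun hu => by
        simp only [Finset.mem_insert, Finset.mem_singleton] at hu
        rcases hu with rfl | rfl | rfl | rfl | rfl <;> exact Subtype.prop _⟩
      obtain ⟨i, hi⟩ := x.surjective ⟨u, hu⟩
      obtain rfl : x i = u := congrArg Subtype.val hi
      fin_cases i <;> simp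
  have had : a ≠ d := fun e => by simpa using hne (a₁ := 0) (a₂ := 1) e
  have h6 : (orbit K r).ncard ≠ 3 := fun e3 => by
    obtain ⟨σ, hσ⟩ := s5_move hα ht h hne (y := ![d, b, c, e, a]) fun i j hij => by
      have := hne (a₁ := i + 1) (a₂ := j + 1) (by
        fin_cases i <;> fin_cases j <;> exact hij)
      simpa using this
    have t0 : σ • a = d := hσ 0
    have t1 : σ • d = b := hσ 1
    have t2 : σ • b = c := hσ 2
    have t3 : σ • c = e := hσ 3
    have t4 : σ • e = a := hσ 4
    have t5 : σ ^ 5 = 1 := h.eq_one _ _ hF.ge fun u hu => by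
      simp only [Finset.mem_insert, Finset.mem_singleton] at hu
      rcases hu with rfl | rfl | rfl | rfl | rfl <;> simp [pow_succ, mul_smul, *]
    have t6 : σ ∈ K := by
      simp only [K, mem_stabilizer_iff, Finset.smul_finset_insert, Finset.smul_finset_singleton, t0,
        t1, t2, t3, t4]
      ext; simp; tauto
    haveI : Fact (Nat.Prime 5) := ⟨by norm_num⟩
    have k1 := s5_fix hα ht h (g := σ) fun e => had (by rw [← t0, e, one_smul])
    have k2 := H36.fixed_modEq_card (Ω := α) (by norm_num) t5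
    have k3 := H36.ncard_modEq_fixed_elt (p := 5) (n := 1) (u := σ) (s := orbit K r) t5
      fun ω hω => mem_orbit_of_mem_orbit (⟨σ, t6⟩ : K) hω
    have k4 := Set.ncard_le_ncard (s := {ω ∈ orbit K r | σ • ω = ω}) (t := {ω : α | σ • ω = ω})
      fun ω hω => hω.2
    rw [Nat.card_eq_fintype_card, hα] at k2
    rw [e3] at k3
    unfold Nat.ModEq at k2 k3
    omega
  have h7 : (orbit K r).ncard ≠ 5 := fun e5 => by
    obtain ⟨τ, t1, t2, t3, t4, t5⟩ := s5_tau hα ht h hF (a := a) (d := d) (by simp) (by simp) had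
    have k1 := Set.ncard_sdiff h4
    rw [hc, e5] at k1
    have k3 := H36.ncard_modEq_fixed_elt (p := 3) (n := 1) (u := τ)
      (s := (({a, d, b, c, e} : Finset α) : Set α)ᶜ \ orbit K r) t1 fun ω hω =>
        ⟨inv τ t4 ω hω.1, fun e => hω.2 (by
          have := mem_orbit_of_mem_orbit (⟨τ⁻¹, inv_mem t4⟩ : K) e
          rwa [Subgroup.mk_smul, inv_smul_smul] at this)⟩
    have k4 := Set.ncard_le_ncard (Set.sep_subset
      ((({a, d, b, c, e} : Finset α) : Set α)ᶜ \ orbit K r) fun ω => τ • ω = ω)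
    rw [k1] at k3 k4
    unfold Nat.ModEq at k3
    obtain ⟨u, u', hu, k5⟩ := Set.ncard_eq_two.mp (by omega : {ω ∈ (({a, d, b, c, e} : Finset α) :
      Set α)ᶜ \ orbit K r | τ • ω = ω}.ncard = 2)
    obtain ⟨⟨u1, -⟩, u2⟩ := k5.ge (Or.inl rfl)
    obtain ⟨⟨u3, -⟩, u4⟩ := k5.ge (Or.inr rfl)
    rcases s5_four hα ht h t5 t2 t3 u2 u4 had (by rintro rfl; simp at u1)
      (by rintro rfl; simp at u1) with rfl | rfl | rfl
    · simp at u3
    · simp at u3
    · exact hu rfl
  have h8 : (orbit K r).ncard = 1 := by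
    rw [hc] at h5
    generalize (orbit K r).ncard = n at *
    interval_cases n <;> omega
  obtain ⟨u, hu⟩ := Set.ncard_eq_one.mp h8
  refine ⟨r, hr, fun g hg => ?_⟩
  exact (hu.le (mem_orbit r (⟨g, hg⟩ : K))).trans (hu.le (mem_orbit_self r)).symm

theorem s5_steiner : ∃ B : Set (Finset α), IsSteinerSystem 5 6 B ∧ ∀ g : G, ∀ b ∈ B, g • b ∈ B := by
  refine ⟨{b | ∃ F r, F.card = 5 ∧ r ∉ F ∧ (∀ g : G, g • F = F → g • r = r) ∧ b = insert r F},
    ⟨?_, fun s hs => ?_⟩, ?_⟩
  · rintro _ ⟨F, r, h1, h2, -, rfl⟩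
    rw [Finset.card_insert_of_notMem h2, h1]
  · obtain ⟨r, h1, h2⟩ := s5_exists hα ht h hs
    refine ⟨insert r s, ⟨⟨s, r, hs, h1, h2, rfl⟩, Finset.subset_insert _ _⟩, ?_⟩
    rintro _ ⟨⟨F, r', k1, k2, k3, rfl⟩, k4⟩
    obtain ⟨a, ha⟩ := Finset.card_eq_one.mp (show (insert r' F \ s).card = 1 by
      rw [Finset.card_sdiff_of_subset k4, Finset.card_insert_of_notMem k2, k1, hs])
    obtain ⟨a1, a2⟩ := Finset.mem_sdiff.mp (ha.ge (Finset.mem_singleton_self a))
    have e1 : insert r' F = insert a s := by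
      rw [← Finset.sdiff_union_of_subset k4, ha]; rfl
    rw [e1]
    congr 1
    by_cases har : a = r'
    · subst har
      obtain rfl : F = s := by rw [← Finset.erase_insert k2, e1, Finset.erase_insert a2]
      obtain ⟨u, hu, d, hd, hud⟩ := Finset.one_lt_card.mp (by omega : 1 < F.card)
      obtain ⟨τ, -, t2, t3, t4, t5⟩ := s5_tau hα ht h hs hu hd hud
      rcases s5_four hα ht h t5 t2 t3 (h2 τ t4) (k3 τ t4) hud (by rintro rfl; exact h1 hu)
        (by rintro rfl; exact h1 hd) with rfl | rfl | rfl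
      · exact absurd hu k2
      · exact absurd hd k2
      · rfl
    · have aF : a ∈ F := (Finset.mem_insert.mp a1).resolve_left har
      obtain ⟨d, hd, hda⟩ := Finset.exists_mem_ne (by omega : 1 < F.card) a
      obtain ⟨τ, -, t2, t3, t4, t5⟩ := s5_tau hα ht h k1 aF hd hda.symm
      have t6 : τ • s = s := by
        rw [← Finset.erase_insert a2, ← e1, ← Finset.sdiff_singleton_eq_erase,
          Finset.smul_finset_sdiff, Finset.smul_finset_insert, Finset.smul_finset_singleton, t2,
          t4, k3 τ t4]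
      have m : ∀ u ∈ insert r' F, u ≠ a → u ∈ s := fun u hu hua =>
        (Finset.mem_insert.mp (e1 ▸ hu)).resolve_left hua
      rcases s5_four hα ht h t5 t2 t3 (k3 τ t4) (h2 τ t6) hda.symm har
        (by rintro rfl; exact k2 hd) with rfl | rfl | rfl
      · rfl
      · exact absurd (m _ (Finset.mem_insert_of_mem hd) hda) h1
      · exact absurd (m _ (Finset.mem_insert_self _ _) (Ne.symm har)) h1
  · rintro g _ ⟨F, r, h1, h2, h3, rfl⟩
    refine ⟨g • F, g • r, by simpa using h1, by simpa using h2, fun k hk => ?_,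
      Finset.smul_finset_insert _ _ _⟩
    have := h3 (g⁻¹ * k * g) (by rw [mul_smul, mul_smul, hk, inv_smul_smul])
    rwa [mul_smul, mul_smul, inv_smul_eq_iff] at this

theorem isoM12_of_sharp : Spor.IsoM12 G := by
  have hG : Nat.card G = 95040 := by rw [card_of_sharp ht h (by omega), hα]; rfl
  obtain ⟨B, hB, hinv⟩ := s5_steiner hα ht h
  obtain ⟨g, -, -, φ, -⟩ := H17.aut12 hα hB
  obtain ⟨e⟩ := H15.stab_dodecad_equiv H15.dod1_mem
  haveI := h.faithful (by omega)
  let f : G →* setSystemAut B := (toPermHom G α).codRestrict _ fun g => mem_aut_iff.mpr (hinv g)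
  have hf : Function.Bijective f := (Nat.bijective_iff_injective_and_card _).mpr
    ⟨fun a b e => toPerm_injective (congrArg Subtype.val e), by
      rw [hG, ← Nat.card_congr φ.toEquiv, H15.card_stab_dodecad H15.dod1_mem]⟩
  exact ⟨(MulEquiv.ofBijective f hf).trans (φ.symm.trans e)⟩

end steiner

theorem four_trans_of_eleven {K β : Type*} [Group K] [Finite K] [MulAction K β] [FaithfulSMul K β]
    [IsPretransitive K β] (hβ : Nat.card β = 11) (h1 : 660 < Nat.card K) (h2 : ¬ 7 ∣ Nat.card K) :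
    IsMultiplyPretransitive K β 4 ∧ Nat.card K = 7920 := by
  classical
  haveI : Finite β := Nat.finite_of_card_ne_zero (by omega)
  haveI := Fintype.ofFinite β
  haveI : Fact (Nat.Prime 11) := ⟨by norm_num⟩
  have hβ' : Fintype.card β = 11 := by rw [← Nat.card_eq_fintype_card, hβ]
  let e : K ≃* (toPermHom K β).range := MonoidHom.ofInjective toPerm_injective
  haveI : IsPretransitive (toPermHom K β).range β := ⟨fun a b => by
    obtain ⟨g, hg⟩ := exists_smul_eq K a b
    exact ⟨e g, hg⟩⟩
  have hc := Nat.card_congr e.toEquiv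
  rcases Cfsg.Agent.S0679.result hβ' (toPermHom K β).range (fun hs => by
      haveI : Group.IsSolvable K := Group.isSolvable_of_isSolvable_injective (f := e.toMonoidHom)
        e.injective
      haveI : Nontrivial K := Finite.one_lt_card_iff_nontrivial.mp (by omega)
      obtain ⟨N, q, -, hN, k1, -, k2, -⟩ := H1.exists_elementary_abelian_normal_le (⊤ : Subgroup K)
        top_ne_bot inferInstance
      obtain ⟨P⟩ : Nonempty (Sylow 11 K) := inferInstance
      have k3 := H26.sylow_le_normal_prime_degree hβ P N k1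
      obtain ⟨d, k4, k5⟩ := H26.card_normalizer_sylow_prime_degree hβ P
      have k6 := Sylow.normalizer_sup_eq_top' P k3
      rw [sup_eq_left.mpr (fun n hn => Subgroup.centralizer_le_normalizer _ fun x hx =>
        congrArg Subtype.val (k2.is_comm.comm ⟨x, k3 hx⟩ ⟨n, hn⟩))] at k6
      erw [k6, Subgroup.card_top] at k5
      have := Nat.le_of_dvd (by norm_num) k4
      omega) (fun hA => by
      have k1 := Subgroup.card_dvd_of_le hA
      haveI : Nontrivial β := Finite.one_lt_card_iff_nontrivial.mp (by omega)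
      have k2 := two_mul_nat_card_alternatingGroup (α := β)
      rw [Nat.card_perm, hβ] at k2
      rw [← hc] at k1
      refine h2 (Dvd.dvd.trans ?_ k1)
      have : Nat.factorial 11 = 39916800 := by rfl
      omega) with ⟨k1, k2⟩ | ⟨⟨k⟩⟩
  · refine ⟨⟨fun x y => ?_⟩, by rw [hc, card_of_sharp k1 k2 (by omega), hβ']; rfl⟩
    obtain ⟨g, hg⟩ := k1.exists_smul_eq x y
    obtain ⟨g, rfl⟩ := e.surjective g
    exact ⟨g, hg⟩
  · have := H10.card_PSL_two (F := ZMod 11)
    rw [← Nat.card_congr k.toEquiv, ← hc, Nat.card_zmod] at this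
    norm_num at this
    omega

theorem isoM12_of_action {G Ω : Type*} [Group G] [Finite G] [MulAction G Ω] [FaithfulSMul G Ω]
    [IsPretransitive G Ω] (hG : Nat.card G = 95040) (h3 : Nat.card Ω = 12) : Spor.IsoM12 G := by
  classical
  haveI : Finite Ω := Nat.finite_of_card_ne_zero (by omega)
  haveI := Fintype.ofFinite Ω
  haveI : Fact (Nat.Prime 11) := ⟨by norm_num⟩
  obtain ⟨y, hy⟩ := exists_prime_orderOf_dvd_card' (G := G) 11 (by rw [hG]; norm_num)
  have y11 : y ^ 11 = 1 := hy ▸ pow_orderOf_eq_one y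
  have k2 := H36.fixed_modEq_card (Ω := Ω) (by norm_num) y11
  obtain ⟨a, ha⟩ : {ω : Ω | y • ω = ω}.Nonempty := by
    rw [Set.nonempty_iff_ne_empty]
    intro e
    rw [e, h3] at k2
    simp [Nat.ModEq] at k2
  have c1 : (stabilizer G a).index = 12 := by rw [index_stabilizer_of_transitive, h3]
  have c2 : Nat.card (stabilizer G a) = 7920 := by
    have := (stabilizer G a).index_mul_card
    rw [c1, hG] at this
    omega
  haveI := Fintype.ofFinite (SubMulAction.ofStabilizer G a)
  have c3 : Nat.card (SubMulAction.ofStabilizer G a) = 11 := by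
    have := fintype_card_ofStabilizer (G := G) a
    rw [← Nat.card_eq_fintype_card, ← Nat.card_eq_fintype_card, h3] at this
    omega
  haveI : FaithfulSMul (stabilizer G a) (SubMulAction.ofStabilizer G a) := ⟨fun {g k} hgk => by
    refine Subtype.ext (eq_of_smul_eq_smul (α := Ω) fun ω => ?_)
    by_cases e : ω = a
    · rw [e, g.2, k.2]
    · exact congrArg Subtype.val (hgk ⟨ω, e⟩)⟩
  obtain ⟨b, hb⟩ : ∃ b : SubMulAction.ofStabilizer G a, (⟨y, ha⟩ : stabilizer G a) • b ≠ b := by
    by_contra hc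
    push Not at hc
    have : (⟨y, ha⟩ : stabilizer G a) = 1 :=
      eq_of_smul_eq_smul fun ω => (hc ω).trans (one_smul _ ω).symm
    rw [show y = 1 from congrArg Subtype.val this] at hy
    simp at hy
  obtain ⟨e, -, he⟩ := H26.exists_frame (G := stabilizer G a) (α := SubMulAction.ofStabilizer G a)
    c3 (c := (⟨y, ha⟩ : stabilizer G a)) (Subtype.ext y11) hb
  haveI := H26.frame_isPretransitive he
  have h5 : IsMultiplyPretransitive G Ω 5 := SubMulAction.ofStabilizer.isMultiplyPretransitive.mpr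
    (four_trans_of_eleven c3 (by omega) (by omega)).1
  refine isoM12_of_sharp (by rw [← Nat.card_eq_fintype_card, h3]) h5
    (fixTriv_of_finset fun g s hs hg => ?_)
  have hs' : (s : Set Ω).ncard = 5 := by simp [hs]
  have := IsMultiplyPretransitive.index_of_fixingSubgroup_eq (G := G) (s : Set Ω) (hs' ▸ h5)
  have k := (fixingSubgroup G (s : Set Ω)).index_mul_card
  rw [this, hs', h3, hG] at k
  norm_num [Nat.choose, Nat.factorial] at k
  exact Subgroup.mem_bot.mp (k ▸ (mem_fixingSubgroup_iff G).mpr hg)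

theorem isoM12_of_index {G : Type*} [Group G] [Finite G] [IsSimpleGroup G] (hG : Nat.card G = 95040)
    {H : Subgroup G} (hH : H ≠ ⊤) (hi : H.index ≤ 12) : Spor.IsoM12 G := by
  classical
  have hna : ¬ IsMulCommutative G := fun h => by
    obtain ⟨a, b, hab⟩ := noncomm_of_not_prime (G := G) (by rw [hG]; norm_num)
    exact hab (h.is_comm.comm a b)
  have h1 : 11 ≤ H.index := by
    by_contra hc
    have := ((by rw [hG]; norm_num : 11 ∣ 2 * Nat.card G).trans
      (H36.two_mul_card_dvd_factorial hna hH)).trans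
      (Nat.factorial_dvd_factorial (by omega : H.index ≤ 10))
    norm_num [Nat.factorial] at this
  haveI := faithful_quot hH
  have h2 : H.index ≠ 11 := fun e => by
    have := (four_trans_of_eleven (K := G) (β := G ⧸ H) e (by omega) (by omega)).2
    omega
  exact isoM12_of_action (Ω := G ⧸ H) hG (by rw [← Subgroup.index]; omega)

end H17.Ord
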