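import Mathlib
import Cfsg.Agent.Base
import Cfsg.Agent.Lib.Ord.M12Perm
import Cfsg.Agent.Lib.Ord.AlgB
import Cfsg.Agent.Lib.Char.More

/-! Recognition of `M₂₂`, `M₂₃`, `M₂₄` from the fixed point numbers of an action of degree
22, 23, 24. -/

set_option autoImplicit false
set_option linter.unusedSectionVars false
set_option linter.style.haveILetI false

open Cfsg MulAction
open scoped Pointwise

namespace H17.Ord

theorem perm_eq_of_min {G : Type*} [Group G] [Finite G] {H : Subgroup G} (hH : H ≠ ⊤)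
    {χ : IrrCharacter G} (hi : H.index ≤ dg χ + 1)
    (hm : ∀ ψ : IrrCharacter G, dg ψ ≤ dg χ → ψ = triv G ∨ ψ = χ) :
    H.index = dg χ + 1 ∧ ∀ g, (Nat.card (fixedBy (G ⧸ H) g) : ℂ) = 1 + (χ : G → ℂ) g := by
  letI := Fintype.ofFinite G
  let π : G → ℂ := fun g => (Nat.card (fixedBy (G ⧸ H) g) : ℂ)
  have hπ : IsCharacter G π := H6.isCharacter_fixedBy (G ⧸ H)
  have h1 : classInner π (fun _ => 1) = 1 := by
    rw [H6.classInner_fixedBy_one]
    haveI := (pretransitive_iff_subsingleton_quotient G (G ⧸ H)).mp inferInstance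
    haveI : Nonempty (orbitRel.Quotient G (G ⧸ H)) := ⟨Quotient.mk _ (QuotientGroup.mk 1)⟩
    rw [Nat.card_unique, Nat.cast_one]
  have π1 : π 1 = H.index := by
    simp only [π, fixedBy_one_eq_univ, Nat.card_univ, Subgroup.index]
  have hθ := H6.isCharacter_sub_of_inner_ne_zero hπ H6.isIrrCharacter_one (by rw [h1]; simp)
  have i1 : H.index ≠ 1 := fun e => hH (Subgroup.index_eq_one.mp e)
  obtain ⟨ψ, hψ, h2⟩ := H6.exists_irr_inner_ne_zero (H6.char_isClassFunction hθ) fun e => by
    have := congrFun e 1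
    rw [Pi.sub_apply, π1, Pi.zero_apply, sub_eq_zero] at this
    exact i1 (by exact_mod_cast this)
  have h3 := H6.irr_one_le_of_inner_ne_zero hθ hψ h2
  rw [Pi.sub_apply, π1, show ψ 1 = _ from dg_cast ⟨ψ, hψ⟩] at h3
  simp only [Complex.natCast_re, Complex.sub_re, Complex.one_re] at h3
  have h4 : dg (⟨ψ, hψ⟩ : IrrCharacter G) + 1 ≤ H.index := by
    have : ((dg (⟨ψ, hψ⟩ : IrrCharacter G) + 1 : ℕ) : ℝ) ≤ H.index := by push_cast; linarith
    exact_mod_cast this
  rcases hm ⟨ψ, hψ⟩ (by omega) with e | e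
  · have : ψ = fun _ => 1 := congrArg Subtype.val e
    rw [this, H6.classInner_sub_left, h1, H6.classInner_one_one, sub_self] at h2
    exact absurd rfl h2
  · obtain rfl : ψ = χ := congrArg Subtype.val e
    have h5 : H.index = dg χ + 1 := le_antisymm hi h4
    have := H6.char_eq_zero_of_one (H6.isCharacter_sub_of_inner_ne_zero hθ hψ h2) (by
      rw [Pi.sub_apply, Pi.sub_apply, π1, dg_cast, h5]; push_cast; ring)
    refine ⟨h5, fun g => ?_⟩
    have := congrFun this g
    simp only [Pi.sub_apply, Pi.zero_apply] at this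
    linear_combination this

variable {G α : Type*} [Group G] [Fintype G] [MulAction G α] [Fintype α] [DecidableEq α]

theorem multi_of_sum {k : ℕ}
    (h : ∑ g : G, (Nat.card (fixedBy α g)).descFactorial k < 2 * Nat.card G) :
    IsMultiplyPretransitive G α k := by
  classical
  have h1 := sum_card_fixedBy_eq_card_orbits_mul_card_group G (Fin k ↪ α)
  have h2 : ∀ g : G, Fintype.card (fixedBy (Fin k ↪ α) g) =
      (Nat.card (fixedBy α g)).descFactorial k := fun g => by
    rw [Nat.card_eq_fintype_card, ← Fintype.card_fin k, ← Fintype.card_embedding_eq,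
      Fintype.card_fin]
    exact Fintype.card_congr
      { toFun := fun x => ⟨fun i => ⟨x.1 i, DFunLike.congr_fun x.2 i⟩, fun i j e =>
          x.1.injective (congrArg Subtype.val e)⟩
        invFun := fun y => ⟨y.trans (Function.Embedding.subtype _),
          Function.Embedding.ext fun i => (y i).2⟩
        left_inv := fun x => rfl
        right_inv := fun y => rfl }
  simp only [h2] at h1
  rw [h1, Nat.card_eq_fintype_card] at h
  have h3 := lt_of_mul_lt_mul_right h (Nat.zero_le _)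
  by_cases hn : Nonempty (Fin k ↪ α)
  · exact (pretransitive_iff_subsingleton_quotient G _).mpr
      (Fintype.card_le_one_iff_subsingleton.mp (Nat.le_of_lt_succ h3))
  · exact ⟨fun x => absurd ⟨x⟩ hn⟩

theorem exists_big {K : Type*} [Group K] [Finite K] [MulAction K α] (hK : Nat.card K = 48)
    {F : Finset α} (hF : ∀ g : K, ∀ a ∈ F, g • a = a) (h4 : ∀ g : K, orderOf g ≠ 4) {t : K}
    (ht : orderOf t = 2) (h2 : Nat.card (fixedBy α t) = F.card + 3) :
    ∃ A : Subgroup K, A.index ≤ 6 ∧ ∀ u ∈ A, u ≠ 1 → orderOf u = 2 ∧ fixedBy α t ⊆ fixedBy α u := by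
  classical
  haveI : Fact (Nat.Prime 2) := ⟨Nat.prime_two⟩
  obtain ⟨S, hS⟩ := (IsPGroup.of_card (G := Subgroup.zpowers t) (p := 2) (n := 1)
    (by rw [Nat.card_zpowers, ht]; rfl)).exists_le_sylow
  have c1 : Nat.card S = 16 := by
    rw [S.card_eq_multiplicity, hK]
    rw [show Nat.factorization 48 2 = 4 by decide +kernel]; rfl
  have o2 : ∀ u ∈ (S : Subgroup K), u ≠ 1 → orderOf u = 2 := fun u hu h1 => by
    have d : orderOf u ∣ 2 ^ 4 := by
      have := Subgroup.orderOf_dvd_natCard _ hu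
      rwa [c1] at this
    obtain ⟨j, hj, e⟩ := (Nat.dvd_prime_pow Nat.prime_two).mp d
    have d4 : ¬ 4 ∣ orderOf u := fun d4 =>
      h4 (u ^ (orderOf u / 4)) (orderOf_pow_orderOf_div (orderOf_pos u).ne' d4)
    interval_cases j
    · exact absurd (orderOf_eq_one_iff.mp e) h1
    · exact e
    all_goals exact absurd (e ▸ by norm_num) d4
  have sq : ∀ u ∈ (S : Subgroup K), u * u = 1 := fun u hu => by
    by_cases h1 : u = 1
    · rw [h1, mul_one]
    · rw [← sq, ← o2 u hu h1, pow_orderOf_eq_one]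
  have tS : t ∈ (S : Subgroup K) := hS (Subgroup.mem_zpowers t)
  have cm : ∀ u ∈ (S : Subgroup K), t * u = u * t := fun u hu => by
    rw [← inv_eq_of_mul_eq_one_right (sq _ (mul_mem tS hu)), mul_inv_rev,
      inv_eq_of_mul_eq_one_right (sq _ tS), inv_eq_of_mul_eq_one_right (sq _ hu)]
  let D : SubMulAction S α :=
    { carrier := fixedBy α t \ F
      smul_mem' := fun u a ha => ⟨by
        change t • (u : K) • a = (u : K) • a
        rw [← mul_smul, cm _ u.2, mul_smul, ha.1], fun h => ha.2 (by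
          have e := hF (u : K)⁻¹ _ h
          change (u : K)⁻¹ • (u : K) • a = (u : K) • a at e
          rw [inv_smul_smul] at e
          rw [e]; exact h)⟩ }
  have cD : Nat.card D = 3 := by
    change Nat.card ↥(fixedBy α t \ F) = 3
    rw [Nat.card_coe_set_eq, Set.ncard_sdiff (t := fixedBy α t) (fun a ha => hF t a ha), ← Nat.card_coe_set_eq, h2,
      Set.ncard_coe_finset]
    omega
  let φ := toPermHom S D
  have i1 : φ.ker.index ∣ 6 := by
    rw [Subgroup.index_ker]
    have := Subgroup.card_subgroup_dvd_card φ.range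
    rwa [Nat.card_perm, cD] at this
  have i2 : φ.ker.index ∣ 16 := c1 ▸ Subgroup.index_dvd_card _
  have i3 : φ.ker.index ≤ 2 := Nat.le_of_dvd (by norm_num) (Nat.dvd_gcd i1 i2)
  refine ⟨φ.ker.map (S : Subgroup K).subtype, ?_, ?_⟩
  · have e1 := (S : Subgroup K).card_mul_index
    rw [Subgroup.index_map_subtype]
    rw [c1, hK] at e1
    have : (S : Subgroup K).index = 3 := by omega
    rw [this]; omega
  · rintro _ ⟨u, hu, rfl⟩ h1
    refine ⟨o2 _ u.2 h1, fun a ha => ?_⟩
    by_cases haF : a ∈ F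
    · exact hF _ a haF
    · exact congrArg Subtype.val (DFunLike.congr_fun (MonoidHom.mem_ker.mp hu) (⟨a, ha, haF⟩ : D))

theorem steiner_of_48 {k : ℕ} (ht : IsMultiplyPretransitive G α k)
    (hG : Nat.card G = (Fintype.card α).descFactorial k * 48)
    (h4 : ∀ g : G, orderOf g = 4 → Nat.card (fixedBy α g) < k)
    (h2 : ∀ g : G, orderOf g = 2 → k ≤ Nat.card (fixedBy α g) → Nat.card (fixedBy α g) = k + 3) :
    ∃ B : Set (Finset α), IsSteinerSystem k (k + 3) B ∧ ∀ g : G, ∀ b ∈ B, g • b ∈ B := by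
  classical
  refine ⟨{b | b.card = k + 3 ∧ ∃ t : G, orderOf t = 2 ∧ (b : Set α) = fixedBy α t},
    ⟨fun b hb => hb.1, fun F hF => ?_⟩, ?_⟩
  · let K := fixingSubgroup G (F : Set α)
    have hF' : (F : Set α).ncard = k := by simp [hF]
    have hK : Nat.card K = 48 := by
      have e1 := IsMultiplyPretransitive.index_of_fixingSubgroup_eq (G := G) (F : Set α) (hF' ▸ ht)
      have e2 := K.index_mul_card
      rw [e1, hF', hG, Nat.descFactorial_eq_factorial_mul_choose, Nat.card_eq_fintype_card,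
        mul_comm (Nat.factorial k)] at e2
      refine Nat.eq_of_mul_eq_mul_left (Nat.pos_of_ne_zero fun h0 => ?_) e2
      rw [Nat.descFactorial_eq_factorial_mul_choose, mul_comm (Nat.factorial k), h0, zero_mul] at hG
      exact Nat.card_pos.ne' hG
    have hKF : ∀ g : K, ∀ a ∈ F, g • a = a := fun g a ha => (mem_fixingSubgroup_iff G).mp g.2 a ha
    have le : ∀ g : K, k ≤ Nat.card (fixedBy α (g : G)) := fun g => by
      rw [← hF', Nat.card_coe_set_eq]
      exact Set.ncard_le_ncard (fun a ha => hKF g a ha)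
    have k4 : ∀ g : K, orderOf g ≠ 4 := fun g e =>
      (h4 g (by rw [Subgroup.orderOf_coe, e])).not_ge (le g)
    have k2 : ∀ g : K, orderOf g = 2 → Nat.card (fixedBy α (g : G)) = k + 3 := fun g e =>
      h2 g (by rw [Subgroup.orderOf_coe, e]) (le g)
    haveI : Fact (Nat.Prime 2) := ⟨Nat.prime_two⟩
    obtain ⟨t, ht⟩ := exists_prime_orderOf_dvd_card' (G := K) 2 (by rw [hK]; norm_num)
    refine ⟨(fixedBy α (t : G)).toFinset, ⟨⟨?_, t, by rw [Subgroup.orderOf_coe, ht], by simp⟩,
      fun a ha => Set.mem_toFinset.mpr (hKF t a ha)⟩, ?_⟩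
    · rw [← k2 t ht, Set.toFinset_card, Nat.card_eq_fintype_card]
    · rintro b ⟨⟨-, s, hs, e⟩, hb⟩
      let s' : K := ⟨s, (mem_fixingSubgroup_iff G).mpr fun a ha => e.le (hb ha)⟩
      have hs' : orderOf s' = 2 := by rw [← Subgroup.orderOf_coe, ← hs]
      obtain ⟨A, a1, a2⟩ := exists_big hK hKF k4 ht (hF ▸ k2 t ht)
      obtain ⟨A', b1, b2⟩ := exists_big hK hKF k4 hs' (hF ▸ k2 s' hs')
      have : A ⊓ A' ≠ ⊥ := fun h => by
        have := Subgroup.index_inf_le (H := A) (K := A')
        rw [h, Subgroup.index_bot, hK] at this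
        nlinarith
      obtain ⟨⟨u, hu⟩, h1⟩ := Subgroup.ne_bot_iff_exists_ne_one.mp this
      have h1' : u ≠ 1 := fun e => h1 (Subtype.ext e)
      have q : ∀ v : K, orderOf v = 2 → fixedBy α (v : G) ⊆ fixedBy α (u : G) →
          fixedBy α (v : G) = fixedBy α (u : G) := fun v hv h => Set.eq_of_subset_of_ncard_le h (by
        rw [← Nat.card_coe_set_eq, ← Nat.card_coe_set_eq, k2 v hv, k2 u (a2 u hu.1 h1').1])
      refine Finset.coe_injective ?_
      rw [e, Set.coe_toFinset, q t ht (a2 u hu.1 h1').2]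
      exact q s' hs' (b2 u hu.2 h1').2
  · rintro g b ⟨h1, t, ht, e⟩
    refine ⟨by simpa using h1, g * t * g⁻¹, ?_, ?_⟩
    · rw [← ht]; exact (MulAut.conj g).orderOf_eq t
    · rw [Finset.coe_smul_finset, e, smul_fixedBy]

variable [FaithfulSMul G α]

theorem isoM24_of_fix (hα : Fintype.card α = 24) (hG : Nat.card G = 244823040)
    (h : ∑ g : G, (Nat.card (fixedBy α g)).descFactorial 5 < 2 * Nat.card G)
    (h4 : ∀ g : G, orderOf g = 4 → Nat.card (fixedBy α g) < 5)
    (h2 : ∀ g : G, orderOf g = 2 → 5 ≤ Nat.card (fixedBy α g) → Nat.card (fixedBy α g) = 8) :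
    Nonempty (G ≃* M24) := by
  obtain ⟨B, hB, hinv⟩ := steiner_of_48 (multi_of_sum h) (by rw [hα, hG]; rfl) h4 h2
  obtain ⟨g, -, -, φ, -⟩ := H17.aut24 hα hB
  let f : G →* setSystemAut B := (toPermHom G α).codRestrict _ fun g => mem_aut_iff.mpr (hinv g)
  have hf : Function.Bijective f := (Nat.bijective_iff_injective_and_card _).mpr
    ⟨fun a b e => toPerm_injective (congrArg Subtype.val e), by
      rw [hG, ← Nat.card_congr φ.toEquiv, H15.card_M24]⟩
  exact ⟨(MulEquiv.ofBijective f hf).trans φ.symm⟩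

theorem isoM23_of_fix (hα : Fintype.card α = 23) (hG : Nat.card G = 10200960)
    (h : ∑ g : G, (Nat.card (fixedBy α g)).descFactorial 4 < 2 * Nat.card G)
    (h4 : ∀ g : G, orderOf g = 4 → Nat.card (fixedBy α g) < 4)
    (h2 : ∀ g : G, orderOf g = 2 → 4 ≤ Nat.card (fixedBy α g) → Nat.card (fixedBy α g) = 7) :
    Spor.IsoM23 G := by
  obtain ⟨B, hB, hinv⟩ := steiner_of_48 (multi_of_sum h) (by rw [hα, hG]; rfl) h4 h2
  obtain ⟨g, -, -, φ, -⟩ := H17.aut23 hα hB
  let f : G →* setSystemAut B := (toPermHom G α).codRestrict _ fun g => mem_aut_iff.mpr (hinv g)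
  have hf : Function.Bijective f := (Nat.bijective_iff_injective_and_card _).mpr
    ⟨fun a b e => toPerm_injective (congrArg Subtype.val e), by
      rw [hG, ← Nat.card_congr φ.toEquiv, H15.card_M23]⟩
  exact ⟨(MulEquiv.ofBijective f hf).trans φ.symm⟩

theorem isoM22_of_fix (hP : _root_.commutator G = ⊤) (hα : Fintype.card α = 22)
    (hG : Nat.card G = 443520)
    (h : ∑ g : G, (Nat.card (fixedBy α g)).descFactorial 3 < 2 * Nat.card G)
    (h4 : ∀ g : G, orderOf g = 4 → Nat.card (fixedBy α g) < 3)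
    (h2 : ∀ g : G, orderOf g = 2 → 3 ≤ Nat.card (fixedBy α g) → Nat.card (fixedBy α g) = 6) :
    Spor.IsoM22 G := by
  obtain ⟨B, hB, hinv⟩ := steiner_of_48 (multi_of_sum h) (by rw [hα, hG]; rfl) h4 h2
  obtain ⟨g, -, -, φ, -⟩ := H17.aut22 hα hB
  let f : G →* setSystemAut B := (toPermHom G α).codRestrict _ fun g => mem_aut_iff.mpr (hinv g)
  let f' : G →* M22d := φ.symm.toMonoidHom.comp f
  have hf : Function.Injective f' := fun a b e =>
    toPerm_injective (congrArg Subtype.val (φ.symm.injective e))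
  have hne : (none : GolayPt) ≠ H15.pt 22 := by decide
  let K0 := (M24 ⊓ H15.St (none : GolayPt) ⊓ H15.St (H15.pt 22)).subgroupOf M22d
  have e0 := Subgroup.subgroupOfEquivOfLe stab2_le_M22d
  have c0 : Nat.card K0 = 443520 := by rw [Nat.card_congr e0.toEquiv, H15.card_stab2 hne]
  have i0 : K0.index = 2 := by
    have := K0.card_mul_index
    rw [c0, card_M22d] at this
    omega
  have hr : f'.range ≤ K0 := by
    rw [MonoidHom.range_eq_map, ← hP, _root_.commutator, Subgroup.map_commutator]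
    refine Subgroup.commutator_le.mpr fun a _ b _ => ?_
    rw [commutatorElement_def, Subgroup.mul_mem_iff_of_index_two i0,
      Subgroup.mul_mem_iff_of_index_two i0, Subgroup.mul_mem_iff_of_index_two i0,
      inv_mem_iff, inv_mem_iff]
    tauto
  have hr' : f'.range = K0 := Subgroup.eq_of_le_of_card_ge hr (by
    rw [c0, ← hG, Nat.card_congr (MonoidHom.ofInjective hf).toEquiv])
  exact ⟨((MonoidHom.ofInjective hf).trans (MulEquiv.subgroupCongr hr')).trans
    (e0.trans (H15.stab2_equiv hne).some)⟩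

end H17.Ord
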