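import Mathlib
import Cfsg.Agent.Base
import Cfsg.Agent.Lib.Ord.M11B
import Cfsg.Agent.Lib.H4.Sieve2
import Cfsg.Agent.Lib.Deg.FS2
import Cfsg.Agent.Lib.BS.ClassMul
import Cfsg.Agent.Lib.Char.ExtDet

/-! Congruences for character values and small counting tools for order characterisations. -/

set_option autoImplicit false
set_option linter.unusedSectionVars false
set_option linter.style.haveILetI false

open Cfsg
open scoped ComplexConjugate

namespace H17.Ord
variable {G : Type*} [Group G] [Finite G]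

/-- integer values at `g` and `g ^ p ^ k` are congruent modulo `p` -/
theorem modEq_pow {χ : G → ℂ} (hχ : IsCharacter G χ) {p k : ℕ} (hp : p.Prime) {g : G}
    {z z' : ℤ} (hz : χ g = z) (hz' : χ (g ^ p ^ k) = z') : z' ≡ z [ZMOD p] := by
  obtain ⟨m, ω, -, hω, hsum⟩ := H6.char_pow_eq_sum hχ (orderOf_pos g).ne' (pow_orderOf_eq_one g)
  obtain ⟨r, hr⟩ := H31.exists_sum_pow_prime_pow (R := integralClosure ℤ ℂ) hp k Finset.univ
    (fun i => ⟨ω i, H8.isIntegral_of_pow_eq_one (orderOf_pos g) (hω i)⟩)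
  have h1 := congrArg Subtype.val hr
  have h2 := hsum 1
  simp only [pow_one] at h2
  push_cast at h1
  simp only [← h2, ← hsum, hz, hz'] at h1
  have hp0 : (p : ℂ) ≠ 0 := by exact_mod_cast hp.ne_zero
  have h3 : (((z ^ p ^ k - z' : ℤ) / p : ℚ) : ℂ) = r := by
    push_cast; field_simp; linear_combination h1
  obtain ⟨w, hw⟩ := H8.exists_int_of_isIntegral_rat (q := (z ^ p ^ k - z' : ℤ) / p)
    (by rw [h3]; exact r.2)
  have hp1 : (p : ℚ) ≠ 0 := by exact_mod_cast hp.ne_zero
  have h4 : (z ^ p ^ k - z' : ℤ) = p * w := by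
    have : ((z ^ p ^ k - z' : ℤ) : ℚ) = p * w := by rw [← hw]; field_simp
    exact_mod_cast this
  have h5 : z ^ p ^ k ≡ z [ZMOD p] := by
    haveI := Fact.mk hp
    rw [← ZMod.intCast_eq_intCast_iff]
    push_cast
    exact ZMod.pow_card_pow _
  refine Int.ModEq.trans ?_ h5
  exact (Int.modEq_iff_dvd.mpr ⟨w, h4⟩)

theorem exists_eig_det {χ : G → ℂ} (hχ : IsCharacter G χ) (g : G) :
    ∃ (n : ℕ) (ω : Fin n → ℂ), (∀ i, ω i ^ orderOf g = 1) ∧ (∀ k : ℕ, χ (g ^ k) = ∑ i, ω i ^ k) ∧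
      (H31.detHom χ g : ℂ) = ∏ i, ω i := by
  obtain ⟨n, ω, -, hω, hsum⟩ := H6.char_pow_eq_sum hχ (orderOf_pos g).ne' (pow_orderOf_eq_one g)
  refine ⟨n, ω, hω, hsum, ?_⟩
  have h0 : ∀ i, ω i ≠ 0 := fun i e => by
    have := hω i
    rw [e, zero_pow (orderOf_pos g).ne'] at this
    exact zero_ne_one this
  let γ : Subgroup.zpowers g := ⟨g, Subgroup.mem_zpowers g⟩
  have hγ : ∀ x : Subgroup.zpowers g, x ∈ Subgroup.zpowers γ := by
    rintro ⟨_, k, rfl⟩; exact ⟨k, rfl⟩
  let l : Fin n → (Subgroup.zpowers g →* ℂˣ) := fun i =>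
    monoidHomOfForallMemZpowers hγ (g' := Units.mk0 (ω i) (h0 i)) (by
      rw [← Subgroup.orderOf_coe]
      exact orderOf_dvd_of_pow_eq_one (Units.ext (by
        rw [Units.val_pow_eq_pow_val]; exact hω i)))
  have hl : ∀ i, l i γ = Units.mk0 (ω i) (h0 i) := fun i =>
    monoidHomOfForallMemZpowers_apply_gen _ _
  have e : (fun v : Subgroup.zpowers g => χ v) = ∑ i, fun v => ((l i v : ℂˣ) : ℂ) := by
    funext v
    obtain ⟨k, rfl⟩ := (mem_powers_iff_mem_zpowers.mpr (hγ v))
    simp only [Finset.sum_apply, map_pow, hl, Units.val_pow_eq_pow_val, Units.val_mk0]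
    exact hsum k
  have h2 := H31.detHom_res (Subgroup.zpowers g) hχ γ
  rw [e, H31.detHom_sum _ fun i _ => H6.isCharacter_hom _] at h2
  simp only [H31.detHom_hom, hl] at h2
  rw [show g = (γ : G) from rfl, ← h2]
  simp

theorem quartic_sums {ι : Type*} (s : Finset ι) (ω : ι → ℂ) (h : ∀ i, ω i ^ 4 = 1) :
    ∃ a b c d : ℕ, s.card = a + b + c + d ∧ ∑ i ∈ s, ω i = a - c + (b - d) * Complex.I ∧
      ∑ i ∈ s, ω i ^ 2 = a + c - b - d ∧
      ∏ i ∈ s, ω i = Complex.I ^ b * (-1) ^ c * (-Complex.I) ^ d := by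
  classical
  induction s using Finset.induction_on with
  | empty => exact ⟨0, 0, 0, 0, by simp⟩
  | insert i s hi ih =>
    obtain ⟨a, b, c, d, h1, h2, h3, h4⟩ := ih
    rw [Finset.card_insert_of_notMem hi, Finset.sum_insert hi, Finset.sum_insert hi,
      Finset.prod_insert hi, h1, h2, h3, h4]
    have : (ω i - 1) * (ω i + 1) * (ω i - Complex.I) * (ω i + Complex.I) = 0 := by
      linear_combination h i - (ω i ^ 2 - 1) * Complex.I_sq
    simp only [mul_eq_zero, sub_eq_zero, add_eq_zero_iff_eq_neg] at this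
    rcases this with ((e | e) | e) | e <;> rw [e]
    · exact ⟨a + 1, b, c, d, by omega, by push_cast; ring, by push_cast; ring, by ring⟩
    · exact ⟨a, b, c + 1, d, by omega, by push_cast; ring, by push_cast; ring, by ring⟩
    · exact ⟨a, b + 1, c, d, by omega, by push_cast; ring,
        by push_cast; linear_combination Complex.I_sq, by ring⟩
    · exact ⟨a, b, c, d + 1, by omega, by push_cast; ring,
        by push_cast; linear_combination Complex.I_sq, by ring⟩

/-- in a perfect group, a rational value at an element of order dividing four -/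
theorem mod_eight (hP : _root_.commutator G = ⊤) {χ : G → ℂ} (hχ : IsCharacter G χ) {w : G}
    (hw : w ^ 4 = 1) {n z z' : ℤ} (h1 : χ 1 = n) (hz : χ w = z) (hz' : χ (w ^ 2) = z') :
    2 * z ≡ n + z' [ZMOD 8] := by
  obtain ⟨m, ω, hω, hsum, hdet⟩ := exists_eig_det hχ w
  obtain ⟨j, hj⟩ := orderOf_dvd_of_pow_eq_one hw
  obtain ⟨a, b, c, d, k1, k2, k3, k4⟩ := quartic_sums Finset.univ ω fun i => by
    rw [hj, pow_mul, hω, one_pow]
  have e0 := hsum 0
  have e1 := hsum 1
  have e2 := hsum 2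
  simp only [pow_zero, pow_one, Finset.sum_const, nsmul_eq_mul, mul_one, k1] at e0 e1
  rw [h1] at e0
  rw [hz, k2] at e1
  rw [hz', k3] at e2
  have e3 : H31.detHom χ w = 1 :=
    Abelianization.commutator_subset_ker _ (hP ▸ Subgroup.mem_top w)
  have f1 := congrArg Complex.im e1
  have f2 := congrArg Complex.re e1
  simp at f1 f2
  obtain rfl : b = d := by exact_mod_cast (sub_eq_zero.mp f1.symm)
  have e4 : (-1 : ℂ) ^ c = 1 := by
    rw [e3, k4, mul_right_comm, ← mul_pow] at hdet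
    simpa using hdet.symm
  obtain ⟨c, rfl⟩ := (neg_one_pow_eq_one_iff_even (by norm_num)).mp e4
  have g0 : n = (a + b + (c + c) + b : ℕ) := by exact_mod_cast e0
  have g1 : z = a - (c + c : ℕ) := by exact_mod_cast f2
  have g2 : z' = a + (c + c : ℕ) - b - b := by exact_mod_cast e2
  unfold Int.ModEq
  omega

/-- values at involutions in a simple group -/
theorem invol_val [IsSimpleGroup G] (hna : ∃ a b : G, a * b ≠ b * a) {χ : IrrCharacter G}
    (hχ : dg χ ≠ 1) {s : G} (hs : orderOf s = 2) :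
    ∃ z : ℤ, (χ : G → ℂ) s = z ∧ z % 4 = dg χ % 4 ∧ -(dg χ : ℤ) < z ∧ z < dg χ := by
  have h2 : s * s = 1 := by rw [← sq, ← hs, pow_orderOf_eq_one]
  obtain ⟨z, h1, -, h3, h4⟩ := int_of_invol χ h2
  have hP : _root_.commutator G = ⊤ := H36.commutator_eq_top_of_simple fun h => by
    obtain ⟨a, b, hab⟩ := hna
    exact hab (h.is_comm.comm a b)
  have h5 := mod_eight hP (irr_chr χ) (w := s) (by rw [show 4 = 2 * 2 from rfl, pow_mul, sq s, h2,
    one_pow]) (n := dg χ) (z' := dg χ) (by rw [dg_cast]; simp) h1 (by rw [sq, h2, dg_cast]; simp)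
  have h6 : ∀ e : ℤ, e = 1 ∨ e = -1 → z ≠ e * dg χ := fun e he h => by
    have := eq_one_of_norm_eq hna (χ := χ) (fun h => hχ (h ▸ dg_triv)) (x := s) (by
      rw [h1, h]; rcases he with rfl | rfl <;> simp)
    rw [this, orderOf_one] at hs
    omega
  have := h6 1 (Or.inl rfl)
  have := h6 (-1) (Or.inr rfl)
  unfold Int.ModEq at h5
  exact ⟨z, h1, by omega, by omega, by omega⟩

/-- integrality of central characters -/
theorem dvd_central (χ : IrrCharacter G) {g : G} {z : ℤ} (hz : (χ : G → ℂ) g = z) :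
    (dg χ : ℤ) ∣ (Subgroup.centralizer ({g} : Set G)).index * z := by
  have h := H84.isIntegral_centralChar χ g
  have h0 : (dg χ : ℚ) ≠ 0 := by exact_mod_cast (dg_pos χ).ne'
  obtain ⟨w, hw⟩ := H8.exists_int_of_isIntegral_rat
    (q := ((Subgroup.centralizer ({g} : Set G)).index * z : ℤ) / dg χ) (by
      rw [centralChar, hz, dg_cast] at h
      push_cast
      exact h)
  refine ⟨w, ?_⟩
  rw [div_eq_iff h0, mul_comm (w : ℚ)] at hw
  exact_mod_cast hw

theorem exists_sylow_eq {p : ℕ} [hp : Fact p.Prime] {P : Subgroup G} (hP : Nat.card P = p)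
    (hi : ¬ p ∣ P.index) : ∃ S : Sylow p G, (S : Subgroup G) = P :=
  ⟨(H84.isPGroup_of_card hP).toSylow hi, rfl⟩

/-- the sieve of the principal block, transported to `PB` -/
theorem sieve_PB [IsSimpleGroup G] (hna : ∃ a b : G, a * b ≠ b * a) {p : ℕ} [hp : Fact p.Prime]
    (hp2 : p ≠ 2) {P : Subgroup G} {e : ℕ} (B : PB G p P e) {C : ℕ → ℕ → ℕ → List ℤ → Bool}
    (h : H4.Sv.chkOne (Nat.card G) p C = true) [DecidableEq (IrrCharacter G)] :
    ∃ c l, C (Subgroup.normalizer (P : Set G)).index e c l = true ∧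
      Nat.card (Subgroup.centralizer (P : Set G)) = p * c ∧
      ∀ d, d ≠ 1 → cnt (B.X ∪ B.Y) d = H4.Sv.cntDeg p e l d := by
  obtain ⟨P, rfl⟩ := exists_sylow_eq B.card B.ind
  erw [← P.card_eq_index_normalizer]
  letI := Fintype.ofFinite G
  have hG : ¬ IsMulCommutative G := fun h => by
    obtain ⟨a, b, hab⟩ := hna
    exact hab (h.is_comm.comm a b)
  obtain ⟨M, hM, hB⟩ := B.blk
  obtain ⟨c, hc⟩ := H4.Sv.exists_card_cent P B.card
  obtain ⟨B'⟩ := H4.nonempty_B0 (H36.commutator_eq_top_of_simple hG) hM hp2 P B.card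
  rw [B.he] at B'
  obtain ⟨l, hl, h1⟩ := H4.Sv.chkOne_sound hG hp2 P B.card hM B.he hc B' h
  refine ⟨c, l, h1, hc, fun d hd => ?_⟩
  rw [H4.Sv.cntDeg_eq B' B.e_dvd hl, cnt]
  congr 1
  ext χ
  simp only [Finset.mem_filter, Finset.mem_union, ← hB, B'.mem]
  refine ⟨fun h => ⟨h.1.resolve_left fun e => hd ?_, h.2⟩, fun h => ⟨Or.inr h.1, h.2⟩⟩
  rw [← h.2, e, dg_triv]

/-- Sylow count inside an overgroup of the normaliser -/
theorem card_over_normalizer {p : ℕ} [hp : Fact p.Prime] {P : Subgroup G} (hP : Nat.card P = p)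
    (hi : ¬ p ∣ P.index) {H : Subgroup G} (h : Subgroup.normalizer (P : Set G) ≤ H) :
    ∃ r, Nat.card H = Nat.card (Subgroup.normalizer (P : Set G)) * r ∧ r % p = 1 := by
  obtain ⟨P, rfl⟩ := exists_sylow_eq hP hi
  have h1 : (P : Subgroup G) ≤ H := Subgroup.le_normalizer.trans h
  have h2 := card_sylow_modEq_one p H
  rw [(P.subtype h1).card_eq_index_normalizer] at h2
  change (Subgroup.normalizer (((P : Subgroup G).subgroupOf H : Subgroup H) : Set H)).index ≡ 1
    [MOD p] at h2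
  rw [← Subgroup.subgroupOf_normalizer_eq h1] at h2
  refine ⟨_, ?_, Eq.trans h2 (Nat.mod_eq_of_lt hp.out.one_lt)⟩
  rw [← Nat.card_congr (Subgroup.subgroupOfEquivOfLe h).toEquiv, Subgroup.card_mul_index]

/-- if `N(P)/C(P)` has order `p - 1` then all generators of `P` are conjugate -/
theorem exists_conj_of_relIndex {p : ℕ} (hp : p.Prime) {x : G} (hx : orderOf x = p)
    (h : (Subgroup.centralizer ((Subgroup.zpowers x : Subgroup G) : Set G)).relIndex
      (Subgroup.normalizer ((Subgroup.zpowers x : Subgroup G) : Set G)) = p - 1) {v : G}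
    (hv : v ∈ Subgroup.zpowers x) (hv1 : v ≠ 1) :
    ∃ n ∈ Subgroup.normalizer ((Subgroup.zpowers x : Subgroup G) : Set G), n * x * n⁻¹ = v := by
  set N := Subgroup.normalizer ((Subgroup.zpowers x : Subgroup G) : Set G)
  letI : MulAction N G := MulAction.compHom G (MulAut.conj.comp N.subtype)
  have sm : ∀ (n : N) (g : G), n • g = n * g * (n : G)⁻¹ := fun _ _ => rfl
  have h1 : MulAction.stabilizer N x =
      (Subgroup.centralizer ((Subgroup.zpowers x : Subgroup G) : Set G)).subgroupOf N := by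
    ext n
    rw [MulAction.mem_stabilizer_iff, sm, Subgroup.mem_subgroupOf, Subgroup.zpowers_eq_closure,
      Subgroup.centralizer_closure, Subgroup.mem_centralizer_singleton_iff, mul_inv_eq_iff_eq_mul]
  have h2 : (MulAction.orbit N x).ncard = p - 1 := by rw [← MulAction.index_stabilizer, h1]; exact h
  have h3 : MulAction.orbit N x ⊆ (Subgroup.zpowers x : Set G) \ {1} := by
    rintro _ ⟨n, rfl⟩
    refine ⟨(Subgroup.mem_normalizer_iff.mp n.2 x).mp (Subgroup.mem_zpowers x), fun e => ?_⟩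
    have := H35.orderOf_conj x n
    rw [← sm, show n • x = 1 from e, orderOf_one, hx] at this
    exact hp.one_lt.ne this
  have h4 := Set.eq_of_subset_of_ncard_le h3 (by
    rw [h2, Set.ncard_sdiff_singleton_of_mem (Subgroup.one_mem _), ← Nat.card_coe_set_eq]
    exact (congrArg (· - 1) ((Nat.card_zpowers x).trans hx)).le)
  obtain ⟨n, hn⟩ := h4.ge ⟨hv, hv1⟩
  exact ⟨n, n.2, hn⟩

/-- a non-real element is not a product of two involutions -/
theorem pair_sum_zero {s s' y : G} (hs : s * s = 1) (hs' : s' * s' = 1) (hy : ¬ IsConj y y⁻¹) :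
    ∑ χ : IrrCharacter G,
      (χ : G → ℂ) s * (χ : G → ℂ) s' * conj ((χ : G → ℂ) y) / (χ : G → ℂ) 1 = 0 := by
  have h := H31.classCoeff_eq s s' y
  have h0 : H31.classCoeff s s' y = 0 := by
    rw [H31.classCoeff, Nat.card_eq_zero]
    refine Or.inl ⟨fun ⟨⟨u, v⟩, h1, h2, h3⟩ => hy (isConj_iff.mpr ⟨u, ?_⟩)⟩
    have k1 := H33.mul_self_of_isConj hs h1
    have k2 := H33.mul_self_of_isConj hs' h2
    simp only at h3 k1 k2
    rw [← h3, mul_inv_rev, inv_eq_of_mul_eq_one_right k1, inv_eq_of_mul_eq_one_right k2,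
      ← mul_assoc, k1, one_mul]
  rw [h0, Nat.cast_zero] at h
  refine (mul_eq_zero.mp h.symm).resolve_left (div_ne_zero (mul_ne_zero ?_ ?_) H6.card_ne_zero) <;>
    exact Nat.cast_ne_zero.mpr Subgroup.index_ne_zero_of_finite

/-- column norms for integer valued columns -/
theorem col_sum {g h : G} {u v : IrrCharacter G → ℤ} (hu : ∀ χ : IrrCharacter G, (χ : G → ℂ) g = u χ)
    (hv : ∀ χ : IrrCharacter G, (χ : G → ℂ) h = v χ) (hc : ¬ IsConj g h) : ∑ χ, u χ * v χ = 0 := by
  have := H6.column_orthogonality_not_isConj hc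
  simp only [hu, hv, map_intCast] at this
  exact_mod_cast this

theorem col_sq {g : G} {u : IrrCharacter G → ℤ} (hu : ∀ χ : IrrCharacter G, (χ : G → ℂ) g = u χ) :
    ∑ χ, u χ ^ 2 = Nat.card (Subgroup.centralizer ({g} : Set G)) := by
  have := H6.column_orthogonality_self g
  simp only [hu, map_intCast, ← sq] at this
  exact_mod_cast this

theorem int_of_conj_pow {g n : G} {a : ℕ} (h : n * g * n⁻¹ = g ^ a)
    (ha : ∀ m < orderOf g, m.Coprime (orderOf g) → ∃ k, a ^ k % orderOf g = m)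
    (χ : IrrCharacter G) : ∃ z : ℤ, (χ : G → ℂ) g = z := by
  refine H8.exists_int_of_forall_pow_eq (H6.irr_isGen χ.2) g fun m hm => ?_
  obtain ⟨k, hk⟩ := ha _ (Nat.mod_lt m (orderOf_pos g)) (by simpa using hm)
  have h1 : ∀ k : ℕ, n ^ k * g * (n ^ k)⁻¹ = g ^ a ^ k := fun k => by
    induction k with
    | zero => simp
    | succ k ih =>
      calc _ = n * (n ^ k * g * (n ^ k)⁻¹) * n⁻¹ := by rw [pow_succ']; group
        _ = _ := by rw [ih, ← conj_pow, h, ← pow_mul, pow_succ']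
  rw [← pow_mod_orderOf, ← hk, pow_mod_orderOf, ← h1, irr_cls χ]

end H17.Ord
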