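import Mathlib
import Cfsg.Agent.Base
import Cfsg.Agent.Lib.Ord.CharAux
import Cfsg.Agent.Lib.FGS.OrderTypeFrob

/-! Principal blocks of self-centralising Sylow subgroups of prime order, as relations summed over
all irreducible characters with weights depending on the degree. -/

set_option autoImplicit false
set_option linter.unusedSectionVars false
set_option linter.style.haveILetI false

open Cfsg
open scoped ComplexConjugate

namespace H17.Ord
variable {G : Type*} [Group G] [Finite G]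

def degs (p e : ℕ) (l : List ℤ) : List ℕ :=
  l.map Int.natAbs ++ List.replicate ((p - 1) / e) (1 + l.sum).natAbs

theorem cntDeg_eq_count (p e : ℕ) (l : List ℤ) (d : ℕ) :
    H4.Sv.cntDeg p e l d = (degs p e l).count d := by
  simp [H4.Sv.cntDeg, degs, List.count_replicate]

theorem sieve_one [IsSimpleGroup G] (hna : ∃ a b : G, a * b ≠ b * a) {p : ℕ} [hp : Fact p.Prime]
    (hp2 : p ≠ 2) {P : Subgroup G} {e c n N : ℕ} (B : PB G p P e) (hG : Nat.card G = N)
    (hc : Nat.card (Subgroup.centralizer (P : Set G)) = p * c)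
    (hn : (Subgroup.normalizer (P : Set G)).index = n) {C : List ℤ → Bool}
    (h : H4.Sv.feas N (H4.Sv.fac N) p (e * n) e c C = true) [DecidableEq (IrrCharacter G)] :
    ∃ l, C l = true ∧ ∀ d, d ≠ 1 → cnt (B.X ∪ B.Y) d = (degs p e l).count d := by
  obtain ⟨P, rfl⟩ := exists_sylow_eq B.card B.ind
  erw [← P.card_eq_index_normalizer] at hn
  subst hn hG
  letI := Fintype.ofFinite G
  have hG : ¬ IsMulCommutative G := fun h => by
    obtain ⟨a, b, hab⟩ := hna
    exact hab (h.is_comm.comm a b)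
  obtain ⟨M, hM, hB⟩ := B.blk
  obtain ⟨B'⟩ := H4.nonempty_B0 (H36.commutator_eq_top_of_simple hG) hM hp2 P B.card
  rw [B.he] at B'
  obtain ⟨l, hl, h1⟩ := H4.Sv.feas_sound (by have := hp.out.two_le; omega)
    (Nat.mul_ne_zero B.e_pos.ne' Nat.card_pos.ne') Nat.card_pos.ne' (B'.num hG hM B.card hc B.he) h
  refine ⟨l, h1, fun d hd => ?_⟩
  rw [← cntDeg_eq_count, H4.Sv.cntDeg_eq B' B.e_dvd hl, cnt]
  congr 1
  ext χ
  simp only [Finset.mem_filter, Finset.mem_union, ← hB, B'.mem]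
  refine ⟨fun h => ⟨h.1.resolve_left fun e => hd ?_, h.2⟩, fun h => ⟨Or.inr h.1, h.2⟩⟩
  rw [← h.2, e, dg_triv]

theorem sieve_list [IsSimpleGroup G] (hna : ∃ a b : G, a * b ≠ b * a) {p : ℕ} [hp : Fact p.Prime]
    (hp2 : p ≠ 2) {P : Subgroup G} {e c n N : ℕ} (B : PB G p P e) (hG : Nat.card G = N)
    (hc : Nat.card (Subgroup.centralizer (P : Set G)) = p * c)
    (hn : (Subgroup.normalizer (P : Set G)).index = n) (O : List (List ℕ))
    (h : H4.Sv.feas N (H4.Sv.fac N) p (e * n) e c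
      (fun l => O.any fun o => o.isPerm (degs p e l)) = true) [DecidableEq (IrrCharacter G)] :
    ∃ o ∈ O, ∀ d, d ≠ 1 → cnt (B.X ∪ B.Y) d = o.count d := by
  obtain ⟨l, h1, h2⟩ := sieve_one hna hp2 B hG hc hn h
  obtain ⟨o, ho, h3⟩ := List.any_eq_true.mp h1
  exact ⟨o, ho, fun d hd => (h2 d hd).trans ((List.isPerm_iff.mp h3).count_eq d).symm⟩

theorem PB.cnt_univ {p : ℕ} [hp : Fact p.Prime] {P : Subgroup G} {e : ℕ} (B : PB G p P e)
    (hC : Subgroup.centralizer (P : Set G) = P) {d : ℕ} (hd : ¬ p ∣ d)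
    [DecidableEq (IrrCharacter G)] : cnt (G := G) Finset.univ d = cnt (B.X ∪ B.Y) d :=
  cnt_congr fun χ h => by simpa using B.mem_of_not_dvd hC (h ▸ hd)

theorem exists_enum_aux (D : List ℕ) : ∀ S : Finset (IrrCharacter G), (∀ d, cnt S d = D.count d) →
    ∃ L : List (IrrCharacter G), L.map dg = D ∧ L.Nodup ∧ ∀ χ, χ ∈ L ↔ χ ∈ S := by
  classical
  induction D with
  | nil =>
    refine fun S h => ⟨[], rfl, List.nodup_nil, fun χ => ⟨by simp, fun k => ?_⟩⟩
    exact absurd rfl (cnt_eq_zero.mp (h (dg χ)) χ k)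
  | cons a D ih =>
    intro S h
    obtain ⟨χ, h1, h2⟩ := cnt_pos.mp (show 0 < cnt S a by rw [h]; simp)
    obtain ⟨L, k1, k2, k3⟩ := ih (S.erase χ) fun d => by
      have := h d
      unfold cnt at this ⊢
      rw [Finset.filter_erase, List.count_cons] at *
      by_cases e : a = d
      · rw [Finset.card_erase_of_mem (Finset.mem_filter.mpr ⟨h1, h2.trans e⟩), this]
        simp [e]
      · rw [Finset.erase_eq_of_notMem (by simp [h2, e]), this]
        simp [e]
    refine ⟨χ :: L, by rw [List.map_cons, h2, k1], List.nodup_cons.mpr ⟨by simp [k3], k2⟩,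
      fun ψ => ?_⟩
    rw [List.mem_cons, k3, Finset.mem_erase]
    constructor
    · rintro (rfl | k)
      exacts [h1, k.2]
    · exact fun k => (eq_or_ne ψ χ).imp_right fun e => ⟨e, k⟩

theorem exists_enum (D : List ℕ) (h : ∀ d, cnt (G := G) Finset.univ d = D.count d) :
    ∃ L : List (IrrCharacter G), L.map dg = D ∧ L.Nodup ∧ (∀ χ, χ ∈ L) ∧
      ∀ {A : Type} [AddCommMonoid A] (f : IrrCharacter G → A), ∑ χ, f χ = (L.map f).sum := by
  classical
  obtain ⟨L, h1, h2, h3⟩ := exists_enum_aux D _ h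
  refine ⟨L, h1, h2, fun χ => (h3 χ).mpr (Finset.mem_univ _), fun f => ?_⟩
  rw [← List.sum_toFinset f h2]
  exact Finset.sum_congr (by ext; simp [h3]) fun _ _ => rfl

def wt (p e d : ℕ) : ℤ :=
  if d % p = 1 then ((p - 1) / e : ℕ) else if d % p = p - 1 then -((p - 1) / e : ℕ) else
    if d % p = e then -1 else if d % p = p - e then 1 else 0

theorem not_isConj_inv {p : ℕ} (hp : p.Prime) (h2 : p ≠ 2) {P : Subgroup G} (hP : Nat.card P = p)
    (ho : Odd ((Subgroup.centralizer (P : Set G)).relIndex (Subgroup.normalizer (P : Set G))))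
    {y : G} (hy : y ∈ P) (h1 : y ≠ 1) : ¬ IsConj y y⁻¹ := fun h => by
  obtain ⟨g, hg⟩ := isConj_iff.mp h
  have o : orderOf y = p := by
    have := Subgroup.orderOf_dvd_natCard _ hy
    rw [hP] at this
    exact ((Nat.dvd_prime hp).mp this).resolve_left fun e => h1 (orderOf_eq_one_iff.mp e)
  have e : Subgroup.zpowers y = P :=
    Subgroup.eq_of_le_of_card_ge (by simpa using hy) (by rw [Nat.card_zpowers, o, hP])
  have k1 : g ∈ Subgroup.normalizer (P : Set G) := by
    rw [← e]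
    refine Subgroup.mem_normalizer_fintype fun n hn => ?_
    obtain ⟨k, rfl⟩ := hn
    rw [← conj_zpow, hg]
    exact Subgroup.zpow_mem _ (inv_mem (Subgroup.mem_zpowers y)) k
  have k2 : g ^ (Subgroup.centralizer (P : Set G)).relIndex (Subgroup.normalizer (P : Set G)) ∈
      Subgroup.centralizer (P : Set G) := Subgroup.pow_index_mem
    ((Subgroup.centralizer (P : Set G)).subgroupOf (Subgroup.normalizer (P : Set G))) ⟨g, k1⟩
  obtain ⟨m, hm⟩ := ho
  have h3 : ∀ k, g ^ (2 * k) * y * (g ^ (2 * k))⁻¹ = y := fun k => by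
    induction k with
    | zero => simp
    | succ k ih =>
      calc _ = g ^ (2 * k) * (g * (g * y * g⁻¹) * g⁻¹) * (g ^ (2 * k))⁻¹ := by group
        _ = _ := by rw [hg, ← conj_inv, hg, inv_inv, ih]
  have h4 := k2 y hy
  rw [hm, pow_succ'] at h4
  have h5 : y⁻¹ = y := by
    calc y⁻¹ = g * (g ^ (2 * m) * y * (g ^ (2 * m))⁻¹) * g⁻¹ := by rw [h3, hg]
      _ = (g * g ^ (2 * m) * y) * (g * g ^ (2 * m))⁻¹ := by group
      _ = y := by rw [← h4, mul_inv_cancel_right]
  have h6 : orderOf y ∣ 2 := orderOf_dvd_of_pow_eq_one (by rw [sq]; nth_rw 1 [← h5]; simp)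
  exact h2 ((Nat.prime_dvd_prime_iff_eq hp Nat.prime_two).mp (o ▸ h6))

namespace PB
variable {p : ℕ} [hp : Fact p.Prime] {P : Subgroup G} {e : ℕ} (B : PB G p P e)
include B

theorem index_mul {c : ℕ} (hc : Nat.card (Subgroup.centralizer (P : Set G)) = p * c) :
    (Subgroup.normalizer (P : Set G)).index * (p * c * e) = Nat.card G := by
  have h := Subgroup.relIndex_mul_index (Subgroup.centralizer_le_normalizer (P : Set G))
  rw [← (Subgroup.centralizer (P : Set G)).card_mul_index, ← h, hc, B.he]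
  ring

theorem index_eq (hC : Subgroup.centralizer (P : Set G) = P) {n : ℕ}
    (h : Nat.card G = n * (p * e)) : (Subgroup.normalizer (P : Set G)).index = n := by
  have := B.index_mul (c := 1) (by rw [hC, B.card, mul_one])
  rw [mul_one, h] at this
  exact Nat.eq_of_mul_eq_mul_right (Nat.mul_pos hp.out.pos B.e_pos) this

theorem ord_eq (hC : Subgroup.centralizer (P : Set G) = P) (g : G) (hg : p ∣ orderOf g) :
    orderOf g = p := orderOf_eq_of_selfcent B.card B.ind hC hg

theorem three_le (he : 1 < e) : 3 ≤ p := by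
  have := Nat.le_of_dvd (by have := hp.out.two_le; omega) B.e_dvd
  omega

theorem wt_X (he : 1 < e) {χ : IrrCharacter G} (h : χ ∈ B.X) :
    wt p e (dg χ) = ((p - 1) / e : ℕ) * B.ε χ := by
  have := B.three_le he
  rcases B.modX h with ⟨h1, h2⟩ | ⟨h1, h2⟩
  · rw [wt, if_pos h2, h1, mul_one]
  · rw [wt, if_neg (by omega), if_pos h2, h1, mul_neg_one]

theorem wt_Y (he : 1 < e) {χ : IrrCharacter G} (h : χ ∈ B.Y) : wt p e (dg χ) = -B.δ := by
  have h3 := B.three_le he
  have h4 := Nat.le_of_dvd (by omega) B.e_dvd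
  by_cases h5 : e = p - 1
  · have : (p - 1) / e = 1 := by rw [← h5, Nat.div_self (by omega)]
    rcases B.modY h with ⟨h1, h2⟩ | ⟨h1, h2⟩
    · rw [wt, if_neg (by omega), if_pos (by omega), h1, this]; rfl
    · rw [wt, if_pos (by omega), h1, this]; rfl
  · have h6 : 2 * e ≤ p - 1 := by
      obtain ⟨k, hk⟩ := B.e_dvd
      rcases k with _ | _ | k
      · omega
      · omega
      · rw [hk]; nlinarith
    rcases B.modY h with ⟨h1, h2⟩ | ⟨h1, h2⟩
    · rw [wt, if_neg (by omega), if_neg (by omega), if_pos h2, h1]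
    · rw [wt, if_neg (by omega), if_neg (by omega), if_neg (by omega), if_pos h2, h1]; rfl

theorem wt_out (he : 1 < e) {d : ℕ} (h : p ∣ d) : wt p e d = 0 := by
  have h3 := B.three_le he
  have h4 := Nat.le_of_dvd (by omega) B.e_dvd
  have := Nat.mod_eq_zero_of_dvd h
  rw [wt, if_neg (by omega), if_neg (by omega), if_neg (by omega), if_neg (by omega)]

/-- the weighted sum restricted to the block -/
theorem sum_wt (he : 1 < e) {θ : IrrCharacter G} (F : IrrCharacter G → ℂ)
    (hF : ∀ θ' ∈ B.Y, F θ' = F θ) [DecidableEq (IrrCharacter G)] :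
    ∑ χ ∈ B.X ∪ B.Y, wt p e (dg χ) * F χ =
      ((p - 1) / e : ℕ) * (∑ χ ∈ B.X, B.ε χ * F χ - B.δ * F θ) := by
  rw [Finset.sum_union B.disj, mul_sub, Finset.mul_sum,
    Finset.sum_congr rfl fun χ h => by rw [B.wt_X he h],
    Finset.sum_congr (s₁ := B.Y) rfl fun χ h => by rw [B.wt_Y he h, hF χ h], Finset.sum_const,
    B.cardY]
  simp only [Int.cast_mul, Int.cast_natCast, mul_assoc, nsmul_eq_mul, Int.cast_neg]
  ring

theorem sum_wt_univ (he : 1 < e) (hC : Subgroup.centralizer (P : Set G) = P)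
    (F : IrrCharacter G → ℂ) [DecidableEq (IrrCharacter G)] :
    ∑ χ, wt p e (dg χ) * F χ = ∑ χ ∈ B.X ∪ B.Y, wt p e (dg χ) * F χ :=
  (Finset.sum_subset (Finset.subset_univ _) fun χ _ h => by
    rw [Finset.mem_union, not_or] at h
    rw [B.wt_out he (B.dvd_of_not_mem hC h.1 h.2)]; simp).symm

theorem rel_blk (he : 1 < e) {g : G} (hg : ¬ p ∣ orderOf g) [DecidableEq (IrrCharacter G)] :
    ∑ χ ∈ B.X ∪ B.Y, wt p e (dg χ) * (χ : G → ℂ) g = 0 := by
  obtain ⟨θ, hθ⟩ := B.Y_nonempty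
  rw [B.sum_wt he (θ := θ) _ fun θ' h => B.regY _ h _ hθ g hg, B.rel θ hθ g hg, sub_self, mul_zero]

theorem rel_all (he : 1 < e) (hC : Subgroup.centralizer (P : Set G) = P) {g : G}
    (hg : ¬ p ∣ orderOf g) : ∑ χ : IrrCharacter G, wt p e (dg χ) * (χ : G → ℂ) g = 0 := by
  classical
  rw [B.sum_wt_univ he hC, B.rel_blk he hg]

theorem pair_all (he : 1 < e) (ho : Odd e) (hC : Subgroup.centralizer (P : Set G) = P) {s s' : G}
    (hs : orderOf s = 2) (hs' : orderOf s' = 2) : ∑ χ : IrrCharacter G,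
      wt p e (dg χ) * ((χ : G → ℂ) s * (χ : G → ℂ) s' / dg χ) = 0 := by
  classical
  have h3 := B.three_le he
  obtain ⟨θ, hθ⟩ := B.Y_nonempty
  obtain ⟨y, hy, o⟩ := B.exists_sing
  have y1 : p ∣ orderOf y := o ▸ dvd_rfl
  have r : ¬ p ∣ orderOf s := fun h => by have := Nat.le_of_dvd two_pos (hs ▸ h); omega
  have r' : ¬ p ∣ orderOf s' := fun h => by have := Nat.le_of_dvd two_pos (hs' ▸ h); omega
  have hF : ∀ θ' ∈ B.Y, (θ' : G → ℂ) s * (θ' : G → ℂ) s' / dg θ' =
      (θ : G → ℂ) s * (θ : G → ℂ) s' / dg θ := fun θ' h => by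
    rw [B.regY _ h _ hθ s r, B.regY _ h _ hθ s' r', B.dgY h hθ]
  rw [B.sum_wt_univ he hC, B.sum_wt he (θ := θ) _ hF]
  have := pair_sum_zero (s := s) (s' := s') (by rw [← sq, ← hs, pow_orderOf_eq_one])
    (by rw [← sq, ← hs', pow_orderOf_eq_one]) (not_isConj_inv hp.out (by omega) B.card
      (B.he ▸ ho) hy (by rintro rfl; rw [orderOf_one] at o; omega))
  rw [← Finset.sum_subset (Finset.subset_univ (B.X ∪ B.Y)) (fun χ _ h => by
      rw [Finset.mem_union, not_or] at h
      rw [B.van hC χ h.1 h.2 y y1]; simp), Finset.sum_union B.disj,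
    Finset.sum_congr rfl fun χ h => by rw [B.valX χ h _ y1],
    Finset.sum_congr (s₁ := B.Y) rfl fun χ h => by
      rw [mul_div_right_comm, dg_cast, hF χ h], ← Finset.mul_sum, ← map_sum, B.sumY y y1] at this
  rw [mul_eq_zero]
  right
  rw [← this]
  simp only [map_intCast, map_neg, dg_cast]
  rw [Finset.sum_congr rfl fun χ _ => by rw [mul_comm, ← mul_div_right_comm]]
  ring

theorem pair_blk (he : 1 < e) (ho : Odd e) (hC : Subgroup.centralizer (P : Set G) = P) {s s' : G}
    (hs : orderOf s = 2) (hs' : orderOf s' = 2) [DecidableEq (IrrCharacter G)] :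
    ∑ χ ∈ B.X ∪ B.Y, wt p e (dg χ) * ((χ : G → ℂ) s * (χ : G → ℂ) s' / dg χ) = 0 := by
  rw [← B.sum_wt_univ he hC, B.pair_all he ho hC hs hs']

theorem cnt_zero {d : ℕ} (h : p ∣ d) [DecidableEq (IrrCharacter G)] : cnt (B.X ∪ B.Y) d = 0 :=
  cnt_eq_zero.mpr fun _ k e => (Finset.mem_union.mp k).elim (fun k => B.not_dvd_X k (e ▸ h))
    fun k => B.not_dvd_Y k (e ▸ h)

theorem enum_blk [IsSimpleGroup G] (hna : ∃ a b : G, a * b ≠ b * a) [DecidableEq (IrrCharacter G)]
    {o : List ℕ} (h1 : 1 ∉ o) (h : ∀ d, d ≠ 1 → cnt (B.X ∪ B.Y) d = o.count d) :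
    ∃ L : List (IrrCharacter G), L.map dg = 1 :: o ∧ L.Nodup ∧ (∀ χ, χ ∈ L ↔ χ ∈ B.X ∨ χ ∈ B.Y) ∧
      ∀ {A : Type} [AddCommMonoid A] (f : IrrCharacter G → A),
        ∑ χ ∈ B.X ∪ B.Y, f χ = (L.map f).sum := by
  obtain ⟨L, k1, k2, k3⟩ := exists_enum_aux (1 :: o) (B.X ∪ B.Y) fun d => by
    by_cases e : d = 1
    · rw [e, cnt_one hna (Finset.mem_union.mpr B.one_mem), List.count_cons_self,
        List.count_eq_zero_of_not_mem h1]
    · rw [h d e, List.count_cons_of_ne (Ne.symm e)]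
  refine ⟨L, k1, k2, fun χ => (k3 χ).trans Finset.mem_union, fun f => ?_⟩
  rw [← List.sum_toFinset f k2]
  exact Finset.sum_congr (by ext; simp [k3]) fun _ _ => rfl

theorem mem_X (he : 1 < e) (h4 : e < p - 1) (hC : Subgroup.centralizer (P : Set G) = P)
    {χ : IrrCharacter G} (h : dg χ % p = 1 ∨ dg χ % p = p - 1) : χ ∈ B.X :=
  (B.mem_of_not_dvd hC fun k => by have := Nat.mod_eq_zero_of_dvd k; omega).resolve_right
    fun k => by have := B.modY k; omega

theorem val_sg (he : 1 < e) (hC : Subgroup.centralizer (P : Set G) = P) {χ : IrrCharacter G}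
    (h : dg χ % p = 0 ∨ dg χ % p = 1 ∨ dg χ % p = p - 1) {g : G} (hg : p ∣ orderOf g) :
    (χ : G → ℂ) g = (if dg χ % p = 0 then 0 else if dg χ % p = 1 then 1 else -1 : ℤ) := by
  have h3 := B.three_le he
  rcases h with h | h
  · rw [if_pos h, van_of_dvd hp.out B.not_sq_dvd (Nat.dvd_of_mod_eq_zero h) hg]; simp
  rw [if_neg (by omega)]
  rcases (Nat.le_of_dvd (by omega) B.e_dvd).eq_or_lt with h4 | h4
  · obtain ⟨Z, s, -, -, z1, z2, z3, -⟩ := B.full h4
    have := (z1 χ).mpr (B.mem_of_not_dvd hC fun k => by have := Nat.mod_eq_zero_of_dvd k; omega)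
    rw [z3 χ this g hg]
    rcases z2 χ this with ⟨a, b⟩ | ⟨a, b⟩
    · rw [a, if_pos b]
    · rw [a, if_neg (by omega)]
  · have := B.mem_X he h4 hC h
    rw [B.valX χ this g hg]
    rcases B.modX this with ⟨a, b⟩ | ⟨a, b⟩
    · rw [a, if_pos b]
    · rw [a, if_neg (by omega)]

theorem mem_Y (hC : Subgroup.centralizer (P : Set G) = P) {χ : IrrCharacter G}
    (h : dg χ % p ≠ 0 ∧ dg χ % p ≠ 1 ∧ dg χ % p ≠ p - 1) : χ ∈ B.Y :=
  (B.mem_of_not_dvd hC fun k => h.1 (Nat.mod_eq_zero_of_dvd k)).resolve_left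
    fun k => by have := B.modX k; omega

theorem reg_eq (hC : Subgroup.centralizer (P : Set G) = P) {χ ψ : IrrCharacter G}
    (h : dg χ % p ≠ 0 ∧ dg χ % p ≠ 1 ∧ dg χ % p ≠ p - 1) (h' : dg ψ = dg χ) {g : G}
    (hg : ¬ p ∣ orderOf g) : (ψ : G → ℂ) g = (χ : G → ℂ) g :=
  B.regY _ (B.mem_Y hC (h' ▸ h)) _ (B.mem_Y hC h) g hg

end PB

theorem not_dvd_cent_of {p : ℕ} [hp : Fact p.Prime] (h : ∀ g : G, p ∣ orderOf g → orderOf g = p)
    {x : G} (hx : ¬ p ∣ orderOf x) (h1 : x ≠ 1) :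
    ¬ p ∣ Nat.card (Subgroup.centralizer ({x} : Set G)) := fun k => by
  obtain ⟨u, hu⟩ := exists_prime_orderOf_dvd_card' p k
  rw [← Subgroup.orderOf_coe] at hu
  have c : Commute x u := u.2 x rfl
  have o := c.orderOf_mul_eq_mul_orderOf_of_coprime (by
    rw [hu]; exact ((Nat.Prime.coprime_iff_not_dvd hp.out).mpr hx).symm)
  have := h (x * u) (by rw [o, hu]; exact dvd_mul_left _ _)
  rw [o, hu] at this
  exact h1 (orderOf_eq_one_iff.mp (Nat.eq_of_mul_eq_mul_right hp.out.pos (by rw [this, one_mul])))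

/-- integers of absolute value at most `b` in a residue class -/
def rg (b m r : ℕ) : List ℤ :=
  ((List.range (2 * b + 1)).map fun k : ℕ => (k : ℤ) - b).filter fun z => z % m == r

theorem mem_rg {b m r : ℕ} {z : ℤ} (h1 : z ^ 2 < (b + 1) ^ 2) (h2 : z % m = r) : z ∈ rg b m r := by
  have := abs_lt.mp (abs_lt_of_sq_lt_sq h1 (by positivity))
  refine List.mem_filter.mpr ⟨List.mem_map.mpr ⟨(z + b).toNat, List.mem_range.mpr (by omega),
    by omega⟩, by simpa using h2⟩

section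
variable [Fintype G]

/-- elements of order `n` -/
noncomputable def ordF (G : Type*) [Group G] [Fintype G] (n : ℕ) : Finset G := by
  classical exact Finset.univ.filter fun g => orderOf g = n

/-- elements whose order is not in `L` -/
noncomputable def ordR (G : Type*) [Group G] [Fintype G] (L : List ℕ) : Finset G := by
  classical exact Finset.univ.filter fun g => orderOf g ∉ L

theorem mem_ordF {n : ℕ} {g : G} : g ∈ ordF G n ↔ orderOf g = n := by simp [ordF]

theorem mem_ordR {L : List ℕ} {g : G} : g ∈ ordR G L ↔ orderOf g ∉ L := by simp [ordR]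

theorem card_ordF (n : ℕ) : (ordF G n).card = Nat.card {g : G // orderOf g = n} := by
  classical
  rw [Nat.card_eq_fintype_card, Fintype.card_subtype]
  unfold ordF
  congr

theorem sum_split {A : Type*} [AddCommMonoid A] (L : List ℕ) (hn : L.Nodup) (F : G → A) :
    ∑ g, F g = (L.map fun n => ∑ g ∈ ordF G n, F g).sum + ∑ g ∈ ordR G L, F g := by
  classical
  induction L with
  | nil =>
    rw [List.map_nil, List.sum_nil, zero_add]
    exact Finset.sum_congr (by ext; simp [mem_ordR]) fun _ _ => rfl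
  | cons a L ih =>
    rw [ih hn.of_cons, List.map_cons, List.sum_cons, add_comm (∑ g ∈ ordF G a, F g), add_assoc,
      ← Finset.sum_union (Finset.disjoint_left.mpr fun g h1 h2 =>
        mem_ordR.mp h2 (by simp [mem_ordF.mp h1]))]
    congr 1
    refine Finset.sum_congr (Finset.ext fun g => ?_) fun _ _ => rfl
    rw [Finset.mem_union, mem_ordF, mem_ordR, mem_ordR, List.mem_cons, not_or]
    constructor
    · exact fun h => (eq_or_ne _ a).imp_right fun e => ⟨e, h⟩
    · rintro (h | h)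
      exacts [h ▸ (List.nodup_cons.mp hn).1, h.2]

theorem sum_ordF {n c : ℕ} (hc : (ordF G n).card = c) {F : G → ℤ} {a : ℤ}
    (h : ∀ g, orderOf g = n → F g = a) : ∑ g ∈ ordF G n, F g = c * a := by
  rw [Finset.sum_congr rfl fun g k => h g (mem_ordF.mp k), Finset.sum_const, hc, nsmul_eq_mul]

theorem card_ordF_one : (ordF G 1).card = 1 :=
  Finset.card_eq_one.mpr ⟨1, Finset.ext fun g => by simp [mem_ordF]⟩

theorem card_ordF_prime {p : ℕ} [Fact p.Prime] {P : Subgroup G} (hP : Nat.card P = p)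
    (hi : ¬ p ∣ P.index) :
    (ordF G p).card = (Subgroup.normalizer (P : Set G)).index * (p - 1) := by
  obtain ⟨S, rfl⟩ := exists_sylow_eq hP hi
  rw [card_ordF, H78.OrderType.card_orderOf_eq_prime fun Q =>
    (Nat.card_congr (Sylow.equiv Q S).toEquiv).trans hP]
  congr 1
  exact S.card_eq_index_normalizer

theorem card_ordF_of_conj {n : ℕ} {a : G} (ha : orderOf a = n)
    (h : ∀ g, orderOf g = n → IsConj a g) :
    (ordF G n).card = (Subgroup.centralizer ({a} : Set G)).index := by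
  rw [card_ordF, ← H6.card_isConj_eq_index]
  refine Nat.card_congr (Equiv.subtypeEquivRight fun g => ⟨h g, fun k => ?_⟩)
  obtain ⟨c, rfl⟩ := isConj_iff.mp k
  rw [← ha]; exact (MulAut.conj c).orderOf_eq a

end

end H17.Ord
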