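import Mathlib
import Cfsg.Agent.Base
import Cfsg.Agent.Lib.Ord.SC
import Cfsg.Agent.Lib.Ord.MPerm

/-! Integer versions of the column relations and of the permutation representation attached to a
rational character. -/

set_option autoImplicit false
set_option linter.unusedSectionVars false
set_option linter.style.haveILetI false

open Cfsg MulAction
open scoped ComplexConjugate

namespace H17.Ord
variable {G : Type*} [Group G] [Finite G]

theorem action_of_int [Fintype G] {χ : IrrCharacter G} {r : G → ℤ}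
    (hr : ∀ g, (χ : G → ℂ) g = r g) (hν : H87.nu (χ : G → ℂ) = 1) (hd : 3 < dg χ)
    (h3 : ∑ g, r g ^ 3 ≠ 0) (h2 : ∑ g, (r g ^ 2 - r (g * g)) ^ 2 < 8 * Nat.card G)
    (hm : ∀ ψ : IrrCharacter G, dg ψ ≤ dg χ → ψ = triv G ∨ ψ = χ) :
    ∃ H : Subgroup G, H ≠ ⊤ ∧ H.index = dg χ + 1 ∧
      ∀ g, (Nat.card (fixedBy (G ⧸ H) g) : ℤ) = 1 + r g := by
  obtain ⟨H, k1, k2⟩ := exists_index_of_alt hν hd (fun e => h3 (by
    simp only [hr] at e
    have : ((∑ g, r g ^ 3 : ℤ) : ℂ) = 0 := by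
      rw [← e]; push_cast; exact Finset.sum_congr rfl fun g _ => by ring
    exact_mod_cast this)) (by
    have : ∑ g, H84.alt (χ : G → ℂ) g * H84.alt (χ : G → ℂ) g =
        ((((∑ g, (r g ^ 2 - r (g * g)) ^ 2 : ℤ) : ℝ) / 4 : ℝ) : ℂ) := by
      push_cast
      rw [Finset.sum_div]
      exact Finset.sum_congr rfl fun g _ => by simp only [H84.alt, hr]; ring
    rw [this, Complex.ofReal_re]
    have : ((∑ g, (r g ^ 2 - r (g * g)) ^ 2 : ℤ) : ℝ) < 8 * Nat.card G := by exact_mod_cast h2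
    linarith)
  obtain ⟨k3, k4⟩ := perm_eq_of_min k1 k2 hm
  refine ⟨H, k1, k3, fun g => ?_⟩
  have := k4 g
  rw [hr] at this
  exact_mod_cast this

theorem isReal_of_int [Fintype G] {χ : G → ℂ} {r : G → ℤ} (hr : ∀ g, χ g = r g) : H87.IsReal χ :=
  H87.isReal_iff_conj.mpr fun g => by rw [hr, map_intCast]

theorem sum_sq_int [Fintype G] {χ : IrrCharacter G} {r : G → ℤ} (hr : ∀ g, (χ : G → ℂ) g = r g) :
    ∑ g, r g ^ 2 = Nat.card G := by
  have := H87.sum_sq_of_isReal χ.2 (isReal_of_int hr)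
  simp only [hr, ← sq] at this
  exact_mod_cast this

theorem deg_orth {g : G} (hg : g ≠ 1) {u : IrrCharacter G → ℤ}
    (hu : ∀ χ : IrrCharacter G, (χ : G → ℂ) g = u χ) : ∑ χ, (dg χ : ℤ) * u χ = 0 := by
  have := H6.sum_irr_one_mul hg
  simp only [hu, dg_cast] at this
  exact_mod_cast this

theorem exists_invol_col [IsSimpleGroup G] (hna : ∃ a b : G, a * b ≠ b * a) {t : G}
    (ht : orderOf t = 2) : ∃ u : IrrCharacter G → ℤ, (∀ χ : IrrCharacter G, (χ : G → ℂ) t = u χ) ∧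
      u (triv G) = 1 ∧ ∀ χ, u χ % 4 = dg χ % 4 ∧ -(dg χ : ℤ) < u χ ∧ (dg χ ≠ 1 → u χ < dg χ) := by
  have : ∀ χ : IrrCharacter G, ∃ z : ℤ, (χ : G → ℂ) t = z ∧ z % 4 = dg χ % 4 ∧ -(dg χ : ℤ) < z ∧
      (dg χ ≠ 1 → z < dg χ) := fun χ => by
    by_cases h : dg χ = 1
    · exact ⟨1, by rw [eq_triv_of_dg hna h]; simp [triv_apply], by simp [h], by simp [h],
        fun k => absurd h k⟩
    · obtain ⟨z, h1, h2, h3, h4⟩ := invol_val hna h ht
      exact ⟨z, h1, h2, h3, fun _ => h4⟩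
  choose u h1 h2 using this
  exact ⟨u, h1, by have := h1 (triv G); rw [triv_apply] at this; exact_mod_cast this.symm, h2⟩

theorem sq_le_cent {g : G} {u : IrrCharacter G → ℤ} (hu : ∀ χ : IrrCharacter G, (χ : G → ℂ) g = u χ)
    (χ : IrrCharacter G) : u χ ^ 2 ≤ Nat.card (Subgroup.centralizer ({g} : Set G)) := by
  rw [← col_sq hu]
  exact Finset.single_le_sum (f := fun χ => u χ ^ 2) (fun _ _ => sq_nonneg _) (Finset.mem_univ χ)

theorem triple_nonneg {a b c : G} {u v w : IrrCharacter G → ℤ}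
    (hu : ∀ χ : IrrCharacter G, (χ : G → ℂ) a = u χ) (hv : ∀ χ : IrrCharacter G, (χ : G → ℂ) b = v χ)
    (hw : ∀ χ : IrrCharacter G, (χ : G → ℂ) c = w χ) :
    0 ≤ ∑ χ, (u χ * v χ * w χ : ℚ) / dg χ := by
  have h := H31.classCoeff_eq a b c
  simp only [hu, hv, hw, map_intCast, dg_cast] at h
  have h2 : (H31.classCoeff a b c : ℚ) = (Subgroup.centralizer ({a} : Set G)).index *
      (Subgroup.centralizer ({b} : Set G)).index / (Nat.card G : ℚ) *
      ∑ χ, (u χ * v χ * w χ : ℚ) / dg χ := by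
    apply Rat.cast_injective (α := ℂ)
    push_cast
    exact h
  have h3 : (0 : ℚ) < (Subgroup.centralizer ({a} : Set G)).index *
      (Subgroup.centralizer ({b} : Set G)).index / (Nat.card G : ℚ) :=
    div_pos (mul_pos (Nat.cast_pos.mpr (Nat.pos_of_ne_zero Subgroup.index_ne_zero_of_finite))
      (Nat.cast_pos.mpr (Nat.pos_of_ne_zero Subgroup.index_ne_zero_of_finite)))
      (Nat.cast_pos.mpr Nat.card_pos)
  exact (mul_nonneg_iff_of_pos_left h3).mp (h2 ▸ Nat.cast_nonneg _)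

namespace PB
variable {p : ℕ} [hp : Fact p.Prime] {P : Subgroup G} {e : ℕ} (B : PB G p P e)
include B

theorem rel_int (he : 1 < e) (hC : Subgroup.centralizer (P : Set G) = P) {g : G}
    (hg : ¬ p ∣ orderOf g) {u : IrrCharacter G → ℤ}
    (hu : ∀ χ : IrrCharacter G, (χ : G → ℂ) g = u χ) : ∑ χ, wt p e (dg χ) * u χ = 0 := by
  have := B.rel_all he hC hg
  simp only [hu] at this
  exact_mod_cast this

theorem pair_int (he : 1 < e) (ho : Odd e) (hC : Subgroup.centralizer (P : Set G) = P) {s s' : G}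
    (hs : orderOf s = 2) (hs' : orderOf s' = 2) {u v : IrrCharacter G → ℤ}
    (hu : ∀ χ : IrrCharacter G, (χ : G → ℂ) s = u χ)
    (hv : ∀ χ : IrrCharacter G, (χ : G → ℂ) s' = v χ) {N : ℕ} (hN : Nat.card G = N) :
    ∑ χ, wt p e (dg χ) * (u χ * v χ * (N / dg χ : ℕ)) = 0 := by
  have := congrArg (· * (N : ℂ)) (B.pair_all he ho hC hs hs')
  simp only [hu, hv, Finset.sum_mul, zero_mul] at this
  apply Int.cast_injective (α := ℂ)
  rw [Int.cast_sum, Int.cast_zero, ← this]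
  refine Finset.sum_congr rfl fun χ _ => ?_
  rw [Int.cast_mul, Int.cast_mul, Int.cast_natCast, Nat.cast_div (hN ▸ dg_dvd χ)
    (Nat.cast_ne_zero.mpr (dg_pos χ).ne')]
  push_cast
  ring

theorem reg_int (hC : Subgroup.centralizer (P : Set G) = P) {χ ψ : IrrCharacter G}
    (h : dg χ % p ≠ 0 ∧ dg χ % p ≠ 1 ∧ dg χ % p ≠ p - 1) (h' : dg ψ = dg χ) {g : G}
    (hg : ¬ p ∣ orderOf g) {u : IrrCharacter G → ℤ}
    (hu : ∀ χ : IrrCharacter G, (χ : G → ℂ) g = u χ) : u ψ = u χ := by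
  have := B.reg_eq hC h h' hg
  rw [hu, hu] at this
  exact_mod_cast this

end PB

end H17.Ord
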