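import Mathlib
import Cfsg.Agent.Base
import Cfsg.Agent.Lib.Ord.SC
import Cfsg.Agent.Lib.Block.Column

/-! The principal block pair sum for two involutions counts the conjugates inverting a Sylow
subgroup of prime order. -/

set_option autoImplicit false
set_option linter.unusedSectionVars false
set_option linter.style.haveILetI false

open Cfsg H84 H35
open scoped ComplexConjugate

namespace H17.Ord
variable {G : Type*} [Group G] [Finite G]

/-- `a` is a conjugate of `s` inverting `P` -/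
def Inv (P : Subgroup G) (s a : G) : Prop := IsConj s a ∧ ∀ y ∈ P, a * y * a⁻¹ = y⁻¹

/-- the number of conjugates of `s` inverting `P` -/
noncomputable def nInv (P : Subgroup G) (s : G) : ℕ := Nat.card {a // Inv P s a}

variable {p : ℕ} [hp : Fact p.Prime] {P : Subgroup G}

theorem Inv.mul_mem {s s' a b : G} (ha : Inv P s a) (hb : Inv P s' b) :
    a * b ∈ Subgroup.centralizer (P : Set G) := fun y hy => by
  have h1 := hb.2 y hy
  have h2 := ha.2 y⁻¹ (inv_mem hy)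
  calc y * (a * b) = a * y⁻¹ * a⁻¹ * (a * b) := by rw [h2, inv_inv]
    _ = a * (b * y * b⁻¹) * b := by rw [h1]; group
    _ = a * b * y := by group

theorem Inv.mul_right (hP : Nat.card P = p) (h2 : p ≠ 2) {s b y : G} (hb : Inv P s b)
    (hy : y ∈ P) : Inv P s (b * y) := by
  obtain ⟨k, hk⟩ := hp.out.eq_two_or_odd'.resolve_left h2
  have h1 : y ^ (2 * k + 1) = 1 := by
    rw [← hk, ← hP]
    exact orderOf_dvd_iff_pow_eq_one.mp (Subgroup.orderOf_dvd_natCard _ hy)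
  refine ⟨hb.1.trans (isConj_iff.mpr ⟨y ^ k, ?_⟩), fun z hz => ?_⟩
  · have h3 := hb.2 (y ^ k)⁻¹ (inv_mem (pow_mem hy k))
    rw [inv_inv] at h3
    calc y ^ k * b * (y ^ k)⁻¹ = y ^ k * (b * (y ^ k)⁻¹ * b⁻¹) * b := by group
      _ = y ^ (2 * k) * b := by rw [h3]; group
      _ = b * (y ^ (2 * k))⁻¹ := by
        have h5 := hb.2 (y ^ (2 * k))⁻¹ (inv_mem (pow_mem hy _))
        rw [inv_inv] at h5
        rw [← inv_mul_cancel_right (b * (y ^ (2 * k))⁻¹) b, h5]
      _ = b * y := by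
        congr 1
        rw [inv_eq_iff_mul_eq_one, ← pow_succ, h1]
  · have : y * z * y⁻¹ = z := by
      rw [le_Cen_of_card hP hz y hy, mul_inv_cancel_right]
    calc b * y * z * (b * y)⁻¹ = b * (y * z * y⁻¹) * b⁻¹ := by group
      _ = z⁻¹ := by rw [this, hb.2 z hz]

theorem inv_of_pair (L : Log p P) {s s' a b : G} (hs : s * s = 1) (hs' : s' * s' = 1)
    (ha : IsConj s a) (hb : IsConj s' b) (hc : a * b ∈ Subgroup.centralizer (P : Set G))
    (hl : L.l (a * b) ≠ 0) : Inv P s a ∧ Inv P s' b := by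
  have a2 := H33.mul_self_of_isConj hs ha
  have b2 := H33.mul_self_of_isConj hs' hb
  have h1 := H33.inverts_pPart (p := p) a2 b2
  have h2 := pPart_mem_of_mem_Cen L.card L.ind hc
  have h3 : pPart p (a * b) ≠ 1 := fun h => hl (by rw [← L.l_pPart hc, h, L.l_one])
  have h4 : ∀ y ∈ P, a * y * a⁻¹ = y⁻¹ := fun y hy => by
    rw [eq_zpowers_of_card L.card h2 h3] at hy
    obtain ⟨k, rfl⟩ := hy
    simp only
    rw [← conj_zpow, h1, inv_zpow]
  refine ⟨⟨ha, h4⟩, hb, fun y hy => ?_⟩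
  have h5 := hc y hy
  have h6 : b = a * (a * b) := by rw [← mul_assoc, a2, one_mul]
  calc b * y * b⁻¹ = a * ((a * b) * y * (a * b)⁻¹) * a⁻¹ := by nth_rw 1 2 [h6]; group
    _ = y⁻¹ := by rw [← h5, mul_inv_cancel_right, h4 y hy]

theorem nInv_mul (L : Log p P) (h2 : p ≠ 2) (s s' : G) (j : ZMod p) :
    nInv P s * nInv P s' =
      Nat.card {q : G × G // Inv P s q.1 ∧ Inv P s' q.2 ∧ L.l (q.1 * q.2) = j} * p := by
  rw [nInv, nInv, ← Nat.card_prod]
  refine Eq.trans ?_ ((Nat.card_prod _ _).trans (congrArg _ L.card))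
  symm
  refine Nat.card_congr (Equiv.ofBijective (fun q => (⟨q.1.1.1, q.1.2.1⟩,
    ⟨q.1.1.2 * q.2, q.1.2.2.1.mul_right L.card h2 q.2.2⟩)) ⟨?_, ?_⟩)
  · rintro ⟨⟨⟨a, b⟩, ha, hb, h⟩, y⟩ ⟨⟨⟨a', b'⟩, ha', hb', h'⟩, y'⟩ e
    simp only [Prod.mk.injEq, Subtype.mk.injEq] at e ha hb h ha' hb' h' ⊢
    obtain ⟨rfl, e⟩ := e
    have k1 := L.l_mul _ (ha.mul_mem hb) _ (L.le_Cen y.2)
    have k2 := L.l_mul _ (ha.mul_mem hb') _ (L.le_Cen y'.2)
    rw [mul_assoc, e, ← mul_assoc, k2, h, h'] at k1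
    obtain rfl : y = y' := L.bij.1 (add_left_cancel k1).symm
    exact ⟨⟨rfl, mul_right_cancel e⟩, rfl⟩
  · rintro ⟨⟨a, ha⟩, b, hb⟩
    obtain ⟨y, hy⟩ := L.bij.2 (j - L.l (a * b))
    refine ⟨(⟨(a, b * y), ha, hb.mul_right L.card h2 y.2, ?_⟩, y⁻¹), by simp⟩
    simp only at hy ⊢
    rw [← mul_assoc, L.l_mul _ (ha.mul_mem hb) _ (L.le_Cen y.2), hy, add_sub_cancel]

theorem nInv_eq_zero (hP : Nat.card P = p) (h2 : p ≠ 2)
    (ho : Odd ((Subgroup.centralizer (P : Set G)).relIndex (Subgroup.normalizer (P : Set G))))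
    (s : G) : nInv P s = 0 := by
  rw [nInv, Nat.card_eq_zero]
  refine Or.inl ⟨fun ⟨a, ha⟩ => ?_⟩
  have : P ≠ ⊥ := fun h => by rw [h, Subgroup.card_bot] at hP; exact hp.out.one_lt.ne hP
  obtain ⟨⟨y, hy⟩, h1⟩ := Subgroup.ne_bot_iff_exists_ne_one.mp this
  exact not_isConj_inv hp.out h2 hP ho hy (fun h => h1 (Subtype.ext h))
    (isConj_iff.mpr ⟨a, ha.2 y hy⟩)

theorem PB.pair_sq {e : ℕ} (B : PB G p P e) (he : 1 < e) {c : ℕ}
    (hc : Nat.card (Subgroup.centralizer (P : Set G)) = p * c) {s s' : G}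
    (hs : orderOf s = 2) (hs' : orderOf s' = 2) [DecidableEq (IrrCharacter G)] :
    (((p - 1) / e : ℕ) : ℂ) * ((nInv P s * Nat.card (Subgroup.centralizer ({s} : Set G))) *
      (nInv P s' * Nat.card (Subgroup.centralizer ({s'} : Set G)))) =
    p * c * (Nat.card G * ∑ χ ∈ B.X ∪ B.Y,
      wt p e (dg χ) * ((χ : G → ℂ) s * (χ : G → ℂ) s' / dg χ)) := by
  classical
  haveI := Fintype.ofFinite G
  have h3 := B.three_le he
  obtain ⟨L⟩ := nonempty_log (P := P) B.card B.ind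
  obtain ⟨M, hM, hB⟩ := B.blk
  haveI := H33.isMaximal_of hM
  obtain ⟨θ, hθ⟩ := B.Y_nonempty
  obtain ⟨x, hx, o⟩ := B.exists_sing
  have x1 : x ≠ 1 := by rintro rfl; rw [orderOf_one] at o; omega
  have y1 : p ∣ orderOf x := o ▸ dvd_rfl
  have r : ¬ p ∣ orderOf s := fun h => by have := Nat.le_of_dvd two_pos (hs ▸ h); omega
  have r' : ¬ p ∣ orderOf s' := fun h => by have := Nat.le_of_dvd two_pos (hs' ▸ h); omega
  have s2 : s * s = 1 := by rw [← sq, ← hs, pow_orderOf_eq_one]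
  have s2' : s' * s' = 1 := by rw [← sq, ← hs', pow_orderOf_eq_one]
  have hC : Subgroup.centralizer (P : Set G) = Subgroup.centralizer {x} :=
    (isCen_of_card B.card hx x1).eq
  have lx : L.l x ≠ 0 := fun h => (L.l_eq_zero x (L.le_Cen hx)).mp h y1
  let φ : Subgroup.centralizer ({x} : Set G) →* Multiplicative (ZMod p) :=
    MonoidHom.mk' (fun g => Multiplicative.ofAdd (L.l g)) fun a b => by
      rw [← ofAdd_add, Subgroup.coe_mul, L.l_mul _ (hC.ge a.2) _ (hC.ge b.2)]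
  have hφ : ∀ g, g ∈ φ.ker ↔ L.l g = 0 := fun g => Iff.rfl
  have hi : φ.ker.index = p := by
    rw [Subgroup.index_ker, MonoidHom.range_eq_top.mpr, Subgroup.card_top,
      Nat.card_congr Multiplicative.toAdd, Nat.card_zmod]
    intro j
    obtain ⟨y, hy⟩ := L.bij.2 j.toAdd
    exact ⟨⟨y, hC.le (L.le_Cen y.2)⟩, congrArg Multiplicative.ofAdd hy⟩
  have hk : Nat.card φ.ker = c := by
    have := φ.ker.index_mul_card
    rw [hi, ← congrArg (fun H : Subgroup G => Nat.card H) hC, hc] at this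
    exact Nat.eq_of_mul_eq_mul_left hp.out.pos this
  have hpc : ¬ p ∣ Nat.card φ.ker := fun h => B.not_sq_dvd (by
    rw [hk] at h
    exact (sq p ▸ Nat.mul_dvd_mul_left p h).trans (hc ▸ Subgroup.card_subgroup_dvd_card _))
  have k1 := H33.blockPart_principal_section hM (u := x) ⟨1, by rw [pow_one, o]⟩
    hpc ⟨1, by rw [hi, pow_one]⟩ (f := fun g => (H31.classCoeff s s' g : ℂ))
    (H31.isClassFunction_classCoeff s s')
  have k2 : ∑ n : φ.ker, H31.classCoeff s s' (x * ((n : Subgroup.centralizer ({x} : Set G)) : G)) =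
      Nat.card {q : G × G // Inv P s q.1 ∧ Inv P s' q.2 ∧ L.l (q.1 * q.2) = L.l x} := by
    unfold H31.classCoeff
    rw [← Nat.card_sigma]
    refine Nat.card_congr (Equiv.ofBijective (fun q => ⟨q.2.1, ?_⟩) ⟨?_, ?_⟩)
    · obtain ⟨n, ⟨a, b⟩, ha, hb, h⟩ := q
      have c1 : a * b ∈ Subgroup.centralizer (P : Set G) :=
        h ▸ mul_mem (L.le_Cen hx) (hC.ge n.1.2)
      have c2 : L.l (a * b) = L.l x := by
        simp only at h
        rw [h, L.l_mul _ (L.le_Cen hx) _ (hC.ge n.1.2), (hφ _).mp n.2, add_zero]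
      have := inv_of_pair L s2 s2' ha hb c1 (c2 ▸ lx)
      exact ⟨this.1, this.2, c2⟩
    · rintro ⟨n, q, h⟩ ⟨n', q', h'⟩ e
      obtain rfl : q = q' := congrArg Subtype.val e
      obtain rfl : n = n' := Subtype.ext (Subtype.ext (mul_left_cancel (h.2.2.symm.trans h'.2.2)))
      rfl
    · rintro ⟨⟨a, b⟩, ha, hb, h⟩
      have c1 := mul_mem (inv_mem (L.le_Cen hx)) (ha.mul_mem hb)
      refine ⟨⟨⟨⟨x⁻¹ * (a * b), hC.le c1⟩, (hφ _).mpr ?_⟩, (a, b), ha.1, hb.1, by simp⟩, rfl⟩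
      have := L.l_mul _ (L.le_Cen hx) _ c1
      rw [mul_inv_cancel_left, h] at this
      exact left_eq_add.mp this
  have k3 := congrArg (Nat.cast : ℕ → ℂ) (nInv_mul L (by omega) s s' (L.l x))
  have hF : ∀ θ' ∈ B.Y, (θ' : G → ℂ) s * (θ' : G → ℂ) s' / dg θ' =
      (θ : G → ℂ) s * (θ : G → ℂ) s' / dg θ := fun θ' h => by
    rw [B.regY _ h _ hθ s r, B.regY _ h _ hθ s' r', B.dgY h hθ]
  rw [← Nat.cast_sum, k2, H33.blockPart_classCoeff, hk,
    show bset (principalBlock M G) = B.X ∪ B.Y by ext χ; rw [mem_bset, hB, Finset.mem_union],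
    Finset.sum_union B.disj, Finset.sum_congr rfl fun χ h => by
      rw [H33.irr_conj_of_mul_self χ s2, H33.irr_conj_of_mul_self χ s2', B.valX χ h _ y1,
        dg_cast, mul_comm, mul_div_assoc],
    Finset.sum_congr (s₁ := B.Y) rfl fun χ h => by
      rw [H33.irr_conj_of_mul_self χ s2, H33.irr_conj_of_mul_self χ s2', mul_div_right_comm,
        dg_cast, hF χ h], ← Finset.mul_sum, B.sumY x y1] at k1
  rw [B.sum_wt he (θ := θ) _ hF]
  have i1 := congrArg (Nat.cast : ℕ → ℂ) (Subgroup.centralizer ({s} : Set G)).index_mul_card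
  have i2 := congrArg (Nat.cast : ℕ → ℂ) (Subgroup.centralizer ({s'} : Set G)).index_mul_card
  have g0 : (Nat.card G : ℂ) ≠ 0 := H6.card_ne_zero
  push_cast at k3 i1 i2
  rw [div_mul_eq_mul_div, ← mul_div_assoc, div_eq_iff g0] at k1
  apply mul_left_cancel₀ g0
  generalize (Nat.card G : ℂ) = N at *
  generalize ∑ χ ∈ B.X, (B.ε χ : ℂ) * ((χ : G → ℂ) s * (χ : G → ℂ) s' / dg χ) = Q at *
  generalize (θ : G → ℂ) s * (θ : G → ℂ) s' / dg θ = R at *
  generalize (Nat.card (Subgroup.centralizer ({s} : Set G)) : ℂ) = C1 at *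
  generalize (Nat.card (Subgroup.centralizer ({s'} : Set G)) : ℂ) = C2 at *
  generalize ((Subgroup.centralizer ({s} : Set G)).index : ℂ) = I1 at *
  generalize ((Subgroup.centralizer ({s'} : Set G)).index : ℂ) = I2 at *
  linear_combination (((p - 1) / e : ℕ) : ℂ) * (N * C1 * C2 * k3 - p * C1 * C2 * k1 +
    p * c * (Q - B.δ * R) * (I2 * C2 * i1 + N * i2))

end H17.Ord
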