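import Mathlib
import Cfsg.Agent.Base
import Cfsg.Agent.Lib.Ord.Pair
import Cfsg.Agent.Lib.Ord.Act

/-! A verified search for the values of an involution on a principal block of defect one. -/

set_option autoImplicit false
set_option linter.unusedSectionVars false
set_option linter.style.haveILetI false

open Cfsg

namespace H17.Ord

/-- call by value -/
noncomputable def fN {α : Type} (x : ℕ) (f : ℕ → α) : α :=
  Nat.rec (motive := fun _ => α) (f 0) (fun k _ => f k) (Nat.succ x)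

theorem fN_eq {α : Type} (x : ℕ) (f : ℕ → α) : fN x f = f x := rfl

noncomputable def fI {α : Type} (x : ℤ) (f : ℤ → α) : α :=
  Int.rec (motive := fun _ => α) (fun n => fN n fun n => f (Int.ofNat n))
    (fun n => fN n fun n => f (Int.negSucc n)) x

theorem fI_eq {α : Type} (x : ℤ) (f : ℤ → α) : fI x f = f x := by cases x <;> rfl

noncomputable def fL {α : Type} (l : List ℤ) : (List ℤ → α) → α :=
  List.rec (motive := fun _ => (List ℤ → α) → α) (fun k => k [])
    (fun a _ ih k => fI a fun a' => ih fun t => k (a' :: t)) l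

theorem fL_eq {α : Type} (l : List ℤ) (k : List ℤ → α) : fL l k = k l := by
  induction l generalizing k with
  | nil => rfl
  | cons a l ih => exact (fI_eq a fun a' => fL l fun t => k (a' :: t)).trans (ih _)

noncomputable def fR {α : Type} (w g : ℕ → ℤ) (V : ℕ → List ℤ) (l : List ℕ) :
    (List (ℕ × ℤ × ℤ × List ℤ) → α) → α :=
  List.rec (motive := fun _ => (List (ℕ × ℤ × ℤ × List ℤ) → α) → α) (fun k => k [])
    (fun a _ ih k => fN a fun d => fI (w d) fun x => fI (g d) fun y => fL (V d) fun Z =>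
      ih fun t => k ((d, x, y, Z) :: t)) l

theorem fR_eq {α : Type} (w g : ℕ → ℤ) (V : ℕ → List ℤ) (l : List ℕ)
    (k : List (ℕ × ℤ × ℤ × List ℤ) → α) :
    fR w g V l k = k (l.map fun d => (d, w d, g d, V d)) := by
  induction l generalizing k with
  | nil => rfl
  | cons a l ih =>
    change (fI (w a) fun x => fI (g a) fun y => fL (V a) fun Z =>
      fR w g V l fun t => k ((a, x, y, Z) :: t)) = _
    rw [fI_eq, fI_eq, fL_eq, ih]; rfl

noncomputable def dfs {α : Type} (K : List (ℕ × ℤ) → ℕ → ℤ → ℤ → List α) :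
    List (ℕ × ℤ × ℤ × List ℤ) → List (ℕ × ℤ) → ℕ → ℤ → ℤ → List α
  | [], acc, b, s, q => K acc b s q
  | (d, x, y, Z) :: R, acc, b, s, q => Z.foldr (fun v l =>
      bif Nat.ble (Nat.mul v.natAbs v.natAbs) b then
        List.append (fN (Nat.sub b (Nat.mul v.natAbs v.natAbs)) fun b' =>
          fI (Int.add s (Int.mul x v)) fun s' => fI (Int.add q (Int.mul y (Int.mul v v))) fun q' =>
            dfs K R ((d, v) :: acc) b' s' q') l else l) []

theorem mem_foldr {α β : Type} {c : β → Bool} {F : β → List α} {V : List β} {v : β} (hv : v ∈ V)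
    (hc : c v = true) {x : α} (hx : x ∈ F v) :
    x ∈ V.foldr (fun v l => bif c v then List.append (F v) l else l) [] := by
  induction V with
  | nil => exact absurd hv List.not_mem_nil
  | cons a V ih =>
    rw [List.foldr_cons]
    rcases List.mem_cons.mp hv with rfl | h
    · rw [hc]; exact List.mem_append_left _ hx
    · cases c a
      · exact ih h
      · exact List.mem_append_right _ (ih h)

theorem mem_dfs {α : Type} {K : List (ℕ × ℤ) → ℕ → ℤ → ℤ → List α} {w g : ℕ → ℤ}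
    {V : ℕ → List ℤ} {x : α} (A : List (ℕ × ℤ)) (h : ∀ a ∈ A, a.2 ∈ V a.1) :
    ∀ acc (b : ℕ) s q, x ∈ K (A.reverse ++ acc) b (s + (A.map fun a => w a.1 * a.2).sum)
      (q + (A.map fun a => g a.1 * (a.2 * a.2)).sum) →
      x ∈ dfs K (A.map fun a => (a.1, w a.1, g a.1, V a.1)) acc
        (b + (A.map fun a => a.2.natAbs * a.2.natAbs).sum) s q := by
  induction A with
  | nil => intro acc b s q hx; simpa [dfs] using hx
  | cons a A ih =>
    intro acc b s q hx
    rw [List.map_cons, dfs]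
    refine mem_foldr (h a List.mem_cons_self) ?_ ?_
    · rw [Nat.ble_eq, List.map_cons, List.sum_cons]
      exact le_add_left (Nat.le_add_right _ _)
    · have := ih (fun a ha => h a (List.mem_cons_of_mem _ ha)) (a :: acc) b (s + w a.1 * a.2)
        (q + g a.1 * (a.2 * a.2)) (by simpa [add_assoc] using hx)
      rw [fN_eq, fI_eq, fI_eq, List.map_cons, List.sum_cons, Nat.sub_eq, Nat.mul_eq, add_comm (a.2.natAbs * _),
        ← add_assoc, Nat.add_sub_cancel]
      exact this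

/-- multiples of `g` of absolute value at most `b` that are congruent to `d` modulo `4` -/
def mults (g b d : ℕ) : List ℤ :=
  ((List.range (2 * (b / g) + 1)).filter fun k => (g * k + 3 * (g * (b / g))) % 4 == d % 4).map
    fun k => Int.subNatNat (g * k) (g * (b / g))

theorem mem_mults {g b d : ℕ} (hg : 0 < g) {z : ℤ} (h1 : (g : ℤ) ∣ z) (h2 : z.natAbs ≤ b)
    (h3 : z % 4 = d % 4) : z ∈ mults g b d := by
  obtain ⟨j, rfl⟩ := h1
  rw [Int.natAbs_mul, Int.natAbs_natCast] at h2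
  have h4 : j.natAbs ≤ b / g := (Nat.le_div_iff_mul_le hg).mpr (by rwa [mul_comm])
  obtain ⟨k, hk⟩ : ∃ k : ℕ, j = k - (b / g : ℕ) := ⟨(j + (b / g : ℕ)).toNat, by omega⟩
  refine List.mem_map.mpr ⟨k, List.mem_filter.mpr ⟨List.mem_range.mpr (by omega), ?_⟩, ?_⟩
  · rw [hk, mul_sub, ← Nat.cast_mul, ← Nat.cast_mul] at h3
    rw [beq_iff_eq]
    omega
  · rw [Int.subNatNat_eq_coe, hk]; push_cast; ring

def cnd (N C : ℕ) (f : ℕ → ℤ → Bool) (d : ℕ) : List ℤ :=
  (mults (d / Nat.gcd d (N / C)) (min (d - 1) (Nat.sqrt C)) d).filter (f d)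

def isX (p d : ℕ) : Bool := d % p == 1 || d % p == p - 1

def nonE (p e : ℕ) (o : List ℕ) : List ℕ := if e = p - 1 then o.tail else o.filter (isX p)

def excD (p e : ℕ) (o : List ℕ) : ℕ :=
  if e = p - 1 then o.headD 0 else (o.filter fun d => !isX p d).headD 0

def good (p e : ℕ) (o : List ℕ) : Bool :=
  (nonE p e o ++ List.replicate ((p - 1) / e) (excD p e o)).isPerm o &&
    ((e == p - 1 || !isX p (excD p e o)) && !o.contains 1)

def lin (p e : ℕ) (A : List (ℕ × ℤ)) : ℤ := (A.map fun x => wt p e x.1 * x.2).sum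

def quad (N p e : ℕ) (A : List (ℕ × ℤ)) : ℤ :=
  (A.map fun x => wt p e x.1 * (x.2 * x.2 * (N / x.1 : ℕ))).sum

def nrm (A : List (ℕ × ℤ)) : ℤ := (A.map fun x => x.2 * x.2).sum

def sqOK (t e C : ℕ) (q : ℤ) : Bool :=
  if e % 2 = 1 then q == 0 else (t * (Nat.sqrt (q.toNat / (t * C * C)) * C) ^ 2 : ℕ) == q

theorem sqOK_of {t e C m : ℕ} (ht : 0 < t) (hC : 0 < C) (h : Odd e → m = 0) {q : ℤ}
    (hq : (t * (m * C) ^ 2 : ℕ) = q) : sqOK t e C q = true := by
  unfold sqOK
  split_ifs with k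
  · rw [← hq, h (Nat.odd_iff.mpr k)]; simp
  · rw [← hq, Int.toNat_natCast, show t * (m * C) ^ 2 = t * C * C * (m * m) by ring,
      Nat.mul_div_cancel_left _ (by positivity), Nat.sqrt_eq, beq_iff_eq]
    congr 1; ring

noncomputable def leaf (pc t e C D : ℕ) (w g : ℤ) (Z : List ℤ) (acc : List (ℕ × ℤ)) (b : ℕ)
    (s q : ℤ) : List (List (ℕ × ℤ)) :=
  fI (Int.ediv s w) fun z => bif Z.contains z && (Int.mul w z == s &&
      (Nat.ble (t * (z.natAbs * z.natAbs)) b && sqOK t e C (pc * (q + g * (z * z))))) then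
    [acc.reverse ++ List.replicate t (D, z)] else []

noncomputable def cols (N p e c C : ℕ) (f : ℕ → ℤ → Bool) (o : List ℕ) : List (List (ℕ × ℤ)) :=
  fN (excD p e o) fun D => fN ((p - 1) / e) fun t => fL (cnd N C f D) fun Z =>
    bif Z.isEmpty then [] else
    fI (-(t * wt p e D)) fun w => fI (t * (wt p e D * (N / D : ℕ))) fun g =>
      fR (wt p e) (fun d => wt p e d * (N / d : ℕ)) (cnd N C f) (nonE p e o) fun R =>
        dfs (leaf (p * c) t e C D w g Z) R [] (C - 1) t (t * N)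

theorem mem_cols_of {N p e c C : ℕ} {f : ℕ → ℤ → Bool} {o : List ℕ} {A : List (ℕ × ℤ)} {z : ℤ}
    (h1 : A.map (·.1) = nonE p e o) (h2 : ∀ a ∈ A, a.2 ∈ cnd N C f a.1)
    (h3 : z ∈ cnd N C f (excD p e o)) (h4 : ((p - 1) / e : ℕ) * wt p e (excD p e o) ≠ 0)
    (h5 : ((p - 1) / e : ℕ) + lin p e (A ++ List.replicate ((p - 1) / e) (excD p e o, z)) = 0)
    (h6 : 1 + nrm (A ++ List.replicate ((p - 1) / e) (excD p e o, z)) ≤ C)
    (h7 : sqOK ((p - 1) / e) e C (p * c * (((p - 1) / e : ℕ) * N +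
      quad N p e (A ++ List.replicate ((p - 1) / e) (excD p e o, z)))) = true) :
    A ++ List.replicate ((p - 1) / e) (excD p e o, z) ∈ cols N p e c C f o := by
  simp only [lin, nrm, quad, List.map_append, List.sum_append, List.map_replicate,
    List.sum_replicate, nsmul_eq_mul] at h5 h6 h7
  have k1 : (((A.map fun a => a.2.natAbs * a.2.natAbs).sum : ℕ) : ℤ) =
      (A.map fun a => a.2 * a.2).sum := by
    rw [Nat.cast_list_sum, List.map_map]
    congr 2
    funext a
    simp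
  have k2 : ((((p - 1) / e) * (z.natAbs * z.natAbs) : ℕ) : ℤ) = ((p - 1) / e : ℕ) * (z * z) := by
    rw [Nat.cast_mul, Int.natAbs_mul_self]
  have := mem_dfs (K := leaf (p * c) ((p - 1) / e) e C (excD p e o)
      (-(((p - 1) / e : ℕ) * wt p e (excD p e o)))
      (((p - 1) / e : ℕ) * (wt p e (excD p e o) * (N / excD p e o : ℕ))) (cnd N C f (excD p e o)))
    (w := wt p e) (g := fun d => wt p e d * (N / d : ℕ)) (V := cnd N C f)
    (x := A ++ List.replicate ((p - 1) / e) (excD p e o, z)) A h2 []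
    (C - 1 - (A.map fun a => a.2.natAbs * a.2.natAbs).sum) ((p - 1) / e : ℕ)
    (((p - 1) / e : ℕ) * N) ?_
  · rw [cols, fN_eq, fN_eq, fL_eq, List.isEmpty_eq_false_iff_exists_mem.mpr ⟨z, h3⟩, cond_false,
      fI_eq, fI_eq, fR_eq, ← h1, List.map_map]
    rw [Nat.sub_add_cancel (by omega)] at this
    exact this
  · have e1 : ((p - 1) / e : ℕ) + (A.map fun a => wt p e a.1 * a.2).sum =
        -(((p - 1) / e : ℕ) * wt p e (excD p e o)) * z := by linarith
    have e2 : Int.ediv (-(((p - 1) / e : ℕ) * wt p e (excD p e o)) * z)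
        (-(((p - 1) / e : ℕ) * wt p e (excD p e o))) = z :=
      Int.mul_ediv_cancel_left z (neg_ne_zero.mpr h4)
    rw [leaf, fI_eq, e1, e2, List.contains_iff_mem.mpr h3, Int.mul_def, beq_self_eq_true,
      Nat.ble_eq.mpr (by omega), Bool.true_and, Bool.true_and, Bool.true_and]
    rw [show sqOK _ _ _ _ = true from ?_]
    · simp
    · rw [← h7]
      congr 1
      have : (A.map fun a => wt p e a.1 * (N / a.1 : ℕ) * (a.2 * a.2)) =
          A.map fun x => wt p e x.1 * (x.2 * x.2 * (N / x.1 : ℕ)) :=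
        List.map_congr_left fun a _ => by ring
      rw [this]; push_cast; ring

variable {G : Type*} [Group G] [Finite G]

/-- degree and value -/
noncomputable def pr (u : IrrCharacter G → ℤ) (χ : IrrCharacter G) : ℕ × ℤ := (dg χ, u χ)

theorem nrm_le {s : G} {u : IrrCharacter G → ℤ} (hu : ∀ χ : IrrCharacter G, (χ : G → ℂ) s = u χ)
    {L : List (IrrCharacter G)} (hn : L.Nodup) (h1 : triv G ∉ L) :
    1 + nrm (L.map (pr u)) ≤ Nat.card (Subgroup.centralizer ({s} : Set G)) := by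
  classical
  have k : u (triv G) = 1 := by
    have := hu (triv G)
    rw [triv_apply] at this
    exact_mod_cast this.symm
  rw [← col_sq hu]
  refine le_trans (le_of_eq ?_) (Finset.sum_le_sum_of_subset_of_nonneg
    (Finset.subset_univ (triv G :: L).toFinset) fun _ _ _ => sq_nonneg _)
  rw [List.sum_toFinset _ (List.nodup_cons.mpr ⟨h1, hn⟩), List.map_cons, List.sum_cons, k, nrm,
    List.map_map]
  simp only [sq]; rfl

theorem mem_cnd [IsSimpleGroup G] (hna : ∃ a b : G, a * b ≠ b * a) {N C : ℕ} (hG : Nat.card G = N)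
    {s : G} (hs : orderOf s = 2) (hC : Nat.card (Subgroup.centralizer ({s} : Set G)) = C)
    {u : IrrCharacter G → ℤ} (hu : ∀ χ : IrrCharacter G, (χ : G → ℂ) s = u χ)
    {f : ℕ → ℤ → Bool} {χ : IrrCharacter G} (h1 : dg χ ≠ 1) (hf : f (dg χ) (u χ) = true) :
    u χ ∈ cnd N C f (dg χ) := by
  obtain ⟨z, z1, z2, z3, z4⟩ := invol_val hna h1 hs
  obtain rfl : z = u χ := by exact_mod_cast z1.symm.trans (hu χ)
  have k1 := sq_le_cent hu χ
  have k2 := dvd_central χ (hu χ)
  have k3 : (Subgroup.centralizer ({s} : Set G)).index = N / C := by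
    rw [← hG, ← hC, ← (Subgroup.centralizer ({s} : Set G)).index_mul_card,
      Nat.mul_div_cancel _ Nat.card_pos]
  rw [hC] at k1
  have d0 := dg_pos χ
  have g0 := Nat.gcd_pos_of_pos_left (N / C) d0
  refine List.mem_filter.mpr ⟨mem_mults (Nat.div_pos (Nat.gcd_le_left _ d0) g0) ?_ ?_ z2, hf⟩
  · rw [k3, ← Int.natAbs_dvd_natAbs, Int.natAbs_mul, Int.natAbs_natCast, Int.natAbs_natCast] at k2
    rw [← Int.natAbs_dvd_natAbs, Int.natAbs_natCast]
    refine (Nat.coprime_div_gcd_div_gcd g0).dvd_of_dvd_mul_left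
      (Nat.dvd_of_mul_dvd_mul_left g0 ?_)
    rwa [← mul_assoc, Nat.mul_div_cancel' (Nat.gcd_dvd_left _ _),
      Nat.mul_div_cancel' (Nat.gcd_dvd_right _ _)]
  · refine le_min (by omega) (Nat.le_sqrt'.mpr ?_)
    zify
    rwa [sq_abs]

variable {p : ℕ} [hp : Fact p.Prime] {P : Subgroup G} {e : ℕ}

theorem PB.mem_cols [IsSimpleGroup G] (B : PB G p P e) (hna : ∃ a b : G, a * b ≠ b * a)
    (he : 1 < e) {N c C : ℕ} (hG : Nat.card G = N)
    (hc : Nat.card (Subgroup.centralizer (P : Set G)) = p * c) [DecidableEq (IrrCharacter G)]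
    {o : List ℕ} (h : ∀ d, d ≠ 1 → cnt (B.X ∪ B.Y) d = o.count d) (hg : good p e o = true)
    {s : G} (hs : orderOf s = 2) (hC : Nat.card (Subgroup.centralizer ({s} : Set G)) = C)
    {u : IrrCharacter G → ℤ} (hu : ∀ χ : IrrCharacter G, (χ : G → ℂ) s = u χ)
    {f : ℕ → ℤ → Bool} (hf : ∀ χ, χ ∈ B.X ∨ χ ∈ B.Y → f (dg χ) (u χ) = true) :
    ∃ L : List (IrrCharacter G), L.Nodup ∧ (∀ χ, χ ∈ L ↔ (χ ∈ B.X ∨ χ ∈ B.Y) ∧ χ ≠ triv G) ∧
      L.map (pr u) ∈ cols N p e c C f o := by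
  simp only [good, Bool.and_eq_true, List.isPerm_iff, Bool.or_eq_true, beq_iff_eq,
    Bool.not_eq_true', List.contains_eq_mem, decide_eq_false_iff_not] at hg
  obtain ⟨g1, g2, g3⟩ := hg
  have h3 := B.three_le he
  have t0 : 0 < (p - 1) / e := Nat.div_pos (Nat.le_of_dvd (by omega) B.e_dvd) (by omega)
  have r : ¬ p ∣ orderOf s := fun h => by have := Nat.le_of_dvd two_pos (hs ▸ h); omega
  obtain ⟨L, l1, l2, l3, l4⟩ := B.enum_blk hna (fun k => g3 (g1.subset k))
    fun d hd => (h d hd).trans (g1.count_eq d).symm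
  obtain ⟨a, L, rfl, a1, l0⟩ := List.map_eq_cons_iff.mp l1
  obtain rfl := eq_triv_of_dg hna a1
  obtain ⟨L1, L2, rfl, m1, m2⟩ := List.map_eq_append_iff.mp l0
  obtain ⟨n1, n2⟩ := List.nodup_cons.mp l2
  have ut : u (triv G) = 1 := by
    have := hu (triv G)
    rw [triv_apply] at this
    exact_mod_cast this.symm
  have hm : ∀ χ ∈ L1 ++ L2, u χ ∈ cnd N C f (dg χ) := fun χ hχ =>
    mem_cnd hna hG hs hC hu (fun k => n1 (eq_triv_of_dg hna k ▸ hχ))
      (hf χ ((l3 χ).mp (List.mem_cons_of_mem _ hχ)))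
  have len : L2.length = (p - 1) / e := by simpa using congrArg List.length m2
  obtain ⟨θ, hθ⟩ := List.exists_mem_of_length_pos (len ▸ t0)
  have d2 : ∀ χ ∈ L2, dg χ = excD p e o := fun χ hχ =>
    List.eq_of_mem_replicate (m2 ▸ List.mem_map_of_mem hχ)
  have e2 : L2.map (pr u) = List.replicate ((p - 1) / e) (excD p e o, u θ) := by
    refine List.eq_replicate_iff.mpr ⟨by simpa using len, fun x hx => ?_⟩
    obtain ⟨χ, hχ, rfl⟩ := List.mem_map.mp hx
    refine Prod.ext (d2 χ hχ) ?_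
    rcases g2 with g2 | g2
    · rw [g2, Nat.div_self (by omega)] at len
      obtain ⟨a, rfl⟩ := List.length_eq_one_iff.mp len
      rw [List.mem_singleton.mp hχ, List.mem_singleton.mp hθ]; rfl
    · have : ∀ χ ∈ L2, χ ∈ B.Y := fun χ hχ =>
        ((l3 χ).mp (List.mem_cons_of_mem _ (List.mem_append_right _ hχ))).resolve_left fun k => by
          have := B.modX k
          rw [d2 χ hχ] at this
          simp only [isX, Bool.or_eq_false_iff, beq_eq_false_iff_ne] at g2
          omega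
      have := B.regY _ (this χ hχ) _ (this θ hθ) s r
      rw [hu, hu] at this
      exact_mod_cast this
  have w1 : wt p e 1 = ((p - 1) / e : ℕ) := by rw [wt, if_pos (Nat.mod_eq_of_lt (by omega))]
  have nr := nrm_le hu n2 n1
  rw [hC] at nr
  refine ⟨L1 ++ L2, n2, fun χ => ⟨fun k => ⟨(l3 χ).mp (List.mem_cons_of_mem _ k),
    fun k' => n1 (k' ▸ k)⟩, fun k => (List.mem_cons.mp ((l3 χ).mpr k.1)).resolve_left k.2⟩, ?_⟩
  have e3 := List.map_append (f := pr u) (l₁ := L1) (l₂ := L2)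
  rw [e2] at e3
  rw [e3]
  refine mem_cols_of (by rw [List.map_map, ← m1]; rfl) (fun a ha => ?_)
    (d2 θ hθ ▸ hm θ (List.mem_append_right _ hθ)) (mul_ne_zero (by omega) ?_) ?_ (e3 ▸ nr) ?_
  · obtain ⟨χ, hχ, rfl⟩ := List.mem_map.mp ha
    exact hm χ (List.mem_append_left _ hχ)
  · rw [← d2 θ hθ]
    rcases (l3 θ).mp (List.mem_cons_of_mem _ (List.mem_append_right _ hθ)) with k | k
    · rw [B.wt_X he k]
      exact mul_ne_zero (by omega) (by rcases B.sgn θ k with k | k <;> omega)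
    · rw [B.wt_Y he k]
      rcases B.dsgn with k | k <;> omega
  · have k := B.rel_blk he r
    simp only [hu] at k
    have k' : ∑ χ ∈ B.X ∪ B.Y, wt p e (dg χ) * u χ = 0 := by exact_mod_cast k
    rw [l4, List.map_cons, List.sum_cons, dg_triv, w1, ut, mul_one] at k'
    rw [← e3, lin, List.map_map]
    exact k'
  · rw [← e3]
    refine sqOK_of (m := nInv P s) t0 (hC ▸ Nat.card_pos)
      (fun k => nInv_eq_zero B.card (by omega) (B.he ▸ k) s) ?_
    have k := B.pair_sq he hc hs hs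
    rw [hC, Finset.mul_sum, Finset.sum_congr rfl fun χ _ => show _ = ((wt p e (dg χ) *
      (u χ * u χ * (N / dg χ : ℕ)) : ℤ) : ℂ) by
        rw [hu, Int.cast_mul, Int.cast_mul, Int.cast_mul, Int.cast_natCast,
          Nat.cast_div (hG ▸ dg_dvd χ) (Nat.cast_ne_zero.mpr (dg_pos χ).ne'), hG]; ring,
      ← Int.cast_sum, l4, List.map_cons, List.sum_cons, dg_triv, w1, ut, Nat.div_one] at k
    have k1 : ((L1 ++ L2).map fun χ => wt p e (dg χ) * (u χ * u χ * (N / dg χ : ℕ))).sum =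
        quad N p e ((L1 ++ L2).map (pr u)) := by
      rw [quad, List.map_map]; rfl
    rw [k1, one_mul, one_mul, ← sq] at k
    apply Int.cast_injective (α := ℂ)
    push_cast at k ⊢
    exact k

def subm (q : ℕ) (B A : List (ℕ × ℤ)) : Bool :=
  B.all fun x => x.1 % q == 0 || decide (B.count x ≤ A.count x)

theorem subm_of (u : IrrCharacter G → ℤ) {q : ℕ} {L L' : List (IrrCharacter G)} (hn : L.Nodup)
    (h : ∀ χ ∈ L, ¬ q ∣ dg χ → χ ∈ L') : subm q (L.map (pr u)) (L'.map (pr u)) = true := by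
  classical
  refine List.all_eq_true.mpr fun x _ => ?_
  rw [Bool.or_eq_true, beq_iff_eq, decide_eq_true_eq, or_iff_not_imp_left]
  intro k
  have h1 : (L.filter fun χ => pr u χ == x).Subperm L' := List.subperm_of_subset (hn.filter _)
    fun χ hχ => by
      obtain ⟨a, b⟩ := List.mem_filter.mp hχ
      refine h χ a fun c => k ?_
      rw [← beq_iff_eq.mp b]
      exact Nat.mod_eq_zero_of_dvd c
  have h2 := h1.countP_le fun χ => pr u χ == x
  rw [List.countP_filter] at h2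
  simpa [List.count, List.countP_map, Function.comp_def] using h2

theorem nrm_le₂ {s : G} {u : IrrCharacter G → ℤ} (hu : ∀ χ : IrrCharacter G, (χ : G → ℂ) s = u χ)
    {q : ℕ} {L L' : List (IrrCharacter G)} (hn : L.Nodup) (h1 : triv G ∉ L) (hn' : L'.Nodup)
    (h1' : triv G ∉ L') (h : ∀ χ ∈ L, ¬ q ∣ dg χ) :
    1 + nrm (L.map (pr u)) + nrm ((L'.map (pr u)).filter fun x => x.1 % q == 0) ≤
      Nat.card (Subgroup.centralizer ({s} : Set G)) := by
  have := nrm_le hu (L := L ++ L'.filter fun χ => dg χ % q == 0)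
    (hn.append (hn'.filter _) fun χ a b => h χ a
      (Nat.dvd_of_mod_eq_zero (beq_iff_eq.mp (List.mem_filter.mp b).2)))
    fun k => (List.mem_append.mp k).elim h1 fun k => h1' (List.mem_filter.mp k).1
  rw [List.filter_map]
  simp only [nrm, List.map_append, List.sum_append] at this ⊢
  rw [add_assoc]
  exact this

def subd (q : ℕ) (b a : List ℕ) : Bool :=
  b.all fun d => d % q == 0 || decide (b.count d ≤ a.count d)

theorem subd_of {q : ℕ} {S : Finset (IrrCharacter G)} {a b : List ℕ} (h1 : 1 ∉ b)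
    (hb : ∀ d, d ≠ 1 → cnt S d = b.count d)
    (ha : ∀ d, d ≠ 1 → ¬ q ∣ d → cnt (G := G) Finset.univ d = a.count d) : subd q b a = true := by
  refine List.all_eq_true.mpr fun d hd => ?_
  rw [Bool.or_eq_true, beq_iff_eq, decide_eq_true_eq, or_iff_not_imp_left]
  intro k
  have : d ≠ 1 := fun e => h1 (e ▸ hd)
  rw [← hb d this, ← ha d this fun c => k (Nat.mod_eq_zero_of_dvd c)]
  exact cnt_mono (Finset.subset_univ _) d

theorem exists_sing_pow {q : ℕ} (hq : q.Prime) (h2 : q ≠ 2) {s : G} (hs : orderOf s = 2)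
    (h : q ∣ Nat.card (Subgroup.centralizer ({s} : Set G))) :
    ∃ g : G, q ∣ orderOf g ∧ g ^ q ^ 1 = s := by
  haveI := Fact.mk hq
  obtain ⟨⟨y, hy⟩, o⟩ := exists_prime_orderOf_dvd_card' q h
  rw [Subgroup.orderOf_mk] at o
  have c : Commute y s := Subgroup.mem_centralizer_singleton_iff.mp hy
  obtain ⟨k, hk⟩ := hq.eq_two_or_odd'.resolve_left h2
  refine ⟨y * s, ?_, ?_⟩
  · rw [c.orderOf_mul_eq_mul_orderOf_of_coprime (by
      rw [o, hs]; exact (Nat.coprime_primes hq Nat.prime_two).mpr h2), o]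
    exact dvd_mul_right _ _
  · rw [pow_one, c.mul_pow, ← o, pow_orderOf_eq_one, one_mul, o, hk, pow_succ, pow_mul, ← hs,
      pow_orderOf_eq_one, one_pow, one_mul]

theorem PB.val_mod (B : PB G p P e) {s g : G} (hs : ¬ p ∣ orderOf s) (hg : p ∣ orderOf g) {k : ℕ}
    (h : g ^ p ^ k = s) {u : IrrCharacter G → ℤ} (hu : ∀ χ : IrrCharacter G, (χ : G → ℂ) s = u χ)
    {χ : IrrCharacter G} (hχ : χ ∈ B.X ∨ χ ∈ B.Y) : u χ ≡ dg χ [ZMOD p] := by
  have hX : ∀ χ ∈ B.X, u χ ≡ dg χ [ZMOD p] := fun χ hχ =>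
    (modEq_pow (irr_chr χ) hp.out (B.valX χ hχ g hg) (h ▸ hu χ)).trans (B.degX χ hχ).symm
  refine hχ.elim (hX χ) fun hχ => ?_
  have k1 := B.rel χ hχ s hs
  simp only [hu] at k1
  have k2 : B.δ * u χ = ∑ χ ∈ B.X, B.ε χ * u χ := by exact_mod_cast k1
  have k3 : B.δ * u χ ≡ B.δ * dg χ [ZMOD p] := by
    rw [k2, B.deg_eq hχ]
    exact Int.ModEq.sum fun ψ hψ => (hX ψ hψ).mul_left _
  rcases B.dsgn with k | k <;> rw [k] at k3
  · simpa using k3
  · simpa using k3.neg

def fl (Q : List ℕ) (p C d : ℕ) (u : ℤ) : Bool :=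
  Q.all fun q => C % q != 0 || ((d % q != 0 || u % q == 0) && (q != p || (u - d) % q == 0))

theorem PB.fl_of (B : PB G p P e) {Q : List ℕ}
    (hQ : ∀ q ∈ Q, q.Prime ∧ q ≠ 2 ∧ ¬ q ^ 2 ∣ Nat.card G) {s : G} (hs : orderOf s = 2) {C : ℕ}
    (hC : Nat.card (Subgroup.centralizer ({s} : Set G)) = C)
    {u : IrrCharacter G → ℤ} (hu : ∀ χ : IrrCharacter G, (χ : G → ℂ) s = u χ)
    (χ : IrrCharacter G) (hχ : χ ∈ B.X ∨ χ ∈ B.Y) : fl Q p C (dg χ) (u χ) = true := by
  refine List.all_eq_true.mpr fun q hq => ?_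
  obtain ⟨q1, q2, q3⟩ := hQ q hq
  simp only [Bool.or_eq_true, Bool.and_eq_true, bne_iff_ne, beq_iff_eq, or_iff_not_imp_left,
    not_not]
  intro k
  obtain ⟨g, g1, g2⟩ := exists_sing_pow q1 q2 hs (hC ▸ Nat.dvd_of_mod_eq_zero k)
  refine ⟨fun k' => ?_, ?_⟩
  · have := van_of_dvd q1 q3 (Nat.dvd_of_mod_eq_zero k') g1
    exact modEq_pow (irr_chr χ) q1 (z := 0) (by rw [this]; simp) (g2 ▸ hu χ)
  · rintro rfl
    exact Int.emod_eq_zero_of_dvd (B.val_mod (fun h => q2
      ((Nat.prime_dvd_prime_iff_eq q1 Nat.prime_two).mp (hs ▸ h))) g1 g2 hu hχ).symm.dvd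

/-- Sylow counting in a subgroup containing `P` -/
theorem card_over {P : Subgroup G} (hP : Nat.card P = p) (hi : ¬ p ∣ P.index) {H : Subgroup G}
    (h1 : P ≤ H) :
    ∃ r, Nat.card H = Nat.card ↥(Subgroup.normalizer (P : Set G) ⊓ H) * r ∧ r % p = 1 := by
  obtain ⟨P, rfl⟩ := exists_sylow_eq hP hi
  have h2 := card_sylow_modEq_one p H
  rw [(P.subtype h1).card_eq_index_normalizer] at h2
  change (Subgroup.normalizer (((P : Subgroup G).subgroupOf H : Subgroup H) : Set H)).index ≡ 1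
    [MOD p] at h2
  rw [← Subgroup.subgroupOf_normalizer_eq h1] at h2
  refine ⟨_, ?_, Eq.trans h2 (Nat.mod_eq_of_lt hp.out.one_lt)⟩
  rw [← Nat.card_congr (Subgroup.subgroupOfEquivOfLe (inf_le_right : _ ⊓ H ≤ H)).toEquiv,
    Subgroup.inf_subgroupOf_right, Subgroup.card_mul_index]

end H17.Ord
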