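import Mathlib
import Cfsg.Agent.Base
import Cfsg.Agent.Lib.FGS.NormLem
import Cfsg.Agent.Lib.FGS.OrderTypeFrob
import Cfsg.Agent.Lib.Core.GrpBasic
import Cfsg.Agent.Lib.H4.Sieve
import Cfsg.Agent.Lib.M24Geom.Bridge
import Cfsg.Agent.S0721

/-! Simplicity of groups of a given order from information on the prime graph; numbers of elements
of given order in the Mathieu groups. -/

set_option autoImplicit false
set_option linter.style.haveILetI false
set_option linter.unusedSectionVars false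

open Cfsg

namespace H17.Ord
variable {G : Type*} [Group G] [Finite G]

/-- if `p` and `r` are not adjacent in the prime graph, the `p`-part of the index of a normal
subgroup divides its `r`-part minus one -/
theorem pow_dvd_sub_one {p r a b u : ℕ} (hp : p.Prime) (hr : r.Prime) (hpr : r ≠ p)
    (hno : ∀ g : G, orderOf g ≠ r * p) (N : Subgroup G) [N.Normal] (ha : p ^ a ∣ N.index)
    (hb : Nat.card N = r ^ b * u) (hu : ¬ r ∣ u) : p ^ a ∣ r ^ b - 1 := by
  haveI := Fact.mk hp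
  haveI := Fact.mk hr
  obtain ⟨R⟩ : Nonempty (Sylow r N) := inferInstance
  have h0 : u ≠ 0 := fun e => hu (e ▸ dvd_zero r)
  have hR : Nat.card ((R : Subgroup N).map N.subtype) = r ^ b := by
    rw [Subgroup.card_map_of_injective N.subtype_injective, R.card_eq_multiplicity, hb,
      Nat.factorization_mul (pow_ne_zero _ hr.ne_zero) h0, Nat.factorization_pow]
    simp [Nat.factorization_eq_zero_of_not_dvd hu, hr.factorization_self]
  set M := Subgroup.normalizer (((R : Subgroup N).map N.subtype : Subgroup G) : Set G) with hM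
  have h1 : N.index ∣ Nat.card M := by
    have := Subgroup.relIndex_sup_right M N
    rw [R.normalizer_sup_eq_top, Subgroup.relIndex_top_right] at this
    rw [this]
    exact Subgroup.index_dvd_card _
  obtain ⟨Q, hQ⟩ := Sylow.exists_subgroup_card_pow_prime p (ha.trans h1)
  have hQ' : Nat.card (Q.map M.subtype) = p ^ a := by
    rw [Subgroup.card_map_of_injective M.subtype_injective, hQ]
  rw [← hQ', ← hR]
  exact H2.card_dvd_sub_one_of_semiregular (Subgroup.map_subtype_le Q)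
    (H79.semiregular_of_no_mul hpr hno (IsPGroup.of_card hR) (IsPGroup.of_card hQ'))

/-- the order of a minimal normal subgroup -/
theorem exists_min_normal (N : Subgroup G) [N.Normal] (hN : N ≠ ⊥) : ∃ M : Subgroup G,
    M.Normal ∧ M ≤ N ∧ ∃ s k, 0 < k ∧ Nat.card M = s ^ k ∧ (s.Prime ∨ H4.Sv.kill s = false) := by
  obtain ⟨M, h1, h2, h3, h4⟩ := H1.exists_minimal_normal_le N hN
  obtain ⟨T, _, k, hT, hk, ⟨e⟩⟩ := Cfsg.Agent.S0721.result M h2 h4
  haveI : Finite (Fin k → T) := Finite.of_equiv _ e.toEquiv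
  haveI : Finite T := Finite.of_injective (fun t (_ : Fin k) => t)
    (fun a b h => congrFun h ⟨0, hk⟩)
  refine ⟨M, h1, h3, Nat.card T, k, hk, by rw [Nat.card_congr e.toEquiv, Nat.card_fun, Nat.card_fin], ?_⟩
  by_cases hc : IsMulCommutative T
  · letI : CommGroup T := { (inferInstance : Group T) with mul_comm := hc.is_comm.comm }
    exact Or.inl IsSimpleGroup.prime_card
  · exact Or.inr (H4.Sv.not_kill hc)

theorem no_mul_of_selfcent {p r : ℕ} [hp : Fact p.Prime] (hr : r.Prime)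
    (P : Sylow p G) (hP : Nat.card (P : Subgroup G) = p)
    (hC : ¬ r ∣ Nat.card (Subgroup.centralizer ((P : Subgroup G) : Set G))) (g : G) :
    orderOf g ≠ r * p := by
  intro hg
  have h1 : orderOf (g ^ r) = p := by
    rw [orderOf_pow_of_dvd hr.ne_zero (hg ▸ dvd_mul_right _ _), hg,
      Nat.mul_div_cancel_left _ hr.pos]
  have h2 : orderOf (g ^ p) = r := by
    rw [orderOf_pow_of_dvd hp.out.ne_zero (hg ▸ dvd_mul_left _ _), hg,
      Nat.mul_div_cancel _ hp.out.pos]
  have h3 : IsPGroup p (Subgroup.zpowers (g ^ r)) :=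
    IsPGroup.of_card (n := 1) (by rw [Nat.card_zpowers, h1, pow_one])
  obtain ⟨Q, hQ⟩ := h3.exists_le_sylow
  obtain ⟨k, rfl⟩ := MulAction.exists_smul_eq G P Q
  have h4 : Subgroup.zpowers (g ^ r) = ((k • P : Sylow p G) : Subgroup G) :=
    Subgroup.eq_of_le_of_card_ge hQ (by
      rw [Nat.card_zpowers, h1, ← Nat.card_congr (P.equiv (k • P)).toEquiv, hP])
  apply hC
  rw [← h2, ← (MulAut.conj k⁻¹).orderOf_eq]
  refine Subgroup.orderOf_dvd_natCard _ fun x hx => ?_
  have h5 : k * x * k⁻¹ ∈ Subgroup.zpowers (g ^ r) := by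
    rw [h4]; exact ⟨x, hx, rfl⟩
  obtain ⟨j, hj⟩ := h5
  have h6 : Commute (k * x * k⁻¹) (g ^ p) := hj ▸ (Commute.pow_pow_self g r p).zpow_left j
  simp only [MulAut.conj_apply, inv_inv]
  calc x * (k⁻¹ * g ^ p * k) = k⁻¹ * (k * x * k⁻¹ * g ^ p) * k := by group
    _ = _ := by rw [h6.eq]; group

/-- simplicity from a self-centralising Sylow subgroup of prime order with normaliser of prime
index over it -/
theorem simple_of_selfcent {p e m : ℕ} [hp : Fact p.Prime] (he : e.Prime) (hG : Nat.card G = p * m)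
    (P : Sylow p G) (hP : Nat.card (P : Subgroup G) = p)
    (hC : Nat.card (Subgroup.centralizer ((P : Subgroup G) : Set G)) = p)
    (hN : Nat.card (Subgroup.normalizer ((P : Subgroup G) : Set G)) = p * e) (hme : m ≠ e)
    (hm : ∀ r b, r.Prime → 0 < b → r ^ b ∣ m → ¬ p ∣ r ^ b - 1) : IsSimpleGroup G := by
  have hpm : ¬ p ∣ m := fun h => P.not_dvd_index (by
    have := (P : Subgroup G).card_mul_index
    rw [hP, hG] at this
    rwa [Nat.eq_of_mul_eq_mul_left hp.out.pos this])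
  have key : ∀ N : Subgroup G, N.Normal → ¬ p ∣ Nat.card N → N = ⊥ := by
    intro N hN' h
    by_contra hne
    obtain ⟨r, hr, hr'⟩ := Nat.exists_prime_and_dvd (n := Nat.card N)
      (fun e => hne (Subgroup.card_eq_one.mp e))
    obtain ⟨b, u, hu, hb⟩ := Nat.exists_eq_pow_mul_and_not_dvd (Nat.card_pos (α := N)).ne' r hr.ne_one
    have hrp : r ≠ p := fun e => h (e ▸ hr')
    have h1 : p ∣ N.index := ((Nat.Prime.dvd_mul hp.out).mp (by
      rw [N.card_mul_index, hG]; exact dvd_mul_right _ _)).resolve_left h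
    refine hm r b hr (Nat.pos_of_ne_zero fun e => hu (by simpa [hb, e] using hr')) ?_ ?_
    · refine Nat.Coprime.dvd_of_dvd_mul_left (k := r ^ b) (m := p)
        (Nat.Coprime.pow_left b ((Nat.coprime_primes hr hp.out).mpr hrp)) ?_
      rw [← hG]
      exact (Dvd.intro _ hb.symm).trans (Subgroup.card_subgroup_dvd_card N)
    · have := pow_dvd_sub_one (a := 1) hp.out hr hrp (no_mul_of_selfcent hr P hP (by
        rw [hC]; exact fun h => hrp ((Nat.prime_dvd_prime_iff_eq hr hp.out).mp h))) N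
        (by rwa [pow_one]) hb hu
      rwa [pow_one] at this
  haveI : Nontrivial G := Finite.one_lt_card_iff_nontrivial.mp
    (hp.out.one_lt.trans_le (hP ▸ Subgroup.card_le_card_group _))
  refine ⟨fun N hN' => ?_⟩
  by_cases h : p ∣ Nat.card N
  swap
  · exact Or.inl (key N hN' h)
  right
  have hPN : (P : Subgroup G) ≤ N := by
    obtain ⟨Q, hQ⟩ := Sylow.exists_subgroup_card_pow_prime p (n := 1) (by rwa [pow_one])
    have h3 : IsPGroup p (Q.map N.subtype) := (IsPGroup.of_card hQ).map _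
    obtain ⟨R, hR⟩ := h3.exists_le_sylow
    have h4 : Q.map N.subtype = (R : Subgroup G) := Subgroup.eq_of_le_of_card_ge hR (by
      rw [Subgroup.card_map_of_injective N.subtype_injective, hQ, pow_one,
        ← Nat.card_congr (P.equiv R).toEquiv, hP])
    obtain ⟨k, rfl⟩ := MulAction.exists_smul_eq G R P
    rintro _ ⟨x, hx, rfl⟩
    exact hN'.conj_mem _ (Subgroup.map_subtype_le Q (h4.ge hx)) k
  set M := Subgroup.normalizer ((P : Subgroup G) : Set G) with hM
  have h1 : N.index = N.relIndex M := by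
    have := Subgroup.relIndex_sup_right M N
    rwa [show M ⊔ N = ⊤ from P.normalizer_sup_eq_top' hPN, Subgroup.relIndex_top_right] at this
  have h2 := (N.subgroupOf M).card_mul_index
  change _ * N.relIndex M = _ at h2
  rw [← h1, hN, ← Subgroup.inf_subgroupOf_right,
    Nat.card_congr (Subgroup.subgroupOfEquivOfLe inf_le_right).toEquiv] at h2
  obtain ⟨j, hj⟩ := Subgroup.card_dvd_of_le (le_inf hPN Subgroup.le_normalizer)
  rw [hP] at hj
  rw [hj, mul_assoc] at h2
  have h3 := Nat.eq_of_mul_eq_mul_left hp.out.pos h2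
  rcases (Nat.dvd_prime he).mp (Dvd.intro_left _ h3) with h4 | h4
  · exact Subgroup.index_eq_one.mp h4
  exfalso
  obtain rfl : j = 1 := by
    rw [h4] at h3; exact Nat.eq_of_mul_eq_mul_right he.pos (by rw [h3, one_mul])
  have h5 : N ⊓ M = P := (Subgroup.eq_of_le_of_card_ge (le_inf hPN Subgroup.le_normalizer)
    (by rw [hj, hP, mul_one])).symm
  let P' := P.subtype hPN
  have hP' : Nat.card (P' : Subgroup N) = p :=
    (Nat.card_congr (Subgroup.subgroupOfEquivOfLe hPN).toEquiv).trans hP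
  haveI : IsCyclic (P : Subgroup G) := isCyclic_of_prime_card hP
  have h6 : Subgroup.normalizer (P' : Set N) ≤ Subgroup.centralizer (P' : Set N) := by
    intro x hx y hy
    have h7 : (x : G) ∈ (P : Subgroup G) := by
      rw [← h5]
      refine ⟨x.2, Subgroup.mem_normalizer_fintype fun n hn => ?_⟩
      exact (Subgroup.mem_normalizer_iff.mp hx ⟨n, hPN hn⟩).mp hn
    apply Subtype.ext
    have := congrArg Subtype.val
      (IsCyclic.isMulCommutative.is_comm.comm (⟨y, hy⟩ : (P : Subgroup G)) ⟨x, h7⟩)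
    exact this
  have h8 := MonoidHom.ker_transferSylow_isComplement' P' h6
  set K := (MonoidHom.transferSylow P' h6).ker with hK
  have h9 : Nat.card K * p = Nat.card N := hP' ▸ h8.card_mul_card
  have h10 : p * m = Nat.card N * e := by rw [← hG, ← h4, N.card_mul_index]
  have h11 : ¬ p ∣ Nat.card K := fun h => hpm (by
    rw [← h9, mul_right_comm, mul_comm p] at h10
    rw [Nat.eq_of_mul_eq_mul_right hp.out.pos h10]
    exact h.mul_right _)
  haveI : K.Characteristic := by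
    refine Subgroup.characteristic_iff_le_comap.mpr fun φ x hx => ?_
    rw [Subgroup.mem_comap, ← QuotientGroup.eq_one_iff, ← orderOf_eq_one_iff]
    have a1 : orderOf ((φ.toMonoidHom x : N) : N ⧸ K) ∣ p := by
      exact (orderOf_dvd_natCard _).trans (h8.symm.index_eq_card.trans hP').dvd
    have a2 : orderOf ((φ.toMonoidHom x : N) : N ⧸ K) ∣ Nat.card K :=
      (orderOf_map_dvd ((QuotientGroup.mk' K).comp φ.toMonoidHom) x).trans
        (Subgroup.orderOf_dvd_natCard _ hx)
    exact ((Nat.dvd_prime hp.out).mp a1).resolve_right fun e => h11 (e ▸ a2)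
  have h12 := key (K.map N.subtype) inferInstance
    (by rwa [Subgroup.card_map_of_injective N.subtype_injective])
  have h13 := Subgroup.card_map_of_injective (K := K) N.subtype_injective
  rw [h12, Subgroup.card_bot] at h13
  rw [← h13, one_mul] at h9
  rw [← h9] at h10
  exact hme (Nat.eq_of_mul_eq_mul_left hp.out.pos h10)

/-- the number of Sylow subgroups of prime order from the number of elements of that order -/
theorem card_normalizer_of_count {p m c : ℕ} [hp : Fact p.Prime] (hG : Nat.card G = p * m)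
    (hm : ¬ p ∣ m) (S : Set ℕ) (hS : ∀ n, 0 < Nat.card {g : G // orderOf g = n} →
      Nat.card {g : G // orderOf g = n} ∈ S) (hc : ∀ x ∈ S, (x + 1) % p = 0 → x = c) (P : Sylow p G) :
    Nat.card (P : Subgroup G) = p ∧
      Nat.card (Subgroup.normalizer ((P : Subgroup G) : Set G)) * c = p * m * (p - 1) := by
  have h0 : m ≠ 0 := fun e => hm (e ▸ dvd_zero p)
  have hP : ∀ P : Sylow p G, Nat.card (P : Subgroup G) = p := fun P => by
    rw [P.card_eq_multiplicity, hG, Nat.factorization_mul hp.out.ne_zero h0]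
    simp [Nat.factorization_eq_zero_of_not_dvd hm, hp.out.factorization_self]
  have h1 := H78.OrderType.card_orderOf_eq_prime hP
  have h2 := hp.out.two_le
  have h3 := hc _ (hS p (by rw [h1]; exact Nat.mul_pos Nat.card_pos (by omega))) (by
    rw [h1]
    have := ((card_sylow_modEq_one p G).mul_right (p - 1)).add_right 1
    rw [one_mul, Nat.sub_add_cancel (by omega)] at this
    exact Eq.trans this (Nat.mod_self p))
  have h4 : _ = (Subgroup.normalizer ((P : Subgroup G) : Set G)).index :=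
    P.card_eq_index_normalizer
  refine ⟨hP P, ?_⟩
  rw [← h3, h1, h4, ← mul_assoc, Subgroup.card_mul_index, hG]

/-- if `q` divides the order of the centraliser of a Sylow subgroup of order `p`, then `p` divides
the order of the normaliser of a Sylow subgroup of order `q` -/
theorem dvd_normalizer_of_dvd_centralizer {p q : ℕ} [hp : Fact p.Prime] [hq : Fact q.Prime]
    (hpq : p ≠ q) (P : Sylow p G) (hP : Nat.card (P : Subgroup G) = p) (Q : Sylow q G)
    (hQ : Nat.card (Q : Subgroup G) = q)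
    (h : q ∣ Nat.card (Subgroup.centralizer ((P : Subgroup G) : Set G))) :
    p ∣ Nat.card (Subgroup.normalizer ((Q : Subgroup G) : Set G)) := by
  by_contra hn
  obtain ⟨y, hy⟩ := exists_prime_orderOf_dvd_card' q h
  obtain ⟨x, hx⟩ := exists_prime_orderOf_dvd_card' (G := (P : Subgroup G)) p hP.symm.dvd
  rw [← Subgroup.orderOf_coe] at hx hy
  have hc : Commute (x : G) y := y.2 x x.2
  refine no_mul_of_selfcent hp.out Q hQ
    (fun h => hn (h.trans (Subgroup.card_dvd_of_le (Subgroup.centralizer_le_normalizer _))))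
    ((x : G) * y) ?_
  rw [hc.orderOf_mul_eq_mul_orderOf_of_coprime
    (by rw [hx, hy]; exact (Nat.coprime_primes hp.out hq.out).mpr hpq), hx, hy]

open H96.Geo H15 in
/-- numbers of elements of a given order from a class table -/
theorem card_orderOf_of_table {H : Subgroup (Equiv.Perm GolayPt)} {L : List Cl}
    (T : ClassTable H L) {N : ℕ} (hN : Nat.card H = N) (n : ℕ) :
    Nat.card {g : H // orderOf g = n} = ((L.filter fun e => e.o = n).map fun e => N / e.z).sum := by
  classical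
  have key : ∀ L' : List Cl, L' ⊆ L →
      (L'.Pairwise fun e e' => ∀ h ∈ H, h * permOf e.c * h⁻¹ ≠ permOf e'.c) →
      {g | ∃ e ∈ L', g ∈ H54.clsIn H (permOf e.c)}.ncard = (L'.map fun e => N / e.z).sum := by
    intro L' h1 h2
    induction L' with
    | nil => simp
    | cons e L' ih =>
      rw [List.pairwise_cons] at h2
      have e1 : {g | ∃ e' ∈ e :: L', g ∈ H54.clsIn H (permOf e'.c)} =
          H54.clsIn H (permOf e.c) ∪ {g | ∃ e' ∈ L', g ∈ H54.clsIn H (permOf e'.c)} := by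
        ext g; simp
      have e2 := H54.ncard_clsIn_mul H (permOf e.c)
      rw [T.cent e (h1 (by simp)), hN] at e2
      have e3 : 0 < e.z := T.cent e (h1 (by simp)) ▸ Nat.card_pos
      rw [e1, Set.ncard_union_eq, ih (fun x hx => h1 (by simp [hx])) h2.2, List.map_cons,
        List.sum_cons, ← e2, Nat.mul_div_cancel _ e3]
      rw [Set.disjoint_left]
      rintro _ ⟨a, ha, rfl⟩ ⟨e', he', b, hb, hab⟩
      refine h2.1 e' he' (b⁻¹ * a) (mul_mem (inv_mem hb) ha) ?_
      rw [mul_assoc b⁻¹, mul_inv_rev, ← mul_assoc, mul_assoc b⁻¹, ← hab]; group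
  rw [← key _ (fun x hx => (List.mem_filter.mp hx).1) (T.sep.filter _),
    ← Nat.card_coe_set_eq]
  refine Nat.card_congr ⟨fun g => ⟨g.1, ?_⟩, fun g => ⟨⟨g.1, ?_⟩, ?_⟩, fun _ => rfl, fun _ => rfl⟩
  · obtain ⟨e, he, h1, -, h2⟩ := T.data g.1.2
    exact ⟨e, List.mem_filter.mpr ⟨he, by simpa [← h1] using g.2⟩, h2⟩
  · obtain ⟨e, he, k, hk, h⟩ := g.2
    exact h ▸ mul_mem (mul_mem hk (T.good e (List.mem_filter.mp he).1).2) (inv_mem hk)
  · obtain ⟨e, he, k, hk, h⟩ := g.2
    rw [← Subgroup.orderOf_coe]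
    change orderOf g.1 = n
    rw [← h, ← of_decide_eq_true (List.mem_filter.mp he).2, ← T.ord e (List.mem_filter.mp he).1]
    exact (MulAut.conj k).orderOf_eq _

open H96.Geo H15 in
theorem mem_nse_of_table {H : Subgroup (Equiv.Perm GolayPt)} {L : List Cl}
    (T : ClassTable H L) {N : ℕ} (hN : Nat.card H = N) (S : List ℕ)
    (hS : ∀ e ∈ L, ((L.filter fun e' => e'.o = e.o).map fun e => N / e.z).sum ∈ S)
    (hnse : {c : ℕ | 0 < c ∧ ∃ n : ℕ, c = Nat.card {g : G // orderOf g = n}} =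
      {c : ℕ | 0 < c ∧ ∃ n : ℕ, c = Nat.card {g : H // orderOf g = n}}) (n : ℕ)
    (h : 0 < Nat.card {g : G // orderOf g = n}) :
    Nat.card {g : G // orderOf g = n} ∈ {x | x ∈ S} := by
  obtain ⟨h1, k, hk⟩ := hnse.le ⟨h, n, rfl⟩
  rw [hk] at h1 ⊢
  obtain ⟨g⟩ := (Nat.card_pos_iff.mp h1).1
  obtain ⟨e, he, h2, -⟩ := T.data g.1.2
  rw [card_orderOf_of_table T hN, ← g.2, ← Subgroup.orderOf_coe, h2]
  exact hS e he

/-- simplicity from the numbers of elements of orders `p` and `e` -/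
theorem simple_of_counts {p e m m' c c' : ℕ} [hp : Fact p.Prime] [he : Fact e.Prime]
    (hG : Nat.card G = p * m) (hG' : Nat.card G = e * m') (hm : ¬ p ∣ m) (hm' : ¬ e ∣ m')
    (S : Set ℕ) (hS : ∀ n, 0 < Nat.card {g : G // orderOf g = n} →
      Nat.card {g : G // orderOf g = n} ∈ S) (hc : ∀ x ∈ S, (x + 1) % p = 0 → x = c)
    (hc' : ∀ x ∈ S, (x + 1) % e = 0 → x = c') (h1 : p * e * c = p * m * (p - 1)) (h0 : 0 < c)
    (h2 : ∀ k, p * k * c' ≠ e * m' * (e - 1)) (hme : m ≠ e)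
    (hmm : ∀ r b, r.Prime → 0 < b → r ^ b ∣ m → ¬ p ∣ r ^ b - 1) : IsSimpleGroup G := by
  obtain ⟨P⟩ : Nonempty (Sylow p G) := inferInstance
  obtain ⟨Q⟩ : Nonempty (Sylow e G) := inferInstance
  obtain ⟨a1, a2⟩ := card_normalizer_of_count hG hm S hS hc P
  obtain ⟨b1, b2⟩ := card_normalizer_of_count hG' hm' S hS hc' Q
  have a3 := Nat.eq_of_mul_eq_mul_right h0 (a2.trans h1.symm)
  have hpe : p ≠ e := by
    rintro rfl
    have := a3.symm.dvd.trans (Subgroup.card_subgroup_dvd_card _)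
    rw [hG] at this
    exact hm (Nat.dvd_of_mul_dvd_mul_left hp.out.pos this)
  refine simple_of_selfcent he.out hG P a1 ?_ a3 hme hmm
  haveI : IsCyclic (P : Subgroup G) := isCyclic_of_prime_card a1
  obtain ⟨j, hj⟩ := Subgroup.card_dvd_of_le
    (show (P : Subgroup G) ≤ Subgroup.centralizer ((P : Subgroup G) : Set G) from
      Subgroup.le_centralizer _)
  have a4 := Subgroup.card_dvd_of_le (Subgroup.centralizer_le_normalizer ((P : Subgroup G) : Set G))
  rw [a3, hj, a1] at a4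
  rcases (Nat.dvd_prime he.out).mp (Nat.dvd_of_mul_dvd_mul_left hp.out.pos a4) with h | h
  · rw [hj, a1, h, mul_one]
  · obtain ⟨k, hk⟩ := dvd_normalizer_of_dvd_centralizer hpe P a1 Q b1
      (by rw [hj, h]; exact dvd_mul_left _ _)
    exact absurd (hk ▸ b2) (h2 k)

theorem not_dvd_pow_sub_one {p m : ℕ} (hm : m ≠ 0)
    (h : ∀ d ∈ H4.Sv.divs m, p ∣ d - 1 → d = 1 ∨
      ∃ a ∈ [2, 3, 5, 7, 11], ∃ b ∈ [2, 3, 5, 7, 11], a ≠ b ∧ a ∣ d ∧ b ∣ d) :
    ∀ r b, r.Prime → 0 < b → r ^ b ∣ m → ¬ p ∣ r ^ b - 1 := fun r _ hr hb h1 h2 => by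
  have hp : ∀ a ∈ [2, 3, 5, 7, 11], a.Prime := by decide
  rcases h _ (H4.Sv.mem_divs hm h1) h2 with h3 | ⟨a, ha, c, hc, h3, h4, h5⟩
  · exact (Nat.one_lt_pow hb.ne' hr.one_lt).ne' h3
  · exact h3 (((Nat.prime_dvd_prime_iff_eq (hp a ha) hr).mp ((hp a ha).dvd_of_dvd_pow h4)).trans
      ((Nat.prime_dvd_prime_iff_eq (hp c hc) hr).mp ((hp c hc).dvd_of_dvd_pow h5)).symm)

theorem exists_mul_of_dvd_centralizer {p r : ℕ} (hp : p.Prime) (hr : r.Prime) (hpr : r ≠ p)
    {M : Subgroup G} (h1 : r ∣ Nat.card M)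
    (h2 : p ∣ Nat.card (Subgroup.centralizer (M : Set G))) : ∃ g : G, orderOf g = r * p := by
  haveI := Fact.mk hp
  haveI := Fact.mk hr
  obtain ⟨y, hy⟩ := exists_prime_orderOf_dvd_card' p h2
  obtain ⟨x, hx⟩ := exists_prime_orderOf_dvd_card' r h1
  rw [← Subgroup.orderOf_coe] at hx hy
  have hc : Commute (x : G) y := y.2 x x.2
  exact ⟨x * y, by rw [hc.orderOf_mul_eq_mul_orderOf_of_coprime
    (by rw [hx, hy]; exact (Nat.coprime_primes hr hp).mpr hpr), hx, hy]⟩

theorem eq_of_card_176 {K P Q : Subgroup G} (hK : Nat.card K ∣ 176) (hP : Nat.card P = 11)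
    (hQ : Nat.card Q = 11) (h1 : P ≤ K) (h2 : Q ≤ K) : P = Q := by
  haveI : Fact (Nat.Prime 11) := ⟨by norm_num⟩
  have hs : ∀ R : Subgroup G, R ≤ K → Nat.card R = 11 → ∃ S : Sylow 11 K,
      (S : Subgroup K) = R.subgroupOf K ∧ (S : Subgroup K).index ∣ 16 := fun R h hR => by
    have e1 : Nat.card (R.subgroupOf K) = 11 :=
      (Nat.card_congr (Subgroup.subgroupOfEquivOfLe h).toEquiv).trans hR
    have e2 : (R.subgroupOf K).index ∣ 16 := by
      rw [← (R.subgroupOf K).card_mul_index, e1] at hK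
      exact Nat.dvd_of_mul_dvd_mul_left (by norm_num : 0 < 11) hK
    exact ⟨(IsPGroup.of_card (n := 1) e1).toSylow
      (fun h => absurd (h.trans e2) (by norm_num)), rfl, e2⟩
  obtain ⟨S, s1, s2⟩ := hs P h1 hP
  obtain ⟨T, t1, -⟩ := hs Q h2 hQ
  have e1 := S.card_dvd_index.trans s2
  have e2 := card_sylow_modEq_one 11 K
  have e3 := Nat.le_of_dvd (by norm_num) e1
  have e4 : Nat.card (Sylow 11 K) = 1 := by
    unfold Nat.ModEq at e2
    generalize Nat.card (Sylow 11 K) = n at *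
    interval_cases n <;> omega
  haveI := (Nat.card_eq_one_iff_unique.mp e4).1
  rw [← Subgroup.map_subgroupOf_eq_of_le h1, ← Subgroup.map_subgroupOf_eq_of_le h2, ← s1, ← t1,
    Subsingleton.elim S T]

/-- a group of order 7920 with disconnected prime graph is simple -/
theorem simple_7920 (hG : Nat.card G = 7920) (A : Set ℕ)
    (h1 : ∃ a ∈ A, a.Prime ∧ a ∣ Nat.card G) (h2 : ∃ b ∉ A, b.Prime ∧ b ∣ Nat.card G)
    (h3 : ∀ a ∈ A, ∀ b ∉ A, a.Prime → b.Prime → a ∣ Nat.card G → b ∣ Nat.card G →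
      ¬ ∃ g : G, orderOf g = a * b) : IsSimpleGroup G := by
  -- the surviving orders of normal subgroups
  have dec : ∀ f : Fin 4 → Bool, (∃ i j, f i ≠ f j) → ∀ n ∈ H4.Sv.divs 7920,
      (∀ i j, f i ≠ f j → ![2, 3, 5, 11] j ∣ n →
        Nat.gcd (7920 / n) (![16, 9, 5, 11] i) ∣ Nat.gcd n (![16, 9, 5, 11] j) - 1) →
      (n = 1 ∨ n = 7920 ∨ n ∈ [176, 528, 792, 990, 1584, 1980, 2640, 3960] ∨
        (n ∈ [11, 16] ∧ f 2 ≠ f 0 ∧ f 2 ≠ f 1 ∧ f 2 ≠ f 3)) ∧
      (f 2 ≠ f 0 ∧ f 2 ≠ f 1 ∧ f 2 ≠ f 3 → n ∈ [1, 7920, 11, 16, 176, 1980, 3960]) := by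
    decide +kernel
  have kl : ∀ n ∈ [176, 528, 792, 990, 1584, 1980, 2640, 3960], H4.Sv.kill n = true ∧
      n ≠ 11 ∧ 11 ∣ n ∧ ¬ 121 ∣ n := by
    decide +kernel
  have d1 : ∀ n ∈ H4.Sv.divs 7920, ∀ j : Fin 4, ∃ b < 5, ∃ a < 5,
      Nat.gcd n (![16, 9, 5, 11] j) = ![2, 3, 5, 11] j ^ b ∧
      n = ![2, 3, 5, 11] j ^ b * (n / ![2, 3, 5, 11] j ^ b) ∧
      ¬ ![2, 3, 5, 11] j ∣ n / ![2, 3, 5, 11] j ^ b ∧
      Nat.gcd (7920 / n) (![16, 9, 5, 11] j) = ![2, 3, 5, 11] j ^ a := by decide +kernel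
  have d2 : ∀ j : Fin 4, (![2, 3, 5, 11] j).Prime ∧ ![2, 3, 5, 11] j ∣ 7920 := by decide +kernel
  have d3 : ∀ a, a ∣ 7920 → a.Prime → ∃ j : Fin 4, a = ![2, 3, 5, 11] j := by
    intro a h1 h2
    rw [show 7920 = 2 ^ 4 * 3 ^ 2 * 5 * 11 by norm_num, h2.dvd_mul, h2.dvd_mul, h2.dvd_mul] at h1
    rcases h1 with ((h | h) | h) | h
    · exact ⟨0, (Nat.prime_dvd_prime_iff_eq h2 (by norm_num)).mp (h2.dvd_of_dvd_pow h)⟩
    · exact ⟨1, (Nat.prime_dvd_prime_iff_eq h2 (by norm_num)).mp (h2.dvd_of_dvd_pow h)⟩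
    · exact ⟨2, (Nat.prime_dvd_prime_iff_eq h2 (d2 2).1).mp h⟩
    · exact ⟨3, (Nat.prime_dvd_prime_iff_eq h2 (d2 3).1).mp h⟩
  classical
  let f : Fin 4 → Bool := fun j => decide (![2, 3, 5, 11] j ∈ A)
  have hf : ∃ i j, f i ≠ f j := by
    obtain ⟨a, a1, a2, a3⟩ := h1
    obtain ⟨b, b1, b2, b3⟩ := h2
    obtain ⟨i, rfl⟩ := d3 a (hG ▸ a3) a2
    obtain ⟨j, rfl⟩ := d3 b (hG ▸ b3) b2
    exact ⟨i, j, by simp only [f, a1, b1]; decide⟩
  have hno : ∀ i j, f i ≠ f j → ∀ g : G, orderOf g ≠ ![2, 3, 5, 11] j * ![2, 3, 5, 11] i := by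
    intro i j h g hg
    by_cases a1 : ![2, 3, 5, 11] j ∈ A
    · exact h3 _ a1 _ (fun a2 => h (by simp only [f, a1, a2])) (d2 j).1 (d2 i).1 (hG ▸ (d2 j).2)
        (hG ▸ (d2 i).2) ⟨g, hg⟩
    · have a2 : ![2, 3, 5, 11] i ∈ A := by
        by_contra a2; exact h (by simp only [f, a1, a2])
      exact h3 _ a2 _ a1 (d2 i).1 (d2 j).1 (hG ▸ (d2 i).2) (hG ▸ (d2 j).2) ⟨g, by rw [hg, mul_comm]⟩
  have T := fun (N : Subgroup G) [N.Normal] => dec f hf (Nat.card N)
    (H4.Sv.mem_divs (by norm_num) (hG ▸ Subgroup.card_subgroup_dvd_card N)) (by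
      intro i j hij _
      have hm := H4.Sv.mem_divs (m := 7920) (by norm_num) (hG ▸ Subgroup.card_subgroup_dvd_card N)
      obtain ⟨b, -, -, -, e1, e2, e3, -⟩ := d1 _ hm j
      obtain ⟨-, -, a, -, -, -, -, e4⟩ := d1 _ hm i
      rw [e1, e4]
      refine pow_dvd_sub_one (d2 i).1 (d2 j).1 (fun e => hij (by simp only [f, e])) (hno i j hij) N
        ?_ e2 e3
      rw [← e4, ← hG, ← N.card_mul_index, Nat.mul_div_cancel_left _ Nat.card_pos]
      exact Nat.gcd_dvd_left _ _)
  haveI : Nontrivial G := Finite.one_lt_card_iff_nontrivial.mp (by omega)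
  refine ⟨fun N hN => ?_⟩
  by_contra hne
  push Not at hne
  obtain ⟨M, m1, m2, s, k, hk, m3, m4⟩ := exists_min_normal N hne.1
  have hs1 : s ≠ 1 := by
    rintro rfl
    rcases m4 with h | h
    · exact Nat.not_prime_one h
    · exact absurd h (by decide)
  have hM1 : Nat.card M ≠ 1 := fun e => hs1 (by simpa [m3, hk.ne'] using e)
  have hM2 : Nat.card M ≠ 7920 := fun e => hne.2 (top_le_iff.mp
    ((Subgroup.eq_top_of_card_eq M (e.trans hG.symm)).ge.trans m2))
  have key : Nat.card M ∈ [11, 16] ∧ f 2 ≠ f 0 ∧ f 2 ≠ f 1 ∧ f 2 ≠ f 3 := by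
    refine (((T M).1.resolve_left hM1).resolve_left hM2).resolve_left fun h => ?_
    obtain ⟨k1, k2, k3, k4⟩ := kl _ h
    rw [m3] at k1 k2 k3 k4
    have e1 := Nat.Prime.dvd_of_dvd_pow (by norm_num) k3
    obtain rfl : k = 1 := by
      by_contra e2
      exact k4 ((pow_dvd_pow_of_dvd e1 2).trans (pow_dvd_pow s (by omega)))
    rw [pow_one] at k1 k2
    rcases m4 with h | h
    · exact k2 ((Nat.prime_dvd_prime_iff_eq (by norm_num) h).mp e1).symm
    · simp [k1] at h
  have c11 : ∀ P : Subgroup G, P.Normal → Nat.card P ≠ 11 := by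
    intro P hP h
    haveI : Fact (Nat.Prime 11) := ⟨by norm_num⟩
    haveI : IsCyclic P := isCyclic_of_prime_card h
    have e1 := (T (Subgroup.centralizer (P : Set G))).2 key.2
    have e2 : ¬ 5 ∣ Nat.card (Subgroup.centralizer (P : Set G)) := fun h5 => by
      obtain ⟨g, hg⟩ := exists_mul_of_dvd_centralizer (r := 11) (by norm_num) (by norm_num)
        (by norm_num) h.symm.dvd h5
      exact hno 2 3 key.2.2.2 g hg
    have e3 : (Subgroup.centralizer (P : Set G)).index ∣ 10 := by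
      have : (MulAut.conjNormal : G →* MulAut P).ker = Subgroup.centralizer (P : Set G) := by
        ext g
        simp only [MonoidHom.mem_ker, MulEquiv.ext_iff, Subtype.ext_iff, MulAut.conjNormal_apply,
          MulAut.one_apply, Subgroup.mem_centralizer_iff, mul_inv_eq_iff_eq_mul]
        exact ⟨fun h x hx => (h ⟨x, hx⟩).symm, fun h x => (h x x.2).symm⟩
      rw [← this, Subgroup.index_ker]
      have := Subgroup.card_subgroup_dvd_card (MulAut.conjNormal : G →* MulAut P).range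
      rwa [IsCyclic.card_mulAut, h] at this
    have e4 := (Subgroup.centralizer (P : Set G)).card_mul_index
    have e5 := Nat.le_of_dvd (by norm_num) e3
    rw [hG] at e4
    simp only [List.mem_cons, List.not_mem_nil, or_false] at e1
    generalize (Subgroup.centralizer (P : Set G)).index = r at *
    interval_cases r <;> omega
  have hM : Nat.card M = 16 := by
    have := key.1; have := c11 M m1
    simp only [List.mem_cons, List.not_mem_nil, or_false] at *
    omega
  haveI : Fact (Nat.Prime 11) := ⟨by norm_num⟩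
  obtain ⟨P, hP⟩ := Sylow.exists_subgroup_card_pow_prime (G := G) 11 (n := 1) (by rw [hG]; norm_num)
  rw [pow_one] at hP
  have hPM : P ⊓ M = ⊥ := disjoint_iff.mp (Subgroup.disjoint_of_coprime_natCard (by rw [hP, hM]; norm_num))
  have hcj : ∀ g : G, Nat.card (P.map (MulAut.conj g).toMonoidHom) = 11 := fun g => by
    rw [Subgroup.card_map_of_injective (MulAut.conj g).injective, hP]
  have hPC : P ≤ Subgroup.centralizer (M : Set G) := by
    intro x hx y hy
    have e1 : Nat.card (M ⊔ P : Subgroup G) = 176 := by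
      rw [H2.card_sup_of_le_normalizer (by simp [Subgroup.normalizer_eq_top]) hPM, hM, hP]
    have e2 := eq_of_card_176 e1.dvd hP (hcj y) le_sup_right (by
      rintro _ ⟨z, hz, rfl⟩
      exact mul_mem (mul_mem (Subgroup.mem_sup_left hy) (Subgroup.mem_sup_right hz))
        (Subgroup.mem_sup_left (inv_mem hy)))
    have e3 : y * x * y⁻¹ * x⁻¹ ∈ P ⊓ M := by
      refine ⟨P.mul_mem (e2.ge ⟨x, hx, rfl⟩) (P.inv_mem hx), ?_⟩
      rw [show y * x * y⁻¹ * x⁻¹ = y * (x * y⁻¹ * x⁻¹) by group]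
      exact M.mul_mem hy (m1.conj_mem _ (M.inv_mem hy) x)
    rw [hPM, Subgroup.mem_bot, mul_inv_eq_one, mul_inv_eq_iff_eq_mul] at e3
    exact e3
  have e1 := (T (Subgroup.centralizer (M : Set G))).2 key.2
  have e2 : ¬ 5 ∣ Nat.card (Subgroup.centralizer (M : Set G)) := fun h5 => by
    obtain ⟨g, hg⟩ := exists_mul_of_dvd_centralizer (r := 2) (M := M) (by norm_num) (by norm_num)
      (by norm_num) (by rw [hM]; norm_num) h5
    exact hno 2 0 key.2.1 g hg
  have e3 := hP ▸ Subgroup.card_dvd_of_le hPC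
  have e4 : Nat.card (Subgroup.centralizer (M : Set G)) ∣ 176 := by
    simp only [List.mem_cons, List.not_mem_nil, or_false] at e1
    rcases e1 with h | h | h | h | h | h | h <;> rw [h] at e2 e3 ⊢ <;> omega
  refine c11 P ⟨fun x hx g => ?_⟩ hP
  have := eq_of_card_176 e4 hP (hcj g) hPC (by
    rintro _ ⟨z, hz, rfl⟩
    exact (inferInstance : (Subgroup.centralizer (M : Set G)).Normal).conj_mem _ (hPC hz) g)
  exact this.ge ⟨x, hx, rfl⟩

end H17.Ord
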