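import Mathlib
import Cfsg.Agent.Base
import Cfsg.Agent.Lib.Ord.Gk
import Cfsg.Agent.Lib.Ord.SC

/-! Counting tools for groups with a prescribed set of same-order element counts. -/

set_option autoImplicit false
set_option linter.style.haveILetI false

open Cfsg H96.Geo

namespace H17.Ord

variable {G : Type*} [Group G] [Finite G]

/-- the number of elements of order `n` -/
noncomputable abbrev nOrd (G : Type*) [Group G] (n : ℕ) : ℕ := Nat.card {g : G // orderOf g = n}

theorem sum_nOrd_le (T : Finset ℕ) : ∑ n ∈ T, nOrd G n ≤ Nat.card G := by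
  classical
  haveI := Fintype.ofFinite G
  have h := Finset.card_eq_sum_card_fiberwise (f := fun g : G => orderOf g)
    (s := Finset.univ.filter fun g : G => orderOf g ∈ T) (t := T)
    (fun g hg => by simpa using hg)
  rw [Nat.card_eq_fintype_card (α := G), ← Finset.card_univ]
  refine le_trans (le_of_eq ?_) (h ▸ Finset.card_filter_le _ _)
  refine Finset.sum_congr rfl fun n hn => ?_
  rw [nOrd, Nat.card_eq_fintype_card, Fintype.card_subtype, Finset.filter_filter]
  congr 1
  ext g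
  simp only [Finset.mem_filter, Finset.mem_univ, true_and]
  exact ⟨fun h => ⟨h ▸ hn, h⟩, fun h => h.2⟩

/-- the counts of the orders in `T` together with the attained values not among them -/
theorem nse_sum_le (S : Finset ℕ) (hS : ∀ s ∈ S, ∃ n, nOrd G n = s) (T : Finset ℕ) :
    ∑ n ∈ T, nOrd G n + ∑ s ∈ S \ T.image (nOrd G), s ≤ Nat.card G := by
  classical
  choose! φ hφ using hS
  have hinj : Set.InjOn φ ↑(S \ T.image (nOrd G)) := fun a ha b hb h => by
    rw [← hφ a (Finset.mem_sdiff.mp ha).1, h, hφ b (Finset.mem_sdiff.mp hb).1]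
  have hd : Disjoint T ((S \ T.image (nOrd G)).image φ) := by
    rw [Finset.disjoint_left]
    intro n hn h
    obtain ⟨s, hs, rfl⟩ := Finset.mem_image.mp h
    obtain ⟨h1, h2⟩ := Finset.mem_sdiff.mp hs
    exact h2 (Finset.mem_image.mpr ⟨_, hn, hφ s h1⟩)
  refine le_trans (le_of_eq ?_) (sum_nOrd_le (G := G) (T ∪ (S \ T.image (nOrd G)).image φ))
  rw [Finset.sum_union hd, Finset.sum_image hinj]
  congr 1
  exact Finset.sum_congr rfl fun s hs => (hφ s (Finset.mem_sdiff.mp hs).1).symm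

/-- two orders with the same count force an excess -/
theorem nse_dup (S : Finset ℕ) (hS : ∀ s ∈ S, ∃ n, nOrd G n = s) {a b : ℕ} (hab : a ≠ b)
    (h : nOrd G a = nOrd G b) : ∑ s ∈ S, s + nOrd G a ≤ Nat.card G := by
  classical
  have k := nse_sum_le S hS {a, b}
  rw [Finset.sum_pair hab, Finset.image_insert, Finset.image_singleton, ← h,
    Finset.insert_eq_of_mem (Finset.mem_singleton_self _)] at k
  have k2 : ∑ s ∈ S, s ≤ nOrd G a + ∑ s ∈ S \ {nOrd G a}, s := by
    by_cases hm : nOrd G a ∈ S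
    · rw [Finset.sdiff_singleton_eq_erase, Finset.add_sum_erase S (fun s => s) hm]
    · rw [Finset.sdiff_singleton_eq_erase, Finset.erase_eq_of_notMem hm]; omega
  omega

omit [Finite G] in
theorem exists_of_table {H : Subgroup (Equiv.Perm GolayPt)} {L : List Cl}
    (T : ClassTable H L) {N : ℕ} (hN : Nat.card H = N) (S : List ℕ)
    (hS : ∀ s ∈ S, 0 < s ∧ ∃ e ∈ L, ((L.filter fun e' => e'.o = e.o).map fun e => N / e.z).sum = s)
    (hnse : {c : ℕ | 0 < c ∧ ∃ n : ℕ, c = Nat.card {g : G // orderOf g = n}} =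
      {c : ℕ | 0 < c ∧ ∃ n : ℕ, c = Nat.card {g : H // orderOf g = n}}) :
    ∀ s ∈ S.toFinset, ∃ n, nOrd G n = s := by
  intro s hs
  obtain ⟨h0, e, -, h⟩ := hS s (List.mem_toFinset.mp hs)
  obtain ⟨-, n, hn⟩ := hnse.ge ⟨h0, e.o, by rw [card_orderOf_of_table T hN, h]⟩
  exact ⟨n, hn.symm⟩

/-- a common divisor of the class sizes divides the number of elements of the order -/
theorem dvd_nOrd {n d : ℕ}
    (h : ∀ g : G, orderOf g = n → d ∣ (Subgroup.centralizer ({g} : Set G)).index) :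
    d ∣ nOrd G n := by
  classical
  haveI := Fintype.ofFinite G
  rw [nOrd, Nat.card_eq_fintype_card, Fintype.card_subtype,
    Finset.card_eq_sum_card_fiberwise (f := ConjClasses.mk) (t := Finset.univ)
      (fun _ _ => Finset.mem_coe.mpr (Finset.mem_univ _))]
  refine Finset.dvd_sum fun c _ => ?_
  rcases (Finset.filter (fun x => ConjClasses.mk x = c)
    (Finset.filter (fun g : G => orderOf g = n) Finset.univ)).eq_empty_or_nonempty with k | ⟨a, ha⟩
  · rw [k]; exact dvd_zero _
  · simp only [Finset.mem_filter, Finset.mem_univ, true_and] at ha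
    refine (h a ha.1).trans (dvd_of_eq ?_)
    rw [← H6.card_isConj_eq_index, Nat.card_eq_fintype_card, Fintype.card_subtype]
    congr 1
    ext g
    simp only [Finset.mem_filter, Finset.mem_univ, true_and, ← ha.2, ConjClasses.mk_eq_mk_iff_isConj]
    refine ⟨fun k => ⟨?_, k.symm⟩, fun k => k.2.symm⟩
    obtain ⟨c, rfl⟩ := isConj_iff.mp k
    rw [← ha.1]; exact (MulAut.conj c).orderOf_eq a

theorem nOrd_pos {g : G} : 0 < nOrd G (orderOf g) :=
  Nat.card_pos_iff.mpr ⟨⟨⟨g, rfl⟩⟩, inferInstance⟩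

/-- centraliser orders of `p`-singular elements divide `|C(P)|` -/
theorem card_cent_dvd {p : ℕ} [hp : Fact p.Prime] {P : Subgroup G} (hP : Nat.card P = p)
    (hi : ¬ p ∣ P.index) {g : G} (hg : p ∣ orderOf g) :
    Nat.card (Subgroup.centralizer ({g} : Set G)) ∣
      Nat.card (Subgroup.centralizer (P : Set G)) := by
  obtain ⟨S, rfl⟩ := exists_sylow_eq hP hi
  obtain ⟨k, hk⟩ := hg
  have h0 : 0 < orderOf g := orderOf_pos g
  have hx : orderOf (g ^ k) = p := by
    rw [orderOf_pow_of_dvd (by rintro rfl; omega) ⟨p, by rw [hk, mul_comm]⟩, hk,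
      Nat.mul_div_cancel _ (Nat.pos_of_ne_zero (by rintro rfl; omega))]
  have hQ : IsPGroup p (Subgroup.zpowers (g ^ k)) :=
    IsPGroup.of_card (n := 1) (by rw [Nat.card_zpowers, hx, pow_one])
  obtain ⟨Q, hQ⟩ := hQ.exists_le_sylow
  obtain ⟨c, rfl⟩ := MulAction.exists_smul_eq G S Q
  have hc : Nat.card ((c • S : Sylow p G) : Subgroup G) = p := by
    rw [Sylow.card_eq_multiplicity, ← Sylow.card_eq_multiplicity S, hP]
  have he : Subgroup.zpowers (g ^ k) = ((c • S : Sylow p G) : Subgroup G) :=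
    Subgroup.eq_of_le_of_card_ge hQ (by rw [hc, Nat.card_zpowers, hx])
  have h1 : Subgroup.centralizer ({g} : Set G) ≤
      Subgroup.centralizer (((c • S : Sylow p G) : Subgroup G) : Set G) := by
    rw [← he]
    intro y hy z hz
    obtain ⟨j, rfl⟩ := Subgroup.mem_zpowers_iff.mp hz
    have : Commute g y := hy g rfl
    exact ((this.pow_left k).zpow_left j).eq
  refine (Subgroup.card_dvd_of_le h1).trans (dvd_of_eq ?_)
  refine Nat.card_congr ((MulAut.conj c).toEquiv.subtypeEquiv fun y => ?_).symm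
  simp only [Subgroup.mem_centralizer_iff, SetLike.mem_coe, Sylow.coe_subgroup_smul,
    Subgroup.mem_smul_pointwise_iff_exists, MulEquiv.toEquiv_eq_coe, EquivLike.coe_coe,
    MulAut.smul_def]
  constructor
  · rintro h _ ⟨z, hz, rfl⟩
    rw [← map_mul, ← map_mul, h z hz]
  · intro h z hz
    apply (MulAut.conj c).injective
    rw [map_mul, map_mul]
    exact h _ ⟨z, hz, rfl⟩

theorem index_dvd_nOrd {p : ℕ} [hp : Fact p.Prime] {P : Subgroup G} (hP : Nat.card P = p)
    (hi : ¬ p ∣ P.index) {n d : ℕ} (hn : p ∣ n)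
    (h : d * Nat.card (Subgroup.centralizer (P : Set G)) = Nat.card G) : d ∣ nOrd G n := by
  refine dvd_nOrd fun g hg => ?_
  obtain ⟨k, hk⟩ := card_cent_dvd hP hi (g := g) (hg ▸ hn)
  have h2 := Subgroup.index_mul_card (Subgroup.centralizer ({g} : Set G))
  rw [← h, hk, mul_comm _ k, ← mul_assoc] at h2
  exact ⟨k, Nat.eq_of_mul_eq_mul_right Nat.card_pos h2⟩

/-- an element of order `q * p` from a prime `q` dividing `|C(P)|` -/
theorem exists_ord_mul {p q : ℕ} (hp : p.Prime) (hq : q.Prime) (hpq : q ≠ p) {P : Subgroup G}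
    (hP : Nat.card P = p) (h : q ∣ Nat.card (Subgroup.centralizer (P : Set G))) :
    ∃ g : G, orderOf g = p * q :=
  exists_mul_of_dvd_centralizer hq hp hpq.symm (M := P) (by rw [hP]) h

/-- local data at a Sylow subgroup of prime order from the set of counts -/
theorem setup_count [IsSimpleGroup G] (hna : ∃ a b : G, a * b ≠ b * a) (p : ℕ)
    [hp : Fact p.Prime] {m c w : ℕ} (hG : Nat.card G = p * m) (hm : ¬ p ∣ m) (S : Set ℕ)
    (hS : ∀ n, 0 < nOrd G n → nOrd G n ∈ S) (hc : ∀ x ∈ S, (x + 1) % p = 0 → x = c)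
    (h0 : 0 < c) (hw : w * c = m * (p - 1)) :
    ∃ (P : Subgroup G) (e k : ℕ), Nat.card P = p ∧ ¬ p ∣ P.index ∧ nOrd G p = c ∧
      Nat.card (Subgroup.centralizer (P : Set G)) = p * k ∧ k * e = w ∧ 1 < e ∧ e ∣ p - 1 ∧
      Nonempty (PB G p P e) := by
  obtain ⟨P⟩ : Nonempty (Sylow p G) := inferInstance
  obtain ⟨a1, a2⟩ := card_normalizer_of_count hG hm S hS hc P
  obtain ⟨e, k, n, h1, h2, h3, h4, -, -, h5, h6, ⟨B⟩⟩ := setup hna p hG hm P a1
  haveI := Fintype.ofFinite G
  have hw' : k * e = w := by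
    rw [h2, mul_assoc p m, ← hw, mul_assoc p k, mul_assoc] at a2
    exact Nat.eq_of_mul_eq_mul_right h0 (Nat.eq_of_mul_eq_mul_left hp.out.pos a2)
  refine ⟨P, e, k, a1, B.ind, ?_, h1, hw', h5, h6, ⟨B⟩⟩
  have h7 := card_ordF_prime a1 B.ind
  rw [card_ordF, h3] at h7
  rw [nOrd, h7]
  have : 0 < w := by
    rcases Nat.eq_zero_or_pos w with rfl | h
    · have := hp.out.two_le
      have h8 : m * (p - 1) = 0 := by rw [← hw, zero_mul]
      rcases Nat.mul_eq_zero.mp h8 with rfl | h9
      · exact absurd (dvd_zero p) hm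
      · omega
    · exact h
  apply Nat.eq_of_mul_eq_mul_left this
  rw [hw, ← h4, hw']; ring

end H17.Ord
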