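import Mathlib
import Cfsg.Agent.Base
import Cfsg.Agent.Lib.Ord.Col
import Cfsg.Agent.Lib.Ord.Nse

/-! Involutions centralising a Sylow subgroup of prime order. -/

set_option autoImplicit false
set_option linter.unusedSectionVars false
set_option linter.style.haveILetI false

open Cfsg

namespace H17.Ord
variable {G : Type*} [Group G] [Finite G] {p : ℕ} [hp : Fact p.Prime] {P : Subgroup G}

theorem orderOf_dvd_cent (g : G) : orderOf g ∣ Nat.card (Subgroup.centralizer ({g} : Set G)) :=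
  Subgroup.orderOf_dvd_natCard _ (Subgroup.mem_centralizer_singleton_iff.mpr rfl)

theorem exists_elt_cen (hP : Nat.card P = p) {q : ℕ} (hq : q.Prime) (hpq : p ≠ q)
    (h : q ∣ Nat.card (Subgroup.centralizer (P : Set G))) :
    ∃ s : G, orderOf s = q ∧ s ∈ Subgroup.centralizer (P : Set G) ∧
      p * q ∣ Nat.card (Subgroup.centralizer ({s} : Set G)) := by
  haveI := Fact.mk hq
  obtain ⟨⟨s, hs⟩, o⟩ := exists_prime_orderOf_dvd_card' q h
  rw [Subgroup.orderOf_mk] at o
  refine ⟨s, o, hs, Nat.Coprime.mul_dvd_of_dvd_of_dvd ((Nat.coprime_primes hp.out hq).mpr hpq) ?_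
    (o ▸ orderOf_dvd_cent s)⟩
  rw [← hP]
  exact Subgroup.card_dvd_of_le fun y hy => Subgroup.mem_centralizer_singleton_iff.mpr (hs y hy)

theorem dvd_cen_symm (hP : Nat.card P = p) {q : ℕ} [hq : Fact q.Prime] (hpq : p ≠ q)
    {Q : Subgroup G} (hQ : Nat.card Q = q) (hi : ¬ q ∣ Q.index)
    (h : q ∣ Nat.card (Subgroup.centralizer (P : Set G))) :
    p ∣ Nat.card (Subgroup.centralizer (Q : Set G)) := by
  obtain ⟨g, h1, h2⟩ := exists_bising hpq hP h
  exact (h1.trans (orderOf_dvd_cent g)).trans (card_cent_dvd hQ hi h2)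

theorem exists_central_invol (hP : Nat.card P = p) (h2 : p ≠ 2) {k : ℕ} (hk : 0 < k)
    (h : Nat.card (Subgroup.centralizer (P : Set G)) = p * 2 ^ k) :
    ∃ s : G, orderOf s = 2 ∧ Subgroup.centralizer (P : Set G) ≤ Subgroup.centralizer {s} := by
  have hc : (2 ^ k).Coprime p :=
    ((Nat.coprime_primes Nat.prime_two hp.out).mpr h2.symm).pow_left k
  obtain ⟨T, hT⟩ := Sylow.exists_subgroup_card_pow_prime (G := Subgroup.centralizer (P : Set G))
    2 (n := k) (h ▸ dvd_mul_left _ _)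
  haveI : Nontrivial T := Finite.one_lt_card_iff_nontrivial.mp
    (hT ▸ Nat.one_lt_two_pow hk.ne')
  haveI := (IsPGroup.of_card hT).center_nontrivial
  obtain ⟨m, hm⟩ := IsPGroup.iff_card.mp ((IsPGroup.of_card hT).to_subgroup (Subgroup.center T))
  have : 2 ∣ Nat.card (Subgroup.center T) := by
    rw [hm]
    refine dvd_pow_self 2 fun e => ?_
    rw [e, pow_zero] at hm
    exact Finite.one_lt_card.ne' hm
  obtain ⟨s, o⟩ := exists_prime_orderOf_dvd_card' 2 this
  refine ⟨s.1.1.1, by rw [Subgroup.orderOf_coe, Subgroup.orderOf_coe, Subgroup.orderOf_coe, o], ?_⟩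
  rw [← Subgroup.subgroupOf_eq_top, ← Subgroup.card_eq_iff_eq_top]
  refine Nat.dvd_antisymm (Subgroup.card_subgroup_dvd_card _) ?_
  rw [h]
  refine Nat.Coprime.mul_dvd_of_dvd_of_dvd hc.symm ?_ ?_
  · rw [← hP, ← Nat.card_congr (Subgroup.subgroupOfEquivOfLe (H84.le_Cen_of_card hP)).toEquiv]
    exact Subgroup.card_dvd_of_le fun y hy =>
      Subgroup.mem_centralizer_singleton_iff.mpr (s.1.1.2 y hy)
  · rw [← hT]
    exact Subgroup.card_dvd_of_le fun y hy => Subgroup.mem_centralizer_singleton_iff.mpr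
      (congrArg (fun z : T => z.1.1) (Subgroup.mem_center_iff.mp s.2 ⟨y, hy⟩))

theorem PB.res {e : ℕ} (B : PB G p P e) (hC : Subgroup.centralizer (P : Set G) = P)
    (χ : IrrCharacter G) : dg χ % p ∈ [0, 1, p - 1, e, p - e] := by
  by_cases h : p ∣ dg χ
  · simp [Nat.mod_eq_zero_of_dvd h]
  · rcases B.mem_of_not_dvd hC h with k | k
    · rcases B.modX k with k | k <;> simp [k.2]
    · rcases B.modY k with k | k <;> simp [k.2]

theorem PB.res_of_cnt {e : ℕ} (B : PB G p P e) (hC : Subgroup.centralizer (P : Set G) = P)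
    {S : Finset (IrrCharacter G)} {o : List ℕ} (h : ∀ d, d ≠ 1 → cnt S d = o.count d) :
    (o.any fun d => !([0, 1, p - 1, e, p - e].contains (d % p))) = false := by
  refine List.any_eq_false.mpr fun d hd => ?_
  rw [Bool.not_eq_true, Bool.not_eq_false', List.contains_eq_mem, decide_eq_true_eq]
  by_cases e1 : d = 1
  · simp [e1, Nat.mod_eq_of_lt hp.out.one_lt]
  · obtain ⟨χ, -, rfl⟩ := cnt_pos.mp (h d e1 ▸ List.count_pos_iff.mpr hd)
    exact B.res hC χ

theorem PB.not_dvd_cent {e : ℕ} (B : PB G p P e) (hC : Subgroup.centralizer (P : Set G) = P)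
    {s : G} {q : ℕ} (hs : orderOf s = q) (hq : q.Prime) (h : p ≠ q) :
    ¬ p ∣ Nat.card (Subgroup.centralizer ({s} : Set G)) :=
  not_dvd_cent_of (B.ord_eq hC) (fun k => h ((Nat.prime_dvd_prime_iff_eq hp.out hq).mp (hs ▸ k)))
    (by rintro rfl; rw [orderOf_one] at hs; exact hq.one_lt.ne hs)

theorem PB.not_dvd_cen {e : ℕ} (B : PB G p P e) (hC : Subgroup.centralizer (P : Set G) = P)
    {q : ℕ} [hq : Fact q.Prime] (hpq : q ≠ p) {Q : Subgroup G} (hQ : Nat.card Q = q) :
    ¬ p ∣ Nat.card (Subgroup.centralizer (Q : Set G)) := fun h => by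
  have := dvd_cen_symm hQ hpq B.card B.ind h
  rw [hC, B.card] at this
  exact hpq ((Nat.prime_dvd_prime_iff_eq hq.out hp.out).mp this)

end H17.Ord
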