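import Mathlib
import Cfsg.Agent.Base
import Cfsg.Agent.Lib.Ord.Col2

/-! A filtered version of the sieve for principal blocks of defect one. -/

set_option autoImplicit false
set_option linter.unusedSectionVars false
set_option linter.style.haveILetI false

open Cfsg H4.Sv

namespace H17.Ord

noncomputable def rp (n : ℕ) (fin : List ℤ → ℤ → ℕ → Bool) (a : ℤ) (q : ℕ)
    (next : ℕ → List ℤ → ℤ → ℕ → Bool) (k : ℕ) : List ℤ → ℤ → ℕ → Bool :=
  Nat.rec (motive := fun _ => List ℤ → ℤ → ℕ → Bool) fin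
    (fun k ih acc s sq => and (next (Nat.succ k) acc s sq) (fN (Nat.add sq q) fun sq' =>
      or (Nat.blt n sq') (fI (Int.add s a) fun s' => ih (a :: acc) s' sq'))) k

noncomputable def srch (n : ℕ) (fin : List ℤ → ℤ → ℕ → Bool) (l : List ℤ) :
    ℕ → List ℤ → ℤ → ℕ → Bool :=
  List.rec (motive := fun _ => ℕ → List ℤ → ℤ → ℕ → Bool)
    (fun k => Nat.rec (motive := fun _ => List ℤ → ℤ → ℕ → Bool) fin (fun _ _ _ _ _ => true) k)
    (fun a _ ih => fN (Nat.mul a.natAbs a.natAbs) fun q => rp n fin a q ih) l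

def Snd (n : ℕ) (fin : List ℤ → ℤ → ℕ → Bool) (cs : List ℤ)
    (f : ℕ → List ℤ → ℤ → ℕ → Bool) : Prop :=
  ∀ k acc s sq (T : Multiset ℤ), f k acc s sq = true → Multiset.card T = k → (∀ b ∈ T, b ∈ cs) →
    sq + (T.map fun a => a.natAbs ^ 2).sum ≤ n → ∃ l : List ℤ, (l : Multiset ℤ) = T + acc ∧
      fin l (s + T.sum) (sq + (T.map fun a => a.natAbs ^ 2).sum) = true

theorem rp_sound {n : ℕ} {fin : List ℤ → ℤ → ℕ → Bool} {cs : List ℤ}
    {next : ℕ → List ℤ → ℤ → ℕ → Bool} (a : ℤ) (h : Snd n fin cs next) :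
    Snd n fin (a :: cs) (rp n fin a (a.natAbs * a.natAbs) next) := by
  intro k
  induction k with
  | zero =>
    intro acc s sq T h1 h2 _ _
    obtain rfl := Multiset.card_eq_zero.1 h2
    change fin acc s sq = true at h1
    exact ⟨acc, by simp, by simpa using h1⟩
  | succ k ih =>
    intro acc s sq T h1 h2 h3 h4
    change (next (k + 1) acc s sq && fN (sq + a.natAbs * a.natAbs) fun sq' => Nat.blt n sq' ||
      fI (s + a) fun s' => rp n fin a (a.natAbs * a.natAbs) next k (a :: acc) s' sq') = true at h1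
    rw [fN_eq, fI_eq, Bool.and_eq_true, Bool.or_eq_true, Nat.blt_eq, ← _root_.sq] at h1
    by_cases ha : a ∈ T
    · obtain ⟨T, rfl⟩ := Multiset.exists_cons_of_mem ha
      rw [Multiset.map_cons, Multiset.sum_cons] at h4
      rw [← _root_.sq] at ih
      obtain ⟨l, hl, hf⟩ := ih (a :: acc) _ _ T (h1.2.resolve_left (by omega)) (by simpa using h2)
        (fun b hb => h3 b (Multiset.mem_cons_of_mem hb)) (by omega)
      refine ⟨l, by rw [hl, ← Multiset.cons_coe, Multiset.add_cons, Multiset.cons_add], ?_⟩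
      rwa [Multiset.map_cons, Multiset.sum_cons, Multiset.sum_cons, ← add_assoc, ← add_assoc]
    · exact h _ acc s sq T h1.1 h2 (fun b hb => (List.mem_cons.1 (h3 b hb)).resolve_left
        (fun e => ha (e ▸ hb))) h4

theorem srch_sound {n : ℕ} {fin : List ℤ → ℤ → ℕ → Bool} : ∀ cs, Snd n fin cs (srch n fin cs)
  | [] => by
    intro k acc s sq T h1 h2 h3 _
    obtain rfl : T = 0 := Multiset.eq_zero_of_forall_notMem fun b hb => by simpa using h3 b hb
    subst h2
    change fin acc s sq = true at h1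
    exact ⟨acc, by simp, by simpa using h1⟩
  | a :: cs => rp_sound a (srch_sound cs)

noncomputable def fM {α : Type} (l : List ℕ) : (List ℕ → α) → α :=
  List.rec (motive := fun _ => (List ℕ → α) → α) (fun k => k [])
    (fun a _ ih k => fN a fun a' => ih fun t => k (a' :: t)) l

theorem fM_eq {α : Type} (l : List ℕ) (k : List ℕ → α) : fM l k = k l := by
  induction l generalizing k with
  | nil => rfl
  | cons a l ih => exact ih _

noncomputable def finF (n : ℕ) (F : List (ℕ × ℕ)) (m t lo : ℕ) (f : ℕ → Bool) (K : List ℕ → Bool)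
    (l : List ℤ) (D : ℤ) (sq : ℕ) : Bool :=
  fN D.natAbs fun d => bif Nat.beq (Nat.mod m d) 0 then
    (bif Nat.ble lo d && (f d && (Nat.ble (sq + t * (d * d)) n &&
      F.all fun a => btB a.1 (a.1 ^ a.2) (-D :: l) 1)) then
      fM (l.map Int.natAbs ++ List.replicate t d) K else true) else true

/-- every numerically possible principal `p`-block all of whose degrees satisfy `f` satisfies `K` -/
noncomputable def feasF (n p e c : ℕ) (f : ℕ → Bool) (K : List ℕ → Bool) : Bool :=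
  fN (n / p / c) fun m => fN (if c == 1 then 2 else 2 * p) fun lo => fN ((p - 1) / e) fun t =>
    fL ((cand p lo (divs m)).filter fun a => f a.natAbs) fun cs =>
      srch n (finF n ((fac n).filter fun a => !(a.1 == p || c % a.1 == 0)) m t lo f K) cs
        (e - 1) [] 1 1

theorem feasF_sound {n p e c : ℕ} {f : ℕ → Bool} {K : List ℕ → Bool} (hp : 3 ≤ p)
    (hm : n / p / c ≠ 0) (hn : n ≠ 0) {L : Multiset ℤ} {D : ℤ} (B : H4.B0Num n p (n / p / c) e c L D)
    (hf : ∀ a ∈ L, f a.natAbs = true) (hD : f D.natAbs = true) (h : feasF n p e c f K = true) :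
    ∃ l : List ℤ, (l : Multiset ℤ) = L ∧ K (degs p e l) = true := by
  have hlo : (∀ a ∈ L, (if c == 1 then 2 else 2 * p) ≤ a.natAbs) ∧
      (if c == 1 then 2 else 2 * p) ≤ D.natAbs := by
    split_ifs with hc
    · exact ⟨B.two, B.dtwo⟩
    · exact B.stan (by simpa using hc)
  rw [feasF, fN_eq, fN_eq, fN_eq, fL_eq] at h
  obtain ⟨l, hl, k⟩ := srch_sound _ _ _ _ _ L h (by have := B.card; omega)
    (fun b hb => List.mem_filter.mpr
      ⟨mem_cand hp (B.mod b hb) (hlo.1 b hb) _ (mem_divs hm (B.dvd b hb)), hf b hb⟩)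
    (by have := B.sq; omega)
  rw [Multiset.coe_nil, add_zero] at hl
  refine ⟨l, hl, ?_⟩
  have e1 : 1 + l.sum = D := by rw [B.deq, ← hl, Multiset.sum_coe]
  rw [← B.deq, finF, fN_eq, fM_eq, show Nat.beq (Nat.mod _ _) 0 = true from
    Nat.beq_eq.mpr (Nat.mod_eq_zero_of_dvd B.ddvd), cond_true, Nat.ble_eq.mpr hlo.2, hD,
    Nat.ble_eq.mpr (by rw [← sq]; exact B.sq), List.all_eq_true.mpr fun a ha => ?_] at k
  · rw [degs, e1]; exact k
  obtain ⟨ha, h0⟩ := List.mem_filter.mp ha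
  obtain ⟨h1, h2, h3, h4⟩ := fac_sound ha
  simp only [Bool.not_eq_true', Bool.or_eq_false_iff, beq_eq_false_iff_ne] at h0
  obtain ⟨S, s1, s2, s3⟩ := B.bt a.1 h1 h0.1 fun e => h0.2 (Nat.mod_eq_zero_of_dvd e)
  rw [H36.factorization_eq_of_dvd_of_not_dvd h1 hn (k := a.2) (Dvd.intro _ h3.symm) (by
    intro h5
    rw [h3, pow_succ, Nat.mul_dvd_mul_iff_left (pow_pos h1.pos _)] at h5
    exact h4 h5)] at s3
  exact btB_complete _ _ S (by rw [← Multiset.cons_coe, hl]; exact s1) s2 s3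

/-- all possible pairs `(e, c)` satisfy `K` -/
def optsAll (n p : ℕ) (K : ℕ → ℕ → Bool) : Bool :=
  (divs (n / p)).all fun np => !(np % p == 1 && np != 1 && okidx n np) ||
    (divs (Nat.gcd (n / p / np) (p - 1))).all fun e => e == 1 || K e (n / p / np / e)

variable {G : Type*} [Group G] [Finite G] [IsSimpleGroup G] {p : ℕ} [hp : Fact p.Prime]
  {P : Subgroup G} {e : ℕ}

theorem PB.num (B : PB G p P e) (hna : ∃ a b : G, a * b ≠ b * a) (hp2 : p ≠ 2) {c N : ℕ}
    (hG : Nat.card G = N) (hc : Nat.card (Subgroup.centralizer (P : Set G)) = p * c)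
    [DecidableEq (IrrCharacter G)] : N / p / c ≠ 0 ∧ ∃ L D, H4.B0Num N p (N / p / c) e c L D ∧
      ∀ l : List ℤ, (l : Multiset ℤ) = L → ∀ d, d ≠ 1 →
        cnt (B.X ∪ B.Y) d = (degs p e l).count d := by
  have k := B.index_mul hc
  have k0 : 0 < c := Nat.pos_of_ne_zero (by rintro rfl; exact Nat.card_pos.ne' hc)
  have k1 : N / p / c = e * (Subgroup.normalizer (P : Set G)).index := by
    rw [← hG, ← k, Nat.div_div_eq_div_mul, show _ * (p * c * e) = p * c * (e * _) by ring,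
      Nat.mul_div_cancel_left _ (Nat.mul_pos hp.out.pos k0)]
  rw [k1]
  refine ⟨Nat.mul_ne_zero B.e_pos.ne' Subgroup.index_ne_zero_of_finite, ?_⟩
  obtain ⟨P, rfl⟩ := exists_sylow_eq B.card B.ind
  erw [← P.card_eq_index_normalizer]
  subst hG
  letI := Fintype.ofFinite G
  have hG : ¬ IsMulCommutative G := fun h => by
    obtain ⟨a, b, hab⟩ := hna
    exact hab (h.is_comm.comm a b)
  obtain ⟨M, hM, hB⟩ := B.blk
  obtain ⟨B'⟩ := H4.nonempty_B0 (H36.commutator_eq_top_of_simple hG) hM hp2 P B.card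
  rw [B.he] at B'
  refine ⟨_, _, B'.num hG hM B.card hc B.he, fun l hl d hd => ?_⟩
  rw [← cntDeg_eq_count, H4.Sv.cntDeg_eq B' B.e_dvd hl, cnt]
  congr 1
  ext χ
  simp only [Finset.mem_filter, Finset.mem_union, ← hB, B'.mem]
  refine ⟨fun h => ⟨h.1.resolve_left fun e => hd ?_, h.2⟩, fun h => ⟨Or.inr h.1, h.2⟩⟩
  rw [← h.2, e, dg_triv]

theorem PB.sieveF (B : PB G p P e) (hna : ∃ a b : G, a * b ≠ b * a) (hp2 : p ≠ 2) {c N : ℕ}
    (hG : Nat.card G = N) (hc : Nat.card (Subgroup.centralizer (P : Set G)) = p * c)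
    [DecidableEq (IrrCharacter G)] {f : ℕ → Bool} {K : List ℕ → Bool}
    (hf : ∀ χ, χ ∈ B.X ∨ χ ∈ B.Y → dg χ ≠ 1 → f (dg χ) = true) (h : feasF N p e c f K = true) :
    ∃ o, K o = true ∧ 1 ∉ o ∧ ∀ d, d ≠ 1 → cnt (B.X ∪ B.Y) d = o.count d := by
  obtain ⟨h0, L, D, h1, h2⟩ := B.num hna hp2 hG hc
  have k : ∀ d ∈ degs p e L.toList, 2 ≤ d → f d = true := fun d hd k => by
    obtain ⟨χ, c1, rfl⟩ := cnt_pos.mp
      (h2 _ L.coe_toList d (by omega) ▸ List.count_pos_iff.mpr hd)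
    exact hf χ (Finset.mem_union.mp c1) (by omega)
  have h3 := hp.out.two_le
  obtain ⟨l, l1, l2⟩ := feasF_sound (by omega) h0 (hG ▸ Nat.card_pos.ne') h1
    (fun a ha => k _ (List.mem_append_left _ (List.mem_map_of_mem (Multiset.mem_toList.mpr ha)))
      (h1.two a ha)) (k _ (List.mem_append_right _ (List.mem_replicate.mpr
        ⟨(Nat.div_pos (Nat.le_of_dvd (by omega) B.e_dvd) B.e_pos).ne', by
          rw [h1.deq, Multiset.sum_toList]⟩)) h1.dtwo) h
  refine ⟨_, l2, fun h => ?_, h2 l l1⟩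
  rcases List.mem_append.mp h with h | h
  · obtain ⟨a, a1, a2⟩ := List.mem_map.mp h
    have := h1.two a (l1 ▸ Multiset.mem_coe.mpr a1)
    omega
  · have := h1.dtwo
    rw [h1.deq, ← l1, Multiset.sum_coe, ← (List.mem_replicate.mp h).2] at this
    omega

theorem PB.opts (B : PB G p P e) (hna : ∃ a b : G, a * b ≠ b * a) {c N : ℕ}
    (hG : Nat.card G = N) (hc : Nat.card (Subgroup.centralizer (P : Set G)) = p * c)
    {K : ℕ → ℕ → Bool} (h : optsAll N p K = true) : 1 < e ∧ K e c = true := by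
  have hm := P.card_mul_index
  rw [B.card] at hm
  obtain ⟨e', k, n, a1, a2, a3, a4, a5, a6, a7, a8, -⟩ := setup hna p hm.symm B.ind P B.card
  obtain rfl : k = c := Nat.eq_of_mul_eq_mul_left hp.out.pos (a1.symm.trans hc)
  have i0 : P.index ≠ 0 := Subgroup.index_ne_zero_of_finite
  have k0 : 0 < k := Nat.pos_of_ne_zero (by rintro rfl; simp [← a4] at i0)
  obtain rfl : e' = e := by
    have := B.index_mul hc
    rw [a3, ← hm, ← a4] at this
    apply Nat.eq_of_mul_eq_mul_left (Nat.mul_pos (Nat.mul_pos hp.out.pos k0) (by omega : 0 < n))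
    linarith
  have b1 : N / p = n * (k * e') := by rw [← hG, ← hm, Nat.mul_div_cancel_left _ hp.out.pos, a4]
  have b2 : N / p / n = k * e' := by rw [b1, Nat.mul_div_cancel_left _ (by omega)]
  have hG' : ¬ IsMulCommutative G := fun h => by
    obtain ⟨a, b, hab⟩ := hna
    exact hab (h.is_comm.comm a b)
  have b3 := H36.two_mul_card_dvd_factorial hG' (H := Subgroup.normalizer (P : Set G))
    fun h => by rw [h, Subgroup.index_top] at a3; omega
  rw [a3, hG] at b3
  have h5 := List.all_eq_true.1 h n (mem_divs (b1 ▸ a4 ▸ i0) (b1 ▸ dvd_mul_right _ _))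
  rw [okidx_of b3, show (n % p == 1 && n != 1) = true by simp [a5, a6.ne'], Bool.and_true,
    Bool.not_true, Bool.false_or] at h5
  have h6 := List.all_eq_true.1 h5 e' (mem_divs (Nat.gcd_pos_of_pos_right _
    (by have := hp.out.two_le; omega)).ne' (Nat.dvd_gcd (b2 ▸ dvd_mul_left _ _) a8))
  rw [b2, Nat.mul_div_cancel _ (by omega), show (e' == 1) = false by simp [a7.ne'],
    Bool.false_or] at h6
  exact ⟨a7, h6⟩

theorem exists_fixed_of_normalizes {H : Type*} [Group H] [Finite H] {T : Subgroup H} {q a : ℕ}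
    (hq : q.Prime) (hT : Nat.card T = 2 ^ a) (ha : 2 ^ a % q ≠ 1) {y : H} (hy : orderOf y = q)
    (h : y ∈ Subgroup.normalizer (T : Set H)) : ∃ s ∈ T, orderOf s = 2 ∧ Commute y s := by
  haveI := Fact.mk hq
  set φ := T.normalizerMonoidHom ⟨y, h⟩
  have k1 : IsPGroup q (Subgroup.zpowers φ) := IsPGroup.of_card_dvd_pow (n := 1) (by
    rw [Nat.card_zpowers, pow_one, ← hy]
    exact (orderOf_map_dvd _ _).trans (Subgroup.orderOf_mk _ _).dvd)
  have k2 := k1.card_modEq_card_fixedPoints T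
  obtain ⟨t, t1, t2⟩ : ∃ t ∈ MulAction.fixedPoints (Subgroup.zpowers φ) T, t ≠ 1 := by
    by_contra! k
    have : MulAction.fixedPoints (Subgroup.zpowers φ) T = {1} :=
      Set.eq_singleton_iff_unique_mem.mpr ⟨fun g => smul_one g, k⟩
    rw [this, hT, Nat.card_unique] at k2
    exact ha (Eq.trans k2 (Nat.mod_eq_of_lt hq.one_lt))
  have k3 : Commute y t := by
    have : y * t * y⁻¹ = t := congrArg Subtype.val (t1 ⟨φ, Subgroup.mem_zpowers φ⟩)
    exact mul_inv_eq_iff_eq_mul.mp this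
  obtain ⟨k, -, hk⟩ := (Nat.dvd_prime_pow Nat.prime_two).mp (hT ▸ orderOf_dvd_natCard t)
  rcases k with _ | k
  · exact absurd (orderOf_eq_one_iff.mp hk) t2
  refine ⟨t ^ 2 ^ k, T.pow_mem t.2 _, ?_, k3.pow_right _⟩
  rw [orderOf_pow_of_dvd (by positivity) (by rw [Subgroup.orderOf_coe, hk]; exact pow_dvd_pow 2 k.le_succ),
    Subgroup.orderOf_coe, hk, pow_succ, Nat.mul_div_cancel_left _ (by positivity)]

theorem PB.exists_invol_norm (B : PB G p P e) (h2 : p ≠ 2) {q a m : ℕ} (hq : q.Prime)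
    (hc : Nat.card (Subgroup.centralizer (P : Set G)) = 2 ^ a * m) (hm : ¬ 2 ∣ m) (he : q ∣ e)
    (ha : 2 ^ a % q ≠ 1) (hq2 : q ≠ 2) (hpq : p ≠ q) : ∃ s : G, orderOf s = 2 ∧
      2 * p * q ∣ Nat.card (Subgroup.centralizer ({s} : Set G)) ∧
        s ∈ Subgroup.centralizer (P : Set G) := by
  haveI := Fact.mk hq
  set N := Subgroup.normalizer (P : Set G)
  set C := (Subgroup.centralizer (P : Set G)).subgroupOf N
  haveI : C.Normal := Subgroup.normal_subgroupOf_centralizer_normalizer _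
  have c1 : Nat.card C = 2 ^ a * m := by
    rw [← hc, Nat.card_congr (Subgroup.subgroupOfEquivOfLe (H86.Cen_le_Nor P)).toEquiv]
  obtain ⟨T⟩ : Nonempty (Sylow 2 C) := inferInstance
  have c2 : Nat.card ((T : Subgroup C).map C.subtype) = 2 ^ a := by
    rw [Subgroup.card_map_of_injective C.subtype_injective]
    exact H36.card_sylow_eq_pow T (c1 ▸ dvd_mul_right _ _) (by
      rw [c1, pow_succ, Nat.mul_dvd_mul_iff_left (by positivity)]; exact hm)
  have c3 : q ∣ Nat.card (Subgroup.normalizer (((T : Subgroup C).map C.subtype : Subgroup N) : Set N)) := by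
    have := Subgroup.relIndex_sup_right (Subgroup.normalizer
      (((T : Subgroup C).map C.subtype : Subgroup N) : Set N)) C
    rw [T.normalizer_sup_eq_top, Subgroup.relIndex_top_right] at this
    exact (he.trans (B.he.symm.trans this).dvd).trans (Subgroup.relIndex_dvd_card _ _)
  obtain ⟨⟨y, hy⟩, o⟩ := exists_prime_orderOf_dvd_card' q c3
  rw [Subgroup.orderOf_mk] at o
  obtain ⟨s, s1, s2, s3⟩ := exists_fixed_of_normalizes hq c2 ha o hy
  obtain ⟨t, -, rfl⟩ := s1
  have s4 : orderOf (t.1.1 : G) = 2 := by rw [Subgroup.orderOf_coe]; exact s2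
  refine ⟨t.1.1, s4, Nat.Coprime.mul_dvd_of_dvd_of_dvd (Nat.Coprime.mul_left
    ((Nat.coprime_primes Nat.prime_two hq).mpr hq2.symm) ((Nat.coprime_primes hp.out hq).mpr hpq))
    (Nat.Coprime.mul_dvd_of_dvd_of_dvd ((Nat.coprime_primes Nat.prime_two hp.out).mpr h2.symm)
      (s4 ▸ orderOf_dvd_cent _) ?_) ?_, t.2⟩
  · rw [← B.card]
    exact Subgroup.card_dvd_of_le fun y hy => Subgroup.mem_centralizer_singleton_iff.mpr (t.2 y hy)
  · rw [← o, ← Subgroup.orderOf_coe]
    exact Subgroup.orderOf_dvd_natCard _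
      (Subgroup.mem_centralizer_singleton_iff.mpr (congrArg Subtype.val s3))

theorem PB.exists_odd (B : PB G p P e) (hna : ∃ a b : G, a * b ≠ b * a) (hp2 : p ≠ 2) {c N : ℕ}
    (hG : Nat.card G = N) (hc : Nat.card (Subgroup.centralizer (P : Set G)) = p * c) :
    ∃ χ, (χ ∈ B.X ∨ χ ∈ B.Y) ∧ dg χ % 2 = 1 ∧ dg χ ∈ divs (N / p / c) ∧ 2 ≤ dg χ ∧
      (c ≠ 1 → 2 * p ≤ dg χ) ∧ dg χ % p ∈ [1, p - 1, e, p - e] := by
  classical
  obtain ⟨h0, L, D, h1, h2⟩ := B.num hna hp2 hG hc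
  have k : ∀ d ∈ degs p e L.toList, d % 2 = 1 → d ∣ N / p / c → 2 ≤ d → (c ≠ 1 → 2 * p ≤ d) →
      ∃ χ, (χ ∈ B.X ∨ χ ∈ B.Y) ∧ dg χ % 2 = 1 ∧ dg χ ∈ divs (N / p / c) ∧ 2 ≤ dg χ ∧
      (c ≠ 1 → 2 * p ≤ dg χ) ∧ dg χ % p ∈ [1, p - 1, e, p - e] := fun d hd k1 k2 k3 k4 => by
    obtain ⟨χ, c1, rfl⟩ := cnt_pos.mp
      (h2 _ L.coe_toList d (by omega) ▸ List.count_pos_iff.mpr hd)
    refine ⟨χ, Finset.mem_union.mp c1, k1, mem_divs h0 k2, k3, k4, ?_⟩
    rcases Finset.mem_union.mp c1 with k | k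
    · rcases B.modX k with k | k <;> simp [k.2]
    · rcases B.modY k with k | k <;> simp [k.2]
  have h3 := hp.out.two_le
  by_cases h : ∃ a ∈ L, a.natAbs % 2 = 1
  · obtain ⟨a, ha, a1⟩ := h
    exact k _ (List.mem_append_left _ (List.mem_map_of_mem (Multiset.mem_toList.mpr ha))) a1
      (h1.dvd a ha) (h1.two a ha) fun h => (h1.stan h).1 a ha
  · have : (2 : ℤ) ∣ L.sum := Multiset.dvd_sum fun a ha => by
      have : ¬ a.natAbs % 2 = 1 := fun k => h ⟨a, ha, k⟩
      omega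
    exact k _ (List.mem_append_right _ (List.mem_replicate.mpr
        ⟨(Nat.div_pos (Nat.le_of_dvd (by omega) B.e_dvd) B.e_pos).ne', by
          rw [h1.deq, Multiset.sum_toList]⟩)) (by have := h1.deq; omega) h1.ddvd h1.dtwo
      fun h => (h1.stan h).2

end H17.Ord
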