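import Mathlib
import Cfsg.Agent.Base
import Cfsg.Agent.Lib.Ord.Act

/-! Decomposition of the square of a rational character and fourfold transitivity. -/

set_option autoImplicit false
set_option linter.unusedSectionVars false
set_option linter.style.haveILetI false

open Cfsg MulAction
open scoped ComplexConjugate

namespace H17.Ord
variable {G : Type*} [Group G] [Finite G]

theorem sum_map_count (D : List ℕ) (hn : D.Nodup) (f : ℕ → ℤ) : ∀ l : List ℕ, (∀ d ∈ l, d ∈ D) →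
    (l.map f).sum = (D.map fun d => (l.count d : ℤ) * f d).sum
  | [], _ => by simp
  | a :: l, h => by
    rw [List.map_cons, List.sum_cons, sum_map_count D hn f l fun d hd => h d (List.mem_cons_of_mem _ hd),
      ← List.sum_toFinset _ hn, ← List.sum_toFinset _ hn]
    simp only [List.count_cons, Nat.cast_add, add_mul, Finset.sum_add_distrib, beq_iff_eq,
      Nat.cast_ite, Nat.cast_one, Nat.cast_zero, ite_mul, one_mul, zero_mul, Finset.sum_ite_eq,
      List.mem_toFinset, h a List.mem_cons_self, if_true]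
    ring

theorem exists_dec {θ : G → ℂ} (hθ : IsCharacter G θ) {n : ℕ} (h1 : θ 1 = n) (D : List ℕ)
    (hn : D.Nodup) (hD : ∀ ψ : IrrCharacter G, dg ψ ≤ n → dg ψ ∈ D) :
    ∃ m : ℕ → ℕ, (∀ (g : G) (f : ℕ → ℤ),
      (∀ ψ : IrrCharacter G, dg ψ ∈ D → (ψ : G → ℂ) g = f (dg ψ)) →
        θ g = ((D.map fun d => (m d : ℤ) * f d).sum : ℤ)) ∧
      ∀ E : List ℕ, (∀ d ∈ D, m d = E.count d) → (∀ d ∈ E, d ∈ D) →
        ∃ L : List (IrrCharacter G), L.map dg = E ∧
          ∀ g, θ g = (L.map fun ψ : IrrCharacter G => (ψ : G → ℂ) g).sum := by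
  obtain ⟨s, hs⟩ := H6.char_eq_multiset_sum hθ
  induction s using Quotient.inductionOn with | _ L => ?_
  have k : ∀ g, θ g = (L.map fun ψ : IrrCharacter G => (ψ : G → ℂ) g).sum := fun g => by
    rw [hs, Multiset.quot_mk_to_coe, Multiset.map_coe, Multiset.sum_coe, Pi.list_sum_apply, List.map_map]
    rfl
  have k1 : (L.map dg).sum = n := by
    have := k 1
    rw [h1] at this
    simp only [dg_cast] at this
    apply Nat.cast_injective (R := ℂ)
    rw [this, Nat.cast_list_sum, List.map_map]; rfl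
  have k2 : ∀ d ∈ L.map dg, d ∈ D := fun d hd => by
    obtain ⟨ψ, -, rfl⟩ := List.mem_map.mp hd
    exact hD ψ (k1 ▸ List.single_le_sum (fun _ _ => Nat.zero_le _) _ hd)
  refine ⟨fun d => (L.map dg).count d, fun g f hf => ?_, fun E h2 h3 => ?_⟩
  · rw [← sum_map_count D hn f _ k2, k, Int.cast_list_sum, List.map_map, List.map_map]
    exact congrArg _ (List.map_congr_left fun ψ h => hf ψ (k2 _ (List.mem_map_of_mem h)))
  · have : E.Perm (L.map dg) := List.perm_iff_count.mpr fun d => by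
      by_cases h : d ∈ D
      · exact (h2 d h).symm
      · rw [List.count_eq_zero_of_not_mem fun e => h (h3 d e),
          List.count_eq_zero_of_not_mem fun e => h (k2 d e)]
    obtain ⟨L', l1, l2⟩ : Relation.Comp (fun a b => a = List.map dg b) List.Perm E L := by
      rw [List.eq_map_comp_perm]; exact this
    exact ⟨L', l1.symm, fun g => (k g).trans (l2.map _).sum_eq.symm⟩

variable [Fintype G]

open Classical in
theorem sum_mul_real (χ ψ : IrrCharacter G) (h : ∀ g, conj ((ψ : G → ℂ) g) = (ψ : G → ℂ) g) :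
    ∑ g, (χ : G → ℂ) g * (ψ : G → ℂ) g = if χ = ψ then (Nat.card G : ℂ) else 0 := by
  have := H6.sum_irr_mul_conj χ.2 ψ.2 1
  simp only [mul_one, h] at this
  rw [this]
  by_cases e : χ = ψ
  · rw [if_pos e, if_pos (congrArg _ e), mul_div_assoc, div_self (H84.irr_one_ne_zero χ), mul_one]
  · rw [if_neg e, if_neg fun k => e (Subtype.ext k)]

theorem sum_eq_zero_of_ne {χ : IrrCharacter G} (h : dg χ ≠ 1) : ∑ g, (χ : G → ℂ) g = 0 := by
  have := sum_mul_real χ (triv G) fun g => by simp [triv_apply]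
  rw [if_neg fun e => h (by rw [e, dg_triv])] at this
  simpa [triv_apply] using this

theorem sum_list_zero {L : List (IrrCharacter G)} (h : 1 ∉ L.map dg) :
    ∑ g, (L.map fun ψ : IrrCharacter G => (ψ : G → ℂ) g).sum = 0 := by
  induction L with
  | nil => simp
  | cons a L ih =>
    rw [List.map_cons, List.mem_cons, not_or] at h
    simp only [List.map_cons, List.sum_cons, Finset.sum_add_distrib, ih h.2,
      sum_eq_zero_of_ne (Ne.symm h.1), add_zero]

theorem sym_add_alt (χ : G → ℂ) (g : G) : H84.sym χ g + H84.alt χ g = χ g * χ g := by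
  simp only [H84.sym, H84.alt]; ring

theorem action_of_sq {χ φ ψ : IrrCharacter G} {r : G → ℤ} (hr : ∀ g, (χ : G → ℂ) g = r g)
    (hs : ∀ g, H84.sym (χ : G → ℂ) g = 1 + (χ : G → ℂ) g + (φ : G → ℂ) g)
    (ha : ∀ g, H84.alt (χ : G → ℂ) g = (ψ : G → ℂ) g) (hd : 3 < dg χ) (h1 : dg χ < dg φ)
    (h2 : dg χ < dg ψ) (h3 : dg φ ≠ dg ψ)
    (hm : ∀ ψ : IrrCharacter G, dg ψ ≤ dg χ → ψ = triv G ∨ ψ = χ) :
    ∃ H : Subgroup G, H ≠ ⊤ ∧ H.index = dg χ + 1 ∧
      (∀ g : G, (Nat.card (fixedBy (G ⧸ H) g) : ℤ) = 1 + r g) ∧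
      ∑ g : G, (Nat.card (fixedBy (G ⧸ H) g)).descFactorial 4 < 2 * Nat.card G := by
  have c1 : ∀ g, conj ((χ : G → ℂ) g) = (χ : G → ℂ) g := fun g => by rw [hr, map_intCast]
  have c3 : ∀ g, conj ((ψ : G → ℂ) g) = (ψ : G → ℂ) g := fun g => by
    rw [← ha, H84.alt]; simp [c1, map_ofNat]
  have c2 : ∀ g, conj ((φ : G → ℂ) g) = (φ : G → ℂ) g := fun g => by
    rw [show (φ : G → ℂ) g = H84.sym (χ : G → ℂ) g - 1 - (χ : G → ℂ) g by rw [hs]; ring, H84.sym]
    simp [c1, map_ofNat]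
  have s1 := sum_eq_zero_of_ne (χ := χ) (by omega)
  have s2 := sum_eq_zero_of_ne (χ := φ) (by omega)
  have s3 := sum_eq_zero_of_ne (χ := ψ) (by omega)
  have s11 := sum_mul_real χ χ c1
  have s22 := sum_mul_real φ φ c2
  have s33 := sum_mul_real ψ ψ c3
  have s12 := sum_mul_real χ φ c2
  have s13 := sum_mul_real χ ψ c3
  have s23 := sum_mul_real φ ψ c3
  rw [if_pos rfl] at s11 s22 s33
  rw [if_neg (by rintro rfl; omega)] at s12 s13 s23
  have s0 : ∑ _g : G, (1 : ℂ) = Nat.card G := by simp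
  have q : ∀ g, (χ : G → ℂ) g * (χ : G → ℂ) g =
      1 + (χ : G → ℂ) g + (φ : G → ℂ) g + (ψ : G → ℂ) g := fun g => by rw [← sym_add_alt, hs, ha]
  have N0 : (Nat.card G : ℂ) ≠ 0 := by exact_mod_cast Nat.card_pos.ne'
  have t1 : ∑ g, r g = 0 := by
    apply Int.cast_injective (α := ℂ); push_cast; simpa only [hr] using s1
  have t3 : ∑ g, r g ^ 3 = Nat.card G := by
    apply Int.cast_injective (α := ℂ); push_cast
    rw [Finset.sum_congr rfl fun g _ => show (r g : ℂ) ^ 3 = (χ : G → ℂ) g + (χ : G → ℂ) g * (χ : G → ℂ) g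
      + (χ : G → ℂ) g * (φ : G → ℂ) g + (χ : G → ℂ) g * (ψ : G → ℂ) g by
        rw [← hr]; linear_combination (χ : G → ℂ) g * q g]
    simp only [Finset.sum_add_distrib, s1, s11, s12, s13]; ring
  have t4 : ∑ g, r g ^ 4 = 4 * Nat.card G := by
    apply Int.cast_injective (α := ℂ); push_cast
    rw [Finset.sum_congr rfl fun g _ => show (r g : ℂ) ^ 4 = 1 + (χ : G → ℂ) g * (χ : G → ℂ) g
      + (φ : G → ℂ) g * (φ : G → ℂ) g + (ψ : G → ℂ) g * (ψ : G → ℂ) g + 2 * ((χ : G → ℂ) g +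
      (φ : G → ℂ) g + (ψ : G → ℂ) g + (χ : G → ℂ) g * (φ : G → ℂ) g + (χ : G → ℂ) g * (ψ : G → ℂ) g
      + (φ : G → ℂ) g * (ψ : G → ℂ) g) by
        rw [← hr]
        linear_combination ((χ : G → ℂ) g * (χ : G → ℂ) g + 1 + (χ : G → ℂ) g + (φ : G → ℂ) g +
          (ψ : G → ℂ) g) * q g]
    simp only [Finset.sum_add_distrib, ← Finset.mul_sum, s0, s1, s2, s3, s11, s22, s33, s12, s13, s23]
    ring
  have t5 : ∑ g, (r g ^ 2 - r (g * g)) ^ 2 = 4 * Nat.card G := by
    apply Int.cast_injective (α := ℂ); push_cast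
    rw [← s33, Finset.mul_sum]
    exact Finset.sum_congr rfl fun g _ => by rw [← ha, H84.alt, hr, hr]; ring
  have N1 : (0 : ℤ) < Nat.card G := by exact_mod_cast Nat.card_pos
  obtain ⟨H, k1, k2, k3⟩ := action_of_int hr (mul_left_cancel₀ N0 (by
    rw [H87.card_mul_nu, Finset.sum_congr rfl fun g _ => show (χ : G → ℂ) (g * g) =
      1 + (χ : G → ℂ) g + (φ : G → ℂ) g - (ψ : G → ℂ) g by
        rw [← hs, ← ha, H84.sym, H84.alt]; ring]
    simp only [Finset.sum_sub_distrib, Finset.sum_add_distrib, s0, s1, s2, s3]; ring)) hd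
    (by omega) (by omega) hm
  refine ⟨H, k1, k2, k3, (Nat.cast_lt (α := ℤ)).mp ?_⟩
  have k4 : ∀ n : ℕ, (n.descFactorial 4 : ℤ) = n * (n - 1) * (n - 2) * (n - 3) := fun n => by
    rcases n with _ | _ | _ | n
    · simp
    · simp
    · simp
    · simp [Nat.descFactorial]; ring
  rw [Nat.cast_sum, Finset.sum_congr rfl fun g _ => show _ = r g ^ 4 - 2 * r g ^ 3 - r g ^ 2 +
    2 * r g by rw [k4, k3]; ring]
  simp only [Finset.sum_add_distrib, Finset.sum_sub_distrib, ← Finset.mul_sum, t1, t3, t4,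
    sum_sq_int hr]
  push_cast; omega

end H17.Ord
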