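import Mathlib
import Cfsg.Agent.Base
import Cfsg.Agent.Lib.Ord.Flt
import Cfsg.Agent.Lib.Ord.Sq
import Cfsg.Agent.Lib.Mod88.Brauer
import Cfsg.Agent.Lib.GL.Basic

/-! Auxiliary results for the recognition of `M₂₃` and `M₂₄` by their orders. -/

set_option autoImplicit false
set_option linter.unusedSectionVars false
set_option linter.style.haveILetI false

open Cfsg H4.Sv MulAction
open scoped ComplexConjugate

namespace H17.Ord
variable {G : Type*} [Group G] [Finite G]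

theorem exists_two_central {k : ℕ} (hk : 0 < k) (h : 2 ^ k ∣ Nat.card G) :
    ∃ s : G, orderOf s = 2 ∧ 2 ^ k ∣ Nat.card (Subgroup.centralizer ({s} : Set G)) := by
  obtain ⟨T, hT⟩ := Sylow.exists_subgroup_card_pow_prime (G := G) 2 h
  haveI : Nontrivial T := Finite.one_lt_card_iff_nontrivial.mp (hT ▸ Nat.one_lt_two_pow hk.ne')
  haveI := (IsPGroup.of_card hT).center_nontrivial
  obtain ⟨m, hm⟩ := IsPGroup.iff_card.mp ((IsPGroup.of_card hT).to_subgroup (Subgroup.center T))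
  have : 2 ∣ Nat.card (Subgroup.center T) := by
    rw [hm]
    refine dvd_pow_self 2 fun e => ?_
    rw [e, pow_zero] at hm
    exact Finite.one_lt_card.ne' hm
  obtain ⟨s, o⟩ := exists_prime_orderOf_dvd_card' 2 this
  refine ⟨s.1.1, by rw [Subgroup.orderOf_coe, Subgroup.orderOf_coe, o], ?_⟩
  rw [← hT]
  exact Subgroup.card_dvd_of_le fun y hy => Subgroup.mem_centralizer_singleton_iff.mpr
    (congrArg (fun z : T => z.1) (Subgroup.mem_center_iff.mp s.2 ⟨y, hy⟩))

theorem sq_add_sq_le {g : G} {χ ψ : IrrCharacter G} (h : χ ≠ ψ) {a b : ℤ}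
    (ha : (χ : G → ℂ) g = a) (hb : (ψ : G → ℂ) g = b) :
    a ^ 2 + b ^ 2 ≤ Nat.card (Subgroup.centralizer ({g} : Set G)) := by
  classical
  have k := congrArg Complex.re (H6.column_orthogonality_self g)
  simp only [Complex.mul_conj, Complex.re_sum, Complex.ofReal_re, Complex.natCast_re] at k
  have := Finset.sum_le_sum_of_subset_of_nonneg (Finset.subset_univ {χ, ψ})
    (f := fun χ : IrrCharacter G => Complex.normSq ((χ : G → ℂ) g))
    fun _ _ _ => Complex.normSq_nonneg _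
  rw [k, Finset.sum_pair h, ha, hb, Complex.normSq_intCast, Complex.normSq_intCast] at this
  rw [sq, sq]
  exact_mod_cast this

theorem exists_fixed_sq {α : Type*} [Finite α] [MulAction G α] {h x : G} (hc : Commute h x)
    (hx : Nat.card (fixedBy α x) = 2) : ∃ a : α, h ^ 2 • a = a := by
  obtain ⟨a, b, hab, e⟩ := Set.ncard_eq_two.mp hx
  have k : ∀ y ∈ ({a, b} : Set α), h • y ∈ ({a, b} : Set α) := fun y hy => by
    rw [← e] at hy ⊢
    rw [mem_fixedBy, smul_smul, ← hc, mul_smul, hy]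
  refine ⟨a, ?_⟩
  rw [sq, mul_smul]
  rcases k a (Or.inl rfl) with k1 | k1
  · rw [k1, k1]
  · rcases k b (Or.inr rfl) with k2 | k2
    · rw [k1, k2]
    · exact absurd (smul_left_cancel h (k1.trans k2.symm)) hab

theorem cent_le_sq (g : G) : Nat.card (Subgroup.centralizer ({g} : Set G)) ∣
    Nat.card (Subgroup.centralizer ({g * g} : Set G)) :=
  Subgroup.card_dvd_of_le fun _ hy => Subgroup.mem_centralizer_singleton_iff.mpr
    (Commute.mul_right (Subgroup.mem_centralizer_singleton_iff.mp hy)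
      (Subgroup.mem_centralizer_singleton_iff.mp hy))

theorem subm_perm {q : ℕ} {A A' B B' : List (ℕ × ℤ)} (h : A.Perm A') (h' : B.Perm B')
    (k : subm q B A = true) : subm q B' A' = true := by
  simp only [subm, List.all_eq_true] at k ⊢
  intro x hx
  rw [← h.count_eq, ← h'.count_eq]
  exact k x (h'.mem_iff.mpr hx)

theorem nrm_perm {A A' : List (ℕ × ℤ)} (h : A.Perm A') : nrm A = nrm A' := (h.map _).sum_eq

variable [IsSimpleGroup G]

theorem exists_PB (hna : ∃ a b : G, a * b ≠ b * a) (p : ℕ) [Fact p.Prime] {m : ℕ}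
    (hG : Nat.card G = p * m) (hm : ¬ p ∣ m) : ∃ (P : Subgroup G) (e c : ℕ),
      Nat.card (Subgroup.centralizer (P : Set G)) = p * c ∧ Nonempty (PB G p P e) := by
  obtain ⟨P, hP⟩ := exists_subgroup_prime (G := G) p (hG ▸ dvd_mul_right _ _)
  obtain ⟨e, c, -, h, -, -, -, -, -, -, -, B⟩ := setup hna p hG hm P hP
  exact ⟨P, e, c, h, B⟩

theorem dg_ne_half (hna : ∃ a b : G, a * b ≠ b * a) {p : ℕ} [hp : Fact p.Prime]
    (h1 : p ∣ Nat.card G) (h2 : ¬ p ^ 2 ∣ Nat.card G) (h3 : p * (p - 1) * (p + 1) < Nat.card G)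
    (h4 : 3 < p) (χ : IrrCharacter G) : 2 * dg χ + 1 ≠ p := fun h => by
  obtain ⟨-, ⟨φ⟩⟩ := H88.Mod.brauer_small_char h1 h2 (fun H hH k => by
    rcases hH.eq_bot_or_eq_top with rfl | rfl
    · rw [Subgroup.card_bot] at k; omega
    · rw [Subgroup.card_top] at k
      rw [k, mul_assoc] at h3
      have := Nat.lt_of_mul_lt_mul_left (h3.trans_eq (mul_one p).symm)
      rcases p with _ | _ | p <;> simp at this h4) (irr_chr χ)
    (fun g hg => eq_one_of_apply_eq (by rintro rfl; rw [dg_triv] at h; omega) (hg.trans (dg_cast χ)))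
    (by change 2 * dg χ < p; omega)
  have k := H10.card_PSL_two (F := ZMod p)
  rw [← Nat.card_congr φ.toEquiv, Nat.card_zmod, ← Subgroup.index] at k
  rcases (inferInstance : (Subgroup.center G).Normal).eq_bot_or_eq_top with e | e
  · rw [e, Subgroup.index_bot] at k
    have := Nat.gcd_pos_of_pos_left (p - 1) two_pos
    nlinarith
  · obtain ⟨a, b, hab⟩ := hna
    exact hab (Subgroup.mem_center_iff.mp (e ▸ Subgroup.mem_top b) a)

theorem PB.mem_fl (hna : ∃ a b : G, a * b ≠ b * a) {N : ℕ} (hG : Nat.card G = N)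
    (hN : ∀ q ∈ [5, 7, 11, 23], ¬ q ^ 2 ∣ N) {p : ℕ} [Fact p.Prime] {P : Subgroup G} {e c C : ℕ}
    (B : PB G p P e) (he : 1 < e) (hc : Nat.card (Subgroup.centralizer (P : Set G)) = p * c)
    [DecidableEq (IrrCharacter G)] {o : List ℕ}
    (h : ∀ d, d ≠ 1 → cnt (B.X ∪ B.Y) d = o.count d) (hg : good p e o = true) {s : G}
    (hs : orderOf s = 2) (hC : Nat.card (Subgroup.centralizer ({s} : Set G)) = C)
    {u : IrrCharacter G → ℤ} (hu : ∀ χ : IrrCharacter G, (χ : G → ℂ) s = u χ) :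
    ∃ L : List (IrrCharacter G), L.Nodup ∧ (∀ χ, χ ∈ L ↔ (χ ∈ B.X ∨ χ ∈ B.Y) ∧ χ ≠ triv G) ∧
      L.map (pr u) ∈ cols N p e c C (fl [5, 7, 11, 23] p C) o :=
  B.mem_cols hna he hG hc h hg hs hC hu (B.fl_of (fun q hq => ⟨by revert q; decide,
    by revert q; decide, hG ▸ hN q hq⟩) hs hC hu)

instance fact23 : Fact (Nat.Prime 23) := ⟨by norm_num⟩

theorem PB.not_side (hna : ∃ a b : G, a * b ≠ b * a) {N : ℕ} (hG : Nat.card G = N)
    (hN : ¬ 11 ^ 2 ∣ N) {P : Subgroup G} {e c a m : ℕ} (B : PB G 23 P e)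
    (hc : Nat.card (Subgroup.centralizer (P : Set G)) = 23 * c) (h : 23 * c = 2 ^ a * m)
    (hm : ¬ 2 ∣ m) (he : e % 11 = 0) (ha : 2 ^ a % 11 ≠ 1) (h1 : c ≠ 1)
    (ho : ∀ d ∈ divs (N / 23 / c), d % 2 = 1 → 46 ≤ d → d % 23 ∈ [1, 22, 11, 12] →
      d % 11 = 0 ∧ d ≤ 506) : False := by
  obtain ⟨s, hs, k, -⟩ := B.exists_invol_norm (q := 11) (by norm_num) (by norm_num) (hc.trans h) hm
    (Nat.dvd_of_mod_eq_zero he) ha (by norm_num) (by norm_num)
  obtain ⟨χ, c1, c2, c3, c4, c5, c6⟩ := B.exists_odd hna (by norm_num) hG hc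
  obtain ⟨u, hu, -, u1⟩ := exists_invol_col hna hs
  have e1 := Nat.le_of_dvd (by norm_num) B.e_dvd
  have e2 := B.e_pos
  have k1 := ho _ c3 c2 (c5 h1) (by
    simp only [List.mem_cons, List.not_mem_nil, or_false] at c6 ⊢; omega)
  have k2 := B.fl_of (Q := [11, 23]) (fun q hq => by
    simp only [List.mem_cons, List.not_mem_nil, or_false] at hq
    rcases hq with rfl | rfl
    exacts [⟨by norm_num, by norm_num, hG ▸ hN⟩, ⟨by norm_num, by norm_num, B.not_sq_dvd⟩])
    hs rfl hu χ c1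
  obtain ⟨k3, k4, k5⟩ := u1 χ
  obtain ⟨j, hj⟩ := k
  simp only [fl, List.all_cons, List.all_nil, Bool.and_eq_true, Bool.or_eq_true, bne_iff_ne,
    beq_iff_eq, hj, show 2 * 23 * 11 * j % 11 = 0 by omega, show 2 * 23 * 11 * j % 23 = 0 by omega,
    k1.1, ne_eq, not_true, false_or] at k2
  have := k5 (by omega)
  have k6 := k2.1.1
  have k7 := k2.2.1.2
  clear k2 hj c3 c5 c6 k5 ha h hc he
  push_cast at k6 k7
  omega

end H17.Ord
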