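import Mathlib
import Cfsg.Agent.Base
import Cfsg.Agent.Lib.Ord.SC

/-! Simple groups of order 443520 with self-centralising Sylow 5-, 7- and 11-subgroups: the
character degrees. -/

set_option autoImplicit false
set_option linter.unusedSectionVars false
set_option linter.style.haveILetI false

open Cfsg H4.Sv
open scoped ComplexConjugate

namespace H17.Ord.M22

def O11 : List (List ℕ) := [
  [5, 5, 10, 10, 12, 12], [5, 5, 10, 10, 21, 45], [5, 5, 10, 10, 120, 144],
  [5, 5, 10, 21, 21, 56], [5, 5, 10, 56, 210, 252], [5, 5, 12, 56, 56, 120],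
  [5, 5, 12, 56, 320, 384], [5, 5, 32, 32, 252, 320], [5, 5, 32, 144, 144, 252],
  [5, 5, 56, 56, 144, 252], [5, 5, 56, 120, 252, 320], [5, 5, 144, 210, 210, 560],
  [5, 5, 252, 320, 320, 384], [6, 6, 10, 12, 12, 21], [6, 6, 10, 21, 21, 45],
  [6, 6, 10, 21, 120, 144], [6, 6, 10, 45, 210, 252], [6, 6, 12, 45, 56, 120],
  [6, 6, 12, 45, 320, 384], [6, 6, 21, 21, 21, 56], [6, 6, 21, 56, 210, 252],
  [6, 6, 45, 56, 144, 252], [6, 6, 45, 120, 252, 320], [10, 10, 12, 21, 28, 28],
  [10, 10, 21, 120, 160, 160], [10, 10, 21, 280, 280, 320], [10, 12, 12, 45, 60, 60],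
  [10, 12, 12, 105, 105, 120], [10, 12, 21, 126, 126, 144], [10, 12, 21, 192, 192, 210],
  [10, 12, 45, 72, 72, 120], [10, 12, 45, 144, 192, 192], [10, 12, 45, 336, 336, 384],
  [10, 12, 105, 105, 144, 252], [10, 21, 21, 21, 72, 72], [10, 21, 45, 45, 60, 60],
  [10, 21, 45, 105, 105, 120], [10, 21, 60, 60, 120, 210], [10, 21, 72, 72, 210, 252],
  [10, 28, 28, 45, 56, 120], [10, 28, 28, 45, 320, 384], [10, 45, 45, 45, 126, 126],
  [10, 45, 56, 160, 160, 252], [10, 45, 60, 60, 120, 144], [10, 45, 72, 72, 144, 252],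
  [10, 45, 120, 126, 126, 210], [10, 45, 120, 252, 336, 336], [10, 105, 105, 120, 120, 144],
  [10, 105, 105, 144, 144, 384], [12, 12, 21, 56, 60, 60], [12, 12, 45, 56, 126, 126],
  [12, 12, 45, 210, 280, 280], [12, 16, 16, 21, 120, 144], [12, 16, 16, 45, 210, 252],
  [12, 21, 32, 120, 160, 160], [12, 21, 56, 72, 72, 120], [12, 21, 56, 144, 192, 192],
  [12, 21, 56, 336, 336, 384], [12, 21, 60, 60, 252, 320], [12, 21, 72, 72, 320, 384],
  [12, 21, 120, 192, 192, 320], [12, 21, 144, 144, 280, 280], [12, 45, 126, 126, 252, 320],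
  [12, 56, 105, 105, 210, 384], [16, 16, 21, 144, 144, 252], [16, 16, 45, 120, 120, 210],
  [16, 16, 45, 144, 210, 384], [21, 21, 45, 56, 60, 60], [21, 21, 56, 105, 105, 120],
  [21, 21, 105, 105, 320, 384], [21, 28, 28, 56, 56, 120], [21, 28, 28, 56, 320, 384],
  [21, 32, 144, 160, 160, 252], [21, 45, 45, 56, 126, 126], [21, 45, 45, 210, 280, 280],
  [21, 56, 56, 160, 160, 252], [21, 56, 60, 60, 120, 144], [21, 56, 72, 72, 144, 252],
  [21, 56, 120, 126, 126, 210], [21, 56, 120, 252, 336, 336], [21, 60, 60, 120, 120, 320],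
  [21, 60, 60, 144, 320, 384], [21, 72, 72, 120, 252, 320], [21, 120, 210, 210, 280, 280],
  [21, 126, 126, 210, 320, 384], [21, 144, 192, 192, 252, 320], [28, 28, 32, 45, 210, 252],
  [32, 32, 45, 192, 192, 210], [32, 45, 56, 210, 280, 280], [32, 45, 160, 160, 210, 384],
  [45, 45, 45, 56, 192, 192], [45, 45, 45, 144, 280, 280], [45, 45, 56, 105, 105, 252],
  [45, 56, 60, 60, 210, 252], [45, 56, 72, 72, 210, 384], [45, 56, 120, 126, 126, 144],
  [45, 56, 120, 192, 192, 210], [45, 120, 120, 126, 126, 320], [45, 120, 144, 210, 280, 280],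
  [45, 126, 126, 144, 320, 384], [45, 144, 160, 160, 210, 560], [45, 192, 192, 210, 320, 384],
  [56, 105, 105, 120, 210, 252], [105, 105, 210, 252, 320, 384]]

def O7 : List (List ℕ) := [
  [6, 6, 11, 11], [6, 10, 10, 15], [6, 55, 60, 60], [6, 160, 165, 165], [10, 10, 90, 99],
  [11, 11, 36, 48], [11, 11, 120, 132], [15, 144, 144, 160], [15, 176, 192, 192],
  [18, 18, 36, 55], [20, 80, 80, 99], [22, 22, 45, 45], [45, 45, 55, 99], [45, 45, 132, 176],
  [55, 66, 66, 120], [55, 90, 144, 144], [60, 60, 99, 160], [99, 120, 220, 220]]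

def O5 : List (List ℕ) := [
  [6, 6, 11, 24], [6, 9, 9, 11], [6, 11, 66, 84], [6, 11, 126, 144], [6, 14, 14, 21],
  [6, 14, 224, 231], [6, 21, 56, 84], [6, 21, 126, 154], [6, 36, 56, 99], [6, 84, 99, 176],
  [6, 84, 154, 231], [9, 11, 11, 14], [9, 11, 21, 24], [9, 11, 96, 99], [9, 14, 14, 36],
  [9, 14, 44, 66], [9, 14, 154, 176], [9, 24, 24, 56], [9, 24, 144, 176], [9, 36, 56, 84],
  [9, 36, 126, 154], [9, 44, 44, 96], [9, 56, 96, 144], [9, 56, 176, 224], [9, 56, 336, 384],
  [9, 66, 96, 154], [9, 84, 84, 176], [9, 96, 176, 264], [9, 176, 336, 504], [11, 11, 21, 44],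
  [11, 21, 66, 99], [11, 21, 231, 264], [11, 24, 24, 36], [11, 24, 44, 56], [11, 24, 84, 96],
  [11, 24, 384, 396], [11, 36, 36, 84], [11, 36, 96, 144], [11, 36, 176, 224], [11, 36, 336, 384],
  [11, 44, 144, 176], [11, 66, 66, 144], [11, 84, 264, 336], [11, 96, 396, 504],
  [11, 99, 144, 231], [11, 126, 126, 264], [11, 144, 264, 396], [14, 14, 99, 126],
  [14, 21, 36, 44], [14, 56, 56, 99], [14, 99, 224, 336], [21, 21, 56, 99], [21, 36, 96, 154],
  [21, 44, 44, 66], [21, 44, 154, 176], [21, 56, 66, 144], [21, 66, 66, 154], [21, 66, 176, 264],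
  [21, 99, 99, 176], [21, 99, 154, 231], [21, 154, 264, 396], [24, 56, 66, 99],
  [24, 56, 231, 264], [24, 176, 231, 384], [36, 44, 224, 231], [44, 44, 144, 231],
  [56, 84, 99, 126], [56, 96, 231, 384], [56, 144, 144, 231], [66, 99, 144, 176],
  [66, 144, 154, 231], [84, 99, 154, 336], [96, 176, 231, 504], [99, 126, 126, 154],
  [99, 144, 154, 396], [144, 176, 231, 264]]

theorem s11 : feas 443520 (fac 443520) 11 (5 * 8064) 5 1
    (fun l => O11.any fun o => o.isPerm (degs 11 5 l)) = true := by decide +kernel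

theorem s7 : feas 443520 (fac 443520) 7 (3 * 21120) 3 1
    (fun l => O7.any fun o => o.isPerm (degs 7 3 l)) = true := by decide +kernel

theorem s5 : feas 443520 (fac 443520) 5 (4 * 22176) 4 1
    (fun l => O5.any fun o => o.isPerm (degs 5 4 l)) = true := by decide +kernel

def compat (p q : ℕ) (a b : List ℕ) : Bool :=
  (a ++ b).all fun d => d % p == 0 || d % q == 0 || a.count d == b.count d

def allD (a b c : List ℕ) (k : ℕ) : List ℕ :=
  1 :: (a ++ b.filter (· % 11 == 0) ++ c.filter (· % 77 == 0) ++ List.replicate k 385)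

def Db : List ℕ := [1, 21, 55, 66, 66, 120, 154, 210, 210, 280, 280, 385]
def Dd : List ℕ := [1, 21, 45, 45, 55, 99, 154, 210, 231, 280, 280, 385]

theorem cross : ∀ a ∈ O11, ∀ b ∈ O7, compat 11 7 a b = true → ∀ c ∈ O5, compat 11 5 a c = true →
    compat 7 5 b c = true → ∀ k < 3, ((allD a b c k).map (· ^ 2)).sum = 443520 →
    b = [99, 120, 220, 220] ∨ (allD a b c k).isPerm Db = true ∨
      (allD a b c k).isPerm Dd = true := by decide +kernel

theorem no_one : (∀ a ∈ O11, 1 ∉ a) ∧ (∀ a ∈ O7, 1 ∉ a) ∧ ∀ a ∈ O5, 1 ∉ a := by decide +kernel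

instance fact11 : Fact (Nat.Prime 11) := ⟨by norm_num⟩
instance fact7 : Fact (Nat.Prime 7) := ⟨by norm_num⟩
instance fact5 : Fact (Nat.Prime 5) := ⟨by norm_num⟩

structure Main (G : Type*) [Group G] [Finite G] where
  P11 : Subgroup G
  P7 : Subgroup G
  P5 : Subgroup G
  B11 : PB G 11 P11 5
  B7 : PB G 7 P7 3
  B5 : PB G 5 P5 4
  C11 : Subgroup.centralizer (P11 : Set G) = P11
  C7 : Subgroup.centralizer (P7 : Set G) = P7
  C5 : Subgroup.centralizer (P5 : Set G) = P5

variable {G : Type*} [Group G] [Finite G] [IsSimpleGroup G]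

theorem hna (hG : Nat.card G = 443520) : ∃ a b : G, a * b ≠ b * a :=
  noncomm_of_not_prime (by rw [hG]; norm_num)

theorem exists_invol (hG : Nat.card G = 443520) : ∃ t : G, orderOf t = 2 :=
  exists_prime_orderOf_dvd_card' 2 (by rw [hG]; norm_num)

theorem compat_of {p q : ℕ} {a b : List ℕ} {c : ℕ → ℕ} (ha : ∀ d, d ≠ 1 → ¬ p ∣ d → c d = a.count d)
    (hb : ∀ d, d ≠ 1 → ¬ q ∣ d → c d = b.count d) (h1 : 1 ∉ a) (h2 : 1 ∉ b) :
    compat p q a b = true := List.all_eq_true.mpr fun d hd => by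
  have : d ≠ 1 := by rintro rfl; simp [h1, h2] at hd
  by_cases k1 : p ∣ d
  · simp [Nat.mod_eq_zero_of_dvd k1]
  by_cases k2 : q ∣ d
  · simp [Nat.mod_eq_zero_of_dvd k2]
  simp [← ha d this k1, ← hb d this k2]

/-- the block `{1, 99, 120, 220, 220}` is impossible -/
theorem not_220 (hG : Nat.card G = 443520) {P : Subgroup G} (B : PB G 7 P 3)
    (hC : Subgroup.centralizer (P : Set G) = P) [DecidableEq (IrrCharacter G)]
    (h : ∀ d, d ≠ 1 → cnt (B.X ∪ B.Y) d = [99, 120, 220, 220].count d) : False := by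
  obtain ⟨L, h1, -, -, h2⟩ := B.enum_blk (hna hG) (by decide) h
  obtain ⟨t, ht⟩ := exists_invol hG
  have k1 := B.rel_blk (by norm_num) (g := t) (by rw [ht]; norm_num)
  have k2 := B.pair_blk (by norm_num) (by decide) hC ht ht
  simp only [List.map_eq_cons_iff, List.map_eq_nil_iff] at h1
  obtain ⟨x1, _, rfl, d1, a, _, rfl, da, b, _, rfl, db, c, _, rfl, dc, c', _, rfl, dc', rfl⟩ := h1
  obtain rfl := eq_triv_of_dg (hna hG) d1
  have k3 := B.reg_eq hC (χ := c) (ψ := c') (by omega) (by omega) (g := t) (by rw [ht]; norm_num)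
  obtain ⟨za, ha, -, -, a2⟩ := invol_val (hna hG) (χ := a) (by omega) ht
  obtain ⟨zb, hb, -⟩ := invol_val (hna hG) (χ := b) (by omega) ht
  obtain ⟨zc, hc, -⟩ := invol_val (hna hG) (χ := c) (by omega) ht
  rw [h2] at k1 k2
  simp only [List.map_cons, List.map_nil, List.sum_cons, List.sum_nil, d1, da, db, dc, dc', k3, ha,
    hb, hc, triv_apply] at k1 k2
  norm_num [wt] at k1 k2
  have e1 : zc = 1 + za + zb := by
    have : ((zc : ℤ) : ℂ) = 1 + za + zb := by linear_combination (-1 / 2 : ℂ) * k1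
    exact_mod_cast this
  have e2 : 3960 + 40 * za ^ 2 + 33 * zb ^ 2 = 18 * zc ^ 2 := by
    have : (3960 + 40 * za ^ 2 + 33 * zb ^ 2 : ℂ) = 18 * zc ^ 2 := by
      linear_combination (1980 : ℂ) * k2
    exact_mod_cast this
  rw [da] at a2
  push_cast at a2
  subst e1
  nlinarith [sq_nonneg (40 * za - 33 * zb), sq_nonneg (zb - 120), mul_pos (sub_pos.mpr a2) (sub_pos.mpr a2)]

theorem degrees (hG : Nat.card G = 443520) (M : Main G) :
    (∀ d, cnt (G := G) Finset.univ d = Db.count d) ∨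
      ∀ d, cnt (G := G) Finset.univ d = Dd.count d := by
  classical
  obtain ⟨a, ha, a1⟩ := sieve_list (hna hG) (by norm_num) M.B11 hG (c := 1)
    (by rw [M.C11, M.B11.card]) (M.B11.index_eq M.C11 (n := 8064) hG) O11 s11
  obtain ⟨b, hb, b1⟩ := sieve_list (hna hG) (by norm_num) M.B7 hG (c := 1)
    (by rw [M.C7, M.B7.card]) (M.B7.index_eq M.C7 (n := 21120) hG) O7 s7
  obtain ⟨c, hc, c1⟩ := sieve_list (hna hG) (by norm_num) M.B5 hG (c := 1)
    (by rw [M.C5, M.B5.card]) (M.B5.index_eq M.C5 (n := 22176) hG) O5 s5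
  have a2 := fun d h k => (M.B11.cnt_univ M.C11 k).trans (a1 d h)
  have b2 := fun d h k => (M.B7.cnt_univ M.C7 k).trans (b1 d h)
  have c2 := fun d h k => (M.B5.cnt_univ M.C5 k).trans (c1 d h)
  have a0 := no_one.1 a ha
  have b0 := no_one.2.1 b hb
  have c0 := no_one.2.2 c hc
  have hD : ∀ d, cnt (G := G) Finset.univ d =
      (allD a b c (cnt (G := G) Finset.univ 385)).count d := fun d => by
    by_cases e : d = 1
    · rw [e, cnt_one (hna hG) (Finset.mem_univ _)]
      simp [allD, List.count_eq_zero_of_not_mem, a0, b0, c0]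
    simp only [allD, List.count_cons_of_ne (Ne.symm e), List.count_append, List.count_replicate,
      beq_iff_eq]
    have f : ∀ (l : List ℕ) (m : ℕ), (l.filter (· % m == 0)).count d =
        if m ∣ d then l.count d else 0 := fun l m => by
      split_ifs with h
      · exact List.count_filter (by simpa using Nat.mod_eq_zero_of_dvd h)
      · exact List.count_eq_zero_of_not_mem fun k => h (Nat.dvd_of_mod_eq_zero (by
          simpa using (List.mem_filter.mp k).2))
    rw [f, f]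
    by_cases k1 : 11 ∣ d; swap
    · rw [a2 d e k1, if_neg k1, if_neg (by omega), if_neg (by omega)]; rfl
    rw [← a1 d e, M.B11.cnt_zero k1, if_pos k1]
    by_cases k2 : 7 ∣ d; swap
    · rw [b2 d e k2, if_neg (by omega), if_neg (by omega)]; simp
    rw [← b1 d e, M.B7.cnt_zero k2, if_pos (by omega)]
    by_cases k3 : 5 ∣ d; swap
    · rw [c2 d e k3, if_neg (by omega)]; simp
    rw [← c1 d e, M.B5.cnt_zero k3]
    split_ifs with k4
    · simp [k4]
    · refine cnt_eq_zero.mpr fun χ _ k5 => ?_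
      have := sum_dg_sq_le {χ}
      rw [Finset.sum_singleton, k5, hG] at this
      have k6 := dg_pos χ
      have : 770 ≤ d := by omega
      nlinarith
  obtain ⟨L, l1, -, -, l2⟩ := exists_enum _ hD
  have sq := sum_dg_sq (G := G)
  rw [l2, hG, show L.map (fun χ => dg χ ^ 2) = (L.map dg).map (· ^ 2) by rw [List.map_map]; rfl, l1] at sq
  have k3 : cnt (G := G) Finset.univ 385 < 3 := by
    simp only [allD, List.map_cons, List.map_append, List.sum_cons, List.sum_append,
      List.map_replicate, List.sum_replicate, smul_eq_mul] at sq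
    omega
  rcases cross a ha b hb (compat_of a2 b2 a0 b0) c hc (compat_of a2 c2 a0 c0)
    (compat_of b2 c2 b0 c0) _ k3 sq with h | h | h
  · exact (not_220 hG M.B7 M.C7 (h ▸ b1)).elim
  · exact Or.inl fun d => (hD d).trans ((List.isPerm_iff.mp h).count_eq d)
  · exact Or.inr fun d => (hD d).trans ((List.isPerm_iff.mp h).count_eq d)

end H17.Ord.M22
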