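import Mathlib
import Cfsg.Agent.Base
import Cfsg.Agent.Lib.Ord.M22A
import Cfsg.Agent.Lib.Ord.Act

/-! Simple groups of order 443520 with self-centralising Sylow 5-, 7- and 11-subgroups are `M₂₂`. -/

set_option autoImplicit false
set_option linter.unusedSectionVars false
set_option linter.style.haveILetI false

open Cfsg MulAction
open scoped ComplexConjugate

namespace H17.Ord

theorem card_mul_fd_const {G : Type*} [Group G] [Finite G] (K : Subgroup G) {χ : IrrCharacter G}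
    {c : ℤ} (h : ∀ x ∈ K, x ≠ 1 → (χ : G → ℂ) x = c) :
    ∃ m : ℕ, (Nat.card K : ℤ) * m = dg χ + (Nat.card K - 1) * c := by
  classical
  letI := Fintype.ofFinite K
  refine ⟨H84.fd K χ, Int.cast_injective (α := ℂ) ?_⟩
  have := H84.card_mul_fd K (irr_chr χ)
  rw [← Finset.add_sum_erase _ _ (Finset.mem_univ 1), Finset.sum_congr rfl fun (x : K) k =>
    h x x.2 fun e => (Finset.mem_erase.mp k).1 (Subtype.ext e), Finset.sum_const,
    Finset.card_erase_of_mem (Finset.mem_univ _), Finset.card_univ, ← Nat.card_eq_fintype_card,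
    nsmul_eq_mul, Nat.cast_sub Nat.card_pos, OneMemClass.coe_one, dg_cast] at this
  push_cast at this ⊢
  exact this

namespace M22

set_option synthInstance.maxSize 2000 in
theorem arith_b : ∀ c ∈ rg 33 4 3, ∀ w ∈ rg 33 4 0,
    1320 - 24 * c * c + 11 * w * w - 20 * (1 - c + w) * (1 - c + w) = 0 → ∀ a ∈ rg 33 4 1,
    ∀ f ∈ rg 33 4 2, ∀ f' ∈ rg 33 4 2, 840 - 40 * a * a - 7 * w * w + 4 * f * f + 4 * f' * f' -
      3 * (1 - a - w + f + f') * (1 - a - w + f + f') = 0 → ∀ j ∈ rg 33 4 1,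
    1 + 21 * a + 55 * c + 132 * (1 - c + w) + 120 * w + 154 * (1 + a + 2 * (1 - c + w)) +
      210 * f + 210 * f' + 560 * (1 - a - w + f + f') + 385 * j = 0 →
    1152 % (1 + a ^ 2 + c ^ 2 + 2 * (1 - c + w) ^ 2 + w ^ 2 + (1 + a + 2 * (1 - c + w)) ^ 2 + f ^ 2 +
      f' ^ 2 + 2 * (1 - a - w + f + f') ^ 2 + j ^ 2) = 0 →
    a = -3 ∧ c = -9 ∧ w = -8 ∧ j = -7 ∧ (f = -6 ∧ f' = 2 ∨ f = 2 ∧ f' = -6) := by decide +kernel

set_option synthInstance.maxSize 2000 in
theorem arith_d : ∀ c ∈ rg 33 4 3, ∀ d ∈ rg 33 4 3,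
    495 - 9 * c * c + 5 * d * d - 11 * (1 - c + d) * (1 - c + d) = 0 → ∀ a ∈ rg 33 4 1,
    ∀ f ∈ rg 33 4 2, 2520 - 120 * a * a + 112 * (1 - c + d) * (1 - c + d) + 12 * f * f -
      9 * (1 - a + 2 * (1 - c + d) + f) * (1 - a + 2 * (1 - c + d) + f) = 0 → ∀ e ∈ rg 33 4 2,
    ∀ j ∈ rg 33 4 1, 1 + 21 * a + 90 * (1 - c + d) + 55 * c + 99 * d + 154 * e + 210 * f +
      231 * (e + d - 1 - a) + 560 * (1 - a + 2 * (1 - c + d) + f) + 385 * j = 0 →
    1152 % (1 + a ^ 2 + 2 * (1 - c + d) ^ 2 + c ^ 2 + d ^ 2 + e ^ 2 + f ^ 2 + (e + d - 1 - a) ^ 2 +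
      2 * (1 - a + 2 * (1 - c + d) + f) ^ 2 + j ^ 2) = 0 →
    a = 5 ∧ c = 7 ∧ d = 3 ∧ e = 10 ∧ f = 2 ∧ j = 1 := by decide +kernel

theorem arith_y : ∀ a ∈ rg 33 3 0, ∀ f ∈ rg 33 3 0,
    1152 % (9 + 3 * a ^ 2 + 14 * (f - a) ^ 2 + 18 * (f - a)) = 0 →
    f = a ∧ (a = 0 ∨ a = 3 ∨ a = -3) := by decide +kernel

variable {G : Type*} [Group G] [Finite G] [IsSimpleGroup G]

theorem cent_dvd (hG : Nat.card G = 443520) (M : Main G) {g : G} (h1 : g ≠ 1)
    (h : (orderOf g).Coprime 385) : Nat.card (Subgroup.centralizer ({g} : Set G)) ∣ 1152 := by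
  have k : ∀ p, p.Prime → p ∣ 385 → ¬ p ∣ orderOf g := fun p hp h2 h3 =>
    hp.one_lt.ne' (Nat.eq_one_of_dvd_coprimes h h3 h2)
  have k1 := not_dvd_cent_of (M.B11.ord_eq M.C11) (k 11 (by norm_num) (by norm_num)) h1
  have k2 := not_dvd_cent_of (M.B7.ord_eq M.C7) (k 7 (by norm_num) (by norm_num)) h1
  have k3 := not_dvd_cent_of (M.B5.ord_eq M.C5) (k 5 (by norm_num) (by norm_num)) h1
  have := Subgroup.card_subgroup_dvd_card (Subgroup.centralizer ({g} : Set G))
  rw [hG, show 443520 = 1152 * 5 * 7 * 11 by norm_num] at this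
  exact ((Nat.Prime.coprime_iff_not_dvd (by norm_num)).mpr k3).symm.dvd_of_dvd_mul_right
    (((Nat.Prime.coprime_iff_not_dvd (by norm_num)).mpr k2).symm.dvd_of_dvd_mul_right
      (((Nat.Prime.coprime_iff_not_dvd (by norm_num)).mpr k1).symm.dvd_of_dvd_mul_right this))

theorem mem33 (hG : Nat.card G = 443520) (M : Main G) {g : G} (h1 : g ≠ 1)
    (h : (orderOf g).Coprime 385) {u : IrrCharacter G → ℤ}
    (hu : ∀ χ : IrrCharacter G, (χ : G → ℂ) g = u χ) {χ : IrrCharacter G} {m r : ℕ}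
    (h2 : u χ % m = r) : u χ ∈ rg 33 m r := by
  have k1 := sq_le_cent hu χ
  have k2 := Nat.le_of_dvd (by norm_num) (cent_dvd hG M h1 h)
  exact mem_rg (by push_cast; omega) h2

theorem not_Db (hG : Nat.card G = 443520) (M : Main G)
    (h : ∀ d, cnt (G := G) Finset.univ d = Db.count d) : False := by
  obtain ⟨L, h1, -, -, h2⟩ := exists_enum _ h
  simp only [Db, List.map_eq_cons_iff, List.map_eq_nil_iff] at h1
  obtain ⟨x1, _, rfl, d1, a, _, rfl, da, c, _, rfl, dc, z, _, rfl, dz, z', _, rfl, dz', w, _, rfl, dw,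
    e, _, rfl, de, f, _, rfl, df, f', _, rfl, df', g, _, rfl, dg1, g', _, rfl, dg2, j, _, rfl, dj,
    rfl⟩ := h1
  obtain rfl := eq_triv_of_dg (hna hG) d1
  obtain ⟨t, ht⟩ := exists_invol hG
  obtain ⟨u, hu, u1, u4⟩ := exists_invol_col (hna hG) ht
  have t1 : t ≠ 1 := by rintro rfl; simp at ht
  have tc : (orderOf t).Coprime 385 := by rw [ht]; norm_num
  have m : ∀ χ {d : ℕ} (r : ℕ), dg χ = d → d % 4 = r → u χ ∈ rg 33 4 r := fun χ d r k1 k2 =>
    mem33 hG M t1 tc hu (by have := (u4 χ).1; omega)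
  have r7 := M.B7.rel_int (by norm_num) M.C7 (by rw [ht]; norm_num) hu
  have r11 := M.B11.rel_int (by norm_num) M.C11 (by rw [ht]; norm_num) hu
  have r5 := M.B5.rel_int (by norm_num) M.C5 (by rw [ht]; norm_num) hu
  have p7 := M.B7.pair_int (by norm_num) (by decide) M.C7 ht ht hu hu hG
  have p11 := M.B11.pair_int (by norm_num) (by decide) M.C11 ht ht hu hu hG
  have o1 := deg_orth t1 hu
  have o2 := col_sq hu
  have o3 := triple_nonneg hu hu hu
  have e1 := M.B7.reg_int M.C7 (χ := z) (ψ := z') (by omega) (by omega) (by rw [ht]; norm_num) hu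
  have e2 := M.B11.reg_int M.C11 (χ := g) (ψ := g') (by omega) (by omega) (by rw [ht]; norm_num) hu
  have o4 := Int.emod_eq_zero_of_dvd (Int.natCast_dvd_natCast.mpr (cent_dvd hG M t1 tc))
  rw [← o2] at o4
  rw [h2] at r7 r11 r5 p7 p11 o1 o3 o4
  simp only [List.map_cons, List.map_nil, List.sum_cons, List.sum_nil, d1, da, dc, dz, dz', dw, de,
    df, df', dg1, dg2, dj, e1, e2, u1] at r7 r11 r5 p7 p11 o1 o3 o4
  norm_num [wt] at r7 r11 r5 p7 p11 o1
  have k1 : u z = 1 - u c + u w := by omega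
  have k2 : u g = 1 - u a - u w + u f + u f' := by omega
  have k3 : u e = 1 + u a + 2 * (1 - u c + u w) := by omega
  rw [k1] at p7
  rw [k2] at p11
  rw [k1, k2, k3] at o1 o3 o4
  obtain ⟨q1, q2, q3, q4, q5⟩ := arith_b _ (m c 3 dc rfl) _
    (m w 0 dw rfl) (by linarith) _ (m a 1 da rfl) _
    (m f 2 df rfl) _ (m f' 2 df' rfl) (by linarith) _
    (m j 1 dj rfl) (by linarith) (by rw [← o4]; congr 1; ring)
  rcases q5 with ⟨q5, q6⟩ | ⟨q5, q6⟩ <;> rw [q1, q2, q3, q4, q5, q6] at o3 <;> norm_num at o3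

structure Tab (G : Type*) [Group G] [Finite G] where
  a : IrrCharacter G
  b : IrrCharacter G
  b' : IrrCharacter G
  c : IrrCharacter G
  d : IrrCharacter G
  e : IrrCharacter G
  f : IrrCharacter G
  h : IrrCharacter G
  g : IrrCharacter G
  g' : IrrCharacter G
  j : IrrCharacter G
  da : dg a = 21
  db : dg b = 45
  db' : dg b' = 45
  dc : dg c = 55
  dd : dg d = 99
  de : dg e = 154
  df : dg f = 210
  dh : dg h = 231
  dg1 : dg g = 280
  dg2 : dg g' = 280
  dj : dg j = 385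
  mem : ∀ χ, χ ∈ [triv G, a, b, b', c, d, e, f, h, g, g', j]
  sum : ∀ {A : Type} [AddCommMonoid A] (F : IrrCharacter G → A),
    ∑ χ, F χ = ([triv G, a, b, b', c, d, e, f, h, g, g', j].map F).sum
  int : ∀ χ : IrrCharacter G, dg χ ≠ 45 → dg χ ≠ 280 → ∀ x, ∃ z : ℤ, (χ : G → ℂ) x = z

theorem nonempty_tab (hG : Nat.card G = 443520) (M : Main G) : Nonempty (Tab G) := by
  have hD := (degrees hG M).resolve_left (not_Db hG M)
  obtain ⟨L, h1, -, h3, h2⟩ := exists_enum _ hD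
  simp only [Dd, List.map_eq_cons_iff, List.map_eq_nil_iff] at h1
  obtain ⟨x1, _, rfl, d1, a, _, rfl, da, b, _, rfl, db, b', _, rfl, db', c, _, rfl, dc, d, _, rfl, dd,
    e, _, rfl, de, f, _, rfl, df, h, _, rfl, dh, g, _, rfl, dg1, g', _, rfl, dg2, j, _, rfl, dj,
    rfl⟩ := h1
  obtain rfl := eq_triv_of_dg (hna hG) d1
  refine ⟨⟨a, b, b', c, d, e, f, h, g, g', j, da, db, db', dc, dd, de, df, dh, dg1, dg2, dj, h3, h2,
    fun χ k1 k2 => int_of_unique fun ψ k => ?_⟩⟩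
  have k3 : cnt (G := G) Finset.univ (dg χ) = 1 := by
    have := cnt_pos.mpr ⟨χ, Finset.mem_univ _, rfl⟩
    rw [hD] at this ⊢
    exact (by decide : ∀ n ∈ Dd, n ≠ 45 → n ≠ 280 → Dd.count n = 1) _
      (List.count_pos_iff.mp this) k1 k2
  obtain ⟨ω, -, -, k4⟩ := cnt_eq_one k3
  rw [k4 ψ (Finset.mem_univ _) k, k4 χ (Finset.mem_univ _) rfl]

namespace Tab
variable (T : Tab G)
include T

theorem int_col (M : Main G) {x : G} (h7 : ¬ 7 ∣ orderOf x) (h11 : ¬ 11 ∣ orderOf x) :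
    ∃ u : IrrCharacter G → ℤ, (∀ χ : IrrCharacter G, (χ : G → ℂ) x = u χ) ∧ u (triv G) = 1 ∧
      u T.b' = u T.b ∧ u T.g' = u T.g := by
  have r7 := M.B7.rel_all (by norm_num) M.C7 h7
  have r11 := M.B11.rel_all (by norm_num) M.C11 h11
  have e1 := fun ψ k => M.B7.reg_eq M.C7 (χ := T.b) (ψ := ψ) (by rw [T.db]; omega) k h7
  have e2 := fun ψ k => M.B11.reg_eq M.C11 (χ := T.g) (ψ := ψ) (by rw [T.dg1]; omega) k h11
  obtain ⟨a, ha⟩ := T.int T.a (by rw [T.da]; omega) (by rw [T.da]; omega) x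
  obtain ⟨c, hc⟩ := T.int T.c (by rw [T.dc]; omega) (by rw [T.dc]; omega) x
  obtain ⟨d, hd⟩ := T.int T.d (by rw [T.dd]; omega) (by rw [T.dd]; omega) x
  obtain ⟨f, hf⟩ := T.int T.f (by rw [T.df]; omega) (by rw [T.df]; omega) x
  rw [T.sum] at r7 r11
  simp only [List.map_cons, List.map_nil, List.sum_cons, List.sum_nil, dg_triv, T.da, T.db, T.db',
    T.dc, T.dd, T.de, T.df, T.dh, T.dg1, T.dg2, T.dj, e1 T.b' (by rw [T.db, T.db']),
    e2 T.g' (by rw [T.dg1, T.dg2]), ha, hc, hd, hf, triv_apply] at r7 r11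
  norm_num [wt] at r7 r11
  have : ∀ χ : IrrCharacter G, ∃ z : ℤ, (χ : G → ℂ) x = z := fun χ => by
    by_cases k1 : dg χ = 45
    · exact ⟨1 - c + d, by rw [e1 χ (by rw [k1, T.db])]; push_cast; linear_combination -r7 / 2⟩
    by_cases k2 : dg χ = 280
    · exact ⟨1 - a + 2 * (1 - c + d) + f, by
        rw [e2 χ (by rw [k2, T.dg1])]; push_cast; linear_combination -r11 / 2 - r7⟩
    exact T.int χ k1 k2 x
  choose u hu using this
  refine ⟨u, hu, ?_, ?_, ?_⟩ <;> apply Int.cast_injective (α := ℂ)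
  · rw [← hu, triv_apply, Int.cast_one]
  · rw [← hu, ← hu, e1 _ (by rw [T.db, T.db'])]
  · rw [← hu, ← hu, e2 _ (by rw [T.dg1, T.dg2])]

theorem invol (hG : Nat.card G = 443520) (M : Main G) {t : G} (ht : orderOf t = 2) :
    ∃ u : IrrCharacter G → ℤ, (∀ χ : IrrCharacter G, (χ : G → ℂ) t = u χ) ∧
      [triv G, T.a, T.b, T.b', T.c, T.d, T.e, T.f, T.h, T.g, T.g', T.j].map u =
        [1, 5, -3, -3, 7, 3, 10, 2, 7, -8, -8, 1] := by
  obtain ⟨u, hu, u1, u4⟩ := exists_invol_col (hna hG) ht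
  have t1 : t ≠ 1 := by rintro rfl; simp at ht
  have tc : (orderOf t).Coprime 385 := by rw [ht]; norm_num
  have m : ∀ χ {d : ℕ} (r : ℕ), dg χ = d → d % 4 = r → u χ ∈ rg 33 4 r := fun χ d r k1 k2 =>
    mem33 hG M t1 tc hu (by have := (u4 χ).1; omega)
  have r7 := M.B7.rel_int (by norm_num) M.C7 (by rw [ht]; norm_num) hu
  have r11 := M.B11.rel_int (by norm_num) M.C11 (by rw [ht]; norm_num) hu
  have r5 := M.B5.rel_int (by norm_num) M.C5 (by rw [ht]; norm_num) hu
  have p7 := M.B7.pair_int (by norm_num) (by decide) M.C7 ht ht hu hu hG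
  have p11 := M.B11.pair_int (by norm_num) (by decide) M.C11 ht ht hu hu hG
  have o1 := deg_orth t1 hu
  have o2 := col_sq hu
  have e1 := M.B7.reg_int M.C7 (χ := T.b) (ψ := T.b') (by rw [T.db]; omega) (by rw [T.db, T.db'])
    (by rw [ht]; norm_num) hu
  have e2 := M.B11.reg_int M.C11 (χ := T.g) (ψ := T.g') (by rw [T.dg1]; omega)
    (by rw [T.dg1, T.dg2]) (by rw [ht]; norm_num) hu
  have o4 := Int.emod_eq_zero_of_dvd (Int.natCast_dvd_natCast.mpr (cent_dvd hG M t1 tc))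
  rw [← o2] at o4
  rw [T.sum] at r7 r11 r5 p7 p11 o1 o4
  simp only [List.map_cons, List.map_nil, List.sum_cons, List.sum_nil, dg_triv, T.da, T.db, T.db',
    T.dc, T.dd, T.de, T.df, T.dh, T.dg1, T.dg2, T.dj, e1, e2, u1] at r7 r11 r5 p7 p11 o1 o4
  norm_num [wt] at r7 r11 r5 p7 p11 o1
  have k1 : u T.b = 1 - u T.c + u T.d := by omega
  have k2 : u T.g = 1 - u T.a + 2 * (1 - u T.c + u T.d) + u T.f := by omega
  have k3 : u T.h = u T.e + u T.d - 1 - u T.a := by omega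
  rw [k1] at p7
  rw [k1, k2] at p11
  rw [k1, k2, k3] at o1 o4
  obtain ⟨q1, q2, q3, q4, q5, q6⟩ := arith_d _ (m _ 3 T.dc rfl) _ (m _ 3 T.dd rfl) (by linarith) _
    (m _ 1 T.da rfl) _ (m _ 2 T.df rfl) (by linarith) _ (m _ 2 T.de rfl) _ (m _ 1 T.dj rfl)
    (by linarith) (by rw [← o4]; congr 1; ring)
  refine ⟨u, hu, ?_⟩
  simp only [List.map_cons, List.map_nil, e1, e2, u1, k1, k2, k3, q1, q2, q3, q4, q5, q6]
  rfl

theorem sum_mul {u v : IrrCharacter G → ℤ} {l l' : List ℤ}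
    (hu : [triv G, T.a, T.b, T.b', T.c, T.d, T.e, T.f, T.h, T.g, T.g', T.j].map u = l)
    (hv : [triv G, T.a, T.b, T.b', T.c, T.d, T.e, T.f, T.h, T.g, T.g', T.j].map v = l') :
    ∑ χ, u χ * v χ = (List.zipWith (· * ·) l l').sum := by
  rw [T.sum, ← hu, ← hv]; rfl

theorem invol_conj (hG : Nat.card G = 443520) (M : Main G) {t s : G} (ht : orderOf t = 2)
    (hs : orderOf s = 2) : IsConj t s := by
  by_contra h
  obtain ⟨u, hu, u1⟩ := T.invol hG M ht
  obtain ⟨v, hv, v1⟩ := T.invol hG M hs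
  have := col_sum hu hv h
  rw [T.sum_mul u1 v1] at this
  exact absurd this (by decide)

theorem invol_cent (hG : Nat.card G = 443520) (M : Main G) {t : G} (ht : orderOf t = 2) :
    Nat.card (Subgroup.centralizer ({t} : Set G)) = 384 ∧ (T.a : G → ℂ) t = (5 : ℤ) := by
  obtain ⟨u, hu, u1⟩ := T.invol hG M ht
  have := col_sq hu
  simp only [sq] at this
  rw [T.sum_mul u1 u1] at this
  refine ⟨by norm_num at this; omega, ?_⟩
  simp only [List.map_cons, List.cons.injEq] at u1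
  rw [hu, u1.2.1]

theorem three (hG : Nat.card G = 443520) (M : Main G) {y : G} (h1 : y ≠ 1) (h9 : y ^ 9 = 1) :
    ∃ (u : IrrCharacter G → ℤ) (a : ℤ), (∀ χ : IrrCharacter G, (χ : G → ℂ) y = u χ) ∧
      (a = 0 ∨ a = 3 ∨ a = -3) ∧
      [triv G, T.a, T.b, T.b', T.c, T.d, T.e, T.f, T.h, T.g, T.g', T.j].map u =
        [1, a, 0, 0, 1, 0, 1, a, -a, 1, 1, -2] := by
  have o9 : orderOf y ∣ 3 ^ 2 := orderOf_dvd_of_pow_eq_one h9
  have o3 : 3 ∣ orderOf y := by
    obtain ⟨k, hk, e⟩ := (Nat.dvd_prime_pow Nat.prime_three).mp o9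
    rcases k with _ | k
    · exact absurd (orderOf_eq_one_iff.mp e) h1
    · rw [e, pow_succ]; exact dvd_mul_left _ _
  have n : ∀ p, ¬ p ∣ 9 → ¬ p ∣ orderOf y := fun p k1 k2 => k1 (k2.trans o9)
  obtain ⟨u, hu, u1, e1, e2⟩ := T.int_col M (n 7 (by norm_num)) (n 11 (by norm_num))
  have tc : (orderOf y).Coprime 385 := Nat.Coprime.coprime_dvd_left o9 (by norm_num)
  have m : ∀ χ, dg χ % 3 = 0 → u χ ∈ rg 33 3 0 := fun χ k => mem33 hG M h1 tc hu (by
    have := modEq_of_val (irr_chr χ) Nat.prime_three (k := 2) h9 (hu χ)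
    unfold Int.ModEq at this
    change (dg χ : ℤ) % _ = _ at this
    omega)
  have v : ∀ χ, 3 ^ 2 ∣ dg χ → u χ = 0 := fun χ k => by
    have := van_of_pow_dvd Nat.prime_three (by rw [hG]; norm_num) k o3
    rw [hu] at this
    exact_mod_cast this
  have v1 := v T.b (by rw [T.db]; norm_num)
  have v2 := v T.d (by rw [T.dd]; norm_num)
  obtain ⟨t, ht⟩ := exists_invol hG
  obtain ⟨w, hw, w1⟩ := T.invol hG M ht
  have o5 := col_sum hu hw fun k => by
    obtain ⟨c, rfl⟩ := isConj_iff.mp k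
    rw [show orderOf (c * y * c⁻¹) = orderOf y from (MulAut.conj c).orderOf_eq y] at ht
    omega
  rw [T.sum_mul rfl w1] at o5
  have r7 := M.B7.rel_int (by norm_num) M.C7 (n 7 (by norm_num)) hu
  have r11 := M.B11.rel_int (by norm_num) M.C11 (n 11 (by norm_num)) hu
  have r5 := M.B5.rel_int (by norm_num) M.C5 (n 5 (by norm_num)) hu
  have o1 := deg_orth h1 hu
  have o2 := col_sq hu
  have o4 := Int.emod_eq_zero_of_dvd (Int.natCast_dvd_natCast.mpr (cent_dvd hG M h1 tc))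
  rw [← o2] at o4
  rw [T.sum] at r7 r11 r5 o1 o4
  simp only [List.map_cons, List.map_nil, List.sum_cons, List.sum_nil, dg_triv, T.da, T.db, T.db',
    T.dc, T.dd, T.de, T.df, T.dh, T.dg1, T.dg2, T.dj, e1, e2, u1, v1, v2, List.zipWith_cons_cons,
    List.zipWith_nil_left] at r7 r11 r5 o1 o4 o5
  norm_num [wt] at r7 r11 r5 o1
  have k1 : u T.c = 1 := by omega
  have k2 : u T.g = 1 - u T.a + u T.f := by omega
  have k3 : u T.h = u T.f - 2 * u T.a := by omega
  have k4 : u T.e = 1 + u T.f - u T.a := by omega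
  have k5 : u T.j = 3 * u T.a - 3 * u T.f - 2 := by omega
  rw [k1, k2, k3, k4, k5] at o4
  obtain ⟨q1, q2⟩ := arith_y _ (m _ (by rw [T.da])) _ (m _ (by rw [T.df]))
    (by rw [← o4]; congr 1; ring)
  refine ⟨u, u T.a, hu, q2, ?_⟩
  simp only [List.map_cons, List.map_nil, e1, e2, u1, k1, k2, k3, k4, k5, q1, v1, v2]
  congr <;> ring

theorem three_conj (hG : Nat.card G = 443520) (M : Main G) {y z : G} (h1 : y ≠ 1) (h9 : y ^ 9 = 1)
    (k1 : z ≠ 1) (k9 : z ^ 9 = 1) : IsConj y z := by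
  by_contra h
  obtain ⟨u, a, hu, ha, u1⟩ := T.three hG M h1 h9
  obtain ⟨v, b, hv, hb, v1⟩ := T.three hG M k1 k9
  have := col_sum hu hv h
  rw [T.sum_mul u1 v1] at this
  rcases ha with rfl | rfl | rfl <;> rcases hb with rfl | rfl | rfl <;> exact absurd this (by decide)

theorem three_val (hG : Nat.card G = 443520) (M : Main G) {y : G} (h1 : y ≠ 1) (h9 : y ^ 9 = 1) :
    Nat.card (Subgroup.centralizer ({y} : Set G)) = 36 ∧ (T.a : G → ℂ) y = (3 : ℤ) := by
  haveI : Fact (Nat.Prime 3) := ⟨Nat.prime_three⟩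
  obtain ⟨t, ht⟩ := exists_invol hG
  obtain ⟨z, hz⟩ := exists_prime_orderOf_dvd_card' (G := Subgroup.centralizer ({t} : Set G)) 3
    (by rw [(T.invol_cent hG M ht).1]; norm_num)
  rw [← Subgroup.orderOf_coe] at hz
  have z1 : (z : G) ≠ 1 := fun e => by simp [e] at hz
  have z9 : (z : G) ^ 9 = 1 := orderOf_dvd_iff_pow_eq_one.mp (by rw [hz]; norm_num)
  obtain ⟨u, a, hu, ha, u1⟩ := T.three hG M h1 h9
  have k1 := col_sq hu
  simp only [sq] at k1
  rw [T.sum_mul u1 u1] at k1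
  have k2 : 2 ∣ Nat.card (Subgroup.centralizer ({y} : Set G)) := by
    obtain ⟨c, hc⟩ := isConj_iff.mp (T.three_conj hG M z1 z9 h1 h9)
    have : c * t * c⁻¹ ∈ Subgroup.centralizer ({y} : Set G) := by
      rintro _ rfl
      rw [← hc, conj_mul, conj_mul, z.2 t rfl]
    have := Subgroup.orderOf_dvd_natCard _ this
    rwa [show orderOf (c * t * c⁻¹) = orderOf t from (MulAut.conj c).orderOf_eq t, ht] at this
  simp only [List.map_cons, List.cons.injEq] at u1
  obtain ⟨P, hP⟩ := Sylow.exists_subgroup_card_pow_prime (G := G) 3 (n := 2) (by rw [hG]; norm_num)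
  obtain ⟨m, hm⟩ := card_mul_fd_const P (χ := T.a) (c := a) fun x hx x1 => by
    rw [← H6.classFun_of_isConj (irr_cls _) (T.three_conj hG M h1 h9 x1 (by
      rw [← orderOf_dvd_iff_pow_eq_one]; exact (Subgroup.orderOf_dvd_natCard _ hx).trans hP.dvd)), hu, u1.2.1]
  rw [hP, T.da] at hm
  rw [hu, u1.2.1]
  rcases ha with rfl | rfl | rfl <;> norm_num at k1 hm ⊢ <;> omega

end Tab

theorem Main.iso (hG : Nat.card G = 443520) (M : Main G) : Spor.IsoM22 G := by
  classical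
  letI := Fintype.ofFinite G
  obtain ⟨T⟩ := nonempty_tab hG M
  choose r hr using T.int T.a (by rw [T.da]; omega) (by rw [T.da]; omega)
  have ri : ∀ {g} {z : ℤ}, (T.a : G → ℂ) g = z → r g = z := fun h => by
    rw [hr] at h; exact_mod_cast h
  have r1 : ∀ g, orderOf g = 1 → r g = 21 := fun g h =>
    ri (by rw [orderOf_eq_one_iff.mp h, dg_cast, T.da]; rfl)
  have r2 : ∀ g, orderOf g = 2 → r g = 5 := fun g h => ri (T.invol_cent hG M h).2
  have r9 : ∀ g, g ≠ 1 → g ^ 9 = 1 → r g = 3 := fun g h k => ri (T.three_val hG M h k).2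
  have o3 : ∀ g : G, orderOf g = 3 → g ≠ 1 ∧ g ^ 9 = 1 := fun g h =>
    ⟨by rintro rfl; simp at h, orderOf_dvd_iff_pow_eq_one.mp (by rw [h]; norm_num)⟩
  have r3 : ∀ g, orderOf g = 3 → r g = 3 := fun g h => r9 g (o3 g h).1 (o3 g h).2
  have r5 : ∀ g, orderOf g = 5 → r g = 1 := fun g h =>
    ri (by rw [M.B5.val_sg (by norm_num) M.C5 (by rw [T.da]; omega) h.symm.dvd, T.da]; rfl)
  have r7 : ∀ g, orderOf g = 7 → r g = 0 := fun g h =>
    ri (by rw [M.B7.val_sg (by norm_num) M.C7 (by rw [T.da]; omega) h.symm.dvd, T.da]; rfl)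
  have r11 : ∀ g, orderOf g = 11 → r g = -1 := fun g h =>
    ri (by rw [M.B11.val_sg (by norm_num) M.C11 (by rw [T.da]; omega) h.symm.dvd, T.da]; rfl)
  obtain ⟨t, ht⟩ := exists_invol hG
  obtain ⟨y, hy⟩ := exists_prime_orderOf_dvd_card' (G := G) 3 (hp := ⟨Nat.prime_three⟩)
    (by rw [hG]; norm_num)
  have c1 := card_ordF_one (G := G)
  have c2 : (ordF G 2).card = 1155 := by
    have := (Subgroup.centralizer ({t} : Set G)).card_mul_index
    rw [card_ordF_of_conj ht fun g => T.invol_conj hG M ht]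
    rw [(T.invol_cent hG M ht).1, hG] at this
    omega
  have c3 : (ordF G 3).card = 12320 := by
    have := (Subgroup.centralizer ({y} : Set G)).card_mul_index
    rw [card_ordF_of_conj hy fun g h => T.three_conj hG M (o3 y hy).1 (o3 y hy).2 (o3 g h).1 (o3 g h).2]
    rw [(T.three_val hG M (o3 y hy).1 (o3 y hy).2).1, hG] at this
    omega
  have c5 : (ordF G 5).card = 88704 := by
    rw [card_ordF_prime M.B5.card M.B5.ind, M.B5.index_eq M.C5 (n := 22176) hG]
  have c7 : (ordF G 7).card = 126720 := by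
    rw [card_ordF_prime M.B7.card M.B7.ind, M.B7.index_eq M.C7 (n := 21120) hG]
  have c11 : (ordF G 11).card = 80640 := by
    rw [card_ordF_prime M.B11.card M.B11.ind, M.B11.index_eq M.C11 (n := 8064) hG]
  have S : ∀ (F : G → ℤ) (a b c d e f : ℤ), (∀ g, orderOf g = 1 → F g = a) →
      (∀ g, orderOf g = 2 → F g = b) → (∀ g, orderOf g = 3 → F g = c) →
      (∀ g, orderOf g = 5 → F g = d) → (∀ g, orderOf g = 7 → F g = e) →
      (∀ g, orderOf g = 11 → F g = f) → ∑ g, F g = a + 1155 * b + 12320 * c + 88704 * d +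
        126720 * e + 80640 * f + ∑ g ∈ ordR G [1, 2, 3, 5, 7, 11], F g :=
    fun F a b c d e f k1 k2 k3 k5 k7 k11 => by
      rw [sum_split [1, 2, 3, 5, 7, 11] (by decide)]
      simp only [List.map_cons, List.map_nil, List.sum_cons, List.sum_nil, sum_ordF c1 k1,
        sum_ordF c2 k2, sum_ordF c3 k3, sum_ordF c5 k5, sum_ordF c7 k7, sum_ordF c11 k11]
      push_cast; ring
  set R := ordR G [1, 2, 3, 5, 7, 11]
  have cR : ∑ _g ∈ R, (1 : ℤ) = 133980 := by
    have := S (fun _ => 1) 1 1 1 1 1 1 (by simp) (by simp) (by simp) (by simp) (by simp) (by simp)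
    rw [Finset.sum_const, Finset.card_univ, ← Nat.card_eq_fintype_card, hG] at this
    norm_num at this ⊢
    omega
  have odd : ∀ g ∈ R, 1 ≤ r g ^ 2 := fun g h => by
    have h := mem_ordR.mp h
    simp only [List.mem_cons, List.not_mem_nil, or_false, not_or] at h
    have k := modEq_pow (irr_chr T.a) Nat.prime_two (k := 7) (hr g) (hr _)
    have k2 : (g ^ 2 ^ 7) ^ 9 = 1 := by
      rw [← pow_mul, ← orderOf_dvd_iff_pow_eq_one]
      have := orderOf_dvd_natCard g
      rw [hG, show 443520 = 2 ^ 7 * 9 * 5 * 7 * 11 by norm_num] at this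
      refine Nat.Coprime.dvd_of_dvd_mul_right ?_ (Nat.Coprime.dvd_of_dvd_mul_right ?_
        (Nat.Coprime.dvd_of_dvd_mul_right ?_ this)) <;>
        refine ((Nat.Prime.coprime_iff_not_dvd (by norm_num)).mpr fun k => ?_).symm
      exacts [h.2.2.2.1 (M.B5.ord_eq M.C5 g k), h.2.2.2.2.1 (M.B7.ord_eq M.C7 g k),
        h.2.2.2.2.2 (M.B11.ord_eq M.C11 g k)]
    have k3 : r g ≠ 0 := by
      unfold Int.ModEq at k
      by_cases e : g ^ 2 ^ 7 = 1
      · rw [r1 _ (orderOf_eq_one_iff.mpr e)] at k; omega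
      · rw [r9 _ e k2] at k; omega
    exact one_le_sq_iff_one_le_abs _ |>.mpr (Int.one_le_abs k3)
  have rR : ∀ g ∈ R, r g = 1 ∨ r g = -1 := fun g h => by
    have k := S (fun g => r g ^ 2) 441 25 9 1 0 1 (fun g h => by rw [r1 g h]; rfl)
      (fun g h => by rw [r2 g h]; rfl) (fun g h => by rw [r3 g h]; rfl)
      (fun g h => by rw [r5 g h]; rfl) (fun g h => by rw [r7 g h]; rfl)
      (fun g h => by rw [r11 g h]; rfl)
    rw [sum_sq_int hr, hG] at k
    exact sq_eq_one_iff.mp ((Finset.sum_eq_sum_iff_of_le odd).mp (by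
      rw [cR]; push_cast at k; linarith) g h).symm
  have all : ∀ g, orderOf g ≠ 1 → -1 ≤ r g ∧ r g ≤ 5 ∧ (orderOf g ≠ 2 → orderOf g ≠ 3 → r g ≤ 1) :=
    fun g h => by
      have := r2 g; have := r3 g; have := r5 g; have := r7 g; have := r11 g
      by_cases k : g ∈ R
      · have := rR g k
        omega
      · simp only [R, mem_ordR, not_not, List.mem_cons, List.not_mem_nil, or_false] at k
        omega
  have sq : ∀ g : G, ∀ n, orderOf g = n → n.Coprime 2 → orderOf (g * g) = n := fun g n h k => by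
    rw [← sq, Nat.Coprime.orderOf_pow (h ▸ k), h]
  have s1 : ∀ g : G, orderOf (g * g) = 1 ↔ orderOf g ∣ 2 := fun g => by
    rw [orderOf_eq_one_iff, ← _root_.sq, orderOf_dvd_iff_pow_eq_one]
  obtain ⟨H, h1, h2, h3⟩ := action_of_int hr
    (H87.nu_eq_one_of_odd_deg T.a.2 (isReal_of_int hr) (by change Odd (dg T.a); rw [T.da]; decide))
    (by rw [T.da]; norm_num) (by
      rw [S (fun g => r g ^ 3) 9261 125 27 1 0 (-1) (fun g h => by rw [r1 g h]; rfl)
        (fun g h => by rw [r2 g h]; rfl) (fun g h => by rw [r3 g h]; rfl)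
        (fun g h => by rw [r5 g h]; rfl) (fun g h => by rw [r7 g h]; rfl)
        (fun g h => by rw [r11 g h]; rfl)]
      have : ∑ g ∈ R, -1 * (1 : ℤ) ≤ ∑ g ∈ R, r g ^ 3 := Finset.sum_le_sum fun g h => by
        rcases rR g h with e | e <;> rw [e] <;> norm_num
      rw [← Finset.mul_sum, cR] at this
      omega) (by
      rw [S (fun g => (r g ^ 2 - r (g * g)) ^ 2) 176400 16 36 0 0 4
        (fun g h => by rw [r1 g h, r1 _ ((s1 g).mpr (by rw [h]; norm_num))]; rfl)
        (fun g h => by rw [r2 g h, r1 _ ((s1 g).mpr (by rw [h]))]; rfl)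
        (fun g h => by rw [r3 g h, r3 _ (sq g _ h (by norm_num))]; rfl)
        (fun g h => by rw [r5 g h, r5 _ (sq g _ h (by norm_num))]; rfl)
        (fun g h => by rw [r7 g h, r7 _ (sq g _ h (by norm_num))]; rfl)
        (fun g h => by rw [r11 g h, r11 _ (sq g _ h (by norm_num))]; rfl), hG]
      have : ∑ g ∈ R, (r g ^ 2 - r (g * g)) ^ 2 ≤ ∑ g ∈ R, 16 * (1 : ℤ) :=
        Finset.sum_le_sum fun g h => by
          have k := all (g * g) fun e => mem_ordR.mp h (by
            have := (Nat.dvd_prime Nat.prime_two).mp ((s1 g).mp e)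
            simp only [List.mem_cons]; omega)
          rcases rR g h with e | e <;> rw [e] <;> nlinarith [k.1, k.2.1]
      rw [← Finset.mul_sum, cR] at this
      push_cast
      omega) (fun ψ k => by
      have := T.mem ψ
      simp only [List.mem_cons, List.not_mem_nil, or_false] at this
      rw [T.da] at k
      have := T.db; have := T.db'; have := T.dc; have := T.dd; have := T.de; have := T.df
      have := T.dh; have := T.dg1; have := T.dg2; have := T.dj
      rcases ‹ψ = triv G ∨ _› with e | e | e | e | e | e | e | e | e | e | e | e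
      · exact Or.inl e
      · exact Or.inr e
      all_goals subst e; omega)
  haveI := faithful_quot h1
  letI := Fintype.ofFinite (G ⧸ H)
  refine isoM22_of_fix (α := G ⧸ H) (H36.commutator_eq_top_of_simple fun h => ?_)
    (by rw [← Nat.card_eq_fintype_card, ← Subgroup.index, h2, T.da]) hG ?_
    (fun g h => by have := h3 g; have := all g; omega) fun g h _ => by
      have := h3 g; have := r2 g h; omega
  · obtain ⟨a, b, hab⟩ := hna hG
    exact hab (h.is_comm.comm a b)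
  · have k : ∀ g n, r g + 1 = (n : ℕ) → ((Nat.card (fixedBy (G ⧸ H) g)).descFactorial 3 : ℤ) =
        n.descFactorial 3 := fun g n e => by
      have := h3 g
      rw [show Nat.card (fixedBy (G ⧸ H) g) = n by omega]
    have := S (fun g => ((Nat.card (fixedBy (G ⧸ H) g)).descFactorial 3 : ℤ)) _ _ _ _ _ _
      (fun g h => k g 22 (by rw [r1 g h]; rfl)) (fun g h => k g 6 (by rw [r2 g h]; rfl))
      (fun g h => k g 4 (by rw [r3 g h]; rfl)) (fun g h => k g 2 (by rw [r5 g h]; rfl))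
      (fun g h => k g 1 (by rw [r7 g h]; rfl)) (fun g h => k g 0 (by rw [r11 g h]; rfl))
    rw [Finset.sum_eq_zero (s := R) fun g h => by
      rcases rR g h with e | e
      · exact k g 2 (by rw [e]; rfl)
      · exact k g 0 (by rw [e]; rfl), ← Nat.cast_sum] at this
    rw [hG]
    refine (Nat.cast_lt (α := ℤ)).mp ?_
    rw [this]
    norm_num [Nat.descFactorial]

end M22

end H17.Ord
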