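import Mathlib
import Cfsg.Agent.Base
import Cfsg.Agent.Lib.Ord.Col
import Cfsg.Agent.Lib.Ord.M22A

/-! Numerical checks: in a simple group of order 443520 the Sylow subgroups of orders 5, 7, 11 are
self-centralising. -/

set_option autoImplicit false

open H4.Sv

namespace H17.Ord.M22

noncomputable def cl (p e c C : ℕ) (o : List ℕ) : List (List (ℕ × ℤ)) :=
  cols 443520 p e c C (fl [5, 7, 11] p C) o

noncomputable def C11 (_ e c : ℕ) (l : List ℤ) : Bool :=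
  (e == 5 && c == 1) || (e == 10 && c == 28 && good 11 10 (degs 11 10 l) &&
    (divs 443520).all fun C => C % 22 != 0 || (cl 11 10 28 C (degs 11 10 l)).isEmpty)

theorem c11 : chkOne 443520 11 C11 = true := by decide +kernel

def L7 : List (ℕ × ℕ × List ℕ) := [
  (3, 64, [22, 22, 45, 45]), (3, 64, [45, 45, 55, 99]), (3, 8, [22, 22, 45, 45]),
  (3, 8, [45, 45, 55, 99]), (3, 8, [45, 45, 132, 176]), (3, 8, [55, 66, 66, 120]),
  (3, 8, [99, 120, 220, 220]), (6, 4, [22, 22, 22, 55, 120, 132]),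
  (6, 4, [22, 22, 55, 55, 55, 120]), (6, 4, [22, 22, 55, 120, 330, 440]),
  (6, 4, [22, 22, 55, 160, 160, 330]), (6, 4, [22, 22, 99, 120, 132, 132]),
  (6, 4, [22, 22, 99, 120, 176, 440]), (6, 4, [22, 22, 99, 160, 160, 176]),
  (6, 4, [22, 55, 55, 99, 120, 132]), (6, 4, [22, 55, 120, 132, 132, 176]),
  (6, 4, [22, 55, 120, 176, 176, 440]), (6, 4, [22, 55, 160, 160, 176, 176]),
  (6, 4, [22, 99, 99, 99, 120, 440]), (6, 4, [22, 99, 99, 99, 160, 160]),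
  (6, 4, [22, 99, 120, 132, 330, 440]), (6, 4, [22, 99, 132, 160, 160, 330]),
  (6, 4, [55, 55, 55, 55, 99, 120]), (6, 4, [55, 55, 55, 120, 132, 176]),
  (6, 4, [55, 55, 99, 120, 330, 440]), (6, 4, [55, 55, 99, 160, 160, 330]),
  (6, 4, [55, 99, 99, 120, 132, 132]), (6, 4, [55, 99, 99, 120, 176, 440]),
  (6, 4, [55, 99, 99, 160, 160, 176]), (6, 4, [55, 120, 132, 132, 132, 330]),
  (6, 4, [55, 120, 132, 176, 330, 440]), (6, 4, [55, 132, 160, 160, 176, 330]),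
  (6, 4, [99, 120, 132, 132, 132, 176]), (6, 4, [99, 120, 132, 176, 176, 440]),
  (6, 4, [99, 132, 160, 160, 176, 176])]

def L5 : List (ℕ × ℕ × List ℕ) := [
  (2, 192, [21, 22, 22]), (4, 96, [21, 66, 66, 154]), (2, 32, [21, 22, 22]),
  (4, 16, [11, 21, 66, 99]), (4, 16, [21, 21, 56, 99]), (4, 16, [21, 66, 66, 154]),
  (4, 16, [21, 99, 154, 231]), (4, 16, [99, 126, 126, 154]), (2, 12, [21, 22, 22]),
  (4, 6, [21, 66, 66, 154]), (2, 2, [21, 22, 22])]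

def SA : List (List ℕ) := [[10, 21, 45, 105, 105, 120], [10, 12, 45, 72, 72, 120],
  [10, 45, 60, 60, 120, 144], [5, 5, 12, 56, 56, 120], [21, 120, 210, 210, 280, 280],
  [10, 12, 12, 105, 105, 120]]

def bad (p : ℕ) (R o : List ℕ) : Bool := o.any fun d => !R.contains (d % p)

def C7 (_ e c : ℕ) (l : List ℤ) : Bool :=
  (e == 3 && c == 1) || c % 11 == 0 || bad 11 [0, 1, 10, 5, 6] (degs 7 e l) ||
    L7.any fun t => t.1 == e && t.2.1 == c && t.2.2.isPerm (degs 7 e l)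

theorem c7 : chkOne 443520 7 C7 = true := by decide +kernel

def C5 (_ e c : ℕ) (l : List ℤ) : Bool :=
  (e == 4 && c == 1) || c % 11 == 0 || c % 7 == 0 || (c % 2 == 0 &&
    (bad 11 [0, 1, 10, 5, 6] (degs 5 e l) || bad 7 [0, 1, 6, 3, 4] (degs 5 e l) ||
      L5.any fun t => t.1 == e && t.2.1 == c && t.2.2.isPerm (degs 5 e l)))

theorem c5 : chkOne 443520 5 C5 = true := by decide +kernel

theorem goods : (∀ a ∈ O11, good 11 5 a = true) ∧ (∀ a ∈ O7, good 7 3 a = true) ∧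
    (∀ a ∈ O5, good 5 4 a = true) ∧
    (∀ t ∈ L7, good 7 t.1 t.2.2 = true ∧ 1 ∉ t.2.2 ∧ t.2.1 ∈ [2 ^ 6, 2 ^ 3, 2 ^ 2]) ∧
    ∀ t ∈ L5, good 5 t.1 t.2.2 = true ∧ 1 ∉ t.2.2 := by decide +kernel

def sylOK (e c C : ℕ) : Bool :=
  (divs (7 * c * e)).any fun x => x % (7 * c) == 0 && C % x == 0 && C / x % 7 == 1

def flB (B : List (ℕ × ℤ)) (a : List ℕ) (C d : ℕ) (u : ℤ) : Bool :=
  (a.count d != 1 || B.all fun x => x.1 != d || x.2 == u) && fl [5, 7, 11] 11 C d u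

set_option synthInstance.maxSize 4000 in
theorem chkA : ∀ t ∈ L7, ∀ C ∈ divs 40320, sylOK t.1 t.2.1 C = true →
    ∀ B ∈ cl 7 t.1 t.2.1 C t.2.2, ∀ a ∈ O11, subd 11 t.2.2 a = true →
      ∀ A ∈ cols 443520 11 5 1 C (flB B a C) a, subm 11 B A = true → 1 + nrm A + nrm (B.filter fun x => x.1 % 11 == 0) ≤ C →
        a ∈ SA ∧ (C % 5 ≠ 0 → ∀ o ∈ O5, subd 5 t.2.2 o = true → subd 5 a o = true →
          subd 11 o a = true → ∀ D ∈ cl 5 4 1 C o, subm 5 B D = true → subm 5 A D = true →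
            subm 11 D A = false) := by decide +kernel

theorem chkB : ∀ a ∈ SA, ∀ C ∈ divs 40320, C % 10 = 0 → cl 11 5 1 C a = [] := by decide +kernel

set_option synthInstance.maxSize 4000 in
theorem chkC : ∀ t ∈ L5, ∀ C ∈ divs 5760, C % 10 = 0 → ∀ D ∈ cl 5 t.1 t.2.1 C t.2.2,
    ∀ b ∈ O7, subd 7 t.2.2 b = true → ∀ B ∈ cl 7 3 1 C b, subm 7 D B = true →
      ∀ a ∈ O11, subd 11 b a = true → subd 7 a b = true → subd 11 t.2.2 a = true →
        ∀ A ∈ cl 11 5 1 C a, subm 11 B A = true → subm 7 A B = true → subm 11 D A = false := by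
  decide +kernel

end H17.Ord.M22
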