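import Mathlib
import Cfsg.Agent.Base
import Cfsg.Agent.Lib.Ord.Col2
import Cfsg.Agent.Lib.Ord.M22B
import Cfsg.Agent.Lib.Ord.M22C

/-! A simple group of order 443520 is `M₂₂`. -/

set_option autoImplicit false
set_option linter.unusedSectionVars false
set_option linter.style.haveILetI false

open Cfsg H4.Sv

namespace H17.Ord.M22
variable {G : Type*} [Group G] [Finite G] [IsSimpleGroup G]

theorem mem_cl (hG : Nat.card G = 443520) {p : ℕ} [Fact p.Prime] {P : Subgroup G} {e c C : ℕ}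
    (B : PB G p P e) (he : 1 < e) (hc : Nat.card (Subgroup.centralizer (P : Set G)) = p * c)
    [DecidableEq (IrrCharacter G)] {o : List ℕ}
    (h : ∀ d, d ≠ 1 → cnt (B.X ∪ B.Y) d = o.count d) (hg : good p e o = true) {s : G}
    (hs : orderOf s = 2) (hC : Nat.card (Subgroup.centralizer ({s} : Set G)) = C)
    {u : IrrCharacter G → ℤ} (hu : ∀ χ : IrrCharacter G, (χ : G → ℂ) s = u χ) :
    ∃ L : List (IrrCharacter G), L.Nodup ∧ (∀ χ, χ ∈ L ↔ (χ ∈ B.X ∨ χ ∈ B.Y) ∧ χ ≠ triv G) ∧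
      L.map (pr u) ∈ cl p e c C o :=
  B.mem_cols (hna hG) he hG hc h hg hs hC hu (B.fl_of (by rw [hG]; decide) hs hC hu)

theorem subm_sc {p q : ℕ} [Fact p.Prime] {P Q : Subgroup G} {e e' : ℕ} (B : PB G p P e)
    (B' : PB G q Q e') (hC : Subgroup.centralizer (P : Set G) = P) (u : IrrCharacter G → ℤ)
    {L L' : List (IrrCharacter G)} (h : ∀ χ, χ ∈ L ↔ (χ ∈ B.X ∨ χ ∈ B.Y) ∧ χ ≠ triv G)
    (hn : L'.Nodup) (h' : ∀ χ, χ ∈ L' ↔ (χ ∈ B'.X ∨ χ ∈ B'.Y) ∧ χ ≠ triv G) :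
    subm p (L'.map (pr u)) (L.map (pr u)) = true :=
  subm_of u hn fun χ a b => (h χ).mpr ⟨B.mem_of_not_dvd hC b, ((h' χ).mp a).2⟩

theorem exists11 (hG : Nat.card G = 443520) :
    ∃ P : Subgroup G, Nonempty (PB G 11 P 5) ∧ Subgroup.centralizer (P : Set G) = P := by
  classical
  obtain ⟨P, hP⟩ := exists_subgroup_prime (G := G) 11 (by rw [hG]; norm_num)
  obtain ⟨e, -, -, -, -, -, -, -, -, -, -, ⟨B⟩⟩ := setup (hna hG) 11 (m := 40320) hG (by norm_num) P hP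
  obtain ⟨c, l, h1, h2, h3⟩ := sieve_PB (hna hG) (by norm_num) B (hG ▸ c11)
  simp only [C11, Bool.or_eq_true, Bool.and_eq_true, beq_iff_eq, List.all_eq_true, bne_iff_ne,
    List.isEmpty_iff] at h1
  rcases h1 with ⟨rfl, rfl⟩ | ⟨⟨⟨rfl, rfl⟩, h4⟩, h5⟩
  · exact ⟨P, ⟨B⟩, selfcent_of_card hP h2⟩
  · obtain ⟨s, hs, -, k⟩ := exists_elt_cen hP Nat.prime_two (by norm_num) (by rw [h2]; norm_num)
    obtain ⟨u, hu, -⟩ := exists_invol_col (hna hG) hs
    obtain ⟨L, -, -, l3⟩ := mem_cl hG B (by norm_num) h2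
      (fun d hd => (h3 d hd).trans (cntDeg_eq_count _ _ _ _)) h4 hs rfl hu
    rcases h5 _ (mem_divs (by norm_num) (hG ▸ Subgroup.card_subgroup_dvd_card _)) with k' | k'
    · exact absurd (Nat.mod_eq_zero_of_dvd k) k'
    · rw [k'] at l3; exact absurd l3 List.not_mem_nil

theorem dvd_of_not {p m C : ℕ} (hp : p.Prime) (h : C ∣ p * m) (h' : ¬ p ∣ C) : C ∣ m :=
  ((Nat.Prime.coprime_iff_not_dvd hp).mpr h').symm.dvd_of_dvd_mul_left h

theorem nonempty_main (hG : Nat.card G = 443520) : Nonempty (Main G) := by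
  classical
  have na := hna hG
  obtain ⟨P11, ⟨B11⟩, C11⟩ := exists11 hG
  have c11 : Nat.card (Subgroup.centralizer (P11 : Set G)) = 11 * 1 := by rw [C11, B11.card]
  obtain ⟨a, ha, a1⟩ := sieve_list na (by norm_num) B11 hG c11 (B11.index_eq C11 (n := 8064) hG) O11 s11
  have a2 := fun d h k => (B11.cnt_univ C11 k).trans (a1 d h)
  have a0 := no_one.1 a ha
  have d11 : ∀ {s : G}, orderOf s = 2 → Nat.card (Subgroup.centralizer ({s} : Set G)) ∣ 40320 :=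
    fun hs => dvd_of_not (p := 11) (by norm_num) ((Subgroup.card_subgroup_dvd_card _).trans hG.dvd)
      (B11.not_dvd_cent C11 hs Nat.prime_two (by norm_num))
  obtain ⟨P7, hP7⟩ := exists_subgroup_prime (G := G) 7 (by rw [hG]; norm_num)
  obtain ⟨e7, k7, -, n7, N7, -, -, -, -, he7, -, ⟨B7⟩⟩ :=
    setup na 7 (m := 63360) hG (by norm_num) P7 hP7
  obtain ⟨c7, l7, h1, h2, h3⟩ := sieve_PB na (by norm_num) B7 (hG ▸ M22.c7)
  obtain rfl : k7 = c7 := by omega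
  simp only [cntDeg_eq_count] at h3
  obtain ⟨P5, hP5⟩ := exists_subgroup_prime (G := G) 5 (by rw [hG]; norm_num)
  obtain ⟨e5, -, -, -, -, -, -, -, -, he5, -, ⟨B5⟩⟩ :=
    setup na 5 (m := 88704) hG (by norm_num) P5 hP5
  obtain ⟨c5, l5, k1, k2, k3⟩ := sieve_PB na (by norm_num) B5 (hG ▸ M22.c5)
  simp only [cntDeg_eq_count] at k3
  have h4 := B11.not_dvd_cen C11 (by norm_num) hP7
  have k4 := B11.not_dvd_cen C11 (by norm_num) hP5
  have k5 : c5 % 7 = 0 → k7 % 5 = 0 := fun h => by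
    have := dvd_cen_symm hP5 (by norm_num) hP7 B7.ind (by rw [k2]; omega)
    omega
  have h6 : bad 11 [0, 1, 10, 5, 6] (degs 7 e7 l7) = false := B11.res_of_cnt C11 h3
  have k6 : bad 11 [0, 1, 10, 5, 6] (degs 5 e5 l5) = false := B11.res_of_cnt C11 k3
  simp only [C7, h6, Bool.or_eq_true, Bool.and_eq_true, beq_iff_eq, List.any_eq_true,
    List.isPerm_iff, Bool.false_eq_true, or_false] at h1
  simp only [C5, k6, Bool.or_eq_true, Bool.and_eq_true, beq_iff_eq, List.any_eq_true,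
    List.isPerm_iff, Bool.false_eq_true, false_or] at k1
  rcases h1 with (⟨rfl, rfl⟩ | h1) | ⟨⟨e, c, b⟩, hb, ⟨rfl, rfl⟩, h1⟩
  · have C7 := selfcent_of_card hP7 n7
    rcases k1 with ((⟨rfl, rfl⟩ | k1) | k1) | ⟨k0, k1 | ⟨⟨e, c, o⟩, ho, ⟨rfl, rfl⟩, k1⟩⟩
    · exact ⟨⟨P11, P7, P5, B11, B7, B5, C11, C7, selfcent_of_card hP5 k2⟩⟩
    · omega
    · omega
    · exact absurd (k1.symm.trans (B7.res_of_cnt C7 k3)) (by simp)
    exfalso
    replace k3 := fun d hd => (k3 d hd).trans (k1.count_eq d).symm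
    obtain ⟨b, hb, b1⟩ := sieve_list na (by norm_num) B7 hG n7 (B7.index_eq C7 (n := 21120) hG) O7 s7
    have b2 := fun d h k => (B7.cnt_univ C7 k).trans (b1 d h)
    have b0 := no_one.2.1 b hb
    obtain ⟨o1, o0⟩ := goods.2.2.2.2 _ ho
    obtain ⟨s, hs, -, k⟩ := exists_elt_cen hP5 Nat.prime_two (by norm_num) (by rw [k2]; omega)
    obtain ⟨u, hu, -⟩ := exists_invol_col na hs
    obtain ⟨LA, A1, A2, A3⟩ := mem_cl hG B11 (by norm_num) c11 a1 (goods.1 a ha) hs rfl hu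
    obtain ⟨LB, D1, D2, D3⟩ := mem_cl hG B7 (by norm_num) n7 b1 (goods.2.1 b hb) hs rfl hu
    obtain ⟨LO, O1, O2, O3⟩ := mem_cl hG B5 he5 k2 k3 o1 hs rfl hu
    exact absurd (chkC _ ho _ (mem_divs (by norm_num) (dvd_of_not (p := 7) (by norm_num) (d11 hs)
      (B7.not_dvd_cent C7 hs Nat.prime_two (by norm_num)))) (Nat.mod_eq_zero_of_dvd k) _ O3 b hb
      (subd_of o0 k3 b2) _ D3 (subm_sc B7 B5 C7 u D2 O1 O2) a ha (subd_of b0 b1 a2)
      (subd_of a0 a1 b2) (subd_of o0 k3 a2) _ A3 (subm_sc B11 B7 C11 u A2 D1 D2)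
      (subm_sc B7 B11 C7 u D2 A1 A2)) (by rw [subm_sc B11 B5 C11 u A2 O1 O2]; simp)
  · omega
  exfalso
  replace h3 := fun d hd => (h3 d hd).trans (h1.count_eq d).symm
  obtain ⟨b1, b0, b3⟩ := goods.2.2.2.1 _ hb
  simp only at he7 B7 n7 N7 h2 h3 b1 b0 b3 k5
  obtain ⟨j, j0, rfl⟩ : ∃ j, 0 < j ∧ c = 2 ^ j := by
    simp only [List.mem_cons, List.not_mem_nil, or_false] at b3
    rcases b3 with h | h | h <;> exact ⟨_, by norm_num, h⟩
  obtain ⟨s, hs, k⟩ := exists_central_invol hP7 (by norm_num) j0 n7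
  obtain ⟨u, hu, -⟩ := exists_invol_col na hs
  obtain ⟨LB, D1, D2, D3⟩ := mem_cl hG B7 he7 n7 h3 b1 hs rfl hu
  obtain ⟨LA, A1, A2, A3⟩ := B11.mem_cols na (by norm_num) hG c11 a1 (goods.1 a ha) hs rfl hu
    (f := flB (LB.map (pr u)) a (Nat.card (Subgroup.centralizer ({s} : Set G)))) fun χ hχ => by
      simp only [flB, Bool.and_eq_true, Bool.or_eq_true, bne_iff_ne, List.all_eq_true, List.mem_map,
        beq_iff_eq, forall_exists_index, and_imp, forall_apply_eq_imp_iff₂]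
      refine ⟨or_iff_not_imp_left.mpr fun k ψ _ => or_iff_not_imp_left.mpr fun k' => ?_,
        B11.fl_of (by rw [hG]; decide) hs rfl hu χ hχ⟩
      rw [not_not] at k k'
      have k1 : dg χ ≠ 1 := fun h => a0 (List.count_pos_iff.mp (by rw [← h, k]; norm_num))
      obtain ⟨φ, -, -, f⟩ := cnt_eq_one
        ((a2 _ k1 (hχ.elim B11.not_dvd_X B11.not_dvd_Y)).trans k)
      rw [f χ (Finset.mem_univ _) rfl, f ψ (Finset.mem_univ _) k']; rfl
  have syl : sylOK e (2 ^ j) (Nat.card (Subgroup.centralizer ({s} : Set G))) = true := by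
    obtain ⟨r, r1, r2⟩ := card_over hP7 B7.ind ((H84.le_Cen_of_card hP7).trans k)
    simp only [sylOK, List.any_eq_true, Bool.and_eq_true, beq_iff_eq]
    refine ⟨_, mem_divs (by positivity) (N7 ▸ Subgroup.card_dvd_of_le inf_le_left),
      ⟨Nat.mod_eq_zero_of_dvd (n7 ▸ Subgroup.card_dvd_of_le
        (le_inf (Subgroup.centralizer_le_normalizer _) k)), Nat.mod_eq_zero_of_dvd ⟨r, r1⟩⟩, ?_⟩
    rw [r1, Nat.mul_div_cancel_left _ Nat.card_pos, r2]
  obtain ⟨m1, m2⟩ := chkA _ hb _ (mem_divs (by norm_num) (d11 hs)) syl _ D3 a ha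
    (subd_of b0 h3 a2) _ A3 (subm_sc B11 B7 C11 u A2 D1 D2)
    (nrm_le₂ hu A1 (fun h => ((A2 _).mp h).2 rfl) D1 (fun h => ((D2 _).mp h).2 rfl)
      fun χ h => ((A2 _).mp h).1.elim B11.not_dvd_X B11.not_dvd_Y)
  rcases k1 with ((⟨rfl, rfl⟩ | k1) | k1) | ⟨k0, -⟩
  · have C5 := selfcent_of_card hP5 k2
    obtain ⟨o, ho, o1⟩ := sieve_list na (by norm_num) B5 hG k2 (B5.index_eq C5 (n := 22176) hG) O5 s5
    have o2 := fun d h k => (B5.cnt_univ C5 k).trans (o1 d h)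
    obtain ⟨LO, O1, O2, O3⟩ := mem_cl hG B5 he5 k2 o1 (goods.2.2.1 o ho) hs rfl hu
    exact absurd (m2 (fun h => B5.not_dvd_cent C5 hs Nat.prime_two (by norm_num)
      (Nat.dvd_of_mod_eq_zero h)) o ho (subd_of b0 h3 o2) (subd_of a0 a1 o2)
      (subd_of (no_one.2.2 o ho) o1 a2) _ O3 (subm_sc B5 B7 C5 u O2 D1 D2)
      (subm_sc B5 B11 C5 u O2 A1 A2)) (by rw [subm_sc B11 B5 C11 u A2 O1 O2]; simp)
  · omega
  · have := (Nat.prime_five.dvd_of_dvd_pow (Nat.dvd_of_mod_eq_zero (k5 k1)))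
    omega
  · obtain ⟨w, hw, -, k⟩ := exists_elt_cen hP5 Nat.prime_two (by norm_num) (by rw [k2]; omega)
    obtain ⟨v, hv, -⟩ := exists_invol_col na hw
    obtain ⟨L, -, -, l3⟩ := mem_cl hG B11 (by norm_num) c11 a1 (goods.1 a ha) hw rfl hv
    rw [chkB a m1 _ (mem_divs (by norm_num) (d11 hw)) (Nat.mod_eq_zero_of_dvd k)] at l3
    exact absurd l3 List.not_mem_nil

theorem isoM22 (hG : Nat.card G = 443520) : Spor.IsoM22 G :=
  (nonempty_main hG).elim (Main.iso hG)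

end H17.Ord.M22
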