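import Mathlib
import Cfsg.Agent.Base
import Cfsg.Agent.Lib.Ord.Flt

/-! Numerical checks for simple groups of order 10200960, part one. -/

set_option autoImplicit false

open H4.Sv

namespace H17.Ord.M23

def f23 (d : ℕ) : Bool := [0, 1, 22, 11, 12].contains (d % 23) && d != 11

noncomputable def cl (p e c C : ℕ) (o : List ℕ) : List (List (ℕ × ℤ)) :=
  cols 10200960 p e c C (fl [5, 7, 11, 23] p C) o

noncomputable def emp (p e c : ℕ) (o : List ℕ) : Bool :=
  good p e o && (divs 443520).all fun C => C % (2 * p) != 0 || (cl p e c C o).isEmpty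

def A0 : List ℕ := [45, 45, 230, 896, 896, 1035]
def B0 : List ℕ := [22, 45, 45, 231, 231, 231, 770, 770, 896, 896, 990, 990]
def L5 : List (List ℕ) := [[126, 126, 506, 759], [126, 126, 1771, 2024], [231, 896, 896, 2024],
  [506, 644, 759, 896], [644, 896, 1771, 2024]]

theorem c23 : optsAll 10200960 23 (fun e c => (e == 11 && c == 1) ||
    (e % 11 == 0 && (c == 12 || c == 24)) ||
    feasF 10200960 23 e c (fun _ => true) fun _ => false) = true := by decide +kernel

theorem odd23 : ∀ c ∈ [12, 24], ∀ d ∈ divs (10200960 / 23 / c), d % 2 = 1 → 46 ≤ d →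
    d % 23 ∈ [1, 22, 11, 12] → d % 11 = 0 ∧ d ≤ 506 := by decide +kernel

theorem c7 : optsAll 10200960 7 (fun e c => c % 11 != 0 || c % 23 == 0 ||
    feasF 10200960 7 e c f23 fun o => c % 2 == 0 && emp 7 e c o) = true := by decide +kernel

theorem c11 : optsAll 10200960 11 (fun e c => c % 7 == 0 || c % 23 == 0 || (e == 5 && c == 1) ||
    feasF 10200960 11 e c f23 fun o => c % 2 == 0 && emp 11 e c o) = true := by decide +kernel

theorem c5 : optsAll 10200960 5 (fun e c => c % 11 == 0 || c % 23 == 0 ||
    feasF 10200960 5 e c (fun d => f23 d && [0, 1, 10, 5, 6].contains (d % 11))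
      fun o => L5.any fun a => a.isPerm o) = true := by decide +kernel

theorem s11 : feasF 10200960 11 5 1 f23 (fun a => L5.all fun o => !subd 11 o a ||
    (a.isPerm A0 && o.contains 231) || (good 11 5 a && (divs 40320).all fun C =>
      C % 2 != 0 || (cl 11 5 1 C a).isEmpty)) = true := by decide +kernel

end H17.Ord.M23
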