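import Mathlib
import Cfsg.Agent.Base
import Cfsg.Agent.Lib.Ord.M23A

/-! Numerical checks for simple groups of order 10200960, part two. -/

set_option autoImplicit false

open H4.Sv

namespace H17.Ord.M23

def AL : List (ℕ × ℤ) := [(45, -3), (45, -3), (230, 22), (1035, 27), (896, 0), (896, 0)]
def AL' : List (ℕ × ℤ) := [(45, -3), (45, 5), (230, 22), (1035, 19), (896, 0), (896, 0)]
def BL : List (ℕ × ℤ) := [(1035, 27), (2024, 8), (990, -18), (990, -18)]

set_option synthInstance.maxSize 4000 in
theorem colA : ∀ C ∈ divs 40320, C % 2 = 0 → ∀ A ∈ cl 11 5 1 C A0, 2688 % C = 0 ∧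
    (230, 22) ∈ A ∧ (C % 128 = 0 → C = 896 ∧ A.isPerm AL' ∨ C = 2688 ∧ A.isPerm AL) := by
  decide +kernel

theorem c7' : optsAll 10200960 7 (fun e c => c % 11 == 0 || c % 23 == 0 ||
    feasF 10200960 7 e c (fun d => f23 d && (d % 11 == 0 || A0.contains d))
      fun o => !subd 11 o A0 || (good 7 e o && ((cl 7 e c 896 o).all fun B => !subm 11 B AL') &&
        (cl 7 e c 2688 o).all fun B => !subm 11 B AL || (B.isPerm BL && decide (c ≤ 16)))) = true := by
  decide +kernel

def g23 (d : ℕ) (u : ℤ) : Bool :=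
  fl [7] 23 2688 d u && (d == 1 || (AL ++ BL).contains (d, u) || (d % 11 == 0 && decide (u * u ≤ 744)))

theorem s23 : feasF 10200960 23 11 1 (fun d => d != 11 && (d % 11 == 0 || A0.contains d))
    (fun b => !subd 23 A0 b || !subd 11 b A0 || !b.contains 231 || decide (b.count 990 < 2) ||
      b.isPerm B0 || (good 23 11 b && (cols 10200960 23 11 1 2688 g23 b).all
          fun B => !subm 23 BL B || decide (1474 < nrm B))) = true := by decide +kernel

end H17.Ord.M23
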