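import Mathlib
import Cfsg.Agent.Base
import Cfsg.Agent.Lib.Ord.Flt2
import Cfsg.Agent.Lib.Ord.M23B
import Cfsg.Agent.Lib.Ord.M22D

/-! A simple group of order 10200960 is `M₂₃`. -/

set_option autoImplicit false
set_option linter.unusedSectionVars false
set_option linter.style.haveILetI false

open Cfsg H4.Sv MulAction

namespace H17.Ord.M23
variable {G : Type*} [Group G] [Finite G] [IsSimpleGroup G]

theorem hna (hG : Nat.card G = 10200960) : ∃ a b : G, a * b ≠ b * a :=
  noncomm_of_not_prime (by rw [hG]; norm_num)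

theorem exists23 (hG : Nat.card G = 10200960) :
    ∃ P : Subgroup G, Nonempty (PB G 23 P 11) ∧ Subgroup.centralizer (P : Set G) = P := by
  classical
  obtain ⟨P, e, c, hc, ⟨B⟩⟩ := exists_PB (hna hG) 23 (m := 443520) hG (by norm_num)
  have k := (B.opts (hna hG) hG hc c23).2
  simp only [Bool.or_eq_true, Bool.and_eq_true, beq_iff_eq] at k
  rcases k with (⟨rfl, rfl⟩ | ⟨k, rfl | rfl⟩) | k
  · exact ⟨P, ⟨B⟩, selfcent_of_card B.card hc⟩
  · exact (B.not_side (a := 2) (m := 69) (hna hG) hG (by norm_num) hc rfl (by norm_num) k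
      (by norm_num) (by norm_num) (odd23 _ (by simp))).elim
  · exact (B.not_side (a := 3) (m := 69) (hna hG) hG (by norm_num) hc rfl (by norm_num) k
      (by norm_num) (by norm_num) (odd23 _ (by simp))).elim
  · obtain ⟨o, h, -⟩ := B.sieveF (hna hG) (by norm_num) hG hc (fun _ _ _ => rfl) k
    exact absurd h (by simp)

section
variable (hG : Nat.card G = 10200960) {P : Subgroup G} (B : PB G 23 P 11)
  (hC : Subgroup.centralizer (P : Set G) = P)
include hG B hC

theorem f23_of (χ : IrrCharacter G) : f23 (dg χ) = true := by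
  have := dg_ne_half (p := 23) (hna hG) (by rw [hG]; norm_num) (by rw [hG]; norm_num)
    (by rw [hG]; norm_num) (by norm_num) χ
  rw [f23, List.contains_iff_mem.mpr (B.res hC χ), Bool.true_and, bne_iff_ne]
  omega

theorem cent_dvd {s : G} (hs : orderOf s = 2) :
    Nat.card (Subgroup.centralizer ({s} : Set G)) ∣ 443520 :=
  M22.dvd_of_not (p := 23) (by norm_num) ((Subgroup.card_subgroup_dvd_card _).trans hG.dvd)
    (B.not_dvd_cent hC hs Nat.prime_two (by norm_num))

theorem not_emp {p : ℕ} [Fact p.Prime] (h2 : p ≠ 2) {Q : Subgroup G} {e c : ℕ} (B' : PB G p Q e)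
    (he : 1 < e) (hc : Nat.card (Subgroup.centralizer (Q : Set G)) = p * c)
    (h : feasF 10200960 p e c f23 (fun o => c % 2 == 0 && emp p e c o) = true) : False := by
  classical
  obtain ⟨o, h, -, k⟩ := B'.sieveF (hna hG) h2 hG hc (fun χ _ _ => f23_of hG B hC χ) h
  simp only [emp, Bool.and_eq_true, beq_iff_eq, List.all_eq_true, Bool.or_eq_true, bne_iff_ne,
    List.isEmpty_iff] at h
  obtain ⟨s, hs, -, k1⟩ := exists_elt_cen B'.card Nat.prime_two h2
    (hc ▸ (Nat.dvd_of_mod_eq_zero h.1).mul_left _)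
  obtain ⟨u, hu, -⟩ := exists_invol_col (hna hG) hs
  obtain ⟨L, -, -, l⟩ := B'.mem_fl (hna hG) hG (by decide) he hc k h.2.1 hs rfl hu
  rcases h.2.2 _ (mem_divs (by norm_num) (cent_dvd hG B hC hs)) with k2 | k2
  · exact k2 (Nat.mod_eq_zero_of_dvd (mul_comm p 2 ▸ k1))
  · rw [cl] at k2; exact List.not_mem_nil (k2 ▸ l)

theorem exists11 :
    ∃ Q : Subgroup G, Nonempty (PB G 11 Q 5) ∧ Subgroup.centralizer (Q : Set G) = Q := by
  obtain ⟨Q, e, c, hc, ⟨B'⟩⟩ := exists_PB (hna hG) 11 (m := 927360) hG (by norm_num)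
  obtain ⟨he, k⟩ := B'.opts (hna hG) hG hc c11
  simp only [Bool.or_eq_true, Bool.and_eq_true, beq_iff_eq] at k
  have k1 := B.not_dvd_cen hC (by norm_num) B'.card
  rcases k with ((k | k) | ⟨rfl, rfl⟩) | k
  · obtain ⟨R, e', c', hc', ⟨B7⟩⟩ := exists_PB (hna hG) 7 (m := 1457280) hG (by norm_num)
    obtain ⟨he', k'⟩ := B7.opts (hna hG) hG hc' c7
    have k2 := B.not_dvd_cen hC (by norm_num) B7.card
    have k3 := dvd_cen_symm B'.card (by norm_num) B7.card B7.ind (by omega)
    simp only [Bool.or_eq_true, beq_iff_eq, bne_iff_ne] at k'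
    exact (not_emp hG B hC (by norm_num) B7 he' hc' (k'.resolve_left (by omega))).elim
  · omega
  · exact ⟨Q, ⟨B'⟩, selfcent_of_card B'.card hc⟩
  · exact (not_emp hG B hC (by norm_num) B' he hc k).elim

variable {Q : Subgroup G} (A : PB G 11 Q 5) (hA : Subgroup.centralizer (Q : Set G) = Q)
include A hA

theorem cent_dvd' {s : G} (hs : orderOf s = 2) :
    Nat.card (Subgroup.centralizer ({s} : Set G)) ∣ 40320 :=
  M22.dvd_of_not (p := 11) (by norm_num) (cent_dvd hG B hC hs)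
    (A.not_dvd_cent hA hs Nat.prime_two (by norm_num))

theorem degA [DecidableEq (IrrCharacter G)] : (∀ d, d ≠ 1 → cnt (A.X ∪ A.Y) d = A0.count d) ∧
    0 < cnt (G := G) Finset.univ 231 := by
  have c1 : Nat.card (Subgroup.centralizer (Q : Set G)) = 11 * 1 := by rw [hA, A.card]
  obtain ⟨R, e, c, hc, ⟨D⟩⟩ := exists_PB (hna hG) 5 (m := 2040192) hG (by norm_num)
  obtain ⟨he, k⟩ := D.opts (hna hG) hG hc c5
  have k1 := B.not_dvd_cen hC (by norm_num) D.card
  have k2 := A.not_dvd_cen hA (by norm_num) D.card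
  simp only [Bool.or_eq_true, beq_iff_eq] at k
  obtain ⟨o', o1, o0, o2⟩ := D.sieveF (hna hG) (by norm_num) hG hc (fun χ _ _ => by
    rw [f23_of hG B hC, List.contains_iff_mem.mpr (A.res hA χ)]; rfl) (k.resolve_left (by omega))
  obtain ⟨o, ho, o3⟩ := List.any_eq_true.mp o1
  replace o2 := fun d hd => (o2 d hd).trans ((List.isPerm_iff.mp o3).count_eq d).symm
  obtain ⟨a, a1, -, a2⟩ := A.sieveF (hna hG) (by norm_num) hG c1 (fun χ _ _ => f23_of hG B hC χ) s11
  have := List.all_eq_true.mp a1 o ho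
  rw [subd_of (fun h => o0 ((List.isPerm_iff.mp o3).mem_iff.mp h)) o2
    fun d h k => (A.cnt_univ hA k).trans (a2 d h)] at this
  simp only [Bool.not_true, Bool.false_or, Bool.or_eq_true, Bool.and_eq_true, List.isPerm_iff,
    List.all_eq_true, bne_iff_ne, List.isEmpty_iff, List.contains_iff_mem] at this
  rcases this with ⟨h1, h2⟩ | ⟨h1, h2⟩
  · exact ⟨fun d hd => (a2 d hd).trans (h1.count_eq d), lt_of_lt_of_le
      (o2 231 (by norm_num) ▸ List.count_pos_iff.mpr h2) (cnt_mono (Finset.subset_univ _) _)⟩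
  obtain ⟨s, hs⟩ := exists_prime_orderOf_dvd_card' (G := G) 2 (by rw [hG]; norm_num)
  obtain ⟨u, hu, -⟩ := exists_invol_col (hna hG) hs
  obtain ⟨L, -, -, l⟩ := A.mem_fl (hna hG) hG (by decide) (by norm_num) c1 a2 h1 hs rfl hu
  rcases h2 _ (mem_divs (by norm_num) (cent_dvd' hG B hC A hA hs)) with k2 | k2
  · exact absurd (Nat.mod_eq_zero_of_dvd (hs ▸ orderOf_dvd_cent s)) k2
  · rw [cl] at k2; exact absurd (k2 ▸ l) List.not_mem_nil

theorem invA {s : G} (hs : orderOf s = 2) {u : IrrCharacter G → ℤ}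
    (hu : ∀ χ : IrrCharacter G, (χ : G → ℂ) s = u χ) : ∃ L : List (IrrCharacter G), L.Nodup ∧
      (∀ χ, χ ∈ L ↔ (χ ∈ A.X ∨ χ ∈ A.Y) ∧ χ ≠ triv G) ∧
      Nat.card (Subgroup.centralizer ({s} : Set G)) ∣ 2688 ∧ (∀ χ, dg χ = 230 → u χ = 22) ∧
      (2 ^ 7 ∣ Nat.card (Subgroup.centralizer ({s} : Set G)) →
        Nat.card (Subgroup.centralizer ({s} : Set G)) = 896 ∧ (L.map (pr u)).Perm AL' ∨
        Nat.card (Subgroup.centralizer ({s} : Set G)) = 2688 ∧ (L.map (pr u)).Perm AL) := by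
  classical
  have a := (degA hG B hC A hA).1
  obtain ⟨L, l1, l2, l⟩ := A.mem_fl (c := 1) (hna hG) hG (by decide) (by norm_num)
    (by rw [hA, A.card]) a (by decide) hs rfl hu
  obtain ⟨h1, h2, h3⟩ := colA _ (mem_divs (by norm_num) (cent_dvd' hG B hC A hA hs))
    (Nat.mod_eq_zero_of_dvd (hs ▸ orderOf_dvd_cent s)) _ l
  simp only [List.isPerm_iff] at h3
  refine ⟨L, l1, l2, Nat.dvd_of_mod_eq_zero h1, fun χ h => ?_, fun h => h3 (Nat.mod_eq_zero_of_dvd h)⟩
  obtain ⟨ψ, -, k⟩ := List.mem_map.mp h2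
  obtain ⟨φ, -, -, f⟩ := cnt_eq_one ((A.cnt_univ hA (by norm_num)).trans (a 230 (by norm_num)))
  rw [f χ (Finset.mem_univ _) h, ← f ψ (Finset.mem_univ _) (congrArg Prod.fst k)]
  exact congrArg Prod.snd k

theorem degB [DecidableEq (IrrCharacter G)] : (∀ d, d ≠ 1 → cnt (B.X ∪ B.Y) d = B0.count d) ∧
    ∀ g : G, 7 ∣ orderOf g → Nat.card (Subgroup.centralizer ({g} : Set G)) ≤ 112 := by
  have na := hna hG
  obtain ⟨a1, a3⟩ := degA hG B hC A hA
  have a2 := fun d h k => (A.cnt_univ hA k).trans (a1 d h)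
  have fa : ∀ χ : IrrCharacter G, dg χ ≠ 1 → (dg χ % 11 == 0 || A0.contains (dg χ)) = true :=
    fun χ h => by
      rw [Bool.or_eq_true, beq_iff_eq, or_iff_not_imp_left, List.contains_iff_mem,
        ← List.count_pos_iff]
      exact fun k => a2 _ h (fun e => k (Nat.mod_eq_zero_of_dvd e)) ▸
        cnt_pos.mpr ⟨χ, Finset.mem_univ _, rfl⟩
  obtain ⟨s, hs, s1⟩ := exists_two_central (G := G) (k := 7) (by norm_num) (by rw [hG]; norm_num)
  obtain ⟨u, hu, -⟩ := exists_invol_col na hs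
  obtain ⟨LA, A1, A2, -, -, A3⟩ := invA hG B hC A hA hs hu
  obtain ⟨R, e, c, hc, ⟨D⟩⟩ := exists_PB na 7 (m := 1457280) hG (by norm_num)
  obtain ⟨he, k⟩ := D.opts na hG hc c7'
  have k1 := B.not_dvd_cen hC (by norm_num) D.card
  have k2 := A.not_dvd_cen hA (by norm_num) D.card
  simp only [Bool.or_eq_true, beq_iff_eq] at k
  obtain ⟨o, o1, o0, o2⟩ := D.sieveF na (by norm_num) hG hc (fun χ _ h => by
    rw [f23_of hG B hC, fa χ h]; rfl) (k.resolve_left (by omega))
  rw [subd_of o0 o2 a2] at o1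
  simp only [Bool.not_true, Bool.false_or, Bool.or_eq_true, Bool.and_eq_true, List.isPerm_iff,
    List.all_eq_true, Bool.not_eq_true', decide_eq_true_eq] at o1
  obtain ⟨LD, D1, D2, D3⟩ := D.mem_fl na hG (by decide) he hc o2 o1.1.1 hs rfl hu
  have sm := M22.subm_sc A D hA u A2 D1 D2
  obtain ⟨C1, A4⟩ := A3 s1 |>.resolve_left fun h => by
    rw [h.1] at D3
    exact absurd (o1.1.2 _ D3) (by rw [subm_perm h.2 (List.Perm.refl _) sm]; simp)
  rw [C1] at D3
  obtain ⟨D4, c16⟩ := (o1.2 _ D3).resolve_left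
    (by rw [subm_perm A4 (List.Perm.refl _) sm]; simp)
  refine ⟨?_, fun g hg => (Nat.le_of_dvd Nat.card_pos (card_cent_dvd D.card D.ind hg)).trans
    (by omega)⟩
  have c1 : Nat.card (Subgroup.centralizer (P : Set G)) = 23 * 1 := by rw [hC, B.card]
  obtain ⟨b, b1, b0, b2⟩ := B.sieveF na (by norm_num) hG c1 (fun χ _ h => by
    have := f23_of hG B hC χ
    rw [f23, Bool.and_eq_true] at this
    rw [this.2, fa χ h]; rfl) s23
  have b3 := fun d h k => (B.cnt_univ hC k).trans (b2 d h)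
  have b4 : ¬ b.count 990 < 2 := by
    rw [← b3 _ (by norm_num) (by norm_num), not_lt]
    have := (D4.map Prod.fst).count_eq 990
    rw [List.map_map, List.count, List.countP_map, List.countP_eq_length_filter,
      ← List.toFinset_card_of_nodup (D1.filter _)] at this
    refine le_trans (le_of_eq this.symm) (Finset.card_le_card fun χ h => ?_)
    simpa [pr] using (List.mem_filter.mp (List.mem_toFinset.mp h)).2
  rw [subd_of (by decide) a1 b3, subd_of b0 b2 a2, List.contains_iff_mem.mpr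
    (List.count_pos_iff.mp (b3 231 (by norm_num) (by norm_num) ▸ a3)), decide_eq_false b4] at b1
  simp only [Bool.not_true, Bool.false_or, Bool.or_eq_true, Bool.and_eq_true, List.isPerm_iff,
    List.all_eq_true, Bool.not_eq_true', decide_eq_true_eq] at b1
  rcases b1 with b1 | ⟨b1, b5⟩
  · exact fun d hd => (b2 d hd).trans (b1.count_eq d)
  exfalso
  have A5 : ∀ χ ∈ LA, ¬ 11 ∣ dg χ := fun χ h => ((A2 _).mp h).1.elim A.not_dvd_X A.not_dvd_Y
  obtain ⟨LB, B1, B2, B3⟩ := B.mem_cols na (by norm_num) hG c1 b2 b1 hs C1 hu (f := g23) fun χ h => by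
    rw [g23, B.fl_of (by rw [hG]; decide) hs C1 hu χ h]
    simp only [Bool.true_and, Bool.or_eq_true, Bool.and_eq_true, beq_iff_eq, decide_eq_true_eq,
      List.contains_iff_mem, List.mem_append]
    by_cases k1 : χ = triv G
    · exact Or.inl (Or.inl (k1 ▸ dg_triv))
    by_cases k2 : χ ∈ LD
    · exact Or.inl (Or.inr (Or.inr (D4.mem_iff.mp (List.mem_map_of_mem k2))))
    by_cases k3 : 11 ∣ dg χ; swap
    · exact Or.inl (Or.inr (Or.inl (A4.mem_iff.mp (List.mem_map_of_mem
        ((A2 χ).mpr ⟨A.mem_of_not_dvd hA k3, k1⟩)))))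
    have := nrm_le₂ hu A1 (fun h => ((A2 _).mp h).2 rfl) (List.nodup_cons.mpr ⟨k2, D1⟩)
      (fun h => (List.mem_cons.mp h).elim (fun e => k1 e.symm) fun h => ((D2 _).mp h).2 rfl) A5
    rw [List.map_cons, List.filter_cons_of_pos (by simpa [pr] using Nat.mod_eq_zero_of_dvd k3),
      nrm_perm A4, nrm_perm ((D4.filter _).cons _), C1] at this
    refine Or.inr ⟨Nat.mod_eq_zero_of_dvd k3, ?_⟩
    simp [nrm, AL, BL, pr] at this
    omega
  have := nrm_le₂ hu B1 (fun h => ((B2 _).mp h).2 rfl) A1 (fun h => ((A2 _).mp h).2 rfl)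
    fun χ h => ((B2 _).mp h).1.elim B.not_dvd_X B.not_dvd_Y
  rw [nrm_perm (A4.filter _), C1, show nrm (AL.filter _) = 1213 from rfl] at this
  rcases b5 _ B3 with h | h
  · exact absurd h (by rw [subm_perm (List.Perm.refl _) D4 (M22.subm_sc B D hC u B2 D1 D2)]; simp)
  · omega

theorem exists_action [Fintype G] : ∃ (χ φ ψ : IrrCharacter G) (r : G → ℤ),
    (∀ g, (χ : G → ℂ) g = r g) ∧ dg χ = 22 ∧ dg φ = 230 ∧ dg ψ = 231 ∧
    (∀ g, H84.sym (χ : G → ℂ) g = 1 + (χ : G → ℂ) g + (φ : G → ℂ) g) ∧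
    (∀ g, H84.alt (χ : G → ℂ) g = (ψ : G → ℂ) g) ∧
    ∀ θ : IrrCharacter G, dg θ ≤ 22 → θ = triv G ∨ θ = χ := by
  classical
  have na := hna hG
  have a2 := fun d h k => (A.cnt_univ hA k).trans ((degA hG B hC A hA).1 d h)
  have b2 := fun d h k => (B.cnt_univ hC k).trans ((degB hG B hC A hA).1 d h)
  obtain ⟨χ, -, d1, u1⟩ := cnt_eq_one (b2 22 (by norm_num) (by norm_num))
  replace u1 := fun ψ => u1 ψ (Finset.mem_univ _)
  choose r hr using int_of_unique (χ := χ) fun ψ h => u1 ψ (h.trans d1)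
  have hD : ∀ θ : IrrCharacter G, dg θ ≤ 253 → dg θ ∈ [1, 22, 45, 230, 231, 253] := fun θ h => by
    have k0 := dg_pos θ
    have k : 0 < cnt Finset.univ (dg θ) := cnt_pos.mpr ⟨θ, Finset.mem_univ _, rfl⟩
    simp only [List.mem_cons, List.not_mem_nil, or_false]
    by_contra k1
    by_cases k2 : 23 ∣ dg θ
    · by_cases k3 : 11 ∣ dg θ
      · omega
      · rw [a2 _ (by omega) k3, List.count_pos_iff] at k
        simp only [A0, List.mem_cons, List.not_mem_nil, or_false] at k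
        omega
    · rw [b2 _ (by omega) k2, List.count_pos_iff] at k
      simp only [B0, List.mem_cons, List.not_mem_nil, or_false] at k
      omega
  obtain ⟨x, -, hx⟩ := B.exists_sing
  obtain ⟨y, -, hy⟩ := A.exists_sing
  have vx : ∀ {g : G}, 23 ∣ orderOf g → ∀ θ : IrrCharacter G, dg θ ∈ [1, 22, 45, 230, 231, 253] →
      (θ : G → ℂ) g = (if dg θ % 23 = 0 then 0 else if dg θ % 23 = 1 then 1 else -1 : ℤ) :=
    fun h θ k => B.val_sg (by norm_num) hC 
      (by simp only [List.mem_cons, List.not_mem_nil, or_false] at k; omega) h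
  have vy : ∀ {g : G}, 11 ∣ orderOf g → ∀ θ : IrrCharacter G, dg θ ∈ [1, 22, 45, 230, 231, 253] →
      (θ : G → ℂ) g = (if dg θ % 11 = 0 then 0 else if dg θ % 11 = 1 then 1 else -1 : ℤ) :=
    fun h θ k => A.val_sg (by norm_num) hA 
      (by simp only [List.mem_cons, List.not_mem_nil, or_false] at k; omega) h
  have x1 := vx hx.symm.dvd χ (by simp [d1])
  have x2 := vx (g := x * x) (by rw [← sq, Nat.Coprime.orderOf_pow (by rw [hx]; norm_num), hx]) χ
    (by simp [d1])
  have y1 := vy hy.symm.dvd χ (by simp [d1])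
  have y2 := vy (g := y * y) (by rw [← sq, Nat.Coprime.orderOf_pow (by rw [hy]; norm_num), hy]) χ
    (by simp [d1])
  have dec := fun (θ : G → ℂ) hθ (n : ℕ) (h1 : θ 1 = n) (hn : n ≤ 253) =>
    exists_dec hθ h1 _ (by decide) fun ψ h => hD ψ (h.trans hn)
  obtain ⟨m, m1, m2⟩ := dec _ (H84.isCharacter_alt (irr_chr χ)) 231
    (by rw [H84.alt, mul_one, dg_cast, d1]; norm_num) (by norm_num)
  have e1 := m1 1 (fun d => d) fun ψ _ => by rw [dg_cast]; rfl
  have e2 := m1 x (fun d => if d % 23 = 0 then 0 else if d % 23 = 1 then 1 else -1) (vx hx.symm.dvd)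
  have e3 := m1 y (fun d => if d % 11 = 0 then 0 else if d % 11 = 1 then 1 else -1) (vy hy.symm.dvd)
  rw [H84.alt] at e1 e2 e3
  replace e1 := Int.cast_injective ((show ((231 : ℤ) : ℂ) = _ by
    rw [mul_one, dg_cast, d1]; norm_num).trans e1)
  replace e2 := Int.cast_injective ((show ((1 : ℤ) : ℂ) = _ by rw [x1, x2, d1]; norm_num).trans e2)
  replace e3 := Int.cast_injective ((show ((0 : ℤ) : ℂ) = _ by rw [y1, y2, d1]; norm_num).trans e3)
  simp only [List.map_cons, List.map_nil, List.sum_cons, List.sum_nil] at e1 e2 e3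
  norm_num at e1 e2 e3
  obtain ⟨s, hs⟩ := exists_prime_orderOf_dvd_card' (G := G) 2 (by rw [hG]; norm_num)
  obtain ⟨u, hu, -⟩ := exists_invol_col na hs
  obtain ⟨-, -, -, -, u2, -⟩ := invA hG B hC A hA hs hu
  have s2 : s * s = 1 := by rw [← sq, ← hs, pow_orderOf_eq_one]
  have h0 : m 230 = 0 := by
    by_contra h
    obtain ⟨L, l1, l2⟩ := m2 [1, 230] (by simp; omega) (by simp)
    obtain ⟨a, b, rfl⟩ := List.length_eq_two.mp (show L.length = 2 by simpa using congrArg List.length l1)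
    simp only [List.map_cons, List.map_nil, List.cons.injEq, and_true] at l1
    have := l2 s
    simp only [List.map_cons, List.map_nil, List.sum_cons, List.sum_nil, eq_triv_of_dg na l1.1,
      triv_apply, H84.alt, s2, dg_cast, d1, hu χ, hu b, u2 b l1.2] at this
    have : u χ * u χ = 68 := by
      apply Int.cast_injective (α := ℂ); push_cast at this ⊢; linear_combination 2 * this
    have k : u χ ≤ 8 ∧ -8 ≤ u χ := by constructor <;> nlinarith
    obtain ⟨k1, k2⟩ := k
    interval_cases u χ <;> omega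
  obtain ⟨L, l1, l2⟩ := m2 [231] (by simp; omega) (by simp)
  obtain ⟨ψ, rfl⟩ := List.length_eq_one_iff.mp (show L.length = 1 by simpa using congrArg List.length l1)
  simp only [List.map_cons, List.map_nil, List.cons.injEq, and_true, List.sum_cons, List.sum_nil,
    add_zero] at l1 l2
  have S : ∑ g, H84.sym (χ : G → ℂ) g ≠ 0 := by
    have k := sum_mul_real χ χ fun g => by rw [hr, map_intCast]
    simp only [← sym_add_alt, Finset.sum_add_distrib, l2, sum_eq_zero_of_ne (χ := ψ) (by omega),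
      add_zero, if_true] at k
    rw [k]; exact_mod_cast Nat.card_pos.ne'
  clear e1 e2 e3 h0 m1 m2 m
  obtain ⟨m, m1, m2⟩ := dec _ (H84.isCharacter_sym (irr_chr χ)) 253
    (by rw [H84.sym, mul_one, dg_cast, d1]; norm_num) (by norm_num)
  have e1 := m1 1 (fun d => d) fun ψ _ => by rw [dg_cast]; rfl
  have e2 := m1 x (fun d => if d % 23 = 0 then 0 else if d % 23 = 1 then 1 else -1) (vx hx.symm.dvd)
  have e3 := m1 y (fun d => if d % 11 = 0 then 0 else if d % 11 = 1 then 1 else -1) (vy hy.symm.dvd)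
  rw [H84.sym] at e1 e2 e3
  replace e1 := Int.cast_injective ((show ((253 : ℤ) : ℂ) = _ by
    rw [mul_one, dg_cast, d1]; norm_num).trans e1)
  replace e2 := Int.cast_injective ((show ((0 : ℤ) : ℂ) = _ by rw [x1, x2, d1]; norm_num).trans e2)
  replace e3 := Int.cast_injective ((show ((0 : ℤ) : ℂ) = _ by rw [y1, y2, d1]; norm_num).trans e3)
  simp only [List.map_cons, List.map_nil, List.sum_cons, List.sum_nil] at e1 e2 e3
  norm_num at e1 e2 e3
  have h1 : m 1 ≠ 0 := fun h => by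
    obtain ⟨L, l1, l2⟩ := m2 (List.replicate (m 22) 22 ++ List.replicate (m 231) 231 ++
      List.replicate (m 253) 253) (by simp [List.count_replicate]; omega)
      (by simp only [List.mem_append, List.mem_replicate]; rintro d ((h | h) | h) <;> simp [h.2])
    refine S ?_
    simp only [l2]
    exact sum_list_zero (by simp [l1])
  obtain ⟨L, l3, l4⟩ := m2 [1, 22, 230] (by simp; omega) (by simp)
  obtain ⟨a, b, φ, rfl⟩ := List.length_eq_three.mp (show L.length = 3 by simpa using congrArg List.length l3)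
  simp only [List.map_cons, List.map_nil, List.cons.injEq, and_true, List.sum_cons, List.sum_nil,
    add_zero] at l3 l4
  refine ⟨χ, φ, ψ, r, hr, d1, l3.2.2, l1, fun g => ?_, l2, fun θ h => ?_⟩
  · rw [l4, eq_triv_of_dg na l3.1, u1 b l3.2.1, triv_apply, add_assoc]
  · have := hD θ (by omega)
    simp only [List.mem_cons, List.not_mem_nil, or_false] at this
    exact (show dg θ = 1 ∨ dg θ = 22 by omega).imp (eq_triv_of_dg na) (u1 θ)

theorem exists_perm [Fintype G] : ∃ H : Subgroup G, H ≠ ⊤ ∧ H.index = 23 ∧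
    ∑ g : G, (Nat.card (fixedBy (G ⧸ H) g)).descFactorial 4 < 2 * Nat.card G ∧
    (∀ g : G, orderOf g = 4 → Nat.card (fixedBy (G ⧸ H) g) = 3) ∧
    (∀ g : G, orderOf g = 2 → Nat.card (fixedBy (G ⧸ H) g) = 7) ∧
    ∀ χ : IrrCharacter G, dg χ ≤ 22 → χ = triv G ∨
      ∀ g, (χ : G → ℂ) g = (Nat.card (fixedBy (G ⧸ H) g) : ℂ) - 1 := by
  classical
  have na := hna hG
  obtain ⟨χ, φ, ψ, r, hr, d1, d2, d3, hs, ha, hm⟩ := exists_action hG B hC A hA
  obtain ⟨H, h1, h2, h3, h4⟩ := action_of_sq hr hs ha (by omega) (by omega) (by omega) (by omega)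
    (d1 ▸ hm)
  have v2 : ∀ g (z : ℤ), r g * r g + r (g * g) = 2 * (1 + r g + z) → (φ : G → ℂ) g = z :=
    fun g z h => by
      have k := hs g
      have h := congrArg (Int.cast : ℤ → ℂ) h
      rw [H84.sym, hr, hr] at k
      push_cast at h
      linear_combination h / 2 - k
  have r1 : r 1 = 22 := by exact_mod_cast (hr 1).symm.trans ((dg_cast χ).trans (congrArg _ d1))
  have le : ∀ (g : G) (k : ℕ), r g ≤ r (g ^ k) := fun g k => by
    have := Set.ncard_le_ncard (fun a h => fixedBy_subset_fixedBy_zpow (G ⧸ H) g k h)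
    have := h3 g; have := h3 (g ^ k)
    simp only [zpow_natCast, ← Nat.card_coe_set_eq] at *
    omega
  have r2 : ∀ s, orderOf s = 2 → r s = 6 := fun s h => by
    obtain ⟨u, hu, -⟩ := exists_invol_col na h
    obtain ⟨-, -, -, -, u2, -⟩ := invA hG B hC A hA h hu
    have k := hs s
    rw [H84.sym, ← sq s, ← h, pow_orderOf_eq_one, hu φ, u2 φ d2, hr, hr, r1] at k
    have k1 : (r s - 6) * (r s + 4) = 0 := by
      apply Int.cast_injective (α := ℂ); push_cast at k ⊢; linear_combination 2 * k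
    have := h3 s
    rcases mul_eq_zero.mp k1 with e | e <;> omega
  have r7 : ∀ z, orderOf z = 7 → r z = 1 ∨ r z = 8 := fun z h => by
    have k := modEq_pow (irr_chr χ) (p := 7) (k := 1) (by norm_num) (hr z) (hr _)
    rw [pow_one, ← h, pow_orderOf_eq_one, r1, h] at k
    have := sq_add_sq_le (χ := χ) (ψ := triv G) (by rintro rfl; rw [dg_triv] at d1; omega) (hr z)
      (b := 1) (by rw [triv_apply, Int.cast_one])
    have := (degB hG B hC A hA).2 z h.symm.dvd
    have : r z ≤ 10 := by nlinarith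
    have := h3 z
    simp only [Int.ModEq] at k
    omega
  have r7' : ∀ z, orderOf z = 7 → r z = 1 := fun z h => (r7 z h).resolve_right fun e => by
    have := le z 2
    have k := r7 (z ^ 2) (by rw [Nat.Coprime.orderOf_pow (by rw [h]; norm_num), h])
    have := sq_add_sq_le (χ := φ) (ψ := triv G) (by rintro rfl; rw [dg_triv] at d2; omega)
      (v2 z 27 (by rw [← sq z, e]; omega)) (b := 1) (by rw [triv_apply, Int.cast_one])
    have := (degB hG B hC A hA).2 z h.symm.dvd
    omega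
  refine ⟨H, h1, by omega, h4, fun g h => ?_, fun g h => by have := h3 g; have := r2 g h; omega,
    fun θ h => (hm θ h).imp_right fun e g => by
      rw [e, hr, eq_sub_iff_add_eq, add_comm]; exact_mod_cast (h3 g).symm⟩
  have o2 : orderOf (g ^ 2) = 2 := by rw [orderOf_pow' _ (by norm_num), h]; rfl
  have g4 : g ^ 4 = 1 := h ▸ pow_orderOf_eq_one g
  have k1 := mod_eight (H36.commutator_eq_top_of_simple fun h => by
    obtain ⟨a, b, hab⟩ := na
    exact hab (h.is_comm.comm a b)) (irr_chr χ) g4 (hr 1) (hr g) (hr _)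
  have k2 := le g 2
  have k3 := r2 _ o2
  have k4 := h3 g
  simp only [Int.ModEq, r1, k3] at k1
  by_contra k5
  have k6 : r g = 6 := by omega
  have k7 := sq_add_sq_le (χ := φ) (ψ := ψ) (by rintro rfl; omega) (v2 g 14 (by rw [← sq g, k3, k6]; rfl))
    (b := 15) (by rw [← ha, H84.alt, hr, hr, ← sq g, k3, k6]; norm_num)
  obtain ⟨u, hu, -⟩ := exists_invol_col na o2
  obtain ⟨-, -, -, k8, -⟩ := invA hG B hC A hA o2 hu
  have k9 : 7 ∣ Nat.card (Subgroup.centralizer ({g} : Set G)) := by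
    by_contra k
    have := Nat.le_of_dvd (by norm_num) (M22.dvd_of_not (p := 7) (m := 384) (by norm_num)
      ((cent_le_sq g).trans (sq g ▸ k8)) k)
    omega
  haveI : Fact (Nat.Prime 7) := ⟨by norm_num⟩
  obtain ⟨⟨z, hz⟩, o⟩ := exists_prime_orderOf_dvd_card' 7 k9
  rw [Subgroup.orderOf_mk] at o
  have c : Commute z g := Subgroup.mem_centralizer_singleton_iff.mp hz
  have z7 : z ^ 7 = 1 := o ▸ pow_orderOf_eq_one z
  have z1 := r7' z o
  obtain ⟨a, ha⟩ := exists_fixed_sq (α := G ⧸ H) (c.symm.mul_left (Commute.refl z))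
    (by have := h3 z; omega)
  have e1 := modEq_pow (irr_chr χ) (p := 7) (k := 1) (by norm_num) (hr ((g * z) ^ 2)) (hr _)
  have e2 := le ((g * z) ^ 2) 4
  have e3 := h3 ((g * z) ^ 2)
  haveI : Nonempty (fixedBy (G ⧸ H) ((g * z) ^ 2)) := ⟨⟨a, ha⟩⟩
  have e4 : 0 < Nat.card (fixedBy (G ⧸ H) ((g * z) ^ 2)) := Nat.card_pos
  rw [← pow_mul, c.symm.mul_pow, show 2 * 7 ^ 1 = 4 * 3 + 2 from rfl, pow_add g, pow_mul, g4,
    show 4 * 3 + 2 = 7 * 2 from rfl, pow_mul, z7, one_pow, one_pow, one_mul, mul_one, k3] at e1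
  rw [← pow_mul, c.symm.mul_pow (2 * 4), show 2 * 4 = 4 * 2 from rfl, pow_mul g, g4,
    show 4 * 2 = 7 + 1 from rfl, pow_succ z, z7, one_pow, one_mul, one_mul] at e2
  simp only [Int.ModEq] at e1
  omega

end

theorem isoM23 (hG : Nat.card G = 10200960) : Spor.IsoM23 G := by
  classical
  letI := Fintype.ofFinite G
  obtain ⟨P, ⟨B⟩, hC⟩ := exists23 hG
  obtain ⟨Q, ⟨A⟩, hA⟩ := exists11 hG B hC
  obtain ⟨H, h1, h2, h3, h4, h5, -⟩ := exists_perm hG B hC A hA
  haveI := faithful_quot h1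
  letI := Fintype.ofFinite (G ⧸ H)
  exact isoM23_of_fix (α := G ⧸ H) (by rw [← Nat.card_eq_fintype_card, ← Subgroup.index, h2]) hG h3
    (fun g h => by rw [h4 g h]; norm_num) fun g h _ => h5 g h

end H17.Ord.M23
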