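import Mathlib
import Cfsg.Agent.Base
import Cfsg.Agent.Lib.Ord.Gk
import Cfsg.Agent.Lib.Core.CoprimeSylow
import Cfsg.Agent.Lib.Core.MinNormal
import Cfsg.Agent.Lib.Transfer.Control
import Cfsg.Agent.Lib.Deg.FS3
import Cfsg.Agent.Lib.Deg.Struct
import Cfsg.Agent.Lib.Schur.Main
import Cfsg.Agent.S4222

/-! Groups with a given order and character degree graph: reduction to a quasisimple normal
subgroup. -/

set_option autoImplicit false
set_option linter.style.haveILetI false
set_option linter.unusedSectionVars false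

open Cfsg

namespace H17.Ord
variable {G : Type*} [Group G] [Finite G]

/-- an element of a large prime order centralises the subgroups of coprime order it normalises -/
theorem le_cent_of_large {p m : ℕ} [hp : Fact p.Prime] (hm : ¬ p ∣ m)
    (hmm : ∀ r b, r.Prime → 0 < b → r ^ b ∣ m → ¬ p ∣ r ^ b - 1) {y : G} (hy : orderOf y = p)
    {K : Subgroup G} (hK : Nat.card K ∣ m) (hn : y ∈ Subgroup.normalizer (K : Set G)) :
    K ≤ Subgroup.centralizer {y} := by
  refine H2.le_of_forall_invariant_sylowIn_le (A := Subgroup.zpowers y)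
    ((Subgroup.zpowers_le).mpr hn) ?_ (Or.inl inferInstance) fun r hr R h1 h2 => ?_
  · rw [Nat.card_zpowers, hy]
    exact (Nat.Prime.coprime_iff_not_dvd hp.out).mpr fun h => hm (h.trans hK)
  obtain ⟨b, hb⟩ := IsPGroup.iff_card.mp h1.isPGroup
  have h3 := H4.card_modEq_card_inf_centralizer (q := p) (k := 1) (h2 (Subgroup.mem_zpowers y))
    (by rw [pow_one, ← hy, pow_orderOf_eq_one])
  obtain ⟨a, h4, h5⟩ := (Nat.dvd_prime_pow hr.out).mp
    (hb ▸ Subgroup.card_dvd_of_le (inf_le_left : R ⊓ Subgroup.centralizer {y} ≤ R))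
  have h6 := (Subgroup.card_dvd_of_le h1.le).trans hK
  rcases h4.eq_or_lt with rfl | h4
  · exact inf_eq_left.mp (Subgroup.eq_of_le_of_card_ge inf_le_left (by rw [h5, hb]))
  obtain ⟨c, rfl⟩ := Nat.exists_eq_add_of_le h4.le
  rw [hb, h5] at h3
  rw [hb] at h6
  have h7 := (Nat.modEq_iff_dvd' (Nat.pow_le_pow_right hr.out.pos h4.le)).mp h3.symm
  rw [pow_add, ← Nat.mul_sub_one] at h7
  rcases (Nat.Prime.dvd_mul hp.out).mp h7 with h | h
  · exact (hm (h.trans ((pow_dvd_pow r h4.le).trans h6))).elim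
  · exact (hmm r c hr.out (by omega) ((pow_dvd_pow r (by omega)).trans h6) h).elim

/-- the normal closure of an element of a large prime order is simple modulo its centre -/
theorem exists_quasi {p m : ℕ} [hp : Fact p.Prime] (hG : Nat.card G = p * m) (hm : ¬ p ∣ m)
    (hmm : ∀ r b, r.Prime → 0 < b → r ^ b ∣ m → ¬ p ∣ r ^ b - 1) {χ : G → ℂ}
    (hχ : IsIrrCharacter G χ) (hd : p ∣ charDegree χ) :
    ∃ (L : Subgroup G) (K : Subgroup L) (_ : L.Normal) (_ : K.Normal), K ≤ Subgroup.center L ∧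
      IsSimpleGroup (L ⧸ K) ∧ p ∣ Nat.card (L ⧸ K) ∧ ¬ IsMulCommutative (L ⧸ K) := by
  obtain ⟨y, hy⟩ := exists_prime_orderOf_dvd_card' (G := G) p (hG ▸ dvd_mul_right _ _)
  set L := Subgroup.normalClosure ({y} : Set G)
  have yL : ∀ g, g * y * g⁻¹ ∈ L := fun g =>
    (inferInstance : L.Normal).conj_mem _ (Subgroup.subset_normalClosure rfl) g
  have oy : ∀ g, orderOf (⟨_, yL g⟩ : L) = p := fun g => by
    rw [Subgroup.orderOf_mk, ← hy]; exact (MulAut.conj g).orderOf_eq y
  have gen : ∀ M : Subgroup L, (∀ g, (⟨_, yL g⟩ : L) ∈ M) → M = ⊤ := fun M h => by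
    rw [eq_top_iff]
    rintro ⟨x, hx⟩ -
    have : L ≤ M.map L.subtype := (Subgroup.closure_le _).mpr fun z hz => by
      obtain ⟨w, rfl, h2⟩ := Group.mem_conjugatesOfSet_iff.mp hz
      obtain ⟨g, rfl⟩ := isConj_iff.mp h2
      exact ⟨_, h g, rfl⟩
    obtain ⟨w, h1, h2⟩ := this hx
    exact (Subtype.ext h2 : w = ⟨x, hx⟩) ▸ h1
  have pL : p ∣ Nat.card L := oy 1 ▸ orderOf_dvd_natCard _
  have cL : Nat.card L ∣ p * m := hG ▸ Subgroup.card_subgroup_dvd_card L
  have hb : (⊥ : Subgroup L) ≠ ⊤ := fun e => by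
    have : (⟨_, yL 1⟩ : L) ∈ (⊥ : Subgroup L) := e ▸ Subgroup.mem_top _
    have h2 := oy 1
    rw [Subgroup.mem_bot.mp this, orderOf_one] at h2
    exact hp.out.one_lt.ne h2
  obtain ⟨K, k1, k2, -, k3⟩ := H3.exists_maximal_normal_ge (⊥ : Subgroup L) hb
  have pK : ¬ p ∣ Nat.card K := fun h => k2 (gen K fun g => by
    have e1 : ¬ p ∣ K.index := fun e => by
      have := (Nat.mul_dvd_mul h e).trans (K.card_mul_index ▸ cL)
      exact hm (Nat.dvd_of_mul_dvd_mul_left hp.out.pos this)
    rw [← QuotientGroup.eq_one_iff, ← orderOf_eq_one_iff]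
    have e2 : orderOf ((⟨_, yL g⟩ : L) : L ⧸ K) ∣ p :=
      oy g ▸ orderOf_map_dvd (QuotientGroup.mk' K) _
    refine ((Nat.dvd_prime hp.out).mp e2).resolve_right fun e => e1 ?_
    rw [← e]; exact orderOf_dvd_natCard _)
  have cK : Nat.card K ∣ m := ((Nat.Prime.coprime_iff_not_dvd hp.out).mpr pK).symm.dvd_of_dvd_mul_left
    ((Subgroup.card_subgroup_dvd_card K).trans cL)
  have hZ : K ≤ Subgroup.center L := fun k hk => by
    have := gen (Subgroup.centralizer {k}) fun g => by
      have := le_cent_of_large hm hmm (oy g) cK (by simp [Subgroup.normalizer_eq_top]) hk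
      rw [Subgroup.mem_centralizer_singleton_iff] at this ⊢
      exact this.symm
    refine Subgroup.mem_center_iff.mpr fun x => ?_
    exact Subgroup.mem_centralizer_singleton_iff.mp (this ▸ Subgroup.mem_top x)
  haveI := H3.isSimpleGroup_quotient_of_maximal_normal K k2 k3
  refine ⟨L, K, inferInstance, k1, hZ, this, ?_, fun hc => ?_⟩
  · rw [← K.card_mul_index] at pL
    exact ((Nat.Prime.dvd_mul hp.out).mp pL).resolve_left pK
  letI : CommGroup (L ⧸ K) := { (inferInstance : Group (L ⧸ K)) with mul_comm := hc.is_comm.comm }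
  haveI : IsCyclic (L ⧸ K) := IsSimpleGroup.isCyclic
  have h1 := (MonoidHom.isMulCommutative_of_isCyclic_of_ker_le_center (QuotientGroup.mk' K)
    (by rwa [QuotientGroup.ker_mk'])).is_comm.comm
  have h2 := hd.trans (H87.deg_dvd_index_of_comm (N := L)
    (fun a ha b hb => congrArg Subtype.val (h1 ⟨a, ha⟩ ⟨b, hb⟩)) hχ)
  have := (Nat.mul_dvd_mul pL h2).trans (L.card_mul_index.trans hG).dvd
  exact hm (Nat.dvd_of_mul_dvd_mul_left hp.out.pos this)

/-- a degree bound from a normal subgroup -/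
theorem sq_le_of_coprime {L : Subgroup G} [L.Normal] {K : Subgroup L} (hK : K ≤ Subgroup.center L)
    {χ : G → ℂ} (hχ : IsIrrCharacter G χ) {d : ℕ} (hd : d ∣ charDegree χ)
    (hc : d.Coprime L.index) : d ^ 2 ≤ K.index := by
  obtain ⟨θ, h1, h2⟩ := H87.exists_under hχ L
  have h3 := hc.dvd_of_dvd_mul_left (hd.trans (h2.deg_dvd_mul hχ h1))
  exact (Nat.pow_le_pow_left (Nat.le_of_dvd (H87.deg_pos h1) h3) 2).trans
    (H87.deg_sq_le_index h1 fun z hz => H87.norm_eq_of_mem_center h1 (hK hz))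

/-- a complete simple group with trivial multiplier splits off -/
theorem exists_prod {S : Type*} [Group S] [Finite S] [IsSimpleGroup S]
    (hna : ¬ IsMulCommutative S) (h1 : HasCyclicSchurMultiplier S 1)
    (h2 : ∀ φ : MulAut S, ∃ s, ∀ x, φ x = s * x * s⁻¹) {L : Subgroup G} [L.Normal]
    {K : Subgroup L} [K.Normal] (hK : K ≤ Subgroup.center L) (e : (L ⧸ K) ≃* S) :
    ∃ C : Subgroup G, Nonempty (G ≃* C × S) := by
  set ξ : L →* S := e.toMonoidHom.comp (QuotientGroup.mk' K)
  have x1 : Function.Surjective ξ := e.surjective.comp (QuotientGroup.mk'_surjective K)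
  have x2 : ξ.ker ≤ Subgroup.center L := fun z hz => hK (by
    rw [MonoidHom.mem_ker] at hz
    exact (QuotientGroup.eq_one_iff z).mp (e.map_eq_one_iff.mp hz))
  have x3 := H78.Schur.ker_inf_eq_bot h1 ξ x1 x2
  have x4 : commutator S = ⊤ := by
    refine (IsSimpleGroup.eq_bot_or_eq_top_of_normal _ inferInstance).resolve_left fun h => hna ?_
    exact ⟨⟨fun a b => commutatorElement_eq_one_iff_mul_comm.mp
      (Subgroup.mem_bot.mp (h ▸ Subgroup.commutator_mem_commutator trivial trivial))⟩⟩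
  set N := (commutator L).map L.subtype
  have e1 : commutator L ≃* S := MulEquiv.ofBijective (ξ.comp (commutator L).subtype) ⟨by
    rw [← MonoidHom.ker_eq_bot_iff, eq_bot_iff]
    intro z hz
    have : (z : L) ∈ ξ.ker ⊓ commutator L := ⟨hz, z.2⟩
    rw [x3] at this
    exact Subtype.ext this, fun s => by
    have : s ∈ (commutator L).map ξ := by
      rw [map_commutator_eq, MonoidHom.range_eq_top.mpr x1]
      exact x4.ge (Subgroup.mem_top s)
    obtain ⟨z, hz, rfl⟩ := this
    exact ⟨⟨z, hz⟩, rfl⟩⟩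
  have e2 : N ≃* S := ((commutator L).equivMapOfInjective _ L.subtype_injective).symm.trans e1
  have hc := Cfsg.Agent.S4222.result N (by
    rw [eq_bot_iff]
    intro z hz
    have : e2 z ∈ Subgroup.center S := Subgroup.mem_center_iff.mpr fun s => by
      obtain ⟨w, rfl⟩ := e2.surjective s
      rw [← map_mul, ← map_mul, Subgroup.mem_center_iff.mp hz]
    rcases IsSimpleGroup.eq_bot_or_eq_top_of_normal (Subgroup.center S) inferInstance with h | h
    · rw [h, Subgroup.mem_bot, e2.map_eq_one_iff] at this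
      exact this
    · exact (hna ⟨⟨fun a b => Subgroup.mem_center_iff.mp (h ▸ Subgroup.mem_top b) a⟩⟩).elim)
    (fun φ => by
      obtain ⟨s, hs⟩ := h2 ((e2.symm.trans φ).trans e2)
      refine ⟨e2.symm s, MulEquiv.ext fun x => e2.injective ?_⟩
      have := hs (e2 x)
      simp only [MulEquiv.trans_apply, MulEquiv.symm_apply_apply] at this
      simp [this])
  refine ⟨_, ⟨MulEquiv.trans (MulEquiv.symm (MulEquiv.ofBijective (MonoidHom.noncommCoprod
    (Subgroup.centralizer (N : Set G)).subtype N.subtype fun a b => (a.2 b b.2).symm) hc))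
    (MulEquiv.prodCongr (MulEquiv.refl _) e2)⟩⟩

end H17.Ord
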