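import Mathlib
import Cfsg.Agent.Base
import Cfsg.Agent.Lib.Ord.Flt2

/-! All blocks of defect one, packaged for numerical arguments. -/

set_option autoImplicit false
set_option linter.unusedSectionVars false
set_option linter.style.haveILetI false

open Cfsg H84
open H86 (Cen Nor)
open scoped ComplexConjugate

namespace H17.Ord

/-- a block of defect one; `|N(P) : C(P)| = e`, `|C(P)| = p c`, `|G : C(P)| = m` -/
structure NB (G : Type*) [Group G] [Finite G] (p e c m : ℕ) where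
  X : Finset (IrrCharacter G)
  Y : Finset (IrrCharacter G)
  ε : IrrCharacter G → ℤ
  δ : ℤ
  f : ℕ
  k : ℕ
  θ : ℕ
  fk : f * k = e
  θ_dvd : θ ∣ c
  ndvd : ¬ p ∣ θ
  cardX : X.card = f
  cardY : Y.card = (p - 1) / f
  disj : Disjoint X Y
  sgn : ∀ χ ∈ X, ε χ = 1 ∨ ε χ = -1
  dsgn : δ = 1 ∨ δ = -1
  degX : ∀ χ ∈ X, (dg χ : ℤ) ≡ ε χ * (k * θ : ℕ) [ZMOD p]
  degY : ∀ ψ ∈ Y, (dg ψ : ℤ) ≡ δ * (e * θ : ℕ) [ZMOD p]
  dvd : ∀ χ, χ ∈ X ∨ χ ∈ Y → dg χ ∣ m * (k * θ)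
  regY : ∀ ψ ∈ Y, ∀ ψ' ∈ Y, ∀ g, ¬ p ∣ orderOf g → (ψ : G → ℂ) g = (ψ' : G → ℂ) g
  rel : ∀ ψ ∈ Y, ∀ g, ¬ p ∣ orderOf g → δ * (ψ : G → ℂ) g = ∑ χ ∈ X, ε χ * (χ : G → ℂ) g

variable {G : Type*} [Group G] [Finite G]

theorem dvd_central_sum {S : Finset (IrrCharacter G)} {d : ℕ} (h0 : 0 < d)
    (hd : ∀ χ ∈ S, dg χ = d) {g : G} {z : ℤ} (hz : ∑ χ ∈ S, (χ : G → ℂ) g = z) :
    (d : ℤ) ∣ (Subgroup.centralizer ({g} : Set G)).index * z := by
  have h : IsIntegral ℤ (∑ χ ∈ S, centralChar (χ : G → ℂ) g) :=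
    IsIntegral.sum _ fun χ _ => H84.isIntegral_centralChar χ g
  have h0 : (d : ℚ) ≠ 0 := by exact_mod_cast h0.ne'
  obtain ⟨w, hw⟩ := H8.exists_int_of_isIntegral_rat
    (q := ((Subgroup.centralizer ({g} : Set G)).index * z : ℤ) / d) (by
      rw [Finset.sum_congr rfl fun (χ : IrrCharacter G) (hχ : χ ∈ S) => show centralChar (χ : G → ℂ) g =
        ((Subgroup.centralizer ({g} : Set G)).index : ℂ) * (χ : G → ℂ) g / d by
          rw [centralChar, dg_cast, hd χ hχ], ← Finset.sum_div, ← Finset.mul_sum, hz] at h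
      push_cast
      exact h)
  refine ⟨w, ?_⟩
  rw [div_eq_iff h0, mul_comm (w : ℚ)] at hw
  exact_mod_cast hw

variable {p : ℕ} [hp : Fact p.Prime] {P : Subgroup G}

theorem cent_eq_Cen (hP : Nat.card P = p) {x : G} (hx : x ∈ P) (h1 : x ≠ 1) :
    Subgroup.centralizer ({x} : Set G) = Cen P := by
  ext g
  rw [H84.isCen_of_card hP hx h1 g, Subgroup.mem_centralizer_singleton_iff]
  exact ⟨fun h => h.symm, fun h => h.symm⟩

theorem sum_indc_sq [Fintype G] (L : Log p P) {θ : IrrCharacter (Cen P)} (h : PKer P θ) {x : G}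
    (hx : x ∈ P) (h1 : x ≠ 1) : ∑ i, L.indc θ i x * conj (L.indc θ i x) =
      p * ((Cen P).relIndex (Nor P) * (dg θ : ℂ) ^ 2) := by
  classical
  have c0 : (Nat.card (Cen P) : ℂ) ≠ 0 := H6.card_ne_zero
  have l0 : L.l x ≠ 0 := fun k =>
    (L.l_eq_zero x (L.le_Cen hx)).mp k (L.dvd_orderOf_of_mem hx h1)
  have k1 : ∀ i, (Nat.card (Cen P) : ℂ) * Nat.card (Cen P) * (L.indc θ i x * conj (L.indc θ i x)) =
      (dg θ : ℂ) ^ 2 * ∑ n : Nor P, ∑ m : Nor P, eps p (i * ((L.r n - L.r m) * L.l x)) := fun i => by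
    have a := L.indc_of_mem h i hx h1
    have b := congrArg conj a
    rw [map_mul, map_natCast, map_mul, dg_cast, map_natCast, map_sum] at b
    rw [mul_mul_mul_comm, a, b, dg_cast, mul_mul_mul_comm, ← sq, Finset.sum_mul_sum]
    refine congrArg _ (Finset.sum_congr rfl fun n _ => Finset.sum_congr rfl fun m _ => ?_)
    rw [conj_eps, ← eps_add]
    congr 1; ring
  have k2 : ∀ n : Nor P, ∑ m : Nor P, ∑ i, eps p (i * ((L.r n - L.r m) * L.l x)) =
      Nat.card (Cen P) * p := fun n => by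
    rw [← L.card_fiber_r (irrOne _) (k := L.r n) ⟨n, rfl, rfl⟩, Nat.card_eq_fintype_card,
      Fintype.card_subtype, Finset.card_filter, Nat.cast_sum, Finset.sum_mul]
    refine Finset.sum_congr rfl fun m _ => ?_
    rw [sum_eps]
    by_cases k : L.r m = L.r n
    · rw [if_pos (by rw [k, sub_self, zero_mul]), if_pos ⟨rfl, k⟩, Nat.cast_one, one_mul]
    · rw [if_neg (mul_ne_zero (sub_ne_zero.mpr fun e => k (Units.ext e.symm)) l0),
        if_neg fun e => k e.2, Nat.cast_zero, zero_mul]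
  apply mul_left_cancel₀ (mul_ne_zero c0 c0)
  rw [Finset.mul_sum, Finset.sum_congr rfl fun i _ => k1 i, ← Finset.mul_sum, Finset.sum_comm,
    Finset.sum_congr rfl fun n _ => Finset.sum_comm.trans (k2 n), Finset.sum_const,
    Finset.card_univ, ← Nat.card_eq_fintype_card, Log.card_Nor, nsmul_eq_mul]
  push_cast
  ring

theorem NB_of_root [Fintype G] (L : Log p P) {M : Ideal AlgInt} [M.IsMaximal]
    (hM : IsPModular p M) {e c : ℕ} (he : (Cen P).relIndex (Nor P) = e)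
    (hc : Nat.card (Cen P) = p * c) {x : G} (hx : x ∈ P) (h1 : x ≠ 1) {B : Set (IrrCharacter G)}
    {b : Set (IrrCharacter (Cen P))} {θ : IrrCharacter (Cen P)} (hD : IsDefectGroup p M B P)
    (hb : IsInducedBlock M (Cen P) b B) (hθ : θ ∈ b) (h : PKer P θ)
    [DecidableEq (IrrCharacter G)] : ∃ D : NB G p e c (Cen P).index,
      (∀ ψ, ψ ∈ B ↔ ψ ∈ D.X ∨ ψ ∈ D.Y) ∧ D.k = (inert θ).index ∧ D.θ = dg θ ∧
      ∑ ψ ∈ D.X ∪ D.Y, (ψ : G → ℂ) x * conj ((ψ : G → ℂ) x) = (p * (D.k * D.θ ^ 2) : ℕ) := by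
  classical
  have hP := L.card
  obtain ⟨D⟩ := L.nonempty_defOne hM hD hb hθ h
  have fk := (L.relIndex_Nor θ).symm.trans he
  have f0 : (Nat.card (L.H θ) : ℂ) ≠ 0 := H6.card_ne_zero
  have hY : ∀ θ, θ ∈ Finset.univ.image D.ψ ↔ ∃ i, D.ψ i = θ := by simp
  have hs := L.dvd_orderOf_of_mem hx h1
  have hdisj : Disjoint D.X (Finset.univ.image D.ψ) := by
    rw [Finset.disjoint_left]
    intro χ h1 h2
    obtain ⟨i, rfl⟩ := (hY χ).mp h2
    exact D.not_mem i h1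
  have sY : ∀ F : ℂ → ℂ, Nat.card (L.H θ) * ∑ ψ ∈ Finset.univ.image D.ψ, F ((ψ : G → ℂ) x) =
      ∑ i, F (D.ε * L.indc θ i x) - F (D.ε * (e * dg θ)) := fun F => by
    rw [Log.sum_zmod_eq, L.indc_zero_of_mem h hx h1, he, dg_cast, add_sub_cancel_left,
      ← Finset.sum_congr rfl fun i _ => congrArg F (D.sing_ψ i x hs),
      Finset.sum_comp (fun ψ : IrrCharacter G => F ((ψ : G → ℂ) x)) D.ψ, Finset.mul_sum]
    refine Finset.sum_congr rfl fun ψ hψ => ?_
    obtain ⟨j, rfl⟩ := (hY ψ).mp hψ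
    rw [nsmul_eq_mul, ← Fintype.card_subtype, ← Nat.card_eq_fintype_card]
    congr 2
    exact Nat.card_congr (Equiv.subtypeEquiv ((Equiv.inv _).trans (Equiv.mulRight j))
      fun i => D.eq_iff i j).symm
  have e1 : (e : ℂ) = Nat.card (L.H θ) * (inert θ).index := by exact_mod_cast fk.symm
  have vX := fun χ hχ => D.X_of_mem h (χ := χ) hχ hx h1
  have reg : ¬ p ∣ orderOf (1 : G) := by simpa using hp.out.one_lt.ne'
  have dv : ∀ {d : ℕ} {z : ℤ}, z = 1 ∨ z = -1 → (d : ℤ) ∣ (Subgroup.centralizer ({x} : Set G)).index *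
      (z * ((inert θ).index * dg θ : ℕ)) → d ∣ (Cen P).index * ((inert θ).index * dg θ) :=
    fun hz k => by
      rw [cent_eq_Cen hP hx h1, ← Int.natAbs_dvd_natAbs] at k
      rcases hz with rfl | rfl <;> simpa [Int.natAbs_mul] using k
  refine ⟨⟨D.X, Finset.univ.image D.ψ, D.εX, D.ε, Nat.card (L.H θ), (inert θ).index, dg θ, fk,
    ?_, L.not_dvd_degree h, D.card_X, ?_, hdisj, D.signX, D.sign, fun χ hχ => D.degree_X h hχ,
    ?_, ?_, ?_, ?_⟩, fun ψ => by rw [hY, D.mem_iff], rfl, rfl, ?_⟩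
  · exact ((Nat.Prime.coprime_iff_not_dvd hp.out).mpr
      (L.not_dvd_degree h)).symm.dvd_of_dvd_mul_left (hc ▸ dg_dvd θ)
  · rw [← D.natCard_range, ← Set.image_univ, ← Finset.coe_univ, ← Finset.coe_image,
      Nat.card_coe_set_eq, Set.ncard_coe_finset]
  · intro θ hθ
    obtain ⟨i, rfl⟩ := (hY θ).mp hθ
    exact he ▸ D.degree_ψ h i
  · rintro ψ (k | k)
    · exact dv (D.signX ψ k) (dvd_central ψ (by rw [vX ψ k, dg_cast]; push_cast; rfl))
    · obtain ⟨i, rfl⟩ := (hY ψ).mp k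
      refine dv (z := -D.ε) (by rcases D.sign with k | k <;> simp [k])
        (dvd_central_sum (S := Finset.univ.image D.ψ) (dg_pos _) (fun φ k => ?_) ?_)
      · obtain ⟨j, rfl⟩ := (hY φ).mp k
        have := D.reg_eq j i reg
        rw [dg_cast, dg_cast] at this
        exact_mod_cast this
      · apply mul_left_cancel₀ f0
        have := sY id
        simp only [id, ← Finset.mul_sum, L.sum_indc_of_sing θ hs] at this
        rw [this, e1]
        push_cast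
        ring
  · intro θ hθ θ' hθ' g hg
    obtain ⟨i, rfl⟩ := (hY θ).mp hθ
    obtain ⟨j, rfl⟩ := (hY θ').mp hθ'
    exact D.reg_eq i j hg
  · intro θ hθ g hg
    obtain ⟨i, rfl⟩ := (hY θ).mp hθ
    exact D.reg_rel i hg
  · apply mul_left_cancel₀ f0
    have k1 := sY fun z => z * conj z
    have k2 : ∀ z : ℂ, D.ε * z * conj (D.ε * z) = z * conj z := fun z => by
      rw [map_mul, map_intCast, mul_mul_mul_comm, D.sign_sq, one_mul]
    simp only [k2, sum_indc_sq L h hx h1, he] at k1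
    simp only [map_mul, map_natCast] at k1
    dsimp only
    rw [Finset.sum_union hdisj, mul_add, k1, Finset.sum_congr rfl fun ψ k =>
      show _ = (((inert θ).index : ℂ) * dg θ) ^ 2 by
        rw [vX ψ k, dg_cast, map_mul, map_intCast, mul_mul_mul_comm, D.signX_sq k, map_mul,
          map_natCast, map_natCast, one_mul, sq], Finset.sum_const, D.card_X, e1, nsmul_eq_mul]
    push_cast
    ring

theorem exists_NB (hP : Nat.card P = p) (hi : ¬ p ∣ P.index) {M : Ideal AlgInt}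
    (hM : IsPModular p M) {e c : ℕ} (he : (Cen P).relIndex (Nor P) = e)
    (hc : Nat.card (Cen P) = p * c) {x : G} (hx : x ∈ P) (h1 : x ≠ 1) {χ : IrrCharacter G}
    (hχ : ¬ p ∣ dg χ) [DecidableEq (IrrCharacter G)] : ∃ D : NB G p e c (Cen P).index,
      (∀ ψ, ψ ∈ blockOf M (χ : G → ℂ) ↔ ψ ∈ D.X ∨ ψ ∈ D.Y) ∧
      (blockOf M (χ : G → ℂ) = principalBlock M G → D.k * D.θ ^ 2 = 1) ∧
      ∑ ψ ∈ D.X ∪ D.Y, (ψ : G → ℂ) x * conj ((ψ : G → ℂ) x) = (p * (D.k * D.θ ^ 2) : ℕ) := by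
  haveI := Fintype.ofFinite G
  haveI := H33.isMaximal_of hM
  obtain ⟨L⟩ := H84.nonempty_log (P := P) hP hi
  have hB := H33.isPBlock_blockOf (M := M) χ
  have hD := (L.isDefectGroup_iff hM hB).mpr (by
    have a := H33.minVal_le (p := p) (H33.mem_blockOf_self (M := M) χ)
    have b := H33.minVal_add_blockDefect (p := p) hB
    rw [Nat.factorization_eq_zero_of_not_dvd hχ] at a
    rw [L.factorization_card] at b
    omega)
  by_cases k : blockOf M (χ : G → ℂ) = principalBlock M G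
  · obtain ⟨D, d1, d2, d3, d4⟩ := NB_of_root L hM he hc hx h1 hD (k ▸ L.principal_root hM)
      H84.irrOne_mem_principal H84.pKer_one
    refine ⟨D, d1, fun _ => ?_, d4⟩
    rw [d2, d3, show inert (irrOne (Cen P)) = ⊤ from eq_top_iff.mpr fun _ _ => rfl,
      Subgroup.index_top, dg_triv, one_pow, one_mul]
  · obtain ⟨b, θ, hb, hθ, h⟩ := L.exists_root hM hB hD
    obtain ⟨D, d1, -, -, d4⟩ := NB_of_root L hM he hc hx h1 hD hb hθ h
    exact ⟨D, d1, fun h => absurd h k, d4⟩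

namespace NB
variable {e c m : ℕ} (D : NB G p e c m)

theorem dgY {ψ ψ' : IrrCharacter G} (h : ψ ∈ D.Y) (h' : ψ' ∈ D.Y) : dg ψ = dg ψ' := by
  have := D.regY ψ h ψ' h' 1 PB.reg_one
  rw [dg_cast, dg_cast] at this
  exact_mod_cast this

theorem deg_eq {ψ : IrrCharacter G} (h : ψ ∈ D.Y) :
    D.δ * (dg ψ : ℤ) = ∑ χ ∈ D.X, D.ε χ * (dg χ : ℤ) := by
  have := D.rel ψ h 1 PB.reg_one
  simp only [dg_cast] at this
  exact_mod_cast this

theorem not_dvd (he : e ∣ p - 1) {χ : IrrCharacter G} (h : χ ∈ D.X ∨ χ ∈ D.Y) : ¬ p ∣ dg χ := by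
  have p1 := hp.out.two_le
  have k0 : ∀ {a : ℕ} {z : ℤ}, a ∣ e → (z = 1 ∨ z = -1) →
      (dg χ : ℤ) ≡ z * (a * D.θ : ℕ) [ZMOD p] → ¬ p ∣ dg χ := fun {a z} ha hz k k' => by
    have := (Int.modEq_iff_dvd.mp k.symm)
    rw [dvd_sub_right (Int.natCast_dvd_natCast.mpr k'), ← Int.natAbs_dvd_natAbs] at this
    replace this : p ∣ a * D.θ := by rcases hz with rfl | rfl <;> simpa [Int.natAbs_mul] using this
    refine (hp.out.dvd_mul.mp this).elim (fun k => ?_) D.ndvd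
    have := Nat.le_of_dvd (by omega) (k.trans (ha.trans he))
    omega
  exact h.elim (fun h => k0 ⟨D.f, D.fk.symm.trans (mul_comm _ _)⟩ (D.sgn χ h) (D.degX χ h))
    fun h => k0 dvd_rfl D.dsgn (D.degY χ h)

end NB

/-- the multiset of degrees -/
noncomputable def dm (S : Finset (IrrCharacter G)) : Multiset ℕ := S.val.map dg

theorem count_dm (S : Finset (IrrCharacter G)) (d : ℕ) : (dm S).count d = cnt S d := by
  rw [dm, Multiset.count_map, cnt, Finset.card, Finset.filter_val]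
  exact congrArg _ (Multiset.filter_congr fun _ _ => eq_comm)

theorem dm_eq_sum (S : Finset (IrrCharacter G)) : dm S = ∑ χ ∈ S, {dg χ} := by
  rw [dm, Finset.sum, ← Multiset.sum_map_singleton (S.val.map dg), Multiset.map_map]; rfl

theorem PB.blocks {e c : ℕ} (B : PB G p P e) (hc : Nat.card (Cen P) = p * c)
    [DecidableEq (IrrCharacter G)] : ∃ L : Multiset (NB G p e c (Cen P).index),
      (L.map fun D => D.k * D.θ ^ 2).sum + 1 = c ∧
      (∀ χ, ¬ p ∣ dg χ → χ ∉ B.X ∪ B.Y → ∃ D ∈ L, χ ∈ D.X ∪ D.Y) ∧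
      (∀ D ∈ L, triv G ∉ D.X ∪ D.Y) ∧
      dm (Finset.univ.filter fun χ : IrrCharacter G => ¬ p ∣ dg χ) =
        dm (B.X ∪ B.Y) + (L.map fun D => dm D.X + dm D.Y).sum := by
  classical
  obtain ⟨M, hM, hm⟩ := B.blk
  haveI := H33.isMaximal_of hM
  obtain ⟨x, hx, ox⟩ := B.exists_sing
  have x1 : x ≠ 1 := by rintro rfl; exact hp.out.one_lt.ne (orderOf_one.symm.trans ox)
  have ex := fun χ hχ => exists_NB B.card B.ind hM B.he hc hx x1 (χ := χ) hχ
  set V := (Finset.univ.filter fun χ : IrrCharacter G => ¬ p ∣ dg χ) \ (B.X ∪ B.Y) with hV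
  set s := V.image fun χ : IrrCharacter G => blockOf M (χ : G → ℂ) with hs
  have h1 : ∀ b : s, ∃ D : NB G p e c (Cen P).index,
      V.filter (fun χ : IrrCharacter G => blockOf M (χ : G → ℂ) = b) = D.X ∪ D.Y ∧
      ∑ ψ ∈ D.X ∪ D.Y, (ψ : G → ℂ) x * conj ((ψ : G → ℂ) x) = (p * (D.k * D.θ ^ 2) : ℕ) := by
    rintro ⟨b, hb⟩
    obtain ⟨χ, h, rfl⟩ := Finset.mem_image.mp hb
    obtain ⟨h2, h3⟩ := Finset.mem_sdiff.mp h
    obtain ⟨D, d1, -, d2⟩ := ex χ (Finset.mem_filter.mp h2).2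
    refine ⟨D, Finset.ext fun ψ => ?_, d2⟩
    rw [Finset.mem_filter, Finset.mem_union, ← d1]
    refine ⟨fun k => (show _ = blockOf M (χ : G → ℂ) from k.2) ▸ H33.mem_blockOf_self ψ, fun k => ?_⟩
    have k1 := H33.block_eq_blockOf (H33.isPBlock_blockOf χ) k
    refine ⟨Finset.mem_sdiff.mpr ⟨Finset.mem_filter.mpr ⟨Finset.mem_univ _,
      D.not_dvd B.e_dvd ((d1 ψ).mp k)⟩, fun k2 => h3 ?_⟩, k1.symm⟩
    rw [Finset.mem_union, ← hm] at k2 ⊢
    rw [H33.block_eq_blockOf H33.isPBlock_principalBlock k2, ← k1]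
    exact H33.mem_blockOf_self χ
  choose D d1 d2 using h1
  have h2 : ∀ {A : Type} [AddCommMonoid A] (F : IrrCharacter G → A),
      ∑ χ ∈ Finset.univ.filter fun χ : IrrCharacter G => ¬ p ∣ dg χ, F χ =
        ∑ χ ∈ B.X ∪ B.Y, F χ + ∑ i, ∑ χ ∈ (D i).X ∪ (D i).Y, F χ := fun F => by
    rw [← Finset.sum_sdiff (s₁ := B.X ∪ B.Y) fun χ h => Finset.mem_filter.mpr ⟨Finset.mem_univ _,
      (Finset.mem_union.mp h).elim B.not_dvd_X B.not_dvd_Y⟩, add_comm, ← hV,
      ← Finset.sum_fiberwise_of_maps_to (s := V) fun χ h => Finset.mem_image_of_mem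
        (fun χ : IrrCharacter G => blockOf M (χ : G → ℂ)) h, ← hs, ← Finset.sum_coe_sort s]
    simp only [d1]
  refine ⟨Finset.univ.val.map D, ?_, fun χ k1 k2 => ?_, fun i h => ?_, ?_⟩
  · rw [Multiset.map_map]
    change ∑ i, (D i).k * (D i).θ ^ 2 + 1 = c
    obtain ⟨D0, a1, a2, a3⟩ := ex (triv G) (by rw [dg_triv]; simpa using hp.out.one_lt.ne')
    have a4 : D0.X ∪ D0.Y = B.X ∪ B.Y := Finset.ext fun ψ => by
      rw [Finset.mem_union, Finset.mem_union, ← a1, ← hm]; rfl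
    have k := H6.column_orthogonality_self x
    rw [← Finset.sum_filter_of_ne (p := fun χ => ¬ p ∣ dg χ) fun χ _ h k =>
      h (by rw [van_of_dvd hp.out B.not_sq_dvd k ox.symm.dvd, zero_mul]), h2, ← a4, a3, a2 rfl,
      cent_eq_Cen B.card hx x1, hc] at k
    simp only [d2] at k
    refine Nat.eq_of_mul_eq_mul_left hp.out.pos ?_
    rw [add_comm, mul_add, Finset.mul_sum]
    exact_mod_cast k
  · have k : χ ∈ V := Finset.mem_sdiff.mpr ⟨Finset.mem_filter.mpr ⟨Finset.mem_univ _, k1⟩, k2⟩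
    exact ⟨_, Multiset.mem_map_of_mem _ (Finset.mem_univ ⟨_, Finset.mem_image_of_mem _ k⟩),
      d1 _ ▸ Finset.mem_filter.mpr ⟨k, rfl⟩⟩
  · obtain ⟨i, -, rfl⟩ := Multiset.mem_map.mp h
    intro h
    rw [← d1] at h
    exact (Finset.mem_sdiff.mp (Finset.mem_filter.mp h).1).2 (Finset.mem_union.mpr B.one_mem)
  · rw [Multiset.map_map]
    change _ = _ + ∑ i, (dm (D i).X + dm (D i).Y)
    simp only [dm_eq_sum, h2, Finset.sum_union (D _).disj]

end H17.Ord
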