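import Mathlib
import Cfsg.Agent.Base
import Cfsg.Agent.Lib.Ord.NB
import Cfsg.Agent.Lib.H85.PRegSep

/-! Blocks for a second prime `q`, used against an element `y` of prime order `p`. -/

set_option autoImplicit false
set_option linter.unusedSectionVars false
set_option linter.style.haveILetI false

open Cfsg H84
open H86 (Cen Nor)
open scoped ComplexConjugate

namespace H17.Ord

variable {G : Type*} [Group G] [Finite G]

section union
variable {q : ℕ} [Fact q.Prime] {M : Ideal AlgInt} (hM : IsPModular q M)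
  {T : Finset (IrrCharacter G)} (hT : ∀ χ ∈ T, ∀ ψ ∈ blockOf M (χ : G → ℂ), ψ ∈ T)
include hM hT

theorem col_union {g h : G} (hg : q ∣ orderOf g) (hh : ¬ q ∣ orderOf h) :
    ∑ χ ∈ T, (χ : G → ℂ) g * conj ((χ : G → ℂ) h) = 0 := by
  classical
  haveI := Fintype.ofFinite G
  haveI := H33.isMaximal_of hM
  rw [← Finset.sum_fiberwise_of_maps_to (g := fun χ : IrrCharacter G => blockOf M (χ : G → ℂ))
    (t := T.image fun χ : IrrCharacter G => blockOf M (χ : G → ℂ))
    fun χ hχ => Finset.mem_image_of_mem _ hχ]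
  refine Finset.sum_eq_zero fun B hB => ?_
  obtain ⟨χ, hχ, rfl⟩ := Finset.mem_image.mp hB
  rw [← H33.col_eq_zero_of_reg hM (H33.isPBlock_blockOf χ) hg hh]
  refine Finset.sum_congr (Finset.ext fun ψ => ?_) fun _ _ => rfl
  rw [Finset.mem_filter, mem_bset]
  exact ⟨fun k => k.2 ▸ H33.mem_blockOf_self ψ, fun k =>
    ⟨hT χ hχ ψ k, (H33.block_eq_blockOf (H33.isPBlock_blockOf χ) k).symm⟩⟩

theorem dvd_union {S : Subgroup G} (hS : IsPGroup q S) {y x : G} (hy : ¬ q ∣ orderOf y)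
    (hc : ∀ s ∈ S, y * s = s * y) (hx : ¬ q ∣ orderOf x) {n : ℤ}
    (h : ∑ χ ∈ T, (χ : G → ℂ) y * conj ((χ : G → ℂ) x) = n) : (Nat.card S : ℤ) ∣ n := by
  classical
  haveI := Fintype.ofFinite S
  have c0 : (Nat.card S : ℂ) ≠ 0 := H6.card_ne_zero
  have k1 : ∑ s : S, ∑ χ ∈ T, (χ : G → ℂ) (y * s) * conj ((χ : G → ℂ) x) = n := by
    rw [Finset.sum_eq_single (1 : S) (fun s _ h1 => col_union hM hT ?_ hx) (by simp)]
    · simpa using h
    · obtain ⟨k, hk⟩ := IsPGroup.iff_orderOf.mp hS s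
      have h2 : q ∣ orderOf (s : G) := by
        rw [Subgroup.orderOf_coe, hk]
        exact dvd_pow_self q fun e => h1 (orderOf_eq_one_iff.mp (by rw [hk, e, pow_zero]))
      rw [Commute.orderOf_mul_eq_mul_orderOf_of_coprime (hc s s.2) (by
        rw [Subgroup.orderOf_coe, hk]
        exact ((Nat.Prime.coprime_iff_not_dvd Fact.out).mpr hy).symm.pow_right k)]
      exact h2.mul_left _
  have k2 : IsIntegral ℤ (∑ χ ∈ T, ((Nat.card S : ℂ)⁻¹ * ∑ s : S, (χ : G → ℂ) (y * s)) *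
      conj ((χ : G → ℂ) x)) := IsIntegral.sum _ fun χ _ =>
    (H85.isIntegral_average_coset (irr_chr χ) S hc).mul (by
      rw [← H6.char_inv (irr_chr χ)]; exact H6.char_isIntegral (irr_chr χ) _)
  have c1 : (Nat.card S : ℚ) ≠ 0 := by exact_mod_cast Nat.card_pos.ne'
  obtain ⟨w, hw⟩ := H8.exists_int_of_isIntegral_rat (q := n / Nat.card S) (by
    simp only [mul_assoc, Finset.sum_mul, ← Finset.mul_sum] at k2
    rw [Finset.sum_comm, k1, mul_comm, ← div_eq_mul_inv] at k2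
    push_cast
    exact k2)
  refine ⟨w, ?_⟩
  rw [div_eq_iff c1, mul_comm] at hw
  exact_mod_cast hw

end union

variable {p : ℕ} [hp : Fact p.Prime] {P : Subgroup G}

theorem PB.col_wt {e : ℕ} (B : PB G p P e) (he : 1 < e)
    (hC : Subgroup.centralizer (P : Set G) = P) (F : IrrCharacter G → ℤ)
    (hF : ∀ θ ∈ B.Y, ∀ θ' ∈ B.Y, F θ' = F θ) {x : G} (hx : p ∣ orderOf x) : ∃ n : ℤ,
      ∑ χ, F χ * conj ((χ : G → ℂ) x) = n ∧
        ∑ χ, wt p e (dg χ) * F χ = ((p - 1) / e : ℕ) * n := by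
  classical
  obtain ⟨θ, hθ⟩ := B.Y_nonempty
  refine ⟨∑ χ ∈ B.X, B.ε χ * F χ - B.δ * F θ, ?_, ?_⟩
  · rw [← Finset.sum_subset (Finset.subset_univ (B.X ∪ B.Y)) fun χ _ h => by
      rw [Finset.mem_union, not_or] at h
      rw [B.van hC χ h.1 h.2 x hx, map_zero, mul_zero], Finset.sum_union B.disj,
      Finset.sum_congr rfl fun χ h => show _ = ((B.ε χ * F χ : ℤ) : ℂ) by
        rw [B.valX χ h x hx, map_intCast, Int.cast_mul, mul_comm],
      Finset.sum_congr (s₁ := B.Y) rfl fun (χ : IrrCharacter G) h =>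
        show _ = (F θ : ℂ) * conj ((χ : G → ℂ) x) by
        rw [hF θ hθ χ h], ← Finset.mul_sum, ← map_sum, B.sumY x hx, map_neg, map_intCast]
    push_cast
    ring
  · have := (B.sum_wt_univ he hC fun χ => F χ).trans
      (B.sum_wt he (θ := θ) (fun χ => F χ) fun θ' h => by rw [hF θ hθ θ' h])
    apply Int.cast_injective (α := ℂ)
    rw [Int.cast_mul, Int.cast_natCast]
    push_cast
    exact this

theorem PB.isConj_full (B : PB G p P (p - 1)) {y : G} (hy : y ∈ P) (h1 : y ≠ 1) {g : G}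
    (hg : orderOf g = p) : IsConj y g := by
  obtain ⟨a, ha⟩ := exists_conj_mem_Cen_of_sing B.card B.ind (g := g) (hg ▸ dvd_rfl)
  have k : a * g * a⁻¹ ∈ P := mem_of_isPElt_of_mem_Nor B.card B.ind
    (H35.IsPElt.conj ⟨1, by rw [hg, pow_one]⟩ a) (Subgroup.centralizer_le_normalizer _ ha)
  have he := B.he
  have ho : orderOf y = p := by rw [← Nat.card_zpowers, ← eq_zpowers_of_card B.card hy h1, B.card]
  rw [eq_zpowers_of_card B.card hy h1] at he k
  obtain ⟨n, -, hn⟩ := exists_conj_of_relIndex hp.out ho he k (by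
    rw [Ne, mul_inv_eq_one, mul_eq_left]
    rintro rfl
    exact hp.out.one_lt.ne (orderOf_one.symm.trans hg))
  exact (isConj_iff.mpr ⟨n, hn⟩).trans (isConj_iff.mpr ⟨a, rfl⟩).symm

theorem PB.ord (B : PB G p P (p - 1)) {y : G} (hy : y ∈ P) (h1 : y ≠ 1) : orderOf y = p := by
  rw [← Nat.card_zpowers, ← eq_zpowers_of_card B.card hy h1, B.card]

/-- the value of a character of degree prime to `p` at a rational element of order `p` -/
theorem PB.val_dvd (B : PB G p P (p - 1)) {c : ℕ} (hc : Nat.card (Cen P) = p * c) {y : G}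
    (hy : y ∈ P) (h1 : y ≠ 1) {χ : IrrCharacter G} (hχ : ¬ p ∣ dg χ) :
    ∃ u : ℤ, (χ : G → ℂ) y = u ∧ u ∣ ((p - 1) * c : ℕ) := by
  classical
  haveI := Fintype.ofFinite G
  obtain ⟨M, hM, -⟩ := B.blk
  haveI := H33.isMaximal_of hM
  obtain ⟨L⟩ := H84.nonempty_log (P := P) B.card B.ind
  have hB := H33.isPBlock_blockOf (M := M) χ
  have hD := (L.isDefectGroup_iff hM hB).mpr (by
    have a := H33.minVal_le (p := p) (H33.mem_blockOf_self (M := M) χ)
    have b := H33.minVal_add_blockDefect (p := p) hB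
    rw [Nat.factorization_eq_zero_of_not_dvd hχ] at a
    rw [L.factorization_card] at b
    omega)
  obtain ⟨b, θ, hb, hθ, h⟩ := L.exists_root hM hB hD
  obtain ⟨D⟩ := L.nonempty_defOne hM hD hb hθ h
  have k1 : dg θ ∣ c := ((Nat.Prime.coprime_iff_not_dvd hp.out).mpr
    (L.not_dvd_degree h)).symm.dvd_of_dvd_mul_left (hc ▸ dg_dvd θ)
  have he : (Cen P).relIndex (Nor P) = p - 1 := B.he
  have k2 : ∀ {z : ℤ} {a : ℕ}, z = 1 ∨ z = -1 → a ∣ p - 1 →
      z * (a * dg θ : ℕ) ∣ ((p - 1) * c : ℕ) := fun hz ha => by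
    have := Int.natCast_dvd_natCast.mpr (mul_dvd_mul ha k1)
    rcases hz with rfl | rfl
    · rwa [one_mul]
    · rwa [neg_one_mul, neg_dvd]
  rcases (D.mem_iff χ).mp (H33.mem_blockOf_self χ) with k | ⟨i, k⟩
  · exact ⟨_, by rw [D.X_of_mem h k hy h1, dg_cast]; push_cast; rfl, k2 (D.signX χ k)
      ⟨_, (he.symm.trans (L.relIndex_Nor θ)).trans (mul_comm _ _)⟩⟩
  · refine ⟨-D.ε * (1 * dg θ : ℕ), ?_, k2 (by rcases D.sign with k | k <;> simp [k]) (one_dvd _)⟩
    have k3 := L.sum_erase_indc h i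
    rw [Finset.sum_congr rfl fun x hx => show _ = L.indc θ i y from by
      obtain ⟨a, ha⟩ := isConj_iff.mp (B.isConj_full hy h1 (B.ord x.2 fun e =>
        (Finset.mem_erase.mp hx).1 (Subtype.ext e)))
      rw [← ha, L.isClassFunction_indc θ i], Finset.sum_const, Finset.card_erase_of_mem
      (Finset.mem_univ _), Finset.card_univ, ← Nat.card_eq_fintype_card, B.card, he, nsmul_eq_mul,
      ← mul_neg, mul_right_inj' (Nat.cast_ne_zero.mpr (by have := hp.out.two_le; omega))] at k3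
    have k4 := D.sing_ψ i y (L.dvd_orderOf_of_mem hy h1)
    rw [k] at k4
    rw [k4, k3, dg_cast]
    push_cast
    ring

/-- if all central characters are even at `y`, then in a `2`-local subgroup the principal `p`-block
has no character whose degree has the full `2`-part -/
theorem PB.loc_dvd (B : PB G p P (p - 1)) {y : G} (hy : y ∈ P) (h1 : y ≠ 1)
    (hev : ∀ χ : IrrCharacter G, ∃ w : ℤ, centralChar (χ : G → ℂ) y = (2 * w : ℤ))
    {D Y : Subgroup G} (hD : IsPGroup 2 D) (hDY : D ≤ Y) (hC : Cen D ≤ Y) (hN : Y ≤ Nor D)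
    {Q : Subgroup Y} (E : PB Y p Q (p - 1)) {ξ : IrrCharacter Y} {s : ℤ} (hs : s = 1 ∨ s = -1)
    (hv : ∀ g, p ∣ orderOf g → (ξ : Y → ℂ) g = s) : 2 * dg ξ ∣ (Nor Q).index * (p - 1) := by
  classical
  haveI := Fintype.ofFinite Y
  obtain ⟨M, hM⟩ := H33.exists_isPModular 2
  haveI := H33.isMaximal_of hM
  obtain ⟨C, -, hC, h⟩ := H34.exists_isInducedBlock hM hD hDY hC hN (H33.isPBlock_blockOf ξ)
  obtain ⟨χ, hχ⟩ := H33.block_nonempty hC
  obtain ⟨w, hw⟩ := hev χ
  obtain ⟨x, hx, ho⟩ := E.exists_sing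
  have x1 : x ≠ 1 := by rintro rfl; exact hp.out.one_lt.ne (orderOf_one.symm.trans ho)
  have n1 := card_ordF_prime E.card E.ind
  obtain ⟨k, hk⟩ := dvd_central ξ (hv x (ho ▸ dvd_rfl))
  rw [← card_ordF_of_conj ho fun g => E.isConj_full hx x1] at hk
  have k := h ξ (H33.mem_blockOf_self ξ) χ hχ y
  rw [hw, inducedCentralChar, show {h : Y | IsConj y (h : G)} = ordF Y p from Set.ext fun g => by
    rw [Finset.mem_coe, mem_ordF, ← Subgroup.orderOf_coe]
    exact ⟨fun k => (H35.orderOf_eq_of_isConj k).symm.trans (B.ord hy h1), B.isConj_full hy h1⟩,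
    finsum_mem_coe_finset, Finset.sum_congr rfl fun g hg => show _ = (s : ℂ) / dg ξ by
      rw [hv g (mem_ordF.mp hg ▸ dvd_rfl), dg_cast], Finset.sum_const, nsmul_eq_mul,
    ← mul_div_assoc, ← Int.cast_natCast, ← Int.cast_mul, hk, Int.cast_mul, Int.cast_natCast,
    mul_div_cancel_left₀ _ (Nat.cast_ne_zero.mpr (dg_pos ξ).ne'), ← Int.cast_sub,
    H33.memLocalIdeal_intCast_iff hM] at k
  obtain ⟨j, hj⟩ := k
  rw [sub_eq_iff_eq_add.mp hj] at hk
  rw [← Int.natCast_dvd_natCast, ← n1]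
  rcases hs with rfl | rfl
  · exact ⟨j + w, by push_cast at hk ⊢; linarith⟩
  · exact ⟨-(j + w), by push_cast at hk ⊢; linarith⟩

end H17.Ord
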