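import Mathlib
import Cfsg.Agent.Base
import Cfsg.Agent.Lib.Ord.NB

/-! A verified search for partitions of character degrees into blocks of defect one. -/

set_option autoImplicit false
set_option linter.unusedSectionVars false
set_option linter.style.haveILetI false

open Cfsg H4.Sv

namespace H17.Ord

/-- weight, ordinary degrees, exceptional degrees -/
abbrev Ty0 := ℕ × List ℕ × List ℕ

/-- weight, sum of the squares of the free degrees, bound degrees, free degrees -/
abbrev Ty := ℕ × ℕ × List ℕ × List ℕ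

/-- `cond`, directly by the recursor -/
scoped notation "cif " c " then " a " else " b:1 => Bool.rec (motive := fun _ => _) b a c

theorem cif_eq {α : Type} (c : Bool) (a b : α) : (cif c then a else b) = bif c then a else b := by
  cases c <;> rfl

noncomputable def sm (g : ℕ → ℕ) (l : List ℕ) : ℕ :=
  List.rec (motive := fun _ => ℕ) 0 (fun a _ ih => Nat.add (g a) ih) l

theorem sm_eq (g : ℕ → ℕ) (l : List ℕ) : sm g l = (l.map g).sum := by
  induction l with
  | nil => rfl
  | cons a l ih => exact congrArg (g a + ·) ih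

noncomputable def sqs (l : List ℕ) : ℕ := sm (fun d => Nat.mul d d) l

def msq (s : Multiset ℕ) : ℕ := (s.map fun d => d * d).sum

theorem msq_coe (l : List ℕ) : msq l = sqs l := by simp [msq, sqs, sm_eq]

theorem msq_add (s t : Multiset ℕ) : msq (s + t) = msq s + msq t := by simp [msq]

noncomputable def ins (a : ℕ) (l : List ℕ) : (List ℕ → Bool) → Bool :=
  List.rec (motive := fun _ => (List ℕ → Bool) → Bool) (fun k => k [a])
    (fun b l ih k => cif Nat.ble b a then k (a :: b :: l) else ih fun l' => k (b :: l')) l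

theorem ins_sound {a : ℕ} {l : List ℕ} : ∀ {k : List ℕ → Bool}, ins a l k = true →
    ∃ l' : List ℕ, (l' : Multiset ℕ) = a ::ₘ l ∧ k l' = true := by
  induction l with
  | nil => exact fun h => ⟨_, rfl, h⟩
  | cons b l ih =>
    intro k h
    change (cif Nat.ble b a then k (a :: b :: l) else ins a l fun l' => k (b :: l')) = true at h
    cases e : Nat.ble b a <;> rw [e] at h
    · obtain ⟨l', h1, h2⟩ := ih h
      exact ⟨_, by rw [← Multiset.cons_coe, h1, Multiset.cons_swap]; rfl, h2⟩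
    · exact ⟨_, rfl, h⟩

/-- sort downwards -/
noncomputable def srt (l : List ℕ) : (List ℕ → Bool) → Bool :=
  List.rec (motive := fun _ => (List ℕ → Bool) → Bool) (fun k => k [])
    (fun a _ ih k => fN a fun a' => ih fun l' => ins a' l' k) l

theorem srt_sound {l : List ℕ} : ∀ {k : List ℕ → Bool}, srt l k = true →
    ∃ l' : List ℕ, (l' : Multiset ℕ) = l ∧ k l' = true := by
  induction l with
  | nil => exact fun h => ⟨_, rfl, h⟩
  | cons a l ih =>
    intro k h
    obtain ⟨l1, h1, h2⟩ := ih (k := fun l' => ins a l' k) h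
    obtain ⟨l2, h3, h4⟩ := ins_sound h2
    exact ⟨l2, by rw [h3, h1]; rfl, h4⟩

noncomputable def leq (a : List ℕ) : List ℕ → Bool :=
  List.rec (motive := fun _ => List ℕ → Bool) (fun b => List.casesOn b true fun _ _ => false)
    (fun x _ ih b => List.casesOn b false fun y b => bif Nat.beq x y then ih b else false) a

theorem leq_sound : ∀ {a b : List ℕ}, leq a b = true → a = b
  | [], [], _ => rfl
  | x :: a, y :: b, h => by
    change (bif Nat.beq x y then leq a b else false) = true at h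
    rw [Bool.cond_false_right, Bool.and_eq_true, Nat.beq_eq] at h
    rw [h.1, leq_sound h.2]

noncomputable def anyL {α : Type} (f : α → Bool) (l : List α) : Bool :=
  List.rec (motive := fun _ => Bool) false (fun a _ ih => bif f a then true else ih) l

theorem anyL_sound {α : Type} {f : α → Bool} : ∀ {l : List α}, anyL f l = true →
    ∃ a ∈ l, f a = true
  | a :: l, h => by
    change (bif f a then true else anyL f l) = true at h
    cases e : f a <;> rw [e] at h
    · obtain ⟨b, h1, h2⟩ := anyL_sound h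
      exact ⟨b, List.mem_cons_of_mem _ h1, h2⟩
    · exact ⟨a, List.mem_cons_self, e⟩

theorem mem_of_anyL {a : List ℕ} {l : List (List ℕ)} (h : anyL (leq a) l = true) : a ∈ l := by
  obtain ⟨b, h1, h2⟩ := anyL_sound h
  exact leq_sound h2 ▸ h1

noncomputable def memT (w : ℕ) (x y : List ℕ) (T : List Ty0) : Bool :=
  anyL (fun t => bif leq x t.2.1 then (bif Nat.beq w t.1 then leq y t.2.2 else false) else false) T

theorem memT_sound {w : ℕ} {x y : List ℕ} {T : List Ty0} (h : memT w x y T = true) :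
    (w, x, y) ∈ T := by
  obtain ⟨t, h1, h2⟩ := anyL_sound h
  simp only [Bool.cond_false_right, Bool.and_eq_true, Nat.beq_eq] at h2
  rwa [h2.2.1, leq_sound h2.1, leq_sound h2.2.2]

def cands (p mr r : ℕ) (D : List ℕ) : List ℤ :=
  D.flatMap fun d => if mr % d == 0 then (if d % p == r % p then [(d : ℤ)] else []) ++
    (if (d + r) % p == 0 then [-(d : ℤ)] else []) else []

noncomputable def tyFin (N mr w t : ℕ) (D : List ℕ) (T : List Ty0) (l : List ℤ) (s : ℤ) (sq : ℕ) :
    Bool :=
  fN s.natAbs fun E => bif Nat.beq (Nat.mod mr E) 0 then (bif D.contains E &&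
    Nat.ble (sq + t * (E * E)) N then (bif Nat.beq t 1 then
      srt (E :: l.map Int.natAbs) fun o => memT w o [] T else fM (l.map Int.natAbs) fun x =>
        fM (List.replicate t E) fun y => memT w x y T) else true) else true

/-- `T` lists all numerically possible non-principal blocks with degrees in `D` -/
noncomputable def tyChk (N p e c : ℕ) (D : List ℕ) (T : List Ty0) : Bool :=
  (divs e).all fun f => (divs c).all fun θ => Nat.ble c (e / f * θ ^ 2) ||
    fN (N / (p * c) * (e / f * θ)) fun mr => fL (cands p mr (e / f * θ) D) fun cs =>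
      fN (e / f * θ ^ 2) fun w => fN ((p - 1) / f) fun t => srch N (tyFin N mr w t D T) cs f [] 0 0

theorem NB.ty {G : Type*} [Group G] [Finite G] {p : ℕ} [hp : Fact p.Prime] {N e c m : ℕ}
    (B : NB G p e c m) (hm : m = N / (p * c)) (hG : Nat.card G = N) (he : e ∣ p - 1)
    (hw : B.k * B.θ ^ 2 < c) {D : List ℕ} {T : List Ty0}
    (hD : ∀ χ, χ ∈ B.X ∨ χ ∈ B.Y → dg χ ∈ D) (h : tyChk N p e c D T = true) :
    ∃ t ∈ T, t.1 = B.k * B.θ ^ 2 ∧ ((t.2.1 ++ t.2.2 : List ℕ) : Multiset ℕ) = dm B.X + dm B.Y ∧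
      (t.2.2 ≠ [] → (t.2.1 : Multiset ℕ) = dm B.X ∧ (t.2.2 : Multiset ℕ) = dm B.Y) := by
  classical
  subst hm
  have p2 := hp.out.two_le
  have e0 : e ≠ 0 := by rintro rfl; have := Nat.eq_zero_of_zero_dvd he; omega
  have f0 : 0 < B.f := Nat.pos_of_ne_zero fun k => e0 (by rw [← B.fk, k, zero_mul])
  have fe : B.f ∣ e := ⟨_, B.fk.symm⟩
  have k1 : e / B.f = B.k := Nat.div_eq_of_eq_mul_right f0 B.fk.symm
  have h := List.all_eq_true.mp (List.all_eq_true.mp h _ (mem_divs e0 fe)) _
    (mem_divs (by omega) B.θ_dvd)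
  rw [k1, Bool.or_eq_true, Nat.ble_eq, fN_eq, fL_eq, fN_eq, fN_eq] at h
  obtain ⟨ψ, hψ⟩ : B.Y.Nonempty := by
    rw [← Finset.card_pos, B.cardY]
    exact Nat.div_pos (Nat.le_of_dvd (by omega) (fe.trans he)) f0
  have ab : ∀ χ ∈ B.X, (B.ε χ * dg χ).natAbs = dg χ := fun χ h => by
    rcases B.sgn χ h with k | k <;> simp [k]
  have y1 : dm B.Y = Multiset.replicate ((p - 1) / B.f) (dg ψ) :=
    Multiset.eq_replicate.mpr ⟨by rw [dm, Multiset.card_map, ← B.cardY]; rfl, fun d h => by
      obtain ⟨φ, k, rfl⟩ := Multiset.mem_map.mp h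
      exact B.dgY k hψ⟩
  have sq := sum_dg_sq_le (B.X ∪ B.Y)
  rw [Finset.sum_union B.disj, Finset.sum_congr rfl fun φ (h : φ ∈ B.Y) =>
    show dg φ ^ 2 = dg ψ * dg ψ by rw [B.dgY h hψ, _root_.sq], Finset.sum_const, B.cardY,
    smul_eq_mul, hG] at sq
  have s2 : ((B.X.val.map fun χ => B.ε χ * dg χ).map fun a => a.natAbs ^ 2).sum =
      ∑ χ ∈ B.X, dg χ ^ 2 := by
    rw [Multiset.map_map]
    exact Finset.sum_congr rfl fun χ h => congrArg (· ^ 2) (ab χ h)
  obtain ⟨l, l1, l2⟩ := srch_sound _ _ _ _ _ (B.X.val.map fun χ => B.ε χ * dg χ)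
    (h.resolve_left (by omega)) (by rw [Multiset.card_map, ← B.cardX]; rfl) (fun a ha => by
      obtain ⟨χ, hχ, rfl⟩ := Multiset.mem_map.mp ha
      refine List.mem_flatMap.mpr ⟨_, hD χ (Or.inl hχ), ?_⟩
      have k := B.degX χ hχ
      rw [if_pos (beq_iff_eq.mpr (Nat.mod_eq_zero_of_dvd (B.dvd χ (Or.inl hχ)))), List.mem_append]
      rcases B.sgn χ hχ with s | s <;> rw [s] at k ⊢
      · rw [one_mul, Int.natCast_modEq_iff] at k
        exact Or.inl (by rw [if_pos (beq_iff_eq.mpr k)]; simp)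
      · refine Or.inr (by
          rw [if_pos (beq_iff_eq.mpr (Nat.mod_eq_zero_of_dvd (Int.natCast_dvd_natCast.mp ?_)))]
          · simp
          · simpa using k.symm.dvd)) (by omega)
  rw [Multiset.coe_nil, add_zero] at l1
  have s1 : (0 + (B.X.val.map fun χ => B.ε χ * dg χ).sum).natAbs = dg ψ := by
    rw [zero_add, show (B.X.val.map fun χ => B.ε χ * dg χ).sum = B.δ * dg ψ from
      (B.deg_eq hψ).symm]
    rcases B.dsgn with k | k <;> simp [k]
  rw [tyFin, fN_eq, s1, show Nat.beq (Nat.mod _ _) 0 = true from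
    Nat.beq_eq.mpr (Nat.mod_eq_zero_of_dvd (B.dvd ψ (Or.inr hψ))), cond_true,
    List.contains_iff_mem.mpr (hD ψ (Or.inr hψ)), Nat.ble_eq.mpr (by omega), Bool.and_self,
    cond_true] at l2
  have x1 : (l.map Int.natAbs : List ℕ) = dm B.X := by
    rw [← Multiset.map_coe, l1, Multiset.map_map]
    exact Multiset.map_congr rfl ab
  cases e : Nat.beq ((p - 1) / B.f) 1 <;> rw [e] at l2
  · rw [cond_false, fM_eq, fM_eq] at l2
    exact ⟨_, memT_sound l2, rfl, by rw [← x1, y1]; rfl, fun _ => ⟨x1, y1.symm⟩⟩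
  · rw [cond_true] at l2
    obtain ⟨o, o1, o2⟩ := srt_sound (l := dg ψ :: l.map Int.natAbs) l2
    refine ⟨_, memT_sound o2, rfl, ?_, fun h => absurd rfl h⟩
    rw [List.append_nil, o1, ← x1, y1, Nat.beq_eq.mp e, add_comm]
    rfl

noncomputable def ers (d : ℕ) (S : List ℕ) : (List ℕ → Bool) → Bool :=
  List.rec (motive := fun _ => (List ℕ → Bool) → Bool) (fun _ => true)
    (fun a l ih k => cif Nat.beq a d then k l else ih fun l' => k (a :: l')) S

theorem ers_sound {d : ℕ} {S : List ℕ} : ∀ {k : List ℕ → Bool}, ers d S k = true → d ∈ S →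
    k (S.erase d) = true := by
  induction S with
  | nil => exact fun _ h => absurd h List.not_mem_nil
  | cons a l ih =>
    intro k h hd
    change (cif Nat.beq a d then k l else ers d l fun l' => k (a :: l')) = true at h
    rw [cif_eq] at h
    by_cases e : a = d
    · subst e
      rwa [Nat.beq_refl, cond_true, ← List.erase_cons_head a l] at h
    · rw [Bool.eq_false_iff.mpr fun k => e (Nat.beq_eq.mp k), cond_false] at h
      rw [List.erase_cons_tail (by simpa using e)]
      exact ih h ((List.mem_cons.mp hd).resolve_left fun k => e k.symm)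

noncomputable def subK (n : List ℕ) : List ℕ → (List ℕ → Bool) → Bool :=
  List.rec (motive := fun _ => List ℕ → (List ℕ → Bool) → Bool) (fun S k => k S)
    (fun d _ ih S k => ers d S fun S' => ih S' k) n

theorem subK_sound {n : List ℕ} {k : List ℕ → Bool} {R : Multiset ℕ} : ∀ {S : List ℕ},
    subK n S k = true → (S : Multiset ℕ) = n + R → ∃ S' : List ℕ, S' = R ∧ k S' = true := by
  induction n with
  | nil => exact fun h e => ⟨_, by simpa using e, h⟩
  | cons d n ih =>
    intro S h e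
    rw [← Multiset.cons_coe, Multiset.cons_add] at e
    refine ih (ers_sound h (Multiset.mem_coe.mp (e ▸ Multiset.mem_cons_self _ _))) ?_
    rw [← Multiset.coe_erase, e, Multiset.erase_cons_head]

noncomputable def stp (t : Ty) (W b : ℕ) (k : Bool) : Bool :=
  cif Nat.ble t.2.1 b then (cif Nat.ble t.1 W then k else true) else true

theorem stp_sound {t : Ty} {W b : ℕ} {k : Bool} (h : stp t (t.1 + W) (b + t.2.1) k = true) :
    k = true := by
  rwa [stp, Nat.ble_eq.mpr (Nat.le_add_right _ _), Nat.ble_eq.mpr (Nat.le_add_left _ _)] at h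

noncomputable def dec (t : Ty) (W b : ℕ) (k : ℕ → ℕ → Bool) : Bool :=
  fN (Nat.sub W t.1) fun W' => fN (Nat.sub b t.2.1) fun b' => k W' b'

theorem dec_eq {t : Ty} {W b : ℕ} {k : ℕ → ℕ → Bool} : dec t (t.1 + W) (b + t.2.1) k = k W b := by
  rw [dec, fN_eq, fN_eq, Nat.sub_eq, Nat.sub_eq, Nat.add_sub_cancel_left, Nat.add_sub_cancel]

noncomputable def allL {α : Type} (f : α → List α → Bool) (Q : List α) : Bool :=
  List.rec (motive := fun _ => Bool) true (fun t Q ih => cif f t (t :: Q) then ih else false) Q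

theorem allL_sound {α : Type} {f : α → List α → Bool} {M : Multiset α} (h0 : M ≠ 0) :
    ∀ {Q : List α}, allL f Q = true → (∀ t ∈ M, t ∈ Q) →
      ∃ t ∈ M, ∃ Q', f t Q' = true ∧ ∀ s ∈ M, s ∈ Q'
  | [], _, h => by
    obtain ⟨t, ht⟩ := Multiset.exists_mem_of_ne_zero h0
    exact absurd (h t ht) List.not_mem_nil
  | t :: Q, k, h => by
    change (cif f t (t :: Q) then allL f Q else false) = true at k
    rw [cif_eq, Bool.cond_false_right, Bool.and_eq_true] at k
    by_cases e : t ∈ M
    · exact ⟨t, e, _, k.1, h⟩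
    · exact allL_sound h0 k.2 fun s hs =>
        (List.mem_cons.mp (h s hs)).resolve_left fun k => e (k ▸ hs)

theorem allL_mem {α : Type} {f : α → Bool} {Q : List α} (h : allL (fun t _ => f t) Q = true) {t : α}
    (ht : t ∈ Q) : f t = true := by
  obtain ⟨s, k1, -, k2, -⟩ := allL_sound (M := {t}) (by simp) h
    fun s hs => Multiset.mem_singleton.mp hs ▸ ht
  exact Multiset.mem_singleton.mp k1 ▸ k2

noncomputable def app (l m : List ℕ) : List ℕ :=
  List.rec (motive := fun _ => List ℕ) m (fun a _ ih => a :: ih) l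

theorem app_eq (l m : List ℕ) : app l m = l ++ m := by
  induction l with
  | nil => rfl
  | cons a l ih => exact congrArg (a :: ·) ih

noncomputable def enc (l : List ℕ) : ℕ :=
  List.rec (motive := fun _ => ℕ) 1 (fun a _ ih => Nat.mul (Nat.succ (Nat.mul a 30030)) ih) l

theorem enc_eq (l : List ℕ) : enc l = ((l : Multiset ℕ).map fun a => a * 30030 + 1).prod := by
  induction l with
  | nil => rfl
  | cons a l ih =>
    rw [← Multiset.cons_coe, Multiset.map_cons, Multiset.prod_cons, ← ih]; rfl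

/-- for all listed types whose bound degrees occur in `S` -/
noncomputable def allS (L : List (ℕ × Ty)) (S : List ℕ) (W b : ℕ)
    (k : Ty → List ℕ → ℕ → ℕ → Bool) : Bool :=
  fN (enc S) fun E => allL (fun s _ => cif Nat.beq (Nat.mod E s.1) 0 then
    stp s.2 W b (subK s.2.2.2.1 S fun S' => dec s.2 W b (k s.2 S')) else true) L

theorem allS_sound {L : List (ℕ × Ty)} {S : List ℕ} {W b : ℕ} {k : Ty → List ℕ → ℕ → ℕ → Bool}
    {t : Ty} {R : Multiset ℕ} (h : allS L S (t.1 + W) (b + t.2.1) k = true)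
    (ht : (enc t.2.2.1, t) ∈ L) (hS : (S : Multiset ℕ) = t.2.2.1 + R) :
    ∃ S' : List ℕ, S' = R ∧ k t S' W b = true := by
  rw [allS, fN_eq] at h
  have k1 := allL_mem h ht
  have k2 : Nat.mod (enc S) (enc t.2.2.1) = 0 := Nat.mod_eq_zero_of_dvd (by
    rw [enc_eq, enc_eq, hS, Multiset.map_add, Multiset.prod_add]
    exact dvd_mul_right _ _)
  simp only [k2] at k1
  obtain ⟨S', s1, s2⟩ := subK_sound (stp_sound k1) hS
  exact ⟨S', s1, dec_eq.symm.trans s2⟩

/-- cover the list `S` by the bound degrees of blocks -/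
noncomputable def cv (I : ℕ → List (ℕ × Ty)) (K : ℕ → ℕ → List ℕ → Bool) (n : ℕ) :
    List ℕ → ℕ → ℕ → List ℕ → Bool :=
  Nat.rec (motive := fun _ => List ℕ → ℕ → ℕ → List ℕ → Bool) (fun _ _ _ _ => false)
    (fun _ ih S W b acc => List.casesOn (motive := fun _ => Bool) S (K W b acc) fun d _ =>
      allS (I d) S W b fun t S' W' b' => ih S' W' b' (app t.2.2.2 acc)) n

/-- add blocks without bound degrees -/
noncomputable def pu (K : ℕ → List ℕ → Bool) (n : ℕ) : List Ty → ℕ → ℕ → List ℕ → Bool :=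
  Nat.rec (motive := fun _ => List Ty → ℕ → ℕ → List ℕ → Bool) (fun _ _ _ _ => false)
    (fun _ ih Q W b acc => cif Nat.beq W 0 then K b acc else
      allL (fun t Q' => stp t W b (dec t W b fun W' b' =>
        ih Q' W' b' (app t.2.2.2 acc))) Q) n

def sW (M : Multiset Ty) : ℕ := (M.map (·.1)).sum
def sX (M : Multiset Ty) : ℕ := (M.map (·.2.1)).sum
def sB (M : Multiset Ty) : Multiset ℕ := (M.map fun t => (t.2.2.1 : Multiset ℕ)).sum
def sF (M : Multiset Ty) : Multiset ℕ := (M.map fun t => (t.2.2.2 : Multiset ℕ)).sum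

theorem cv_sound {I : ℕ → List (ℕ × Ty)} {K : ℕ → ℕ → List ℕ → Bool} {b : ℕ} (n : ℕ) :
    ∀ (S acc : List ℕ) (M : Multiset Ty), cv I K n S (sW M) (b + sX M) acc = true →
      (∀ t ∈ M, ∀ d ∈ t.2.2.1, (enc t.2.2.1, t) ∈ I d) → S = sB M → ∃ (M' : Multiset Ty) (acc' : List ℕ),
        (∀ t ∈ M', t ∈ M ∧ t.2.2.1 = []) ∧ K (sW M') (b + sX M') acc' = true ∧
        acc' + sF M' = acc + sF M := by
  induction n with
  | zero => exact fun _ _ _ h => absurd h Bool.false_ne_true
  | succ n ih =>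
    rintro (_ | ⟨d, S⟩) acc M h hI hS
    · refine ⟨M, acc, fun t ht => ⟨ht, List.eq_nil_iff_forall_not_mem.mpr fun d hd => ?_⟩, h, rfl⟩
      exact List.not_mem_nil (Multiset.mem_coe.mp (hS ▸ Multiset.mem_bind.mpr ⟨t, ht, hd⟩ :
        d ∈ (([] : List ℕ) : Multiset ℕ)))
    · obtain ⟨t, ht, hd⟩ := Multiset.mem_bind.mp (show d ∈ sB M from hS ▸ List.mem_cons_self)
      change (allS (I d) (d :: S) (sW M) (b + sX M) fun t S' W' b' =>
        cv I K n S' W' b' (app t.2.2.2 acc)) = true at h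
      obtain ⟨M, rfl⟩ := Multiset.exists_cons_of_mem ht
      simp only [sW, sX, sB, Multiset.map_cons, Multiset.sum_cons] at h hS
      rw [add_comm t.2.1, ← add_assoc] at h
      obtain ⟨S', s1, s2⟩ := allS_sound h (hI t ht d hd) hS
      obtain ⟨M', acc', a1, a2, a3⟩ := ih _ _ M s2
        (fun t ht => hI t (Multiset.mem_cons_of_mem ht)) s1
      refine ⟨M', acc', fun t ht => ⟨Multiset.mem_cons_of_mem (a1 t ht).1, (a1 t ht).2⟩, a2, ?_⟩
      rw [a3, sF, sF, Multiset.map_cons, Multiset.sum_cons, app_eq, ← Multiset.coe_add]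
      abel

theorem pu_sound {K : ℕ → List ℕ → Bool} {b : ℕ} (n : ℕ) :
    ∀ (Q : List Ty) (acc : List ℕ) (M : Multiset Ty), pu K n Q (sW M) (b + sX M) acc = true →
      (∀ t ∈ M, t ∈ Q ∧ 0 < t.1) → ∃ acc' : List ℕ, K b acc' = true ∧ acc' = acc + sF M := by
  induction n with
  | zero => exact fun _ _ _ h => absurd h Bool.false_ne_true
  | succ n ih =>
    intro Q acc M h hQ
    by_cases h0 : M = 0
    · subst h0
      exact ⟨acc, h, by simp [sF]⟩
    change (cif Nat.beq (sW M) 0 then K (b + sX M) acc else allL (fun t Q' => stp t (sW M) (b + sX M)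
      (dec t (sW M) (b + sX M) fun W' b' => pu K n Q' W' b' (app t.2.2.2 acc))) Q) = true at h
    rw [(Bool.eq_false_iff (b := Nat.beq (sW M) 0)).mpr fun k => ?_] at h
    · obtain ⟨t, ht, Q', k1, k2⟩ := allL_sound h0 h fun t ht => (hQ t ht).1
      obtain ⟨M, rfl⟩ := Multiset.exists_cons_of_mem ht
      simp only [sW, sX, Multiset.map_cons, Multiset.sum_cons] at k1
      rw [add_comm t.2.1, ← add_assoc] at k1
      obtain ⟨acc', a1, a2⟩ := ih _ _ M (dec_eq.symm.trans (stp_sound k1)) fun s hs =>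
        ⟨k2 s (Multiset.mem_cons_of_mem hs), (hQ s (Multiset.mem_cons_of_mem hs)).2⟩
      refine ⟨acc', a1, ?_⟩
      rw [a2, sF, sF, Multiset.map_cons, Multiset.sum_cons, app_eq, ← Multiset.coe_add]
      abel
    · obtain ⟨t, ht⟩ := Multiset.exists_mem_of_ne_zero h0
      have := Multiset.single_le_sum (s := M.map (·.1)) (fun _ _ => Nat.zero_le _) _
        (Multiset.mem_map_of_mem _ ht)
      have := (hQ t ht).2
      have : (M.map (·.1)).sum = 0 := Nat.beq_eq.mp k
      omega

noncomputable def mk (fr : ℕ → Bool) (t : Ty0) : Ty :=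
  (t.1, sqs ((t.2.1 ++ t.2.2).filter fr), (t.2.1 ++ t.2.2).filter fun d => !fr d,
    (t.2.1 ++ t.2.2).filter fr)

noncomputable def fT {α : Type} (l : List Ty) : (List Ty → α) → α :=
  List.rec (motive := fun _ => (List Ty → α) → α) (fun k => k [])
    (fun a _ ih k => fN a.1 fun w => fN a.2.1 fun x => fM a.2.2.1 fun y => fM a.2.2.2 fun z =>
      ih fun t => k ((w, x, y, z) :: t)) l

theorem fT_eq {α : Type} (l : List Ty) (k : List Ty → α) : fT l k = k l := by
  induction l generalizing k with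
  | nil => rfl
  | cons a l ih =>
    change (fM a.2.2.1 fun y => fM a.2.2.2 fun z => fT l fun t => k ((a.1, a.2.1, y, z) :: t)) = _
    rw [fM_eq, fM_eq, ih]

noncomputable def fS {α β : Type} (l : List β) : (List β → α) → α :=
  List.rec (motive := fun _ => (List β → α) → α) (fun k => k [])
    (fun a _ ih k => ih fun t => k (a :: t)) l

theorem fS_eq {α β : Type} (l : List β) (k : List β → α) : fS l k = k l := by
  induction l generalizing k with
  | nil => rfl
  | cons a l ih => exact ih _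

noncomputable def fE {α : Type} (l : List Ty) : (List (ℕ × Ty) → α) → α :=
  List.rec (motive := fun _ => (List (ℕ × Ty) → α) → α) (fun k => k [])
    (fun a _ ih k => fN (enc a.2.2.1) fun e => ih fun t => k ((e, a) :: t)) l

theorem fE_eq {α : Type} (l : List Ty) (k : List (ℕ × Ty) → α) :
    fE l k = k (l.map fun t => (enc t.2.2.1, t)) := by
  induction l generalizing k with
  | nil => rfl
  | cons a l ih => exact ih _

noncomputable def fX (T : List (ℕ × Ty)) (D : List ℕ) :
    ((ℕ → List (ℕ × Ty)) → Bool) → Bool :=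
  List.rec (motive := fun _ => ((ℕ → List (ℕ × Ty)) → Bool) → Bool) (fun k => k fun _ => T)
    (fun a _ ih k => fS (T.filter fun t => anyL (Nat.beq a) t.2.2.2.1) fun L =>
      ih fun I => k fun d => cif Nat.beq a d then L else I d) D

theorem anyL_of_mem {a : ℕ} : ∀ {l : List ℕ}, a ∈ l → anyL (Nat.beq a) l = true
  | b :: l, h => by
    change (bif Nat.beq a b then true else anyL (Nat.beq a) l) = true
    rcases List.mem_cons.mp h with rfl | h
    · rw [Nat.beq_refl]; rfl
    · rw [anyL_of_mem h, Bool.cond_self]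

theorem fX_sound {T : List (ℕ × Ty)} {D : List ℕ} :
    ∀ {k : (ℕ → List (ℕ × Ty)) → Bool}, fX T D k = true →
      ∃ I, (∀ t ∈ T, ∀ d ∈ t.2.2.2.1, t ∈ I d) ∧ k I = true := by
  induction D with
  | nil => exact fun h => ⟨_, fun t h _ _ => h, h⟩
  | cons a D ih =>
    intro k h
    change (fS _ fun L => fX T D fun I => k fun d => cif Nat.beq a d then L else I d) = true at h
    rw [fS_eq] at h
    obtain ⟨I, h1, h2⟩ := ih h
    refine ⟨_, fun t ht d hd => ?_, h2⟩
    cases e : Nat.beq a d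
    · exact h1 t ht d hd
    · obtain rfl := Nat.beq_eq.mp e
      exact List.mem_filter.mpr ⟨ht, anyL_of_mem hd⟩

def IsIdx (fr : ℕ → Bool) (T : List Ty0) (I : ℕ → List (ℕ × Ty)) (Q : List Ty) : Prop :=
  ∀ t ∈ T, (∀ d ∈ (mk fr t).2.2.1, (enc (mk fr t).2.2.1, mk fr t) ∈ I d) ∧
    ((mk fr t).2.2.1 = [] → mk fr t ∈ Q)

noncomputable def prn (fr : ℕ → Bool) (O : List (List ℕ)) : List (ℕ × Ty) :=
  (O.map fun o => mk fr (0, o, [])).map fun t => (enc t.2.2.1, t)

noncomputable def idx (fr : ℕ → Bool) (T : List Ty0) (D : List ℕ) (O : List (List ℕ))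
    (k : List (ℕ × Ty) → (ℕ → List (ℕ × Ty)) → List Ty → Bool) : Bool :=
  fT (O.map fun o => mk fr (0, o, [])) fun O => fE O fun O =>
    fT (T.map (mk fr)) fun T => fS (T.filter fun t => t.2.2.1.isEmpty) fun Q => fE T fun T =>
      fM (D.filter fun d => !fr d).reverse fun D => fX T D fun I => k O I Q

theorem idx_sound {fr : ℕ → Bool} {T : List Ty0} {D : List ℕ} {O : List (List ℕ)}
    {k : List (ℕ × Ty) → (ℕ → List (ℕ × Ty)) → List Ty → Bool} (h : idx fr T D O k = true) :
    ∃ I Q, IsIdx fr T I Q ∧ k (prn fr O) I Q = true := by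
  rw [idx, fT_eq, fE_eq, fT_eq, fS_eq, fE_eq, fM_eq] at h
  obtain ⟨I, h1, h2⟩ := fX_sound h
  exact ⟨I, _, fun t ht => ⟨h1 _ (List.mem_map_of_mem (List.mem_map_of_mem ht)), fun k =>
    List.mem_filter.mpr ⟨List.mem_map_of_mem ht, by simp [k]⟩⟩, h2⟩

noncomputable def rmv (p : ℕ) (l : List ℕ) : (List ℕ → Bool) → Bool :=
  List.rec (motive := fun _ => (List ℕ → Bool) → Bool) (fun k => k [])
    (fun a _ ih k => cif Nat.beq (Nat.mod a p) 0 then ih k else ih fun t => k (a :: t)) l

theorem rmv_eq (p : ℕ) (l : List ℕ) (k : List ℕ → Bool) :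
    rmv p l k = k (l.filter fun d => ¬ p ∣ d) := by
  induction l generalizing k with
  | nil => rfl
  | cons a l ih =>
    change (cif Nat.beq (a % p) 0 then rmv p l k else rmv p l fun t => k (a :: t)) = _
    rw [ih, ih]
    by_cases h : p ∣ a
    · rw [Nat.mod_eq_zero_of_dvd h, List.filter_cons_of_neg (by simpa using h)]; rfl
    · rw [Bool.eq_false_iff.mpr fun e => h (Nat.dvd_of_mod_eq_zero (Nat.beq_eq.mp e)),
        List.filter_cons_of_pos (by simpa using h)]

/-- `u` lists the bound degrees, `O` the possible principal blocks -/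
noncomputable def run (O : List (ℕ × Ty)) (I : ℕ → List (ℕ × Ty)) (K : ℕ → ℕ → List ℕ → Bool)
    (p W n : ℕ) (u : List ℕ) : Bool :=
  fN (sqs u) fun x => bif Nat.ble x n then fN (Nat.sub n x) fun b => rmv p u fun u =>
    allS O u W b fun t S W b => srt S fun S => cv I K (W + 1) S W b t.2.2.2 else true

/-- the degrees prime to `p` in `U` are those of `o` and of blocks from `T` of total weight `W` -/
def Part (U : Multiset ℕ) (p W : ℕ) (T : List Ty0) (o : List ℕ) : Prop :=
  ∃ M : Multiset Ty0, (∀ t ∈ M, t ∈ T ∧ 0 < t.1) ∧ (M.map (·.1)).sum = W ∧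
    U.filter (fun d => ¬ p ∣ d) = o + (M.map fun t => ((t.2.1 ++ t.2.2 : List ℕ) : Multiset ℕ)).sum

theorem filter_sum (q : ℕ → Prop) [DecidablePred q] (M : Multiset (Multiset ℕ)) :
    M.sum.filter q = (M.map (Multiset.filter q)).sum := by
  induction M using Multiset.induction_on with
  | empty => rfl
  | cons a M ih => simp [ih]

theorem msq_sum (M : Multiset (Multiset ℕ)) : msq M.sum = (M.map msq).sum := by
  induction M using Multiset.induction_on with
  | empty => rfl
  | cons a M ih => simp [msq_add, ih]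

theorem run_sound {fr : ℕ → Bool} {T : List Ty0} {I : ℕ → List (ℕ × Ty)} {Q : List Ty}
    (hI : IsIdx fr T I Q) {K : ℕ → ℕ → List ℕ → Bool} {p W : ℕ} {u o : List ℕ} {U : Multiset ℕ}
    (hU : Part U p W T o) (hu : U.filter (fun d => ¬ fr d = true) = u) {O : List (List ℕ)}
    (ho : o ∈ O) (h : run (prn fr O) I K p W (msq U) u = true) : ∃ (M : Multiset Ty) (acc : List ℕ),
      (∀ t ∈ M, t ∈ Q ∧ 0 < t.1) ∧
      K (sW M) (msq (U.filter fun d => fr d = true ∧ p ∣ d) + sX M) acc = true ∧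
      acc + sF M = U.filter fun d => fr d = true ∧ ¬ p ∣ d := by
  obtain ⟨M, m1, rfl, m3⟩ := hU
  have e1 : ((u.filter fun d => ¬ p ∣ d : List ℕ) : Multiset ℕ) =
      (o.filter fun d => !fr d : List ℕ) + sB (M.map (mk fr)) := by
    have := congrArg (Multiset.filter fun d => ¬ fr d = true) m3
    rw [Multiset.filter_comm, hu, Multiset.filter_add, filter_sum, Multiset.map_map] at this
    simpa [sB, mk, Function.comp_def] using this
  have e2 : U.filter (fun d => fr d = true ∧ ¬ p ∣ d) =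
      (o.filter fr : List ℕ) + sF (M.map (mk fr)) := by
    have := congrArg (Multiset.filter fun d => fr d = true) m3
    rw [Multiset.filter_filter, Multiset.filter_add, filter_sum, Multiset.map_map] at this
    simpa [sF, mk, Function.comp_def] using this
  have e3 : msq U = sqs u + ((msq (U.filter fun d => fr d = true ∧ p ∣ d) + sX (M.map (mk fr))) +
      sqs (o.filter fr)) := by
    have k : msq (sF (M.map (mk fr))) = sX (M.map (mk fr)) := by
      rw [sF, msq_sum, sX, Multiset.map_map, Multiset.map_map, Multiset.map_map]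
      exact congrArg _ (Multiset.map_congr rfl fun t _ => msq_coe _)
    have k1 := congrArg msq (Multiset.filter_add_not (fun d => fr d = true) U)
    have k2 := congrArg msq (Multiset.filter_add_not (fun d => p ∣ d) (U.filter (fr · = true)))
    rw [Multiset.filter_comm, Multiset.filter_filter, Multiset.filter_comm, Multiset.filter_filter,
      e2, msq_add, msq_add, k, msq_coe] at k2
    rw [hu, msq_add, msq_coe] at k1
    omega
  rw [run, fN_eq, e3, Nat.ble_eq.mpr (Nat.le_add_right _ _), cond_true, fN_eq, Nat.sub_eq,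
    Nat.add_sub_cancel_left, rmv_eq, show (M.map (·.1)).sum = 0 + sW (M.map (mk fr)) by
      rw [sW, Multiset.map_map, zero_add]; rfl] at h
  obtain ⟨v, v1, v2⟩ := allS_sound (t := mk fr (0, o, [])) (R := sB (M.map (mk fr)))
    (L := prn fr O) (by simpa only [mk, List.append_nil] using h)
    (List.mem_map_of_mem (List.mem_map_of_mem ho))
    (by simpa only [mk, List.append_nil] using e1)
  obtain ⟨S, s1, s2⟩ := srt_sound v2
  simp only [mk, List.append_nil] at s2
  obtain ⟨M', acc, a1, a2, a3⟩ := cv_sound _ _ _ _ s2 (fun t ht => by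
    obtain ⟨t, k, rfl⟩ := Multiset.mem_map.mp ht
    exact (hI t (m1 t k).1).1) (s1.trans v1)
  refine ⟨M', acc, fun t ht => ?_, a2, a3.trans e2.symm⟩
  obtain ⟨s, hs, rfl⟩ := Multiset.mem_map.mp (a1 t ht).1
  exact ⟨(hI s (m1 s hs).1).2 (a1 _ ht).2, (m1 s hs).2⟩

theorem run_false {fr : ℕ → Bool} {T : List Ty0} {I : ℕ → List (ℕ × Ty)} {Q : List Ty}
    (hI : IsIdx fr T I Q) {p W : ℕ} {u o : List ℕ} {U : Multiset ℕ}
    (hU : Part U p W T o) (hu : U.filter (fun d => ¬ fr d = true) = u) {O : List (List ℕ)}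
    (ho : o ∈ O) : run (prn fr O) I (fun _ _ _ => false) p W (msq U) u = false :=
  Bool.eq_false_iff.mpr fun h => by
    obtain ⟨_, _, -, k, -⟩ := run_sound hI hU hu ho h
    exact Bool.false_ne_true k

theorem run_exact {fr : ℕ → Bool} {T : List Ty0} {I : ℕ → List (ℕ × Ty)} {Q : List Ty}
    (hI : IsIdx fr T I Q) {K : ℕ → List ℕ → Bool} {p W : ℕ} {u o : List ℕ} {U : Multiset ℕ}
    (hU : Part U p W T o) (hu : U.filter (fun d => ¬ fr d = true) = u) {O : List (List ℕ)}
    (ho : o ∈ O)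
    (h : run (prn fr O) I (fun W b acc => pu K (W + 1) Q W b acc) p W (msq U) u = true) :
    ∃ acc : List ℕ, K (msq (U.filter fun d => fr d = true ∧ p ∣ d)) acc = true ∧
      acc = U.filter fun d => fr d = true ∧ ¬ p ∣ d := by
  obtain ⟨M, acc, k1, k2, k3⟩ := run_sound hI hU hu ho h
  obtain ⟨acc', a1, a2⟩ := pu_sound _ _ _ _ k2 k1
  exact ⟨acc', a1, a2.trans k3⟩

theorem Part.sum_le {T : List Ty0} {p W : ℕ} {o : List ℕ} {U V : Multiset ℕ} (hU : Part U p W T o)
    (g : ℕ → ℕ) (hg : ∀ d, p ∣ d → g d = 0)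
    (hT : ∀ t ∈ T, ((t.2.1 ++ t.2.2).map g).sum ≤ p * t.1) (hV : V ≤ U) :
    (V.map g).sum ≤ (o.map g).sum + p * W := by
  obtain ⟨M, m1, rfl, m3⟩ := hU
  obtain ⟨V', rfl⟩ := Multiset.le_iff_exists_add.mp hV
  have k := congrArg (fun s => (s.map g).sum) (Multiset.filter_add_not (fun d => p ∣ d) (V + V'))
  have k0 : (((V + V').filter fun d => p ∣ d).map g).sum = 0 := Multiset.sum_eq_zero fun x hx => by
    obtain ⟨d, h, rfl⟩ := Multiset.mem_map.mp hx
    exact hg d (Multiset.mem_filter.mp h).2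
  have k1 : ((M.map fun t => ((t.2.1 ++ t.2.2 : List ℕ) : Multiset ℕ)).sum.map g).sum ≤
      p * (M.map (·.1)).sum := by
    clear k k0 m3
    induction M using Multiset.induction_on with
    | empty => simp
    | cons a M ih =>
      have := hT a (m1 a (Multiset.mem_cons_self _ _)).1
      have := ih fun t h => m1 t (Multiset.mem_cons_of_mem h)
      simp only [Multiset.map_cons, Multiset.sum_cons, Multiset.map_add, Multiset.sum_add,
        Multiset.map_coe, Multiset.sum_coe, mul_add]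
      exact add_le_add (by assumption) this
  rw [m3, Multiset.map_add g, Multiset.sum_add, k0, Multiset.map_add g, Multiset.sum_add,
    Multiset.map_add g, Multiset.sum_add, Multiset.map_coe, Multiset.sum_coe] at k
  omega

theorem sq_dvd_msq {U : Multiset ℕ} {q : ℕ} (h : ∀ d ∈ U, q ∣ d) : q * q ∣ msq U :=
  Multiset.dvd_sum fun _ hd => by
    obtain ⟨d, k, rfl⟩ := Multiset.mem_map.mp hd
    exact mul_dvd_mul (h d k) (h d k)

variable {G : Type*} [Group G] [Finite G] [DecidableEq (IrrCharacter G)]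

variable (G) in
/-- the degrees of the non-principal irreducible characters -/
noncomputable def dU : Multiset ℕ := dm (Finset.univ.erase (triv G))

theorem dm_erase {S : Finset (IrrCharacter G)} (h : triv G ∈ S) :
    dm S = 1 ::ₘ dm (S.erase (triv G)) := by
  rw [dm, dm, ← dg_triv (G := G), ← Multiset.map_cons, Finset.erase_val, Multiset.cons_erase h]

theorem dm_filter (S : Finset (IrrCharacter G)) (q : ℕ → Prop) [DecidablePred q] :
    dm (S.filter fun χ => q (dg χ)) = (dm S).filter q := by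
  rw [dm, dm, Multiset.filter_map]; rfl

theorem msq_dU : msq (dU G) + 1 = Nat.card G := by
  have := congrArg msq (dm_erase (Finset.mem_univ (triv G)))
  rw [← Multiset.singleton_add, msq_add] at this
  rw [← sum_dg_sq, add_comm, dU, show 1 = msq {1} from rfl, ← this, msq, dm, Multiset.map_map]
  exact Finset.sum_congr rfl fun χ _ => (sq _).symm

theorem count_dU {d : ℕ} (h : d ≠ 1) : (dU G).count d = cnt (G := G) Finset.univ d := by
  rw [← count_dm, dm_erase (Finset.mem_univ _), Multiset.count_cons_of_ne h, dU]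

theorem mem_dU {d : ℕ} : d ∈ dU G ↔ ∃ χ, χ ≠ triv G ∧ dg χ = d := by
  simp only [dU, dm, Multiset.mem_map, Finset.mem_val, Finset.mem_erase, Finset.mem_univ, and_true]

variable [IsSimpleGroup G] {p : ℕ} [hp : Fact p.Prime] {P : Subgroup G} {e : ℕ}

theorem dm_of_cnt (hna : ∃ a b : G, a * b ≠ b * a) {S : Finset (IrrCharacter G)} {o : List ℕ}
    (h0 : triv G ∈ S) (h1 : 1 ∉ o) (h : ∀ d, d ≠ 1 → cnt S d = o.count d) : dm S = 1 ::ₘ o :=
  Multiset.ext.mpr fun d => by
    rw [count_dm]
    by_cases k : d = 1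
    · rw [k, cnt_one hna h0, Multiset.count_cons_self, Multiset.count_eq_zero_of_notMem h1]
    · rw [h d k, Multiset.count_cons_of_ne k, Multiset.coe_count]

theorem dm_not_dvd : dm (Finset.univ.filter fun χ : IrrCharacter G => ¬ p ∣ dg χ) =
    1 ::ₘ (dU G).filter fun d => ¬ p ∣ d := by
  rw [dm_filter Finset.univ fun d => ¬ p ∣ d, dm_erase (Finset.mem_univ _),
    Multiset.filter_cons_of_pos _ (by simpa using hp.out.one_lt.ne'), dU]

theorem PB.dU_filter (B : PB G p P e) (hC : Subgroup.centralizer (P : Set G) = P) :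
    1 ::ₘ (dU G).filter (fun d => ¬ p ∣ d) = dm (B.X ∪ B.Y) := by
  rw [← dm_not_dvd]
  congr 1
  ext χ
  rw [Finset.mem_filter, Finset.mem_union]
  exact ⟨fun h => B.mem_of_not_dvd hC h.2,
    fun h => ⟨Finset.mem_univ _, h.elim B.not_dvd_X B.not_dvd_Y⟩⟩

theorem PB.part (B : PB G p P e) (hna : ∃ a b : G, a * b ≠ b * a) {N c : ℕ} (hG : Nat.card G = N)
    (hc : Nat.card (Subgroup.centralizer (P : Set G)) = p * (c + 1)) {o D : List ℕ} {T : List Ty0}
    (h1 : 1 ∉ o) (ho : ∀ d, d ≠ 1 → cnt (B.X ∪ B.Y) d = o.count d)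
    (hD : ∀ χ, χ ≠ triv G → dg χ ∈ D) (h : tyChk N p e (c + 1) D T = true) :
    Part (dU G) p c T o ∧ ∀ χ, ¬ p ∣ dg χ → χ ∉ B.X ∪ B.Y →
      ∃ m, ∃ A : NB G p e (c + 1) m, χ ∈ A.X ∪ A.Y ∧ ∃ t ∈ T, dg χ ∈ t.2.1 ++ t.2.2 ∧
        (t.2.2 ≠ [] → (t.2.1 : Multiset ℕ) = dm A.X ∧ (t.2.2 : Multiset ℕ) = dm A.Y) ∧
        ((o ++ (t.2.1 ++ t.2.2) : List ℕ) : Multiset ℕ) ≤ dU G := by
  obtain ⟨L, l1, l2, l3, l4⟩ := B.blocks hc
  rw [dm_not_dvd, dm_of_cnt hna (Finset.mem_union.mpr B.one_mem) h1 ho, Multiset.cons_add,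
    Multiset.cons_inj_right] at l4
  have hm : (H86.Cen P).index = N / (p * (c + 1)) := by
    rw [← hG, ← hc, ← (H86.Cen P).index_mul_card, Nat.mul_div_cancel _ Nat.card_pos]
  have k : ∀ A ∈ L, ∃ t ∈ T, t.1 = A.k * A.θ ^ 2 ∧
      ((t.2.1 ++ t.2.2 : List ℕ) : Multiset ℕ) = dm A.X + dm A.Y ∧
      (t.2.2 ≠ [] → (t.2.1 : Multiset ℕ) = dm A.X ∧ (t.2.2 : Multiset ℕ) = dm A.Y) :=
    fun A hA => A.ty hm hG B.e_dvd (by
    have := Multiset.single_le_sum (s := L.map fun D => D.k * D.θ ^ 2) (fun _ _ => Nat.zero_le _) _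
      (Multiset.mem_map_of_mem _ hA)
    omega) (fun χ k => hD χ fun e => l3 A hA (e ▸ Finset.mem_union.mpr k)) h
  refine ⟨?_, fun χ k1 k2 => ?_⟩
  · choose! t t1 t2 t3 t4 using k
    refine ⟨L.map t, fun s hs => ?_, ?_, ?_⟩
    · obtain ⟨A, hA, rfl⟩ := Multiset.mem_map.mp hs
      refine ⟨t1 A hA, t2 A hA ▸ Nat.mul_pos (Nat.pos_of_ne_zero fun k => ?_)
        (pow_pos (Nat.pos_of_ne_zero fun k : A.θ = 0 => A.ndvd (k ▸ dvd_zero p)) _)⟩
      exact B.e_pos.ne' (by rw [← A.fk, k, mul_zero])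
    · rw [Multiset.map_map]
      exact (congrArg _ (Multiset.map_congr rfl t2)).trans (Nat.add_right_cancel l1)
    · rw [l4, Multiset.map_map]
      exact congrArg (_ + Multiset.sum ·) (Multiset.map_congr rfl fun A hA => (t3 A hA).symm)
  · obtain ⟨A, hA, k3⟩ := l2 χ k1 k2
    obtain ⟨t, t1, -, t3, t4⟩ := k A hA
    refine ⟨_, A, k3, t, t1, ?_, t4, le_trans ?_ (Multiset.filter_le (fun d => ¬ p ∣ d) _)⟩
    · rw [← Multiset.mem_coe, t3, Multiset.mem_add]
      exact (Finset.mem_union.mp k3).imp (Multiset.mem_map_of_mem _) (Multiset.mem_map_of_mem _)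
    rw [l4, ← Multiset.coe_add, t3]
    exact add_le_add_right (Multiset.single_le_sum (fun _ _ => Multiset.zero_le _) _
      (Multiset.mem_map_of_mem (fun D : NB G p e (c + 1) _ => dm D.X + dm D.Y) hA)) _

end H17.Ord
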