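import Mathlib
import Cfsg.Agent.Base
import Cfsg.Agent.Lib.Ord.CharAux
import Cfsg.Agent.Lib.Ord.Lat11b

/-! Simple groups of order 95040: the principal blocks for 11 and 5. -/

set_option autoImplicit false
set_option linter.unusedSectionVars false
set_option linter.style.haveILetI false

open Cfsg H4.Sv
open scoped ComplexConjugate

namespace H17.Ord.M12
variable {G : Type*} [Group G] [Finite G] [IsSimpleGroup G]

instance fact11 : Fact (Nat.Prime 11) := ⟨by norm_num⟩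
instance fact5 : Fact (Nat.Prime 5) := ⟨by norm_num⟩

/-- a proper subgroup of index at most twelve -/
def Good (G : Type*) [Group G] : Prop := ∃ H : Subgroup G, H ≠ ⊤ ∧ H.index ≤ 12

theorem hna (hG : Nat.card G = 95040) : ∃ a b : G, a * b ≠ b * a :=
  noncomm_of_not_prime (by rw [hG]; norm_num)

theorem good_of_66 (hG : Nat.card G = 95040) {P : Subgroup G} (hP : Nat.card P = 11)
    (hi : ¬ 11 ∣ P.index) (hC : Nat.card (Subgroup.centralizer (P : Set G)) = 66)
    (hN : Nat.card (Subgroup.normalizer (P : Set G)) = 660) : Good G := by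
  set C := Subgroup.centralizer (P : Set G)
  obtain ⟨R⟩ : Nonempty (Sylow 3 C) := inferInstance
  have h1 : Nat.card R = 3 := H36.card_sylow_eq_pow R (k := 1) (by omega) (by omega)
  have h2 : (P.subgroupOf C).index = 6 := by
    have := (P.subgroupOf C).card_mul_index
    rw [Nat.card_congr (Subgroup.subgroupOfEquivOfLe (H84.le_Cen_of_card hP)).toEquiv, hP, hC] at this
    omega
  have h3 : Nat.card (Sylow 3 C) = 1 := by
    have k1 := card_sylow_modEq_one 3 C
    have k2 : Nat.card (Sylow 3 C) ∣ 6 := by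
      rw [R.card_eq_index_normalizer, ← h2]
      exact Subgroup.index_dvd_of_le fun a ha => Subgroup.centralizer_le_normalizer _ fun b _ =>
        Subtype.ext (b.2 a ha).symm
    have := Nat.le_of_dvd (by norm_num) k2
    unfold Nat.ModEq at k1
    generalize Nat.card (Sylow 3 C) = n at *
    interval_cases n <;> omega
  haveI := (Nat.card_eq_one_iff_unique.mp h3).1
  set R' := (R : Subgroup C).map C.subtype
  have h4 : Nat.card R' = 3 := by rw [Subgroup.card_map_of_injective C.subtype_injective, h1]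
  have h5 : Subgroup.normalizer (P : Set G) ≤ Subgroup.normalizer (R' : Set G) := fun n hn => by
    refine Subgroup.mem_normalizer_fintype ?_
    rintro _ ⟨v, hv, rfl⟩
    have k1 : n * v * n⁻¹ ∈ C := fun a ha => by
      have := v.2 _ ((Subgroup.mem_normalizer_iff''.mp hn a).mp ha)
      calc _ = n * (n⁻¹ * a * n * v) * n⁻¹ := by group
        _ = _ := by rw [this]; group
    have k2 : orderOf (⟨_, k1⟩ : C) ∣ 3 := by
      rw [← Subgroup.orderOf_coe, H35.orderOf_conj, Subgroup.orderOf_coe, ← h1]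
      exact Subgroup.orderOf_dvd_natCard _ hv
    obtain ⟨S, hS⟩ := (IsPGroup.of_card_dvd_pow (p := 3) (n := 1)
      (G := Subgroup.zpowers (⟨_, k1⟩ : C)) (by rwa [Nat.card_zpowers])).exists_le_sylow
    exact ⟨_, Subsingleton.elim S R ▸ hS (Subgroup.mem_zpowers _), rfl⟩
  obtain ⟨r, h6, h7⟩ := card_over_normalizer hP hi h5
  have h8 := Sylow.prime_pow_dvd_card_normalizer (p := 3) (n := 1) (by rw [hG]; norm_num) h4
  have h9 : Subgroup.normalizer (R' : Set G) ≠ ⊤ := fun e => by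
    rcases IsSimpleGroup.eq_bot_or_eq_top_of_normal R' (Subgroup.normalizer_eq_top_iff.mp e) with
      k | k
    · rw [k, Subgroup.card_bot] at h4; omega
    · rw [k, Subgroup.card_top] at h4; omega
  refine ⟨_, h9, ?_⟩
  have k1 := (Subgroup.normalizer (R' : Set G)).card_mul_index
  have k2 := Subgroup.one_lt_index_of_ne_top h9
  rw [h6, hN] at h8 k1
  rw [hG] at k1
  generalize (Subgroup.normalizer (R' : Set G)).index = i at *
  have k3 : r * i = 144 := by nlinarith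
  have k4 : 12 ≤ r := by omega
  nlinarith

def C11 (n e c : ℕ) (l : List ℤ) : Bool :=
  (e == 10 && c == 6) || (n == 12) || (e == 5 && c == 1 && cntDeg 11 5 l 24 == 0 &&
    (cntDeg 11 5 l 5 != 0 || cntDeg 11 5 l 10 != 0 ||
      (cntDeg 11 5 l 144 == 0 && cntDeg 11 5 l 16 == 0) ||
      (cntDeg 11 5 l 27 == 2 && cntDeg 11 5 l 32 == 2 && cntDeg 11 5 l 54 == 1) ||
      (cntDeg 11 5 l 16 == 2 && cntDeg 11 5 l 45 == 1 && cntDeg 11 5 l 54 == 1 &&
        cntDeg 11 5 l 120 == 1 && cntDeg 11 5 l 144 == 1)))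

theorem c11 : chkOne 95040 11 C11 = true := by decide +kernel

/-- the structure at the prime eleven -/
structure E11 (G : Type*) [Group G] [Finite G] where
  y : G
  hy : orderOf y = 11
  cen : Subgroup.centralizer ((Subgroup.zpowers y : Subgroup G) : Set G) = Subgroup.zpowers y
  nreal : ¬ IsConj y y⁻¹
  B : PB G 11 (Subgroup.zpowers y) 5
  no11 : ∀ χ : IrrCharacter G, dg χ = 11 → ¬ ∀ g, ∃ z : ℤ, (χ : G → ℂ) g = z
  c24 : cnt (G := G) Finset.univ 24 = 0
  opt : 0 < cnt (G := G) Finset.univ 5 ∨ 0 < cnt (G := G) Finset.univ 10 ∨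
    (cnt (G := G) Finset.univ 144 = 0 ∧ cnt (G := G) Finset.univ 16 = 0) ∨
    (cnt (G := G) Finset.univ 27 = 2 ∧ cnt (G := G) Finset.univ 32 = 2 ∧
      cnt (G := G) Finset.univ 54 = 1) ∨
    (cnt (G := G) Finset.univ 16 = 2 ∧ cnt (G := G) Finset.univ 45 = 1 ∧
      cnt (G := G) Finset.univ 54 = 1 ∧ cnt (G := G) Finset.univ 120 = 1 ∧
      cnt (G := G) Finset.univ 144 = 1)

theorem nonempty_E11 (hG : Nat.card G = 95040) (hb : ¬ Good G) : Nonempty (E11 G) := by
  classical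
  obtain ⟨y, hy⟩ := exists_prime_orderOf_dvd_card' (G := G) 11 (by rw [hG]; norm_num)
  have hP : Nat.card (Subgroup.zpowers y) = 11 := by rw [Nat.card_zpowers, hy]
  obtain ⟨e, k, n, hC, hN, hn, hm, h1, h2, h3, h4, ⟨B⟩⟩ :=
    setup (hna hG) 11 (m := 8640) hG (by norm_num) _ hP
  obtain ⟨c, l, k1, k2, k3⟩ := sieve_PB (hna hG) (by norm_num) B (C := C11) (by rw [hG]; exact c11)
  obtain rfl : k = c := by omega
  simp only [C11, Bool.or_eq_true, Bool.and_eq_true, beq_iff_eq, bne_iff_ne, hn] at k1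
  rcases k1 with (⟨rfl, rfl⟩ | rfl) | ⟨⟨⟨rfl, rfl⟩, a1⟩, a2⟩
  · exact (hb (good_of_66 hG hP B.ind hC hN)).elim
  · exact (hb ⟨_, by rw [Ne, ← Subgroup.index_eq_one]; omega, hn.le⟩).elim
  have hC' := selfcent_of_card hP hC
  have k4 : ∀ d, ¬ 11 ∣ d → d ≠ 1 → cnt (G := G) Finset.univ d = cntDeg 11 5 l d := fun d a b => by
    rw [← k3 d b]
    exact cnt_congr fun χ h => ⟨fun _ => Finset.mem_union.mpr (B.mem_of_not_dvd hC' (h ▸ a)),
      fun _ => Finset.mem_univ _⟩
  have y11 : y ^ 11 = 1 := hy ▸ pow_orderOf_eq_one y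
  have nor : ∀ {g : G}, g * y * g⁻¹ ∈ Subgroup.zpowers y →
      g ∈ Subgroup.normalizer ((Subgroup.zpowers y : Subgroup G) : Set G) := fun {g} hg => by
    refine Subgroup.mem_normalizer_fintype ?_
    rintro _ ⟨k, rfl⟩
    rw [← conj_zpow]
    exact Subgroup.zpow_mem _ hg k
  have itr : ∀ {g : G} {a : ℕ}, g * y * g⁻¹ = y ^ a → ∀ k : ℕ, g ^ k * y * (g ^ k)⁻¹ = y ^ a ^ k :=
    fun {g a} h k => by
      induction k with
      | zero => simp
      | succ k ih =>
        calc _ = g * (g ^ k * y * (g ^ k)⁻¹) * g⁻¹ := by rw [pow_succ']; group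
          _ = _ := by rw [ih, ← conj_pow, h, ← pow_mul, pow_succ']
  have pw : ∀ a b : ℕ, y ^ a = y ^ b ↔ a % 11 = b % 11 := fun a b => by
    rw [pow_eq_pow_iff_modEq, hy]; rfl
  obtain ⟨s, hs, hsy⟩ : ∃ s : G, s ^ 5 = 1 ∧ s * y * s⁻¹ = y ^ 4 := by
    obtain ⟨⟨s, s1⟩, s2⟩ := exists_prime_orderOf_dvd_card' (G := Subgroup.normalizer
      ((Subgroup.zpowers y : Subgroup G) : Set G)) 5 (by rw [hN]; norm_num)
    rw [Subgroup.orderOf_mk] at s2
    have s5 : s ^ 5 = 1 := s2 ▸ pow_orderOf_eq_one s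
    obtain ⟨a, ha⟩ := (mem_powers_iff_mem_zpowers.mpr
      ((Subgroup.mem_normalizer_iff.mp s1 y).mp (Subgroup.mem_zpowers y)))
    simp only at ha
    rw [← pow_mod_orderOf, hy] at ha
    have s3 : a % 11 ≠ 1 := fun e => by
      rw [e, pow_one] at ha
      have : s ∈ Subgroup.zpowers y := by
        rw [← hC', Subgroup.zpowers_eq_closure, Subgroup.centralizer_closure,
          Subgroup.mem_centralizer_singleton_iff]
        exact mul_inv_eq_iff_eq_mul.mp ha.symm
      have := Subgroup.orderOf_dvd_natCard _ this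
      rw [s2, hP] at this
      omega
    have s4 := itr ha.symm 5
    rw [s5, one_mul, inv_one, mul_one, eq_comm, ← pow_one y, ← pow_mul, pw] at s4
    obtain ⟨j, hj⟩ : ∃ j, (a % 11) ^ j % 11 = 4 % 11 := by
      have := Nat.mod_lt a (show 0 < 11 by norm_num)
      generalize a % 11 = b at *
      have : ∀ b < 11, b ≠ 1 → 1 * b ^ 5 % 11 = 1 % 11 → ∃ j < 5, b ^ j % 11 = 4 % 11 := by decide
      obtain ⟨j, -, hj⟩ := this b ‹_› s3 s4
      exact ⟨j, hj⟩
    exact ⟨s ^ j, by rw [← pow_mul, mul_comm, pow_mul, s5, one_pow],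
      (itr ha.symm j).trans ((pw _ _).mpr hj)⟩
  refine ⟨⟨y, hy, hC', fun h => ?_, B, fun χ h1 h2 => hb
    (exists_index_of_char h1 h2 (by rw [hG]; norm_num) hy hs hsy), ?_, ?_⟩⟩
  · obtain ⟨g, hg⟩ := isConj_iff.mp h
    have g1 : g * y * g⁻¹ = y ^ 10 := by
      rw [hg, inv_eq_iff_mul_eq_one, ← pow_succ', y11]
    have g2 : g ^ 55 = 1 := by
      rw [← show _ = 55 from hN]
      exact congrArg Subtype.val (pow_card_eq_one' (x := (⟨g, nor (g1 ▸ Subgroup.pow_mem _
        (Subgroup.mem_zpowers y) _)⟩ : Subgroup.normalizer _)))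
    have g3 := itr g1 55
    rw [g2, one_mul, inv_one, mul_one, eq_comm, ← pow_one y, ← pow_mul, pw] at g3
    norm_num at g3
  · rw [k4 _ (by norm_num) (by norm_num), a1]
  · simp only [k4 5 (by norm_num) (by norm_num), k4 10 (by norm_num) (by norm_num),
      k4 16 (by norm_num) (by norm_num), k4 27 (by norm_num) (by norm_num),
      k4 32 (by norm_num) (by norm_num), k4 45 (by norm_num) (by norm_num),
      k4 54 (by norm_num) (by norm_num), k4 120 (by norm_num) (by norm_num),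
      k4 144 (by norm_num) (by norm_num)]
    omega

def C5 (_ e c : ℕ) (l : List ℤ) : Bool :=
  cntDeg 5 e l 11 == 1 || (e == 4 && (c == 2 || c == 12) && (cntDeg 5 e l 24 != 0 ||
    (cntDeg 5 e l 66 == 1 && cntDeg 5 e l 99 == 1 && (cntDeg 5 e l 16 == 2 ||
      (cntDeg 5 e l 144 == 1 && cntDeg 5 e l 176 == 1)))))

theorem c5 : chkOne 95040 5 C5 = true := by decide +kernel

/-- the structure at the prime five -/
structure E5 (G : Type*) [Group G] [Finite G] where
  x : G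
  n : G
  c : ℕ
  ε : ℤ
  v : IrrCharacter G → ℤ
  Z : Finset (IrrCharacter G)
  x66 : IrrCharacter G
  x99 : IrrCharacter G
  a : IrrCharacter G
  b : IrrCharacter G
  hx : orderOf x = 5
  hc : c = 2 ∨ c = 12
  cen : Nat.card (Subgroup.centralizer ({x} : Set G)) = 5 * c
  nor : Nat.card (Subgroup.normalizer ((Subgroup.zpowers x : Subgroup G) : Set G)) = 20 * c
  hn : n * x * n⁻¹ = x ^ 2
  hv : ∀ χ : IrrCharacter G, (χ : G → ℂ) x = v χ
  d66 : dg x66 = 66
  d99 : dg x99 = 99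
  dab : (ε = 1 ∧ dg a = 16 ∧ dg b = 16) ∨ (ε = -1 ∧ dg a = 144 ∧ dg b = 176)
  mem : ∀ χ, χ ∈ Z ↔ χ = triv G ∨ χ = x66 ∨ χ = x99 ∨ χ = a ∨ χ = b
  hab : a ≠ b
  val : ∀ g, 5 ∣ orderOf g → (x66 : G → ℂ) g = 1 ∧ (x99 : G → ℂ) g = -1 ∧
    (a : G → ℂ) g = ε ∧ (b : G → ℂ) g = 1
  rel : ∀ g, ¬ 5 ∣ orderOf g →
    1 + (x66 : G → ℂ) g - (x99 : G → ℂ) g + ε * (a : G → ℂ) g + (b : G → ℂ) g = 0

theorem sum_five {A : Type*} [AddCommMonoid A] {Z : Finset (IrrCharacter G)}
    {p q a b : IrrCharacter G} (mem : ∀ χ, χ ∈ Z ↔ χ = triv G ∨ χ = p ∨ χ = q ∨ χ = a ∨ χ = b)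
    (hp : dg p = 66) (hq : dg q = 99) (ha : dg a = 16 ∨ dg a = 144) (hb : dg b = 16 ∨ dg b = 176)
    (hab : a ≠ b) (f : IrrCharacter G → A) :
    ∑ χ ∈ Z, f χ = f (triv G) + f p + f q + f a + f b := by
  classical
  have h1 := dg_triv (G := G)
  have ne : ∀ {χ ψ : IrrCharacter G}, dg χ ≠ dg ψ → χ ≠ ψ := fun h e => h (e ▸ rfl)
  rw [show Z = {triv G, p, q, a, b} by ext; simp [mem], Finset.sum_insert, Finset.sum_insert,
    Finset.sum_insert, Finset.sum_pair hab]
  · simp only [add_assoc]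
  all_goals simp only [Finset.mem_insert, Finset.mem_singleton, not_or]
  · exact ⟨ne (by omega), ne (by omega)⟩
  · exact ⟨ne (by omega), ne (by omega), ne (by omega)⟩
  · exact ⟨ne (by omega), ne (by omega), ne (by omega), ne (by omega)⟩

theorem nonempty_E5 (hG : Nat.card G = 95040) (E : E11 G) : Nonempty (E5 G) := by
  classical
  obtain ⟨x, hx⟩ := exists_prime_orderOf_dvd_card' (G := G) 5 (by rw [hG]; norm_num)
  have hP : Nat.card (Subgroup.zpowers x) = 5 := by rw [Nat.card_zpowers, hx]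
  obtain ⟨e, k, n, hC, hN, hn, hm, h1, h2, h3, h4, ⟨B⟩⟩ :=
    setup (hna hG) 5 (m := 19008) hG (by norm_num) _ hP
  obtain ⟨c, l, k1, k2, k3⟩ := sieve_PB (hna hG) (by norm_num) B (C := C5) (by rw [hG]; exact c5)
  obtain rfl : k = c := by omega
  simp only [C5, Bool.or_eq_true, Bool.and_eq_true, beq_iff_eq, bne_iff_ne,
    ← k3 11 (by norm_num), ← k3 24 (by norm_num), ← k3 66 (by norm_num), ← k3 99 (by norm_num),
    ← k3 16 (by norm_num), ← k3 144 (by norm_num), ← k3 176 (by norm_num)] at k1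
  rcases k1 with k1 | ⟨⟨rfl, hk⟩, k1 | ⟨⟨a1, a2⟩, a3⟩⟩
  · obtain ⟨χ, c1, c2, c3⟩ := cnt_eq_one k1
    exact (E.no11 χ c2 (B.int_of_unique (Finset.mem_union.mp c1) fun ψ h1 h2 =>
      c3 ψ (Finset.mem_union.mpr h1) (h2.trans c2))).elim
  · have := cnt_mono (Finset.subset_univ (B.X ∪ B.Y)) 24
    have := E.c24
    omega
  obtain ⟨Z, s, z1, z2, z3, z4, z5, z6⟩ := B.full rfl
  obtain rfl : Z = B.X ∪ B.Y := by ext; simp [z3]
  obtain ⟨p, p1, p2, -⟩ := cnt_eq_one a1
  obtain ⟨q, q1, q2, -⟩ := cnt_eq_one a2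
  obtain ⟨a, b, ε, b1, b2, hab, b3⟩ : ∃ a b, ∃ ε : ℤ, a ∈ B.X ∪ B.Y ∧ b ∈ B.X ∪ B.Y ∧ a ≠ b ∧
      ((ε = 1 ∧ dg a = 16 ∧ dg b = 16) ∨ (ε = -1 ∧ dg a = 144 ∧ dg b = 176)) := by
    rcases a3 with a3 | ⟨a3, a4⟩
    · obtain ⟨a, b, hab, h⟩ := Finset.card_eq_two.mp a3
      have ha := Finset.mem_filter.mp (h.ge (Finset.mem_insert_self _ _))
      have hb := Finset.mem_filter.mp (h.ge (Finset.mem_insert_of_mem (Finset.mem_singleton_self _)))
      exact ⟨a, b, 1, ha.1, hb.1, hab, Or.inl ⟨rfl, ha.2, hb.2⟩⟩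
    · obtain ⟨a, c1, c2, -⟩ := cnt_eq_one a3
      obtain ⟨b, d1, d2, -⟩ := cnt_eq_one a4
      exact ⟨a, b, -1, c1, d1, by rintro rfl; omega, Or.inr ⟨rfl, c2, d2⟩⟩
  have hZ : {triv G, p, q, a, b} = B.X ∪ B.Y := by
    refine Finset.eq_of_subset_of_card_le (by
      simp only [Finset.insert_subset_iff, Finset.singleton_subset_iff]
      exact ⟨z2, p1, q1, b1, b2⟩) ?_
    rw [z1, Finset.card_eq_sum_ones, sum_five (by simp) p2 q2 (by omega) (by omega) hab]
  have mem : ∀ χ, χ ∈ B.X ∪ B.Y ↔ χ = triv G ∨ χ = p ∨ χ = q ∨ χ = a ∨ χ = b := fun χ => by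
    rw [← hZ]; simp
  have s1 : s (triv G) = 1 := by have := z4 _ z2; have := dg_triv (G := G); omega
  have s2 : s p = 1 := by have := z4 _ p1; omega
  have s3 : s q = -1 := by have := z4 _ q1; omega
  have s4 : s a = ε := by have := z4 _ b1; omega
  have s5 : s b = 1 := by have := z4 _ b2; omega
  have x2 : x ^ 2 ≠ 1 := fun e => by have := hx ▸ orderOf_dvd_of_pow_eq_one e; omega
  obtain ⟨m, -, hm⟩ := exists_conj_of_relIndex (by norm_num) hx B.he
    (Subgroup.pow_mem _ (Subgroup.mem_zpowers x) 2) x2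
  choose v hv using int_of_conj_pow hm (by
    rw [hx]
    have : ∀ m < 5, m.Coprime 5 → ∃ k < 4, 2 ^ k % 5 = m := by decide
    exact fun m h1 h2 => (this m h1 h2).imp fun _ h => h.2)
  refine ⟨⟨x, m, k, ε, v, _, p, q, a, b, hx, hk, ?_, by omega, hm, hv, p2, q2, b3, mem, hab,
    fun g hg => ?_, fun g hg => ?_⟩⟩
  · rw [← hC, Subgroup.zpowers_eq_closure, Subgroup.centralizer_closure]
  · rw [z5 _ p1 g hg, z5 _ q1 g hg, z5 _ b1 g hg, z5 _ b2 g hg, s2, s3, s4, s5]
    simp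
  · have := z6 g hg
    rw [sum_five mem p2 q2 (by omega) (by omega) hab, s1, s2, s3, s4, s5, triv_apply] at this
    push_cast at this
    linear_combination this

namespace E5
variable (F : E5 G)

theorem sumZ {A : Type*} [AddCommMonoid A] (f : IrrCharacter G → A) :
    ∑ χ ∈ F.Z, f χ = f (triv G) + f F.x66 + f F.x99 + f F.a + f F.b :=
  sum_five F.mem F.d66 F.d99 (by have := F.dab; omega) (by have := F.dab; omega) F.hab f

theorem ε_sq : F.ε ^ 2 = 1 := by rcases F.dab with h | h <;> simp [h.1]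

/-- integer columns at 5-singular elements on the principal block -/
theorem valZ {g : G} (hg : 5 ∣ orderOf g) {u : IrrCharacter G → ℤ}
    (hu : ∀ χ : IrrCharacter G, (χ : G → ℂ) g = u χ) :
    u (triv G) = 1 ∧ u F.x66 = 1 ∧ u F.x99 = -1 ∧ u F.a = F.ε ∧ u F.b = 1 := by
  obtain ⟨h1, h2, h3, h4⟩ := F.val g hg
  have h0 := triv_apply g
  rw [hu] at h0 h1 h2 h3 h4
  exact ⟨by exact_mod_cast h0, by exact_mod_cast h1, by exact_mod_cast h2, by exact_mod_cast h3,
    by exact_mod_cast h4⟩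

theorem not_mem {χ : IrrCharacter G} (h1 : dg χ ≠ 1) (h2 : dg χ ≠ 66) (h3 : dg χ ≠ 99)
    (h4 : dg χ ≠ dg F.a) (h5 : dg χ ≠ dg F.b) : χ ∉ F.Z := by
  rw [F.mem]
  rintro (rfl | rfl | rfl | rfl | rfl)
  exacts [h1 dg_triv, h2 F.d66, h3 F.d99, h4 rfl, h5 rfl]

theorem sum_compl [DecidableEq (IrrCharacter G)] : ∑ χ ∈ F.Zᶜ, F.v χ ^ 2 = 5 * F.c - 5 := by
  have h1 := col_sq F.hv
  obtain ⟨a1, a2, a3, a4, a5⟩ := F.valZ (by rw [F.hx]) F.hv
  rw [← Finset.sum_add_sum_compl F.Z, F.sumZ, a1, a2, a3, a4, a5, F.ε_sq, F.cen] at h1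
  push_cast at h1
  omega

theorem sum_le {S : Finset (IrrCharacter G)} (h : ∀ χ ∈ S, χ ∉ F.Z) :
    ∑ χ ∈ S, F.v χ ^ 2 ≤ 5 * F.c - 5 := by
  classical
  rw [← F.sum_compl]
  exact Finset.sum_le_sum_of_subset_of_nonneg (fun χ k => Finset.mem_compl.mpr (h χ k))
    fun _ _ _ => sq_nonneg _

theorem v_mod (χ : IrrCharacter G) : F.v χ % 5 = dg χ % 5 :=
  (modEq_of_val (irr_chr χ) (p := 5) (k := 1) (by norm_num)
    (by rw [pow_one, ← F.hx, pow_orderOf_eq_one]) (F.hv χ)).symm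

theorem exists_comm {q : ℕ} [Fact q.Prime] (h : q ∣ F.c) : ∃ t, orderOf t = q ∧ Commute t F.x := by
  obtain ⟨t, ht⟩ := exists_prime_orderOf_dvd_card' (G := Subgroup.centralizer ({F.x} : Set G)) q
    (by rw [F.cen]; exact h.mul_left 5)
  exact ⟨t, by rw [Subgroup.orderOf_coe, ht], Subgroup.mem_centralizer_singleton_iff.mp t.2⟩

theorem v_three (hG : Nat.card G = 95040) (hc : F.c = 12) {χ : IrrCharacter G} (h : 27 ∣ dg χ) :
    F.v χ % 3 = 0 := by
  obtain ⟨u, h1, h2⟩ := F.exists_comm (q := 3) (by rw [hc]; norm_num)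
  have h3 : orderOf (F.x ^ 2) = 5 := by
    rw [orderOf_pow' _ (by norm_num), F.hx]; rfl
  have h4 : orderOf (u * F.x ^ 2) = 15 := by
    rw [(h2.pow_right 2).orderOf_mul_eq_mul_orderOf_of_coprime (by rw [h1, h3]; norm_num), h1, h3]
  have h5 : (u * F.x ^ 2) ^ 3 ^ 1 = F.x := by
    rw [pow_one, (h2.pow_right 2).mul_pow, ← h1, pow_orderOf_eq_one, h1, one_mul, ← pow_mul,
      show 2 * 3 = 5 + 1 from rfl, pow_succ, ← F.hx, pow_orderOf_eq_one, one_mul]
  exact modEq_pow (irr_chr χ) Nat.prime_three (z := 0) (by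
    rw [van_of_pow_dvd (p := 3) (k := 3) (by norm_num) (by rw [hG]; norm_num) h (by omega)]; simp)
    (h5.symm ▸ F.hv χ)

end E5

/-- the principal block for eleven with degrees `1, 45, 54, 120, 144; 16, 16` -/
structure T11 (G : Type*) [Group G] [Finite G] where
  y : G
  θ : IrrCharacter G
  θ' : IrrCharacter G
  x45 : IrrCharacter G
  x54 : IrrCharacter G
  x120 : IrrCharacter G
  x144 : IrrCharacter G
  hy : orderOf y = 11
  cen : Nat.card (Subgroup.centralizer ({y} : Set G)) = 11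
  nreal : ¬ IsConj y y⁻¹
  no11 : ∀ χ : IrrCharacter G, dg χ = 11 → ¬ ∀ g, ∃ z : ℤ, (χ : G → ℂ) g = z
  ord : ∀ g : G, 11 ∣ orderOf g → orderOf g = 11
  dθ : dg θ = 16
  dθ' : dg θ' = 16
  hθ : θ ≠ θ'
  d45 : dg x45 = 45
  d54 : dg x54 = 54
  d120 : dg x120 = 120
  d144 : dg x144 = 144
  all : ∀ χ, ¬ 11 ∣ dg χ →
    χ = triv G ∨ χ = θ ∨ χ = θ' ∨ χ = x45 ∨ χ = x54 ∨ χ = x120 ∨ χ = x144
  reg : ∀ g, ¬ 11 ∣ orderOf g → (θ' : G → ℂ) g = (θ : G → ℂ) g
  rel : ∀ g, ¬ 11 ∣ orderOf g → (θ : G → ℂ) g =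
    1 + (x45 : G → ℂ) g - (x54 : G → ℂ) g - (x120 : G → ℂ) g + (x144 : G → ℂ) g
  val : ∀ g, 11 ∣ orderOf g → (x54 : G → ℂ) g = -1
  pair : ∀ s s', orderOf s = 2 → orderOf s' = 2 →
    1 + (x45 : G → ℂ) s * (x45 : G → ℂ) s' / 45 - (x54 : G → ℂ) s * (x54 : G → ℂ) s' / 54 -
      (x120 : G → ℂ) s * (x120 : G → ℂ) s' / 120 + (x144 : G → ℂ) s * (x144 : G → ℂ) s' / 144 -
      (θ : G → ℂ) s * (θ : G → ℂ) s' / 16 = 0
  nrθ : ¬ H87.IsReal (θ : G → ℂ)
  nrθ' : ¬ H87.IsReal (θ' : G → ℂ)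

theorem nonempty_T11 (hG : Nat.card G = 95040) (E : E11 G)
    (h : cnt (G := G) Finset.univ 16 = 2 ∧ cnt (G := G) Finset.univ 45 = 1 ∧
      cnt (G := G) Finset.univ 54 = 1 ∧ cnt (G := G) Finset.univ 120 = 1 ∧
      cnt (G := G) Finset.univ 144 = 1) : Nonempty (T11 G) := by
  classical
  obtain ⟨h1, h2, h3, h4, h5⟩ := h
  obtain ⟨θ, θ', hθ, k⟩ := Finset.card_eq_two.mp h1
  have dθ := (Finset.mem_filter.mp (k.ge (Finset.mem_insert_self _ _))).2
  have dθ' := (Finset.mem_filter.mp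
    (k.ge (Finset.mem_insert_of_mem (Finset.mem_singleton_self _)))).2
  obtain ⟨a, -, da, -⟩ := cnt_eq_one h2
  obtain ⟨b, -, db, -⟩ := cnt_eq_one h3
  obtain ⟨c, -, dc, -⟩ := cnt_eq_one h4
  obtain ⟨d, -, dd, -⟩ := cnt_eq_one h5
  set B := E.B
  have d1 := dg_triv (G := G)
  have ne : ∀ {χ ψ : IrrCharacter G}, dg χ ≠ dg ψ → χ ≠ ψ := fun h e => h (e ▸ rfl)
  have mX : ∀ χ, dg χ % 11 = 1 ∨ dg χ % 11 = 10 → χ ∈ B.X := fun χ h =>
    (B.mem_of_not_dvd E.cen (by omega)).resolve_right fun k => by have := B.modY k; omega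
  have mY : ∀ χ, dg χ = 16 → χ ∈ B.Y := fun χ h =>
    (B.mem_of_not_dvd E.cen (by omega)).resolve_left fun k => by have := B.modX k; omega
  have sX : ∀ {A : Type} [AddCommMonoid A] (f : IrrCharacter G → A),
      ∑ χ ∈ ({triv G, a, b, c, d} : Finset _), f χ = f (triv G) + f a + f b + f c + f d := by
    intro A _ f
    rw [Finset.sum_insert, Finset.sum_insert, Finset.sum_insert, Finset.sum_pair (ne (by omega))]
    · simp only [add_assoc]
    all_goals simp only [Finset.mem_insert, Finset.mem_singleton, not_or]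
    · exact ⟨ne (by omega), ne (by omega)⟩
    · exact ⟨ne (by omega), ne (by omega), ne (by omega)⟩
    · exact ⟨ne (by omega), ne (by omega), ne (by omega), ne (by omega)⟩
  have hX : {triv G, a, b, c, d} = B.X := by
    refine Finset.eq_of_subset_of_card_le (by
      simp only [Finset.insert_subset_iff, Finset.singleton_subset_iff]
      exact ⟨mX _ (by omega), mX _ (by omega), mX _ (by omega), mX _ (by omega), mX _ (by omega)⟩) ?_
    rw [B.cardX, Finset.card_eq_sum_ones, sX]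
  have hY : {θ, θ'} = B.Y := by
    refine Finset.eq_of_subset_of_card_le (by
      simp only [Finset.insert_subset_iff, Finset.singleton_subset_iff]
      exact ⟨mY _ dθ, mY _ dθ'⟩) ?_
    rw [B.cardY, Finset.card_pair hθ]
  have e0 : B.δ = 1 := by have := B.modY (mY _ dθ); omega
  have e1 : B.ε (triv G) = 1 := by have := B.modX (mX (triv G) (by omega)); omega
  have e2 : B.ε a = 1 := by have := B.modX (mX a (by omega)); omega
  have e3 : B.ε b = -1 := by have := B.modX (mX b (by omega)); omega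
  have e4 : B.ε c = -1 := by have := B.modX (mX c (by omega)); omega
  have e5 : B.ε d = 1 := by have := B.modX (mX d (by omega)); omega
  have y1 : 11 ∣ orderOf E.y := by rw [E.hy]
  have sY := B.sumY _ y1
  rw [← hY, Finset.sum_pair hθ, e0] at sY
  have van := fun χ h1 h2 => B.van E.cen χ h1 h2 _ y1
  have nr : ¬ (((θ : G → ℂ) E.y).im = 0 ∧ ((θ' : G → ℂ) E.y).im = 0) := fun h => E.nreal <|
    (H6.isConj_iff_irr _ _).mpr fun χ => by
      rw [H6.char_inv (irr_chr χ), eq_comm, Complex.conj_eq_iff_im]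
      by_cases k1 : χ ∈ B.X
      · rw [B.valX χ k1 _ y1]; simp
      by_cases k2 : χ ∈ B.Y
      · rw [← hY, Finset.mem_insert, Finset.mem_singleton] at k2
        rcases k2 with rfl | rfl
        exacts [h.1, h.2]
      · rw [van χ k1 k2]; simp
  have sY' := congrArg Complex.im sY
  simp only [Complex.add_im, Complex.neg_im, Complex.intCast_im, neg_zero] at sY'
  refine ⟨⟨E.y, θ, θ', a, b, c, d, E.hy, ?_, E.nreal, E.no11,
    fun g => orderOf_eq_of_selfcent B.card B.ind E.cen, dθ, dθ', hθ, da, db, dc, dd,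
    fun χ h => ?_, B.regY _ (mY _ dθ') _ (mY _ dθ), fun g hg => ?_, fun g hg => ?_,
    fun s s' hs hs' => ?_, fun h => nr ⟨h _, by rw [h] at sY'; simpa using sY'⟩,
    fun h => nr ⟨by rw [h] at sY'; simpa using sY', h _⟩⟩⟩
  · have := B.card
    rwa [← E.cen, Subgroup.zpowers_eq_closure, Subgroup.centralizer_closure] at this
  · have := B.mem_of_not_dvd E.cen h
    simp only [← hX, ← hY, Finset.mem_insert, Finset.mem_singleton] at this
    tauto
  · have := B.rel _ (mY _ dθ) g hg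
    rw [← hX, sX, e0, e1, e2, e3, e4, e5, triv_apply] at this
    push_cast at this
    linear_combination this
  · rw [B.valX _ (mX b (by omega)) g hg, e3]; simp
  · have := pair_sum_zero (s := s) (s' := s') (by rw [← sq, ← hs, pow_orderOf_eq_one])
      (by rw [← sq, ← hs', pow_orderOf_eq_one]) E.nreal
    rw [← Finset.sum_subset (Finset.subset_univ (B.X ∪ B.Y)) (fun χ _ h => by
        rw [Finset.mem_union, not_or] at h
        rw [van χ h.1 h.2]; simp), Finset.sum_union B.disj, ← hY, Finset.sum_pair hθ,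
      Finset.sum_congr rfl fun χ h => by rw [B.valX χ h _ y1], ← hX, sX, e1, e2, e3, e4, e5] at this
    simp only [dg_cast, da, db, dc, dd, dθ, dθ', triv_apply, map_intCast,
      B.regY _ (mY _ dθ') _ (mY _ dθ) s (by omega), B.regY _ (mY _ dθ') _ (mY _ dθ) s' (by omega)]
      at this
    have k := congrArg conj sY
    simp only [map_add, map_neg, map_intCast] at k
    push_cast at this k
    linear_combination this - (θ : G → ℂ) s * (θ : G → ℂ) s' / 16 * k

theorem exists_T11 (hG : Nat.card G = 95040) (E : E11 G) (F : E5 G) :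
    Nonempty (T11 G) ∧ F.c = 2 := by
  classical
  have ne : ∀ {χ ψ : IrrCharacter G}, dg χ ≠ dg ψ → χ ≠ ψ := fun h e => h (e ▸ rfl)
  have dab := F.dab
  have hc := F.hc
  have small : ∀ χ : IrrCharacter G, dg χ ≠ 5 ∧ dg χ ≠ 10 := fun χ => by
    by_contra h
    obtain ⟨t, h1, h2⟩ := F.exists_comm (q := 2) (by omega)
    obtain ⟨z, k1, k2, k3, k4⟩ := invol_val (hna hG) (χ := χ) (by omega) h1
    have h4 : orderOf (t * F.x) = 10 := by
      rw [h2.orderOf_mul_eq_mul_orderOf_of_coprime (by rw [h1, F.hx]; norm_num), h1, F.hx]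
    have h5 : (t * F.x) ^ 5 ^ 1 = t := by
      rw [pow_one, h2.mul_pow, ← F.hx, pow_orderOf_eq_one, F.hx, mul_one,
        show 5 = 2 * 2 + 1 from rfl, pow_succ, pow_mul, ← h1, pow_orderOf_eq_one, one_pow, one_mul]
    have := modEq_pow (irr_chr χ) (p := 5) (by norm_num) (z := 0) (by
      rw [van_of_dvd (p := 5) (by norm_num) (by rw [hG]; norm_num) (by omega) (by omega)]; simp)
      (h5.symm ▸ k1)
    unfold Int.ModEq at this
    omega
  rcases E.opt with h | h | h | h | h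
  · obtain ⟨χ, -, k⟩ := cnt_pos.mp h
    exact ((small χ).1 k).elim
  · obtain ⟨χ, -, k⟩ := cnt_pos.mp h
    exact ((small χ).2 k).elim
  · have := cnt_eq_zero.mp h.1 F.a (Finset.mem_univ _)
    have := cnt_eq_zero.mp h.2 F.a (Finset.mem_univ _)
    omega
  · exfalso
    obtain ⟨θ, θ', hθ, k⟩ := Finset.card_eq_two.mp h.1
    have dθ := (Finset.mem_filter.mp (k.ge (Finset.mem_insert_self _ _))).2
    have dθ' := (Finset.mem_filter.mp
      (k.ge (Finset.mem_insert_of_mem (Finset.mem_singleton_self _)))).2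
    obtain ⟨a, -, da⟩ := cnt_pos.mp (show 0 < cnt (G := G) Finset.univ 32 by omega)
    obtain ⟨b, -, db, -⟩ := cnt_eq_one h.2.2
    have k1 := F.sum_le (S := {θ, θ', a, b}) (by
      simp only [Finset.mem_insert, Finset.mem_singleton]
      rintro _ (rfl | rfl | rfl | rfl) <;> apply F.not_mem <;> omega)
    rw [Finset.sum_insert (by simp [hθ, ne (show dg θ ≠ dg a by omega),
      ne (show dg θ ≠ dg b by omega)]), Finset.sum_insert (by simp [ne (show dg θ' ≠ dg a by omega),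
      ne (show dg θ' ≠ dg b by omega)]), Finset.sum_pair (ne (by omega))] at k1
    have m1 := F.v_mod θ
    have m2 := F.v_mod θ'
    have m3 := F.v_mod a
    have m4 := F.v_mod b
    have q : ∀ u r : ℤ, 0 ≤ r → u ≤ -r ∨ r ≤ u → r ^ 2 ≤ u ^ 2 := fun u r h k => by
      rcases k with k | k <;> nlinarith
    rcases hc with hc | hc
    · have := q (F.v θ) 2 (by norm_num) (by omega)
      have := q (F.v θ') 2 (by norm_num) (by omega)
      have := sq_nonneg (F.v a)
      have := sq_nonneg (F.v b)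
      omega
    · have n1 := F.v_three hG hc (χ := θ) (by omega)
      have n2 := F.v_three hG hc (χ := θ') (by omega)
      have n4 := F.v_three hG hc (χ := b) (by omega)
      have := q (F.v θ) 3 (by norm_num) (by omega)
      have := q (F.v θ') 3 (by norm_num) (by omega)
      have := q (F.v a) 2 (by norm_num) (by omega)
      have := q (F.v b) 6 (by norm_num) (by omega)
      omega
  obtain ⟨T⟩ := nonempty_T11 hG E h
  refine ⟨⟨T⟩, hc.resolve_right fun hc => ?_⟩
  have r := T.rel F.x (by rw [F.hx]; norm_num)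
  have van : ∀ χ : IrrCharacter G, 5 ∣ dg χ → (χ : G → ℂ) F.x = 0 := fun χ h =>
    van_of_dvd (p := 5) (by norm_num) (by rw [hG]; norm_num) h (by rw [F.hx])
  have d1 := T.dθ
  have d2 := T.dθ'
  have d3 := T.d45
  have d4 := T.d54
  have d5 := T.d120
  have d6 := T.d144
  have d0 := dg_triv (G := G)
  rw [van T.x45 (by omega), van T.x120 (by omega), F.hv, F.hv, F.hv] at r
  have r' : F.v T.θ = 1 - F.v T.x54 + F.v T.x144 := by
    have : (F.v T.θ : ℂ) = 1 - F.v T.x54 + F.v T.x144 := by linear_combination r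
    exact_mod_cast this
  have m := F.v_mod T.x54
  have n := F.v_three hG hc (χ := T.x54) (by omega)
  obtain ⟨-, -, -, a4, -⟩ := F.valZ (by rw [F.hx]) F.hv
  obtain ⟨χ, k1, k2, k3⟩ : ∃ χ, χ ∉ F.Z ∧ χ ≠ T.x54 ∧ F.v χ ^ 2 = F.v T.x54 ^ 2 := by
    have al := T.all F.a (by omega)
    rcases dab with h | h
    · refine ⟨T.x144, by apply F.not_mem <;> omega, ne (by omega), ?_⟩
      have : F.v T.θ = 1 := by
        have rg := T.reg F.x (by rw [F.hx]; norm_num)
        rw [F.hv, F.hv, Int.cast_inj] at rg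
        rcases al with e | e | e | e | e | e | e <;> rw [e] at h a4 <;> omega
      rw [show F.v T.x144 = F.v T.x54 by omega]
    · refine ⟨T.θ, by apply F.not_mem <;> omega, ne (by omega), ?_⟩
      have : F.v T.x144 = -1 := by
        rcases al with e | e | e | e | e | e | e <;> rw [e] at h a4 <;> omega
      rw [show F.v T.θ = -F.v T.x54 by omega, neg_sq]
  have k4 := F.sum_le (S := {χ, T.x54}) (by
    simp only [Finset.mem_insert, Finset.mem_singleton]
    rintro _ (rfl | rfl)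
    · exact k1
    · apply F.not_mem <;> omega)
  rw [Finset.sum_pair k2, k3, hc] at k4
  have : F.v T.x54 ≤ -6 ∨ 6 ≤ F.v T.x54 := by omega
  rcases this with h | h <;> push_cast at k4 <;> nlinarith

end H17.Ord.M12
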