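import Mathlib
import Cfsg.Agent.Base
import Cfsg.Agent.Lib.Ord.M12A

/-! Simple groups of order 95040: the involution centralising an element of order five. -/

set_option autoImplicit false
set_option linter.unusedSectionVars false
set_option linter.style.haveILetI false

open Cfsg
open scoped ComplexConjugate

namespace H17.Ord.M12
variable {G : Type*} [Group G] [Finite G] [IsSimpleGroup G]

theorem order_mul {a b : G} {m n : ℕ} (h : Commute a b) (ha : orderOf a = m) (hb : orderOf b = n)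
    (hc : m.Coprime n) : orderOf (a * b) = m * n := by
  rw [h.orderOf_mul_eq_mul_orderOf_of_coprime (by rwa [ha, hb]), ha, hb]

theorem order_conj {a b : G} (h : IsConj a b) : orderOf b = orderOf a := by
  obtain ⟨g, rfl⟩ := isConj_iff.mp h
  exact H35.orderOf_conj _ _

theorem T11.not_dvd (T : T11 G) {s : G} (hs : orderOf s = 2) :
    ¬ 11 ∣ Nat.card (Subgroup.centralizer ({s} : Set G)) := fun h => by
  obtain ⟨y, hy⟩ := exists_prime_orderOf_dvd_card' 11 h
  rw [← Subgroup.orderOf_coe] at hy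
  have h1 := order_mul (Subgroup.mem_centralizer_singleton_iff.mp y.2) hy hs (by norm_num)
  have := T.ord _ (h1 ▸ dvd_mul_right _ _)
  omega

/-- the involution centralising `x` and its column -/
structure I5 (F : E5 G) where
  t : G
  u : IrrCharacter G → ℤ
  w : IrrCharacter G → ℤ
  ht : orderOf t = 2
  htx : orderOf (t * F.x) = 10
  pw : (t * F.x) ^ 5 = t
  hu : ∀ χ : IrrCharacter G, (χ : G → ℂ) t = u χ
  hw : ∀ χ : IrrCharacter G, (χ : G → ℂ) (t * F.x) = w χ
  neg : ∀ χ, χ ∉ F.Z → w χ = -F.v χ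
  cen : Nat.card (Subgroup.centralizer ({t * F.x} : Set G)) = 10
  nor : Subgroup.normalizer ((Subgroup.zpowers F.x : Subgroup G) : Set G) ≤
    Subgroup.centralizer ({t} : Set G)
  sing : ∀ g, 5 ∣ orderOf g → IsConj F.x g ∨ IsConj (t * F.x) g

theorem nonempty_I5 (hG : Nat.card G = 95040) (F : E5 G) (hc : F.c = 2) : Nonempty (I5 F) := by
  classical
  obtain ⟨t, ht, h2⟩ := F.exists_comm (q := 2) (by rw [hc])
  have hx := F.hx
  have t2 : t ^ 2 = 1 := ht ▸ pow_orderOf_eq_one t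
  have x5 : F.x ^ 5 = 1 := hx ▸ pow_orderOf_eq_one F.x
  have h4 : orderOf (t * F.x) = 10 := order_mul h2 ht hx (by norm_num)
  have h5 : (t * F.x) ^ 5 = t := by
    rw [h2.mul_pow, x5, mul_one, show 5 = 2 * 2 + 1 from rfl, pow_succ, pow_mul, t2, one_pow,
      one_mul]
  have h6 : (t * F.x) ^ 6 = F.x := by
    rw [h2.mul_pow, show 6 = 2 * 3 from rfl, pow_mul, t2, one_pow, one_mul,
      show 2 * 3 = 5 + 1 from rfl, pow_succ, x5, one_mul]
  have hC : Subgroup.zpowers (t * F.x) = Subgroup.centralizer ({F.x} : Set G) :=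
    Subgroup.eq_of_le_of_card_ge (Subgroup.zpowers_le.mpr
      (Subgroup.mem_centralizer_singleton_iff.mpr (h2.mul_left (Commute.refl _))))
      (by rw [F.cen, hc, Nat.card_zpowers, h4])
  have hC' : ∀ g, g * F.x = F.x * g → ∃ k < 10, (t * F.x) ^ k = g := fun g hg => by
    obtain ⟨k, hk⟩ := mem_powers_iff_mem_zpowers.mpr
      (hC.ge (Subgroup.mem_centralizer_singleton_iff.mpr hg))
    exact ⟨k % 10, Nat.mod_lt _ (by norm_num), by rw [← h4, pow_mod_orderOf]; exact hk⟩
  have nor : Subgroup.normalizer ((Subgroup.zpowers F.x : Subgroup G) : Set G) ≤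
      Subgroup.centralizer ({t} : Set G) := fun n hn => by
    obtain ⟨k, k1, k2⟩ := hC' (n * t * n⁻¹) (by
      have := (h2.zpow_right _).eq.trans (congrArg (· * t) (Subgroup.mem_zpowers_iff.mp
        ((Subgroup.mem_normalizer_iff''.mp hn _).mp (Subgroup.mem_zpowers _))).choose_spec)
      rw [(Subgroup.mem_zpowers_iff.mp ((Subgroup.mem_normalizer_iff''.mp hn _).mp
        (Subgroup.mem_zpowers _))).choose_spec] at this
      calc _ = n * (t * (n⁻¹ * F.x * n)) * n⁻¹ := by group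
        _ = _ := by rw [this]; group)
    have k3 := H35.orderOf_conj t n
    rw [← k2, orderOf_pow, h4, ht] at k3
    obtain rfl : k = 5 := by interval_cases k <;> simp_all
    rw [h5] at k2
    exact Subgroup.mem_centralizer_singleton_iff.mpr (mul_inv_eq_iff_eq_mul.mp k2.symm)
  have n1 : F.n * t * F.n⁻¹ = t := by
    refine mul_inv_eq_iff_eq_mul.mpr (Subgroup.mem_centralizer_singleton_iff.mp (nor ?_))
    refine Subgroup.mem_normalizer_fintype ?_
    rintro _ ⟨k, rfl⟩
    rw [← conj_zpow, F.hn]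
    exact Subgroup.zpow_mem _ (Subgroup.pow_mem _ (Subgroup.mem_zpowers _) _) k
  have n2 : F.n * (t * F.x) * F.n⁻¹ = (t * F.x) ^ 7 := by
    rw [← conj_mul, n1, F.hn, show 7 = 5 + 2 from rfl, pow_add, h5, h2.mul_pow, t2, one_mul]
  have itr : ∀ k : ℕ, IsConj (t * F.x) ((t * F.x) ^ 7 ^ k) := fun k => by
    induction k with
    | zero => rw [pow_zero, pow_one]
    | succ k ih =>
      refine ih.trans (isConj_iff.mpr ⟨F.n, ?_⟩)
      rw [← conj_pow, n2, ← pow_mul, pow_succ']
  choose w hw using int_of_conj_pow n2 (by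
    rw [h4]
    have : ∀ m < 10, m.Coprime 10 → ∃ k < 4, 7 ^ k % 10 = m := by decide
    exact fun m h1 h2 => (this m h1 h2).imp fun _ h => h.2)
  choose u hu _ using fun χ : IrrCharacter G => int_of_invol χ (t := t) (by rw [← sq, t2])
  have cen : Nat.card (Subgroup.centralizer ({t * F.x} : Set G)) = 10 := by
    rw [← h4, ← Nat.card_zpowers]
    congr 2
    refine le_antisymm (fun g hg => ?_) (Subgroup.zpowers_le.mpr
      (Subgroup.mem_centralizer_singleton_iff.mpr rfl))
    refine hC.ge ?_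
    rw [Subgroup.mem_centralizer_singleton_iff, ← h6]
    exact (Commute.pow_right (Subgroup.mem_centralizer_singleton_iff.mp hg) 6).eq
  refine ⟨⟨t, u, w, ht, h4, h5, hu, hw, ?_, cen, nor, fun g hg => ?_⟩⟩
  · have e1 := F.sum_compl
    have e2 := col_sq hw
    have e3 := col_sum F.hv hw fun h => by have := order_conj h; omega
    obtain ⟨a1, a2, a3, a4, a5⟩ := F.valZ (by rw [F.hx]) F.hv
    obtain ⟨b1, b2, b3, b4, b5⟩ := F.valZ (by omega) hw
    have := F.ε_sq
    rw [← Finset.sum_add_sum_compl F.Z, F.sumZ, b1, b2, b3, b4, b5, cen] at e2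
    rw [← Finset.sum_add_sum_compl F.Z, F.sumZ, a1, a2, a3, a4, a5, b1, b2, b3, b4, b5] at e3
    have e4 : ∑ χ ∈ F.Zᶜ, (w χ + F.v χ) ^ 2 = 0 := by
      simp only [add_sq, Finset.sum_add_distrib, mul_assoc, ← Finset.mul_sum, mul_comm (w _)]
      rw [hc] at e1
      push_cast at e1 e2
      linear_combination e1 + e2 + 2 * e3 - 3 * this
    intro χ h
    have := (Finset.sum_eq_zero_iff_of_nonneg fun _ _ => sq_nonneg _).mp e4 χ
      (Finset.mem_compl.mpr h)
    exact eq_neg_of_add_eq_zero_left (pow_eq_zero_iff two_ne_zero |>.mp this)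
  · obtain ⟨a, ha⟩ := H84.exists_conj_mem_Cen_of_sing (p := 5) (P := Subgroup.zpowers F.x)
      (by rw [Nat.card_zpowers, hx]) (by
        have := (Subgroup.zpowers F.x).card_mul_index
        rw [Nat.card_zpowers, hx, hG] at this
        omega) hg
    obtain ⟨k, k1, k2⟩ := hC' _ (ha _ (Subgroup.mem_zpowers _)).symm
    have k3 := H35.orderOf_conj g a
    rw [← k2, orderOf_pow, h4] at k3
    have k4 : IsConj ((t * F.x) ^ k) g := (isConj_iff.mpr ⟨a, k2.symm⟩).symm
    obtain ⟨j, hj⟩ : ∃ j, 7 ^ j % 10 = k ∨ (7 ^ j * 6) % 10 = k := by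
      have : ∀ k < 10, 5 ∣ 10 / Nat.gcd 10 k → ∃ j < 4, 7 ^ j % 10 = k ∨ (7 ^ j * 6) % 10 = k := by
        decide
      exact (this k k1 (k3 ▸ hg)).imp fun _ h => h.2
    rcases hj with rfl | rfl
    · rw [← h4, pow_mod_orderOf] at k4
      exact Or.inr ((itr j).trans k4)
    · rw [← h4, pow_mod_orderOf, pow_mul] at k4
      exact Or.inl (h6 ▸ ((itr j).pow 6).trans k4)

namespace I5
variable {F : E5 G} (I : I5 F)

theorem u_mod (χ : IrrCharacter G) : I.u χ % 5 = I.w χ % 5 :=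
  modEq_pow (irr_chr χ) (p := 5) (k := 1) (by norm_num) (I.hw χ) (by rw [pow_one, I.pw, I.hu])

theorem u_four (hG : Nat.card G = 95040) (χ : IrrCharacter G) (h : dg χ ≠ 1) :
    I.u χ % 4 = dg χ % 4 ∧ -(dg χ : ℤ) < I.u χ ∧ I.u χ < dg χ := by
  obtain ⟨z, h1, h2⟩ := invol_val (hna hG) h I.ht
  rw [I.hu, Int.cast_inj] at h1
  rwa [h1]

theorem u_off {χ : IrrCharacter G} (h : χ ∉ F.Z) : (I.u χ + dg χ) % 5 = 0 := by
  have := I.u_mod χ
  have := I.neg χ h
  have := F.v_mod χ
  omega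

theorem u_in {χ : IrrCharacter G} (h : χ ∈ F.Z) : I.u χ % 5 = dg χ % 5 := by
  have := I.u_mod χ
  have := F.v_mod χ
  obtain ⟨a1, a2, a3, a4, a5⟩ := F.valZ (by rw [F.hx]) F.hv
  obtain ⟨b1, b2, b3, b4, b5⟩ := F.valZ (by rw [I.htx]; norm_num) I.hw
  rcases (F.mem χ).mp h with rfl | rfl | rfl | rfl | rfl <;> omega

theorem u_le (S : Finset (IrrCharacter G)) :
    ∑ χ ∈ S, I.u χ ^ 2 ≤ Nat.card (Subgroup.centralizer ({I.t} : Set G)) := by
  rw [← col_sq I.hu]
  exact Finset.sum_le_sum_of_subset_of_nonneg (Finset.subset_univ _) fun _ _ _ => sq_nonneg _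

theorem card_cent (hG : Nat.card G = 95040) (hc : F.c = 2) (T : T11 G) :
    Nat.card (Subgroup.centralizer ({I.t} : Set G)) = 240 := by
  have dec : ∀ r < 2377, r ∣ 2376 → r % 5 = 1 → (¬ 11 ∣ r ∧ 4 ∣ 2376 / r) → r = 1 ∨ r = 6 := by
    decide +kernel
  classical
  obtain ⟨r, h1, h2⟩ := card_over_normalizer (p := 5) (by rw [Nat.card_zpowers, F.hx]) (by
    have := (Subgroup.zpowers F.x).card_mul_index
    rw [Nat.card_zpowers, F.hx, hG] at this
    omega) I.nor
  have h3 := T.not_dvd I.ht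
  have h4 := (Subgroup.centralizer ({I.t} : Set G)).card_mul_index
  have h5 := dvd_central T.θ (I.hu _)
  have h6 := I.u_four hG T.θ (by rw [T.dθ]; norm_num)
  have h7 : I.u T.θ = 4 ∨ I.u T.θ = -4 := by
    have := T.dθ
    by_cases h : T.θ ∈ F.Z
    · have := I.u_in h; omega
    · have := I.u_off h; omega
  have h8 := I.u_le {T.θ, T.x54}
  rw [h1, F.nor, hc] at h3 h4 h8
  rw [h1, F.nor, hc]
  rw [hG] at h4
  rw [T.dθ] at h5
  generalize (Subgroup.centralizer ({I.t} : Set G)).index = i at *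
  have k1 : r * i = 2376 := by nlinarith
  have k2 : 0 < r := Nat.pos_of_ne_zero (by rintro rfl; omega)
  rcases dec r (Nat.lt_succ_of_le (Nat.le_of_dvd (by norm_num) ⟨i, k1.symm⟩)) ⟨i, k1.symm⟩ h2
    ⟨fun h => h3 (h.mul_left _), by
      rw [← k1, Nat.mul_div_cancel_left _ k2]
      rcases h7 with h | h <;> rw [h] at h5 <;> omega⟩ with rfl | rfl
  · exfalso
    have d1 := T.dθ
    have d2 := T.d54
    have := F.dab
    rw [Finset.sum_pair (fun e => by rw [e] at d1; omega)] at h8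
    have := I.u_off (χ := T.x54) (by apply F.not_mem <;> omega)
    have := I.u_four hG T.x54 (by omega)
    have : I.u T.x54 ≤ -6 ∨ 6 ≤ I.u T.x54 := by omega
    rcases this with h | h <;> rcases h7 with k | k <;> rw [k] at h8 <;> push_cast at h8 <;> nlinarith
  · rfl

theorem u_bd (hG : Nat.card G = 95040) (hc : F.c = 2) (T : T11 G) (χ : IrrCharacter G) :
    -16 < I.u χ ∧ I.u χ < 16 := by
  have := I.u_le {χ}
  rw [I.card_cent hG hc T, Finset.sum_singleton] at this
  push_cast at this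
  constructor <;> nlinarith

theorem index_cent (hG : Nat.card G = 95040) (hc : F.c = 2) (T : T11 G) :
    (Subgroup.centralizer ({I.t} : Set G)).index = 396 := by
  have := (Subgroup.centralizer ({I.t} : Set G)).card_mul_index
  rw [I.card_cent hG hc T, hG] at this
  omega

include I in
theorem shape (hG : Nat.card G = 95040) (hc : F.c = 2) (T : T11 G) :
    F.ε = -1 ∧ dg F.a = 144 ∧ dg F.b = 176 := by
  classical
  refine F.dab.resolve_left fun ⟨h1, h2, h3⟩ => ?_
  have d1 := F.d66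
  have d2 := F.d99
  have m := fun χ h => I.u_in (χ := χ) ((F.mem χ).mpr h)
  have a1 : I.u F.a = -4 := by
    have := m F.a (by simp); have := I.u_four hG F.a (by omega); omega
  have a2 : I.u F.b = -4 := by
    have := m F.b (by simp); have := I.u_four hG F.b (by omega); omega
  have a3 : I.u F.x99 = -1 := by
    have := m F.x99 (by simp); have := I.u_four hG F.x99 (by omega); have := I.u_bd hG hc T F.x99
    omega
  have r := F.rel I.t (by rw [I.ht]; norm_num)
  simp only [I.hu, a1, a2, a3, h1] at r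
  have a4 : (I.u F.x66 : ℂ) = 6 := by push_cast at r; linear_combination r
  have e1 := H31.classCoeff_eq I.t I.t F.x
  have e2 := H31.classCoeff_eq I.t I.t (I.t * F.x)
  obtain ⟨c1, c2, c3, c4, c5⟩ := F.valZ (by rw [F.hx]) F.hv
  obtain ⟨b1, b2, b3, b4, b5⟩ := F.valZ (by rw [I.htx]; norm_num) I.hw
  have e3 : ∑ χ ∈ F.Zᶜ, (χ : G → ℂ) I.t * (χ : G → ℂ) I.t * conj ((χ : G → ℂ) (I.t * F.x)) /
      (χ : G → ℂ) 1 = -∑ χ ∈ F.Zᶜ, (χ : G → ℂ) I.t * (χ : G → ℂ) I.t * conj ((χ : G → ℂ) F.x) /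
      (χ : G → ℂ) 1 := by
    rw [← Finset.sum_neg_distrib]
    refine Finset.sum_congr rfl fun χ h => ?_
    rw [I.hw, F.hv, I.neg χ (Finset.mem_compl.mp h)]
    simp [neg_div]
  rw [← Finset.sum_add_sum_compl F.Z, F.sumZ, I.index_cent hG hc T, hG] at e1 e2
  rw [e3] at e2
  generalize ∑ χ ∈ F.Zᶜ, (χ : G → ℂ) I.t * (χ : G → ℂ) I.t * conj ((χ : G → ℂ) F.x) /
      (χ : G → ℂ) 1 = R at e1 e2
  simp only [triv_apply, map_one] at e1 e2
  simp only [I.hu, I.hw, F.hv, dg_cast, d1, d2, h1, h2, h3, a1, a2, a3, a4, c2, c3, c4, c5,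
    b2, b3, b4, b5, map_intCast] at e1 e2
  have : (3 * (H31.classCoeff I.t I.t F.x + H31.classCoeff I.t I.t (I.t * F.x)) : ℂ) = 35 := by
    rw [e1, e2]; push_cast; ring
  have : 3 * (H31.classCoeff I.t I.t F.x + H31.classCoeff I.t I.t (I.t * F.x)) = 35 := by
    exact_mod_cast this
  omega

theorem col (hG : Nat.card G = 95040) (hc : F.c = 2) (T : T11 G) :
    F.a = T.x144 ∧ I.u T.θ = 4 ∧ I.u T.x45 = 5 ∧ I.u T.x54 = 6 ∧ I.u T.x120 = 0 ∧
      I.u T.x144 = 4 := by
  classical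
  obtain ⟨h1, h2, h3⟩ := I.shape hG hc T
  have d0 := dg_triv (G := G)
  have d1 := T.dθ
  have d2 := T.dθ'
  have d3 := T.d45
  have d4 := T.d54
  have d5 := T.d120
  have d6 := T.d144
  have a0 : F.a = T.x144 := by
    rcases T.all F.a (by omega) with e | e | e | e | e | e | e <;> first | exact e | (rw [e] at h2; omega)
  have m : ∀ χ, χ ∉ F.Z → dg χ ≠ 1 → (I.u χ + dg χ) % 5 = 0 ∧ I.u χ % 4 = dg χ % 4 ∧
      -16 < I.u χ ∧ I.u χ < 16 := fun χ h k =>
    ⟨I.u_off h, (I.u_four hG χ k).1, I.u_bd hG hc T χ⟩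
  have a1 := m T.θ (by apply F.not_mem <;> omega) (by omega)
  have a2 := m T.x45 (by apply F.not_mem <;> omega) (by omega)
  have a3 := m T.x54 (by apply F.not_mem <;> omega) (by omega)
  have a4 := m T.x120 (by apply F.not_mem <;> omega) (by omega)
  have a5 := I.u_in ((F.mem T.x144).mpr (by simp [a0]))
  have a6 := I.u_four hG T.x144 (by omega)
  have a7 := I.u_bd hG hc T T.x144
  have r := T.rel I.t (by rw [I.ht]; norm_num)
  simp only [I.hu] at r
  have r' : I.u T.θ = 1 + I.u T.x45 - I.u T.x54 - I.u T.x120 + I.u T.x144 := by exact_mod_cast r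
  have h8 := I.u_le {T.x45, T.x54}
  rw [Finset.sum_pair (fun e => by rw [e] at d3; omega), I.card_cent hG hc T] at h8
  have : I.u T.x45 ≠ -15 := fun e => by
    rw [e, show I.u T.x54 = -14 by omega] at h8
    norm_num at h8
  exact ⟨a0, by omega, by omega, by omega, by omega, by omega⟩

end I5

end H17.Ord.M12
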