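import Mathlib
import Cfsg.Agent.Base
import Cfsg.Agent.Lib.Ord.M12B
import Cfsg.Agent.Lib.Ord.M12Perm

/-! A simple group of order 95040 is the Mathieu group `M₁₂`. -/

set_option autoImplicit false
set_option linter.unusedSectionVars false
set_option linter.style.haveILetI false

open Cfsg
open scoped ComplexConjugate

namespace H17.Ord.M12
variable {G : Type*} [Group G] [Finite G] [IsSimpleGroup G]

/-- the two remaining characters not vanishing at `x` -/
theorem exists_pq (hG : Nat.card G = 95040) (F : E5 G) (hc : F.c = 2) (T : T11 G) (I : I5 F) :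
    ∃ (p q : IrrCharacter G) (V : Finset (IrrCharacter G)), F.v T.θ = 1 ∧ F.v T.θ' = 1 ∧
      F.v T.x54 = -1 ∧ (∀ χ ∈ V, F.v χ = 0 ∧ 55 ∣ dg χ) ∧
      ((dg p = 11 ∧ dg q = 11 ∧ F.v p = 1 ∧ F.v q = 1) ∨ (dg p = 66 ∧ dg q = 44)) ∧
      (∀ χ, dg χ = 11 → χ = p ∨ χ = q) ∧
      ∀ {A : Type} [AddCommMonoid A] (f : IrrCharacter G → A), ∑ χ, f χ =
        f (triv G) + f F.x66 + f F.x99 + f F.a + f F.b + (f T.θ + f T.θ' + f T.x54 +
          (f p + f q + (f T.x45 + f T.x120 + ∑ χ ∈ V, f χ))) := by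
  have dec : ∀ d < 309, d ∣ 95040 ∧ 11 ∣ d → d % 5 = 1 ∨ d % 5 = 4 →
      d ∈ [11, 44, 66, 99, 176, 264] := by decide +kernel
  have dec2 : ∀ d ∈ [11, 44, 66, 99, 176, 264], ∀ e ∈ [11, 44, 66, 99, 176, 264],
      ∀ a ∈ [(1 : ℤ), -1], ∀ b ∈ [(1 : ℤ), -1], (a % 5 = (d : ℕ) % 5 ∧ b % 5 = (e : ℕ) % 5 ∧
        a * d + b * e = 22) → (d = 11 ∧ e = 11 ∧ a = 1 ∧ b = 1) ∨ (d = 66 ∧ e = 44) ∨
        (e = 66 ∧ d = 44) := by decide +kernel
  classical
  obtain ⟨h1, h2, h3⟩ := I.shape hG hc T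
  have a0 := (I.col hG hc T).1
  have d0 := dg_triv (G := G)
  have d1 := T.dθ
  have d2 := T.dθ'
  have d3 := T.d45
  have d4 := T.d54
  have d5 := T.d120
  have d6 := T.d144
  have d7 := F.d66
  have d8 := F.d99
  have ne : ∀ {χ ψ : IrrCharacter G}, dg χ ≠ dg ψ → χ ≠ ψ := fun h e => h (e ▸ rfl)
  have bd : ∀ χ, χ ∉ F.Z → -3 < F.v χ ∧ F.v χ < 3 := fun χ h => by
    have := F.sum_le (S := {χ}) (by simpa using h)
    rw [Finset.sum_singleton, hc] at this
    push_cast at this
    constructor <;> nlinarith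
  have van : ∀ χ : IrrCharacter G, 5 ∣ dg χ → F.v χ = 0 := fun χ h => by
    have := van_of_dvd (p := 5) (by norm_num) (by rw [hG]; norm_num) h (x := F.x) (by rw [F.hx])
    rw [F.hv] at this
    exact_mod_cast this
  have n1 : T.θ ∉ F.Z := by apply F.not_mem <;> omega
  have n2 : T.θ' ∉ F.Z := by apply F.not_mem <;> omega
  have n3 : T.x54 ∉ F.Z := by apply F.not_mem <;> omega
  have v1 : F.v T.θ = 1 := by have := bd _ n1; have := F.v_mod T.θ; omega
  have v2 : F.v T.θ' = 1 := by have := bd _ n2; have := F.v_mod T.θ'; omega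
  have v3 : F.v T.x54 = -1 := by have := bd _ n3; have := F.v_mod T.x54; omega
  set R := F.Zᶜ \ {T.θ, T.θ', T.x54} with hR
  have s1 : ∀ {A : Type} [AddCommMonoid A] (f : IrrCharacter G → A),
      ∑ χ ∈ F.Zᶜ, f χ = f T.θ + f T.θ' + f T.x54 + ∑ χ ∈ R, f χ := by
    intro A _ f
    rw [← Finset.sum_sdiff (s₁ := {T.θ, T.θ', T.x54}) (by
      simp [Finset.insert_subset_iff, n1, n2, n3]), add_comm, Finset.sum_insert (by
        simp [T.hθ, ne (show dg T.θ ≠ dg T.x54 by omega)]), Finset.sum_pair (ne (by omega)),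
      ← add_assoc (f T.θ)]
  have s2 := F.sum_compl
  rw [s1, v1, v2, v3, hc, ← Finset.sum_filter_ne_zero] at s2
  set R' := R.filter fun χ => F.v χ ^ 2 ≠ 0 with hR'
  have s3 : ∑ χ ∈ R', F.v χ ^ 2 = 2 := by push_cast at s2; omega
  have pos : ∀ χ ∈ R', 1 ≤ F.v χ ^ 2 := fun χ h =>
    (sq_nonneg _).lt_of_ne' (Finset.mem_filter.mp h).2
  obtain ⟨p, q, hpq, s4⟩ : ∃ p q, p ≠ q ∧ R' = {p, q} := by
    rw [← Finset.card_eq_two]
    have k1 := Finset.card_nsmul_le_sum _ _ _ pos
    have k2 : R'.card ≠ 0 := fun e => by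
      rw [Finset.card_eq_zero.mp e] at s3; simp at s3
    have k3 : R'.card ≠ 1 := fun e => by
      obtain ⟨a, ha⟩ := Finset.card_eq_one.mp e
      have := bd a (Finset.mem_compl.mp (Finset.mem_sdiff.mp (Finset.mem_filter.mp
        (ha.ge (Finset.mem_singleton_self a))).1).1)
      rw [ha, Finset.sum_singleton] at s3
      generalize F.v a = b at *
      obtain ⟨_, _⟩ := this
      interval_cases b <;> simp at s3
    rw [s3, nsmul_eq_mul] at k1
    omega
  have mp : p ∈ R' := by simp [s4]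
  have mq : q ∈ R' := by simp [s4]
  have off : ∀ χ ∈ R, χ ≠ T.x45 → χ ≠ T.x120 → 11 ∣ dg χ := fun χ h k1 k2 => by
    by_contra k
    simp only [hR, Finset.mem_sdiff, Finset.mem_compl, F.mem, Finset.mem_insert,
      Finset.mem_singleton, a0, not_or] at h
    rcases T.all χ k with e | e | e | e | e | e | e
    exacts [h.1.1 e, h.2.1 e, h.2.2.1 e, k1 e, h.2.2.2 e, k2 e, h.1.2.2.2.1 e]
  have dg' : ∀ χ ∈ R', (F.v χ = 1 ∨ F.v χ = -1) → dg χ ∈ [11, 44, 66, 99, 176, 264] :=
    fun χ h k => by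
      have k1 := Finset.mem_filter.mp h
      have k2 := H87.deg_sq_le_card χ.2
      rw [hG] at k2
      refine dec _ (lt_of_pow_lt_pow_left₀ 2 (by norm_num) (k2.trans_lt (by norm_num)))
        ⟨hG ▸ dg_dvd χ, off χ k1.1 ?_ ?_⟩ (by have := F.v_mod χ; omega) <;> rintro rfl <;>
        exact k1.2 (by rw [van _ (by omega)]; rfl)
  have m45 : T.x45 ∈ R \ R' := by
    simp only [hR', hR, Finset.mem_sdiff, Finset.mem_filter, Finset.mem_compl, Finset.mem_insert,
      Finset.mem_singleton, van T.x45 (by omega), not_or]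
    exact ⟨⟨by apply F.not_mem <;> omega, ne (by omega), ne (by omega), ne (by omega)⟩, by simp⟩
  have m120 : T.x120 ∈ R \ R' := by
    simp only [hR', hR, Finset.mem_sdiff, Finset.mem_filter, Finset.mem_compl, Finset.mem_insert,
      Finset.mem_singleton, van T.x120 (by omega), not_or]
    exact ⟨⟨by apply F.not_mem <;> omega, ne (by omega), ne (by omega), ne (by omega)⟩, by simp⟩
  set V := (R \ R') \ {T.x45, T.x120} with hV
  have s5 : ∀ {A : Type} [AddCommMonoid A] (f : IrrCharacter G → A), ∑ χ, f χ =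
      f (triv G) + f F.x66 + f F.x99 + f F.a + f F.b + (f T.θ + f T.θ' + f T.x54 +
        (f p + f q + (f T.x45 + f T.x120 + ∑ χ ∈ V, f χ))) := by
    intro A _ f
    rw [← Finset.sum_add_sum_compl F.Z, F.sumZ, s1, ← Finset.sum_sdiff (Finset.filter_subset
      (fun χ => F.v χ ^ 2 ≠ 0) R), ← hR', add_comm (∑ χ ∈ R \ R', f χ),
      ← Finset.sum_sdiff (s₁ := {T.x45, T.x120}) (s₂ := R \ R') (by
        simp only [Finset.insert_subset_iff, Finset.singleton_subset_iff]; exact ⟨m45, m120⟩),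
      ← hV, add_comm (∑ χ ∈ V, f χ), Finset.sum_pair (ne (by omega)), s4, Finset.sum_pair hpq]
  have hV' : ∀ χ ∈ V, F.v χ = 0 ∧ 55 ∣ dg χ := fun χ h => by
    simp only [hV, hR', Finset.mem_sdiff (t := R.filter _), Finset.mem_sdiff (t := {_, _}),
      Finset.mem_filter, Finset.mem_insert, Finset.mem_singleton, not_or] at h
    have k1 : F.v χ = 0 := by
      by_contra k
      exact h.1.2 ⟨h.1.1, pow_ne_zero _ k⟩
    have := off χ h.1.1 h.2.1 h.2.2
    have := F.v_mod χ
    exact ⟨k1, by omega⟩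
  have s6 := col_sum (g := F.x) (h := 1) F.hv (v := fun χ => dg χ) (fun χ => by rw [dg_cast]; simp)
    fun h => by have := order_conj h; rw [F.hx, orderOf_one] at this; omega
  obtain ⟨c1, c2, c3, c4, c5⟩ := F.valZ (by rw [F.hx]) F.hv
  rw [s5, Finset.sum_eq_zero fun χ h => by rw [(hV' χ h).1, zero_mul], c1, c2, c3, c4, c5, v1, v2,
    v3, van T.x45 (by omega), van T.x120 (by omega), h1, h2, h3, d0, d1, d2, d4, d7, d8] at s6
  rw [s4, Finset.sum_pair hpq] at s3
  have p1 := pos p mp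
  have q1 := pos q mq
  have p2 : F.v p = 1 ∨ F.v p = -1 := sq_eq_one_iff.mp (by omega)
  have q2 : F.v q = 1 ∨ F.v q = -1 := sq_eq_one_iff.mp (by omega)
  have p3 := dg' p mp p2
  have q3 := dg' q mq q2
  have p4 := F.v_mod p
  have q4 := F.v_mod q
  have u11 : ∀ χ, dg χ = 11 → χ = p ∨ χ = q := fun χ h => by
    have k := F.v_mod χ
    have : χ ∈ R' := by
      simp only [hR', hR, Finset.mem_sdiff, Finset.mem_filter, Finset.mem_compl, Finset.mem_insert,
        Finset.mem_singleton, not_or]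
      exact ⟨⟨by apply F.not_mem <;> omega, ne (by omega), ne (by omega), ne (by omega)⟩,
        pow_ne_zero _ (by omega)⟩
    simpa [s4] using this
  have : (dg p = 11 ∧ dg q = 11 ∧ F.v p = 1 ∧ F.v q = 1) ∨ (dg p = 66 ∧ dg q = 44) ∨
      (dg q = 66 ∧ dg p = 44) := by
    refine dec2 _ p3 _ q3 _ (by simpa using p2) _ (by simpa using q2) ⟨p4, q4, ?_⟩
    push_cast at s6
    linear_combination s6
  rcases this with h | h | h
  · exact ⟨p, q, V, v1, v2, v3, hV', Or.inl h, u11, s5⟩
  · exact ⟨p, q, V, v1, v2, v3, hV', Or.inr h, u11, s5⟩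
  · exact ⟨q, p, V, v1, v2, v3, hV', Or.inr h, fun χ k => (u11 χ k).symm,
      fun f => by rw [s5, add_comm (f p)]⟩

theorem z_arith {i n : ℕ} {a b c d e : ℤ} (h1 : 2 ^ 6 ∣ n) (h2 : ¬ 11 ∣ n) (h3 : ¬ 5 ∣ n)
    (h4 : n * i = 95040) (c1 : 16 ∣ i * e) (c2 : 54 ∣ i * b) (c3 : 120 ∣ i * c) (c4 : 144 ∣ i * d)
    (e3 : -16 < e) (e4 : e < 16) (f3 : -45 < a) (f4 : a < 45) (q1 : e = 1 + a - b - c + d)
    (q2 : 2160 + 48 * a ^ 2 - 40 * b ^ 2 - 18 * c ^ 2 + 15 * d ^ 2 - 135 * e ^ 2 = 0)
    (q3 : 36 + 4 * a - 4 * b + d - 9 * e = 0) (le : 1 + (a ^ 2 + (b ^ 2 + (c ^ 2 + d ^ 2))) ≤ n) :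
    i = 495 ∧ b = 6 := by
  have dec : ∀ i < 1486, i ∣ 1485 ∧ 55 ∣ i → i ∈ [55, 165, 495, 1485] := by decide +kernel
  have dec2 : ∀ i ∈ [55, 165, 495, 1485], ∀ a ∈ Finset.Icc (-45 : ℤ) 45, ∀ u ∈ [(1 : ℤ), 9, 17],
      (2160 + 48 * a ^ 2 - 40 * (a + u) ^ 2 - 18 * (3 * u - 35) ^ 2 + 15 * (4 * u - 36) ^ 2 = 0 ∧
      54 ∣ (i : ℕ) * (a + u) ∧
      1 + a ^ 2 + (a + u) ^ 2 + (3 * u - 35) ^ 2 + (4 * u - 36) ^ 2 ≤ (95040 / i : ℕ)) →
      i = 495 ∧ a + u = 6 := by decide +kernel
  obtain ⟨m, rfl⟩ := h1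
  have k3 : m * i = 1485 := by nlinarith
  have k4 := dec i (Nat.lt_succ_of_le (Nat.le_of_dvd (by norm_num) ⟨m, by rw [← k3, mul_comm]⟩))
    ⟨⟨m, by rw [← k3, mul_comm]⟩, Nat.Coprime.dvd_of_dvd_mul_left (m := m) (Nat.Coprime.mul_left
      (m := 5) (n := 11) ((Nat.Prime.coprime_iff_not_dvd (by norm_num)).mpr
        fun h => h3 (h.mul_left _)) ((Nat.Prime.coprime_iff_not_dvd (by norm_num)).mpr
        fun h => h2 (h.mul_left _))) (by rw [k3]; norm_num)⟩
  have k5 : 2 ^ 6 * m = 95040 / i := by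
    rw [← h4, Nat.mul_div_cancel _ (Nat.pos_of_ne_zero (by rintro rfl; omega))]
  have k6 : 16 ∣ e ∧ 8 ∣ c ∧ 16 ∣ d ∧ m ≤ 27 := by
    simp only [List.mem_cons, List.not_mem_nil, or_false] at k4
    have odd : IsCoprime (16 : ℤ) i := by
      rcases k4 with rfl | rfl | rfl | rfl <;> norm_num [Int.isCoprime_iff_gcd_eq_one]
    refine ⟨odd.dvd_of_dvd_mul_left c1, (odd.of_isCoprime_of_dvd_left (by norm_num)).dvd_of_dvd_mul_left
      (Dvd.dvd.trans (by norm_num) c3), odd.dvd_of_dvd_mul_left (Dvd.dvd.trans (by norm_num) c4), ?_⟩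
    clear dec dec2 le q2 c1 c2 c3 c4 odd h4 k5
    rcases k4 with rfl | rfl | rfl | rfl <;> omega
  clear dec c1 c3 c4 h4 h2 h3 k3
  obtain rfl : e = 0 := by omega
  have w4 : -42 < d ∧ d < 42 := by
    have : d ^ 2 ≤ 1728 := by
      push_cast at le
      nlinarith [sq_nonneg a, sq_nonneg b, sq_nonneg c]
    constructor <;> nlinarith
  obtain ⟨u, rfl⟩ : ∃ u, b = a + u := ⟨b - a, by ring⟩
  obtain rfl : d = 4 * u - 36 := by omega
  obtain rfl : c = 3 * u - 35 := by omega
  exact dec2 i k4 a (by simp only [Finset.mem_Icc]; omega) u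
    (by simp only [List.mem_cons, List.not_mem_nil, or_false]; omega)
    ⟨by linarith, c2, by rw [← k5]; linarith⟩

theorem exists_z (hG : Nat.card G = 95040) (F : E5 G) (hc : F.c = 2) (T : T11 G) (I : I5 F) :
    ∃ z : G, orderOf z = 2 ∧ (Subgroup.centralizer ({z} : Set G)).index = 495 ∧
      (T.x54 : G → ℂ) z = 6 := by
  classical
  obtain ⟨S⟩ : Nonempty (Sylow 2 G) := inferInstance
  have hS : Nat.card S = 2 ^ 6 := H36.card_sylow_eq_pow S (by omega) (by omega)
  haveI : Nontrivial S := Finite.one_lt_card_iff_nontrivial.mp (by omega)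
  haveI := S.isPGroup'.center_nontrivial
  obtain ⟨k, k1, k2⟩ := (S.isPGroup'.to_subgroup (Subgroup.center S)).nontrivial_iff_card.mp
    inferInstance
  obtain ⟨z', hz⟩ := exists_prime_orderOf_dvd_card' (G := Subgroup.center S) 2
    (k2 ▸ dvd_pow_self 2 k1.ne')
  rw [← Subgroup.orderOf_coe, ← Subgroup.orderOf_coe] at hz
  set z : G := ((z' : S) : G)
  have h1 : 2 ^ 6 ∣ Nat.card (Subgroup.centralizer ({z} : Set G)) := hS ▸ Subgroup.card_dvd_of_le
    fun g hg => Subgroup.mem_centralizer_singleton_iff.mpr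
      (congrArg Subtype.val (Subgroup.mem_center_iff.mp z'.2 ⟨g, hg⟩))
  have h2 := T.not_dvd hz
  have h3 : ¬ 5 ∣ Nat.card (Subgroup.centralizer ({z} : Set G)) := fun h => by
    obtain ⟨y, hy⟩ := exists_prime_orderOf_dvd_card' 5 h
    rw [← Subgroup.orderOf_coe] at hy
    have c : Commute (y : G) z := Subgroup.mem_centralizer_singleton_iff.mp y.2
    have e := order_mul c hy hz (by norm_num)
    have e1 := ((I.sing _ (e ▸ dvd_mul_right _ _)).resolve_left fun h => by
      have := order_conj h; rw [F.hx] at this; omega).pow 5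
    rw [I.pw, c.mul_pow, ← hy, pow_orderOf_eq_one, hy, one_mul, show 5 = 2 * 2 + 1 from rfl,
      pow_succ, pow_mul, ← hz, pow_orderOf_eq_one, one_pow, one_mul] at e1
    have e2 := H6.column_orthogonality_isConj e1.symm
    rw [Finset.sum_congr rfl fun χ _ => by
      rw [← H6.classFun_of_isConj (irr_cls χ) e1], H6.column_orthogonality_self,
      I.card_cent hG hc T] at e2
    rw [← Nat.cast_injective e2] at h1
    omega
  have h4 := (Subgroup.centralizer ({z} : Set G)).card_mul_index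
  rw [hG] at h4
  have d0 := dg_triv (G := G)
  have d1 := T.dθ
  have d3 := T.d45
  have d4 := T.d54
  have d5 := T.d120
  have d6 := T.d144
  have ne : ∀ {χ ψ : IrrCharacter G}, dg χ ≠ dg ψ → χ ≠ ψ := fun h e => h (e ▸ rfl)
  choose r hr _ using fun χ : IrrCharacter G =>
    int_of_invol χ (t := z) (by rw [← sq, ← hz, pow_orderOf_eq_one])
  have le : ∑ χ ∈ {triv G, T.x45, T.x54, T.x120, T.x144}, r χ ^ 2 ≤
      Nat.card (Subgroup.centralizer ({z} : Set G)) := by
    rw [← col_sq hr]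
    exact Finset.sum_le_sum_of_subset_of_nonneg (Finset.subset_univ _) fun _ _ _ => sq_nonneg _
  rw [Finset.sum_insert, Finset.sum_insert, Finset.sum_insert, Finset.sum_pair (ne (by omega))]
    at le
  rotate_left
  · simp only [Finset.mem_insert, Finset.mem_singleton, not_or]
    exact ⟨ne (by omega), ne (by omega)⟩
  · simp only [Finset.mem_insert, Finset.mem_singleton, not_or]
    exact ⟨ne (by omega), ne (by omega), ne (by omega)⟩
  · simp only [Finset.mem_insert, Finset.mem_singleton, not_or]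
    exact ⟨ne (by omega), ne (by omega), ne (by omega), ne (by omega)⟩
  have r0 : r (triv G) = 1 := by have := hr (triv G); rw [triv_apply] at this; exact_mod_cast this.symm
  have c1 := dvd_central T.θ (hr _)
  have c2 := dvd_central T.x54 (hr _)
  have c3 := dvd_central T.x120 (hr _)
  have c4 := dvd_central T.x144 (hr _)
  obtain ⟨e1, e2, -, e3, e4⟩ := invol_val (hna hG) (χ := T.θ) (by omega) hz
  obtain ⟨f1, f2, -, f3, f4⟩ := invol_val (hna hG) (χ := T.x45) (by omega) hz
  rw [hr, Int.cast_inj] at e2 f2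
  subst e2 f2
  rw [d1] at c1 e3 e4
  rw [d3] at f3 f4
  rw [d4] at c2
  rw [d5] at c3
  rw [d6] at c4
  obtain ⟨-, t1, t2, t3, t4, t5⟩ := I.col hG hc T
  have q1 := T.rel z (by omega)
  have q2 := T.pair z z hz hz
  have q3 := T.pair I.t z I.ht hz
  simp only [hr, I.hu, t1, t2, t3, t4, t5] at q1 q2 q3
  rw [r0] at le
  obtain ⟨g1, g2⟩ := z_arith h1 h2 h3 h4 c1 c2 c3 c4 e3 e4 f3 f4 (by exact_mod_cast q1) (by
    have : (2160 + 48 * r T.x45 ^ 2 - 40 * r T.x54 ^ 2 - 18 * r T.x120 ^ 2 + 15 * r T.x144 ^ 2 -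
      135 * r T.θ ^ 2 : ℂ) = 0 := by linear_combination 2160 * q2
    exact_mod_cast this) (by
    have : (36 + 4 * r T.x45 - 4 * r T.x54 + r T.x144 - 9 * r T.θ : ℂ) = 0 := by
      push_cast at q3; linear_combination 36 * q3
    exact_mod_cast this) le
  exact ⟨z, hz, g1, by rw [hr, g2]; rfl⟩

open Classical in
theorem card_cls [Fintype G] (a : G) : (Finset.univ.filter fun g => IsConj a g).card =
    (Subgroup.centralizer ({a} : Set G)).index := by
  rw [← H6.card_isConj_eq_index, Nat.card_eq_fintype_card, Fintype.card_subtype]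

open Classical in
theorem two_cls [Fintype G] {a b : G} (h : ¬ IsConj a b) :
    (Finset.univ.filter fun g => IsConj a g ∨ IsConj b g).card =
      (Subgroup.centralizer ({a} : Set G)).index + (Subgroup.centralizer ({b} : Set G)).index := by
  rw [Finset.filter_or, Finset.card_union_of_disjoint (Finset.disjoint_filter.mpr
    fun g _ h1 h2 => h (h1.trans h2.symm)), card_cls, card_cls]

theorem index_of_card {a : G} {m n : ℕ} (hG : Nat.card G = m * n) (hm : 0 < m)
    (h : Nat.card (Subgroup.centralizer ({a} : Set G)) = m) :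
    (Subgroup.centralizer ({a} : Set G)).index = n := by
  have := (Subgroup.centralizer ({a} : Set G)).card_mul_index
  rw [h, hG] at this
  exact Nat.eq_of_mul_eq_mul_left hm this

/-- the character of degree 54 takes values `0, 2` at elements of order four -/
theorem val_four [Fintype G] (hG : Nat.card G = 95040) (F : E5 G) (hc : F.c = 2) (T : T11 G)
    (I : I5 F) (v54 : F.v T.x54 = -1) {r : G → ℤ} (hr : ∀ g, (T.x54 : G → ℂ) g = r g)
    (h2 : ∀ s, orderOf s = 2 → r s = 6)
    (h3 : 891 ≤ (Finset.univ.filter fun g : G => orderOf g = 2).card) {w : G} (hw : orderOf w = 4) :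
    r w % 8 ≠ 6 := by
  classical
  intro hw'
  have d0 := dg_triv (G := G)
  have d4 := T.d54
  have e1 := H6.irr_inner_self T.x54.2
  have e2 := H6.irr_inner_ne T.x54.2 (triv G).2 fun e => by
    rw [show T.x54 = triv G from Subtype.ext e] at d4; omega
  rw [H6.classInner_def, hG, inv_mul_eq_iff_eq_mul₀ (by norm_num)] at e1 e2
  simp only [hr, triv_apply, map_intCast, map_one, mul_one, mul_zero] at e1 e2
  have e3 : ∑ g, r g * r g = 95040 := by exact_mod_cast e1
  have e4 : ∑ g, r g = 0 := by exact_mod_cast e2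
  have cj : ∀ {a b}, IsConj a b → r b = r a := fun h => by
    have := H6.classFun_of_isConj (irr_cls T.x54) h
    rw [hr, hr, Int.cast_inj] at this
    exact this.symm
  have r1 : r 1 = 54 := by have := hr 1; rw [dg_cast, d4] at this; exact_mod_cast this.symm
  have rx : r F.x = -1 := by have := hr F.x; rw [F.hv, v54, Int.cast_inj] at this; exact this.symm
  have r11 : ∀ g, 11 ∣ orderOf g → r g = -1 := fun g h => by
    have := hr g; rw [T.val g h] at this; exact_mod_cast this.symm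
  let f : G → ℤ := fun g => r g * (r g - 2) + if IsConj (I.t * F.x) g then 1 else 0
  have f0 : ∀ g, 0 ≤ f g := fun g => by
    by_cases h : r g = 1
    · have : IsConj (I.t * F.x) g := by
        have k1 : ¬ 11 ∣ orderOf g := fun k => by have := r11 g k; omega
        have k2 : ¬ 3 ∣ orderOf g := fun k => by
          have := van_of_pow_dvd (χ := T.x54) (p := 3) (k := 3) (by norm_num) (by rw [hG]; norm_num)
            (by rw [d4]; norm_num) k
          rw [hr, h] at this
          simp at this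
        by_cases k3 : 5 ∣ orderOf g
        · exact (I.sing g k3).resolve_left fun k => by have := cj k; omega
        exfalso
        have k4 : orderOf g ∣ 2 ^ 6 := by
          have := orderOf_dvd_natCard g
          rw [hG, show 95040 = 2 ^ 6 * (3 ^ 3 * 5 * 11) from rfl] at this
          refine Nat.Coprime.dvd_of_dvd_mul_right ?_ this
          refine Nat.Coprime.mul_right (Nat.Coprime.mul_right (Nat.Coprime.pow_right _ ?_) ?_) ?_ <;>
            refine ((Nat.Prime.coprime_iff_not_dvd (by norm_num)).mpr ‹_›).symm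
        have := modEq_of_val (irr_chr T.x54) Nat.prime_two (orderOf_dvd_iff_pow_eq_one.mp k4) (hr g)
        rw [h, show charDegree _ = 54 from d4] at this
        norm_num [Int.ModEq] at this
      simp only [f, h, if_pos this]
      norm_num
    · have : 0 ≤ r g * (r g - 2) := by
        rcases lt_or_gt_of_ne h with k | k <;> nlinarith
      simp only [f]
      split_ifs <;> omega
  have f1 : ∑ g, f g = 95040 + 9504 := by
    simp only [f, Finset.sum_add_distrib, mul_sub, Finset.sum_sub_distrib, ← Finset.sum_mul, e3, e4,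
      Finset.sum_boole, card_cls, index_of_card (m := 10) (n := 9504) hG (by norm_num) I.cen]
    norm_num
  have f2 := Finset.sum_fiberwise_le_sum_of_sum_fiber_nonneg (s := Finset.univ)
    (t := {1, 2, 4, 5, 11}) (g := orderOf) (f := f) fun _ _ => Finset.sum_nonneg fun g _ => f0 g
  have f3 : ∀ g, r g * (r g - 2) ≤ f g := fun g => by simp only [f]; split_ifs <;> omega
  have f4 : ∀ (k : ℕ) (S : Finset G) (c : ℤ), (∀ g ∈ S, orderOf g = k ∧ c ≤ r g * (r g - 2)) →
      S.card * c ≤ ∑ g ∈ Finset.univ.filter (orderOf · = k), f g := fun k S c h => by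
    rw [← nsmul_eq_mul]
    exact (Finset.card_nsmul_le_sum S f c fun g hg => (h g hg).2.trans (f3 g)).trans
      (Finset.sum_le_sum_of_subset_of_nonneg (fun g hg => by simpa using (h g hg).1)
        fun g _ _ => f0 g)
  have g1 := f4 1 {1} 2808 (by simp [r1])
  have g2 := f4 2 (Finset.univ.filter (orderOf · = 2)) 24 fun g hg => by
    have := (Finset.mem_filter.mp hg).2
    exact ⟨this, by rw [h2 g this]; norm_num⟩
  have g4 := f4 4 {w} 8 (by
    simp only [Finset.mem_singleton, forall_eq, hw, true_and]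
    have : r w ≤ -2 ∨ 6 ≤ r w := by omega
    rcases this with h | h <;> nlinarith)
  have g5 := f4 5 (Finset.univ.filter fun g => IsConj F.x g) 3 fun g hg => by
    have := (Finset.mem_filter.mp hg).2
    exact ⟨by rw [order_conj this, F.hx], by rw [cj this, rx]; norm_num⟩
  have g11 := f4 11 (Finset.univ.filter fun g => IsConj T.y g ∨ IsConj T.y⁻¹ g) 3 fun g hg => by
    have : orderOf g = 11 := by
      rcases (Finset.mem_filter.mp hg).2 with h | h
      · rw [order_conj h, T.hy]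
      · rw [order_conj h, orderOf_inv, T.hy]
    exact ⟨this, by rw [r11 g (by rw [this])]; norm_num⟩
  rw [card_cls, index_of_card (m := 10) (n := 9504) hG (by norm_num) (by rw [F.cen, hc])] at g5
  rw [two_cls T.nreal, index_of_card (m := 11) (n := 8640) hG (by norm_num) T.cen,
    index_of_card (m := 11) (n := 8640) hG (by norm_num) (by
      rw [← T.cen]; congr 2; ext g
      simp only [Subgroup.mem_centralizer_singleton_iff]
      exact Commute.inv_right_iff)] at g11
  rw [f1, Finset.sum_insert (by simp), Finset.sum_insert (by simp), Finset.sum_insert (by simp),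
    Finset.sum_pair (by simp)] at f2
  simp only [Finset.card_singleton] at g1 g4
  omega

theorem exists_four (hG : Nat.card G = 95040) {t : G} (ht : orderOf t = 2)
    (h : Nat.card (Subgroup.centralizer ({t} : Set G)) = 240) : ∃ w : G, orderOf w = 4 := by
  by_contra hc
  push Not at hc
  obtain ⟨S, hS⟩ := (IsPGroup.of_card (p := 2) (n := 1) (G := Subgroup.zpowers t)
    (by rw [Nat.card_zpowers, ht, pow_one])).exists_le_sylow
  have h1 : Nat.card S = 2 ^ 6 := H36.card_sylow_eq_pow S (by omega) (by omega)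
  have h2 : ∀ g ∈ (S : Subgroup G), g * g = 1 := fun g hg => by
    obtain ⟨k, -, hk⟩ := (Nat.dvd_prime_pow Nat.prime_two).mp
      (h1 ▸ Subgroup.orderOf_dvd_natCard _ hg)
    rw [← sq, ← orderOf_dvd_iff_pow_eq_one, hk]
    match k, hk with
    | 0, _ => norm_num
    | 1, _ => norm_num
    | k + 2, hk =>
      refine (hc (g ^ 2 ^ k) ?_).elim
      rw [orderOf_pow_of_dvd (by positivity) (hk ▸ pow_dvd_pow 2 (by omega)), hk, pow_add,
        Nat.mul_div_cancel_left _ (by positivity)]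
      rfl
  have h3 : (S : Subgroup G) ≤ Subgroup.centralizer ({t} : Set G) := fun g hg => by
    have ht' := hS (Subgroup.mem_zpowers t)
    rw [Subgroup.mem_centralizer_singleton_iff, ← inv_eq_of_mul_eq_one_right (h2 _ (mul_mem hg ht')),
      mul_inv_rev, inv_eq_of_mul_eq_one_right (h2 _ hg), inv_eq_of_mul_eq_one_right (h2 _ ht')]
  have := Subgroup.card_dvd_of_le h3
  rw [h, h1] at this
  omega

theorem good (hG : Nat.card G = 95040) : Good G := by
  classical
  by_contra hb
  haveI := Fintype.ofFinite G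
  obtain ⟨E⟩ := nonempty_E11 hG hb
  obtain ⟨F⟩ := nonempty_E5 hG E
  obtain ⟨⟨T⟩, hc⟩ := exists_T11 hG E F
  obtain ⟨I⟩ := nonempty_I5 hG F hc
  obtain ⟨p, q, V, v1, v2, v3, hV, hpq, u11, sum⟩ := exists_pq hG F hc T I
  obtain ⟨z, hz, z1, z2⟩ := exists_z hG F hc T I
  obtain ⟨h1, h2, h3⟩ := I.shape hG hc T
  obtain ⟨-, -, -, t3, -⟩ := I.col hG hc T
  have d0 := dg_triv (G := G)
  have d1 := T.dθ
  have d2 := T.dθ'
  have d3 := T.d45
  have d4 := T.d54
  have d5 := T.d120
  have d6 := T.d144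
  have d7 := F.d66
  have d8 := F.d99
  have tz : ¬ IsConj I.t z := fun h => by
    have := card_cls z
    rw [z1, Finset.filter_congr (q := fun g => IsConj I.t g)
      fun g _ => ⟨h.trans, h.symm.trans⟩, card_cls, I.index_cent hG hc T] at this
    omega
  have a1 := two_cls tz
  rw [z1, I.index_cent hG hc T] at a1
  have a2 : (Finset.univ.filter fun g => IsConj I.t g ∨ IsConj z g) ⊆
      Finset.univ.filter fun g : G => orderOf g = 2 := fun g hg => by
    rcases (Finset.mem_filter.mp hg).2 with h | h <;> simp [order_conj h, I.ht, hz]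
  have a3 := Finset.card_le_card a2
  have a4 := H87.card_invol_le_sum (G := G)
  set S := (Finset.univ.erase (H87.irrOne G)).filter fun χ : IrrCharacter G => H87.IsReal (χ : G → ℂ)
    with hS
  rw [Nat.card_eq_fintype_card, Fintype.card_subtype, ← Finset.univ_inter S,
    ← Finset.sum_ite_mem, sum] at a4
  have b1 : ∀ χ : IrrCharacter G, (if χ ∈ S then dg χ else 0) ≤ dg χ := fun χ => by
    split_ifs <;> omega
  have b2 := Finset.sum_le_sum fun χ (_ : χ ∈ V) => b1 χ
  have b3 : 55 * ∑ χ ∈ V, dg χ ≤ ∑ χ ∈ V, dg χ ^ 2 := by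
    rw [Finset.mul_sum]
    exact Finset.sum_le_sum fun χ h => by
      rw [sq]; exact Nat.mul_le_mul_right _ (Nat.le_of_dvd (dg_pos χ) (hV χ h).2)
  have b4 := sum_dg_sq (G := G)
  rw [sum, d0, d1, d2, d3, d4, d5, d7, d8, h2, h3, hG] at b4
  rw [if_neg (show triv G ∉ S from fun h => by simp [hS, H87.irrOne, H84.irrOne] at h),
    if_neg (show T.θ ∉ S from fun h => T.nrθ (Finset.mem_filter.mp h).2),
    if_neg (show T.θ' ∉ S from fun h => T.nrθ' (Finset.mem_filter.mp h).2)] at a4
  have c1 := b1 F.x66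
  have c2 := b1 F.x99
  have c3 := b1 F.a
  have c4 := b1 F.b
  have c5 := b1 T.x54
  have c6 := b1 p
  have c7 := b1 q
  have c8 := b1 T.x45
  have c9 := b1 T.x120
  simp only [dg] at *
  obtain ⟨p1, q1, p2, q2⟩ := hpq.resolve_right fun h => by
    rw [h.1, h.2] at b4
    omega
  rw [p1, q1] at b4
  have pr : H87.IsReal (p : G → ℂ) := by
    by_contra h
    rw [if_neg (show p ∉ S from fun k => h (Finset.mem_filter.mp k).2)] at a4
    omega
  have a5 := Finset.eq_of_subset_of_card_le a2 (by omega)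
  have uq : ∀ χ : IrrCharacter G, ¬ 11 ∣ dg χ → dg χ ≠ 16 → ∀ g, ∃ z : ℤ, (χ : G → ℂ) g = z :=
    fun χ k1 k2 => int_of_unique fun ψ k3 => by
      have e1 := T.all χ k1
      have e2 := T.all ψ (k3 ▸ k1)
      simp only [dg] at k2 k3
      rcases e1 with rfl | rfl | rfl | rfl | rfl | rfl | rfl <;>
        rcases e2 with rfl | rfl | rfl | rfl | rfl | rfl | rfl <;> first | rfl | omega
  choose r hr using uq T.x54 (by simp only [dg]; omega) (by simp only [dg]; omega)
  have r2 : ∀ s, orderOf s = 2 → r s = 6 := fun s hs => by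
    have : (r s : ℂ) = 6 := by
      rcases (Finset.mem_filter.mp (a5.ge (Finset.mem_filter.mpr ⟨Finset.mem_univ s, hs⟩))).2 with
        h | h
      · rw [← hr, ← H6.classFun_of_isConj (irr_cls _) h, I.hu, t3]; rfl
      · rw [← hr, ← H6.classFun_of_isConj (irr_cls _) h, z2]
    exact_mod_cast this
  obtain ⟨w, hw⟩ := exists_four hG I.ht (I.card_cent hG hc T)
  refine T.no11 p p1 (int_of_fixed (fun ψ => ∀ g (z : ℤ), (p : G → ℂ) g = z → (ψ : G → ℂ) g = z)
    (fun σ g z h => by simp [h]) fun ψ k1 k2 => (u11 ψ (k2.trans p1)).resolve_right ?_)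
  rintro rfl
  refine val_four hG F hc T I v3 hr r2 (by omega) hw ?_
  have rel : ∀ g, orderOf g = 2 ∨ orderOf g = 4 → ∀ a b : ℤ, (p : G → ℂ) g = a →
      (T.θ : G → ℂ) g = b → r g = 2 * a + 2 * b := fun g hg a b ha hb => by
    have e1 := H6.column_orthogonality_not_isConj (g := g) (h := F.x) fun h => by
      have := order_conj h; rw [F.hx] at this; omega
    have e2 := F.rel g (by omega)
    obtain ⟨c1, c2, c3, c4, c5⟩ := F.valZ (by rw [F.hx]) F.hv
    have van : ∀ χ : IrrCharacter G, 5 ∣ dg χ → (χ : G → ℂ) F.x = 0 := fun χ h =>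
      van_of_dvd (p := 5) (by norm_num) (by rw [hG]; norm_num) h (by rw [F.hx])
    rw [sum, Finset.sum_eq_zero fun χ h => by rw [F.hv, (hV χ h).1]; simp,
      van T.x45 (by simp only [dg]; omega), van T.x120 (by simp only [dg]; omega),
      T.reg g (by omega), k1 g a ha, ha, hb, hr, triv_apply] at e1
    simp only [F.hv, c1, c2, c3, c4, c5, v1, v2, v3, p2, q2, map_intCast, map_zero] at e1
    have : (r g : ℂ) = 2 * a + 2 * b := by push_cast at e1; linear_combination e2 - e1
    exact_mod_cast this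
  have w4 : w ^ 4 = 1 := hw ▸ pow_orderOf_eq_one w
  have w2 : orderOf (w ^ 2) = 2 := by rw [orderOf_pow_of_dvd (by norm_num) (by omega), hw]
  have ww : w ^ 2 * w ^ 2 = 1 := by rw [← pow_add, w4]
  obtain ⟨a, ha⟩ := H8.exists_int_of_forall_pow_eq (H6.irr_isGen p.2) w fun m hm => by
    rw [hw] at hm
    have : m % 4 = 1 ∨ m % 4 = 3 := by
      have := (Nat.Coprime.coprime_dvd_right (show 2 ∣ 4 by norm_num) hm).odd_of_right
      rw [Nat.odd_iff] at this
      omega
    rw [← pow_mod_orderOf, hw]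
    rcases this with h | h <;> rw [h]
    · rw [pow_one]
    · rw [show w ^ 3 = w⁻¹ from eq_inv_of_mul_eq_one_left (by rw [← pow_succ, w4]),
        H6.char_inv (irr_chr p), H87.isReal_iff_conj.mp pr]
  obtain ⟨b, hb⟩ : ∃ b : ℤ, (T.θ : G → ℂ) w = b := by
    obtain ⟨b1, e1⟩ := uq T.x45 (by simp only [dg]; omega) (by simp only [dg]; omega) w
    obtain ⟨b2, e2⟩ := uq T.x120 (by simp only [dg]; omega) (by simp only [dg]; omega) w
    obtain ⟨b3, e3⟩ := uq T.x144 (by simp only [dg]; omega) (by simp only [dg]; omega) w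
    exact ⟨1 + b1 - r w - b2 + b3, by rw [T.rel w (by omega), e1, e2, e3, hr]; push_cast; rfl⟩
  obtain ⟨a', ha', -⟩ := int_of_invol p ww
  obtain ⟨b', hb', -⟩ := int_of_invol T.θ ww
  have hP : _root_.commutator G = ⊤ := H36.commutator_eq_top_of_simple fun h => by
    obtain ⟨a, b, hab⟩ := hna hG
    exact hab (h.is_comm.comm a b)
  have m1 := mod_eight hP (irr_chr p) w4 (n := 11) (by rw [dg_cast, dg, p1]; rfl) ha ha'
  have m2 := mod_eight hP (irr_chr T.θ) w4 (n := 16) (by rw [dg_cast, dg, d1]; rfl) hb hb'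
  have m3 := rel w (Or.inr hw) a b ha hb
  have m4 := rel _ (Or.inl w2) a' b' ha' hb'
  have m5 := r2 _ w2
  unfold Int.ModEq at m1 m2
  omega

theorem isoM12 (hG : Nat.card G = 95040) : Spor.IsoM12 G := by
  obtain ⟨H, h1, h2⟩ := good hG
  exact isoM12_of_index hG h1 h2

end H17.Ord.M12
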