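import Mathlib
import Cfsg.Agent.Base
import Cfsg.Agent.Lib.Ord.DegG
import Cfsg.Agent.Lib.Ord.M12C
import Cfsg.Agent.Lib.M24Geom.ClsM12

/-! There is no simple group of order 47520 or 15840; character degrees of M12. -/

set_option autoImplicit false
set_option linter.style.haveILetI false
set_option linter.unusedSectionVars false

open Cfsg H4.Sv MulAction

namespace H17.Ord
variable {G : Type*} [Group G] [Finite G]

open H96.Geo H15 in
theorem cent_of_table {H : Subgroup (Equiv.Perm GolayPt)} {L : List Cl} (T : ClassTable H L)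
    (g : H) : ∃ e ∈ L, orderOf g = e.o ∧ Nat.card (Subgroup.centralizer ({g} : Set H)) = e.z := by
  obtain ⟨e, he, h1, -, k, hk, h2⟩ := T.data g.2
  refine ⟨e, he, by rw [← Subgroup.orderOf_coe, h1], ?_⟩
  rw [← T.cent e he]
  refine Nat.card_congr ⟨fun x => ⟨k⁻¹ * x * k, H.mul_mem (H.mul_mem (H.inv_mem hk) x.1.2) hk, ?_⟩,
    fun x => ⟨⟨k * x * k⁻¹, H.mul_mem (H.mul_mem hk x.2.1) (H.inv_mem hk)⟩, ?_⟩,
    fun x => Subtype.ext (Subtype.ext (by simp [mul_assoc])), fun x => Subtype.ext (by simp [mul_assoc])⟩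
  · have := congrArg Subtype.val (Subgroup.mem_centralizer_singleton_iff.mp x.2)
    simp only [Subgroup.coe_mul, ← h2] at this
    refine Subgroup.mem_centralizer_singleton_iff.mpr ?_
    calc _ = k⁻¹ * (x * (k * permOf e.c * k⁻¹)) * k := by group
      _ = _ := by rw [this]; group
  · refine Subgroup.mem_centralizer_singleton_iff.mpr (Subtype.ext ?_)
    have := Subgroup.mem_centralizer_singleton_iff.mp x.2.2
    simp only [Subgroup.coe_mul, ← h2]
    calc _ = k * (x * permOf e.c) * k⁻¹ := by group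
      _ = _ := by rw [this]; group

open H96.Geo H15 in
theorem length_le_of_table {H : Subgroup (Equiv.Perm GolayPt)} {L : List Cl}
    (T : ClassTable H L) : L.length ≤ Nat.card (IrrCharacter H) := by
  rw [H6.card_irr_eq_card_conjClasses, ← Nat.card_fin L.length]
  refine Nat.card_le_card_of_injective (fun i => ConjClasses.mk
    (⟨permOf (L.get i).c, (T.good _ (List.get_mem _ _)).2⟩ : H)) fun i j h => ?_
  have h1 := ConjClasses.mk_eq_mk_iff_isConj.mp h
  have h2 := List.pairwise_iff_get.mp T.sep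
  by_contra hne
  rcases lt_or_gt_of_ne hne with h3 | h3
  · obtain ⟨k, hk⟩ := isConj_iff.mp h1
    exact h2 i j h3 k k.2 (congrArg Subtype.val hk)
  · obtain ⟨k, hk⟩ := isConj_iff.mp h1.symm
    exact h2 j i h3 k k.2 (congrArg Subtype.val hk)

theorem card_eq_of_action {Ω : Type*} [MulAction G Ω] [FaithfulSMul G Ω] [IsPretransitive G Ω]
    (h1 : 11 ∣ Nat.card G) (h2 : ¬ 7 ∣ Nat.card G) (h4 : 7920 < Nat.card G)
    (h3 : Nat.card Ω = 12) : Nat.card G = 95040 := by
  classical
  haveI : Finite Ω := Nat.finite_of_card_ne_zero (by omega)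
  haveI := Fintype.ofFinite Ω
  haveI : Fact (Nat.Prime 11) := ⟨by norm_num⟩
  obtain ⟨y, hy⟩ := exists_prime_orderOf_dvd_card' (G := G) 11 h1
  have y11 : y ^ 11 = 1 := hy ▸ pow_orderOf_eq_one y
  have k2 := H36.fixed_modEq_card (Ω := Ω) (by norm_num) y11
  obtain ⟨a, ha⟩ : {ω : Ω | y • ω = ω}.Nonempty := by
    rw [Set.nonempty_iff_ne_empty]
    intro e
    rw [e, h3] at k2
    simp [Nat.ModEq] at k2
  have c1 : (stabilizer G a).index = 12 := by rw [index_stabilizer_of_transitive, h3]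
  have c2 := (stabilizer G a).index_mul_card
  haveI := Fintype.ofFinite (SubMulAction.ofStabilizer G a)
  have c3 : Nat.card (SubMulAction.ofStabilizer G a) = 11 := by
    have := fintype_card_ofStabilizer (G := G) a
    rw [← Nat.card_eq_fintype_card, ← Nat.card_eq_fintype_card, h3] at this
    omega
  haveI : FaithfulSMul (stabilizer G a) (SubMulAction.ofStabilizer G a) := ⟨fun {g k} hgk => by
    refine Subtype.ext (eq_of_smul_eq_smul (α := Ω) fun ω => ?_)
    by_cases e : ω = a
    · rw [e, g.2, k.2]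
    · exact congrArg Subtype.val (hgk ⟨ω, e⟩)⟩
  obtain ⟨b, hb⟩ : ∃ b : SubMulAction.ofStabilizer G a, (⟨y, ha⟩ : stabilizer G a) • b ≠ b := by
    by_contra hc
    push Not at hc
    have : (⟨y, ha⟩ : stabilizer G a) = 1 :=
      eq_of_smul_eq_smul fun ω => (hc ω).trans (one_smul _ ω).symm
    rw [show y = 1 from congrArg Subtype.val this] at hy
    simp at hy
  obtain ⟨e, -, he⟩ := H26.exists_frame (G := stabilizer G a) (α := SubMulAction.ofStabilizer G a)
    c3 (c := (⟨y, ha⟩ : stabilizer G a)) (Subtype.ext y11) hb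
  haveI := H26.frame_isPretransitive he
  rw [c1] at c2
  have := (four_trans_of_eleven (K := stabilizer G a) c3 (by omega) (by omega)).2
  omega

variable [IsSimpleGroup G]

theorem card_eq_of_index (h1 : 11 ∣ Nat.card G) (h2 : ¬ 7 ∣ Nat.card G) (h3 : 7920 < Nat.card G)
    {H : Subgroup G} (hH : H ≠ ⊤) (hi : H.index ≤ 12) : Nat.card G = 95040 := by
  have hna : ¬ IsMulCommutative G := fun h => by
    obtain ⟨a, b, hab⟩ := noncomm_of_not_prime (G := G) fun hp => by
      have := (Nat.prime_dvd_prime_iff_eq (by norm_num) hp).mp h1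
      omega
    exact hab (h.is_comm.comm a b)
  have k1 : 11 ≤ H.index := by
    by_contra hc
    have := ((h1.mul_left 2).trans (H36.two_mul_card_dvd_factorial hna hH)).trans
      (Nat.factorial_dvd_factorial (by omega : H.index ≤ 10))
    norm_num [Nat.factorial] at this
  haveI := faithful_quot hH
  have k0 : H.index ≠ 11 := fun e => by
    have := (four_trans_of_eleven (K := G) (β := G ⧸ H) e (by omega) h2).2
    omega
  exact card_eq_of_action (Ω := G ⧸ H) h1 h2 h3 (by rw [← Subgroup.index]; omega)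

theorem c47520 : chkOne 47520 11 (fun n e c _ => n == 12 || (e == 10 && c == 3)) = true := by
  decide +kernel

theorem card_ne_47520 : Nat.card G ≠ 47520 := fun hG => by
  classical
  haveI : Fact (Nat.Prime 11) := ⟨by norm_num⟩
  have hna := noncomm_of_not_prime (G := G) (by rw [hG]; norm_num)
  have key : ∀ H : Subgroup G, H ≠ ⊤ → ¬ H.index ≤ 12 := fun H h1 h2 => by
    have := card_eq_of_index (by omega) (by omega) (by omega) h1 h2
    omega
  obtain ⟨P, hP⟩ := exists_subgroup_prime (G := G) 11 (by omega)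
  obtain ⟨e, k, n, hC, hN, hn, hm, h1, h2, h3, h4, ⟨B⟩⟩ :=
    setup hna 11 (m := 4320) hG (by norm_num) _ hP
  obtain ⟨c, l, k1, k2, -⟩ := sieve_PB hna (by norm_num) B (by rw [hG]; exact c47520)
  obtain rfl : k = c := by omega
  simp only [Bool.or_eq_true, Bool.and_eq_true, beq_iff_eq, hn] at k1
  rcases k1 with rfl | ⟨rfl, rfl⟩
  · exact key _ (by rw [Ne, ← Subgroup.index_eq_one]; omega) hn.le
  set C := Subgroup.centralizer (P : Set G)
  obtain ⟨R⟩ : Nonempty (Sylow 3 C) := inferInstance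
  have h1 : Nat.card R = 3 := H36.card_sylow_eq_pow R (k := 1) (by omega) (by omega)
  have h3 : Nat.card (Sylow 3 C) = 1 := by
    have k1 := card_sylow_modEq_one 3 C
    have k2 := R.card_dvd_index
    have k3 := (R : Subgroup C).card_mul_index
    rw [h1, hC] at k3
    rw [show (R : Subgroup C).index = 11 by omega, Nat.dvd_prime (by norm_num)] at k2
    unfold Nat.ModEq at k1
    omega
  haveI := (Nat.card_eq_one_iff_unique.mp h3).1
  set R' := (R : Subgroup C).map C.subtype
  have h4 : Nat.card R' = 3 := by rw [Subgroup.card_map_of_injective C.subtype_injective, h1]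
  have h5 : Subgroup.normalizer (P : Set G) ≤ Subgroup.normalizer (R' : Set G) := fun n hn => by
    refine Subgroup.mem_normalizer_fintype ?_
    rintro _ ⟨v, hv, rfl⟩
    have k1 : n * v * n⁻¹ ∈ C := fun a ha => by
      have := v.2 _ ((Subgroup.mem_normalizer_iff''.mp hn a).mp ha)
      calc _ = n * (n⁻¹ * a * n * v) * n⁻¹ := by group
        _ = _ := by rw [this]; group
    have k2 : orderOf (⟨_, k1⟩ : C) ∣ 3 := by
      rw [← Subgroup.orderOf_coe, H35.orderOf_conj, Subgroup.orderOf_coe, ← h1]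
      exact Subgroup.orderOf_dvd_natCard _ hv
    obtain ⟨S, hS⟩ := (IsPGroup.of_card_dvd_pow (p := 3) (n := 1)
      (G := Subgroup.zpowers (⟨_, k1⟩ : C)) (by rwa [Nat.card_zpowers])).exists_le_sylow
    exact ⟨_, Subsingleton.elim S R ▸ hS (Subgroup.mem_zpowers _), rfl⟩
  obtain ⟨r, h6, h7⟩ := card_over_normalizer hP B.ind h5
  have h8 := Sylow.prime_pow_dvd_card_normalizer (p := 3) (n := 1) (by rw [hG]; norm_num) h4
  refine key (Subgroup.normalizer (R' : Set G)) (fun e => ?_) ?_
  · rcases IsSimpleGroup.eq_bot_or_eq_top_of_normal R' (Subgroup.normalizer_eq_top_iff.mp e) with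
      k | k
    · rw [k, Subgroup.card_bot] at h4; omega
    · rw [k, Subgroup.card_top] at h4; omega
  have k1 := (Subgroup.normalizer (R' : Set G)).card_mul_index
  rw [h6, hN] at h8 k1
  rw [hG] at k1
  generalize (Subgroup.normalizer (R' : Set G)).index = i at *
  have k3 : r * i = 144 := by nlinarith
  have k4 : 12 ≤ r := by omega
  nlinarith

theorem c15840 : chkOne 15840 11 (fun n e c _ => n == 12 || (e == 10 && c == 1)) = true ∧
    chkOne 15840 5 (fun _ e _ l => cntDeg 5 e l 11 == 1 || cntDeg 5 e l 16 != 0) = true := by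
  decide +kernel

theorem card_ne_15840 : Nat.card G ≠ 15840 := fun hG => by
  classical
  haveI : Fact (Nat.Prime 11) := ⟨by norm_num⟩
  haveI : Fact (Nat.Prime 5) := ⟨by norm_num⟩
  have hna := noncomm_of_not_prime (G := G) (by rw [hG]; norm_num)
  have key : ∀ H : Subgroup G, H ≠ ⊤ → ¬ H.index ≤ 12 := fun H h1 h2 => by
    have := card_eq_of_index (by omega) (by omega) (by omega) h1 h2
    omega
  obtain ⟨y, hy⟩ := exists_prime_orderOf_dvd_card' (G := G) 11 (by omega)
  have hP : Nat.card (Subgroup.zpowers y) = 11 := by rw [Nat.card_zpowers, hy]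
  obtain ⟨e, k, n, hC, hN, hn, hm, h1, h2, h3, h4, ⟨B⟩⟩ :=
    setup hna 11 (m := 1440) hG (by norm_num) _ hP
  obtain ⟨c, l, k1, k2, -⟩ := sieve_PB hna (by norm_num) B (by rw [hG]; exact c15840.1)
  obtain rfl : k = c := by omega
  simp only [Bool.or_eq_true, Bool.and_eq_true, beq_iff_eq, hn] at k1
  rcases k1 with rfl | ⟨rfl, rfl⟩
  · exact key _ (by rw [Ne, ← Subgroup.index_eq_one]; omega) hn.le
  obtain ⟨Q, hQ⟩ := exists_subgroup_prime (G := G) 5 (by omega)
  obtain ⟨e, -, -, -, -, -, -, -, -, -, -, ⟨B'⟩⟩ := setup hna 5 (m := 3168) hG (by norm_num) _ hQ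
  obtain ⟨c, l, k1, -, k3⟩ := sieve_PB hna (by norm_num) B' (by rw [hG]; exact c15840.2)
  simp only [Bool.or_eq_true, beq_iff_eq, bne_iff_ne, ← k3 11 (by norm_num),
    ← k3 16 (by norm_num)] at k1
  rcases k1 with k1 | k1
  · obtain ⟨χ, c1, c2, c3⟩ := cnt_eq_one k1
    have y2 : y ^ 2 ≠ 1 := fun e => by have := hy ▸ orderOf_dvd_of_pow_eq_one e; omega
    obtain ⟨m, m1, m2⟩ := exists_conj_of_relIndex (by norm_num) hy B.he
      (Subgroup.pow_mem _ (Subgroup.mem_zpowers y) 2) y2
    have itr : ∀ k : ℕ, m ^ k * y * (m ^ k)⁻¹ = y ^ 2 ^ k := fun k => by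
      induction k with
      | zero => simp
      | succ k ih =>
        calc _ = m * (m ^ k * y * (m ^ k)⁻¹) * m⁻¹ := by rw [pow_succ']; group
          _ = _ := by rw [ih, ← conj_pow, m2, ← pow_mul, pow_succ']
    obtain ⟨H, a1, a2⟩ := exists_index_of_char c2 (B'.int_of_unique (Finset.mem_union.mp c1)
      fun ψ h1 h2 => c3 ψ (Finset.mem_union.mpr h1) (h2.trans c2)) (by omega) hy (s := m ^ 22)
      (by
        rw [← pow_mul, show 22 * 5 = 11 * 1 * 10 from rfl, ← hN]
        exact congrArg Subtype.val (pow_card_eq_one' (x := (⟨m, m1⟩ : Subgroup.normalizer _))))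
      (by rw [itr, pow_eq_pow_iff_modEq, hy]; decide)
    exact key H a1 a2
  · obtain ⟨χ, -, c2⟩ := cnt_pos.mp (Nat.pos_of_ne_zero k1)
    have := B.mod_full rfl (selfcent_of_card hP hC) χ
    omega

/-- the orders of the simple groups involved in a group of order 95040 -/
theorem card_of_dvd_95040 (hna : ¬ IsMulCommutative G) (h1 : Nat.card G ∣ 95040)
    (h2 : 11 ∣ Nat.card G) : Nat.card G = 95040 ∨ Nat.card G = 7920 ∨ Nat.card G = 660 := by
  have d : ∀ n ∈ divs 95040, 11 ∣ n → n ∈ [95040, 47520, 15840, 7920, 660] ∨ kill n = true := by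
    decide +kernel
  have k1 := card_ne_47520 (G := G)
  have k2 := card_ne_15840 (G := G)
  have := (d _ (mem_divs (by norm_num) h1) h2).resolve_right (by rw [not_kill hna]; simp)
  simp only [List.mem_cons, List.not_mem_nil, or_false] at this
  omega

namespace M12

theorem cM12 : chkOne 95040 11 (fun _ e c l => c != 1 || (e == 5 && (cntDeg 11 e l 10 != 0 ||
      decide (2 ≤ ([6, 12, 16, 27, 32, 54, 72, 144].map (cntDeg 11 e l)).sum)))) = true ∧
    chkOne 95040 5 (fun _ e c l => c != 2 || (e == 4 && (cntDeg 5 e l 54 == 0 ||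
      [24, 36, 66, 96, 99].any fun d => cntDeg 5 e l d != 0))) = true := by
  decide +kernel

theorem degs_of (hG : Nat.card G = 95040) (hI : 15 ≤ Nat.card (IrrCharacter G))
    (T : ∀ g : G, (orderOf g = 5 → Nat.card (Subgroup.centralizer ({g} : Set G)) = 10) ∧
      (orderOf g = 11 → Nat.card (Subgroup.centralizer ({g} : Set G)) = 11) ∧
      (orderOf g = 2 → Nat.card (Subgroup.centralizer ({g} : Set G)) ≤ 240)) :
    (∃ χ : IrrCharacter G, 33 ∣ dg χ) ∧ ∃ χ : IrrCharacter G, 55 ∣ dg χ := by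
  have d1 : ∀ d ∈ divs 19008, d ^ 2 ≤ 95040 → (d % 5 = 1 ∨ d % 5 = 4) → (d % 11 = 0 ∨ d % 11 = 1 ∨
      d % 11 = 10 ∨ d % 11 = 5 ∨ d % 11 = 6) → ¬ 33 ∣ d → d ∈ [1, 6, 11, 16, 44, 54, 144, 176] := by
    decide +kernel
  classical
  have zc : ∀ g : G, Subgroup.centralizer ((Subgroup.zpowers g : Subgroup G) : Set G) =
    Subgroup.centralizer {g} := fun g => by
      rw [Subgroup.zpowers_eq_closure, Subgroup.centralizer_closure]
  obtain ⟨y, hy⟩ := exists_prime_orderOf_dvd_card' (G := G) 11 (by omega)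
  have hP : Nat.card (Subgroup.zpowers y) = 11 := by rw [Nat.card_zpowers, hy]
  obtain ⟨e, -, -, -, -, -, -, -, -, -, -, ⟨B⟩⟩ :=
    setup (hna hG) 11 (m := 8640) hG (by norm_num) _ hP
  obtain ⟨c, l, k1, k2, k3⟩ := sieve_PB (hna hG) (by norm_num) B (by rw [hG]; exact cM12.1)
  have hC := (T y).2.1 hy
  rw [← zc] at hC
  obtain rfl : c = 1 := by omega
  have hC' := selfcent_of_card hP hC
  simp only [bne_self_eq_false, Bool.false_or, Bool.or_eq_true, Bool.and_eq_true, beq_iff_eq,
    bne_iff_ne, decide_eq_true_eq] at k1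
  obtain ⟨rfl, k1⟩ := k1
  obtain ⟨x, hx⟩ := exists_prime_orderOf_dvd_card' (G := G) 5 (by omega)
  have hQ : Nat.card (Subgroup.zpowers x) = 5 := by rw [Nat.card_zpowers, hx]
  obtain ⟨e, -, -, -, -, -, -, -, -, -, -, ⟨B'⟩⟩ :=
    setup (hna hG) 5 (m := 19008) hG (by norm_num) _ hQ
  obtain ⟨c, l', j1, j2, j3⟩ := sieve_PB (hna hG) (by norm_num) B' (by rw [hG]; exact cM12.2)
  have hD := (T x).1 hx
  obtain rfl : c = 2 := by rw [zc] at j2; omega
  simp only [bne_self_eq_false, Bool.false_or, Bool.or_eq_true, Bool.and_eq_true, beq_iff_eq,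
    bne_iff_ne, List.any_eq_true] at j1
  obtain ⟨rfl, j1⟩ := j1
  obtain ⟨⟨t, t1⟩, t2⟩ := exists_prime_orderOf_dvd_card'
    (G := Subgroup.centralizer ({x} : Set G)) 2 (by omega)
  rw [Subgroup.orderOf_mk] at t2
  have h2 : Commute t x := Subgroup.mem_centralizer_singleton_iff.mp t1
  have h4 : orderOf (t * x) = 10 := order_mul h2 t2 hx (by norm_num)
  have h5 : (t * x) ^ 5 ^ 1 = t := by
    rw [pow_one, h2.mul_pow, ← hx, pow_orderOf_eq_one, mul_one, hx, show 5 = 2 * 2 + 1 from rfl,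
      pow_succ, pow_mul, ← t2, pow_orderOf_eq_one, one_pow, one_mul]
  choose u hu _ using fun χ : IrrCharacter G => int_of_invol χ (t := t)
    (by rw [← sq, ← t2, pow_orderOf_eq_one])
  have u4 : ∀ χ : IrrCharacter G, dg χ ≠ 1 → u χ % 4 = dg χ % 4 ∧ -(dg χ : ℤ) < u χ ∧ u χ < dg χ :=
    fun χ h => by
      obtain ⟨z, z1, z2⟩ := invol_val (hna hG) h t2
      rw [hu] at z1
      rwa [show u χ = z by exact_mod_cast z1]
  have u5 : ∀ (χ : IrrCharacter G) (z : ℤ), (χ : G → ℂ) (t * x) = z → u χ % 5 = z % 5 :=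
    fun χ z h => modEq_pow (irr_chr χ) (p := 5) (k := 1) (by norm_num) h (by rw [h5, hu])
  have ub : ∀ χ, -16 < u χ ∧ u χ < 16 := fun χ => by
    have e1 := Finset.single_le_sum (f := fun χ => u χ ^ 2) (fun _ _ => sq_nonneg _)
      (Finset.mem_univ χ)
    have e2 := (T t).2.2 t2
    rw [col_sq hu] at e1
    constructor <;> nlinarith
  constructor
  · by_contra hne
    push Not at hne
    obtain ⟨Z, s, z1, z2, z3, z4, z5, z6⟩ := B'.full rfl
    obtain rfl : Z = B'.X ∪ B'.Y := by ext; simp [z3]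
    have al : ∀ χ ∈ B'.X ∪ B'.Y, dg χ ∈ [1, 6, 11, 16, 44, 54, 144, 176] := fun χ h => by
      refine d1 _ (mem_divs (by norm_num) (B'.dvd_cof hG (Finset.mem_union.mp h))) ?_
        (by have := z4 χ h; omega) ?_ (hne χ)
      · simpa [hG] using sum_dg_sq_le {χ}
      by_cases e : 11 ∣ dg χ
      · omega
      rcases B.mem_of_not_dvd hC' e with e | e
      · have := B.modX e; omega
      · have := B.modY e; omega
    have c54 : cnt (B'.X ∪ B'.Y) 54 = 0 := by
      rw [j3 54 (by norm_num)]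
      refine j1.resolve_right fun ⟨d, a1, a2⟩ => ?_
      rw [← j3 d (by rintro rfl; simp at a1)] at a2
      obtain ⟨χ, a3, rfl⟩ := cnt_pos.mp (Nat.pos_of_ne_zero a2)
      have := al χ a3
      simp only [List.mem_cons, List.not_mem_nil, or_false] at this a1
      omega
    have neg : ∀ χ ∈ (B'.X ∪ B'.Y).erase (triv G), s χ * u χ ≤ -4 := fun χ h => by
      obtain ⟨a1, a2⟩ := Finset.mem_erase.mp h
      have a3 : dg χ ≠ 1 := fun e => a1 (eq_triv_of_dg (hna hG) e)
      have a4 := al χ a2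
      have a5 := cnt_eq_zero.mp c54 χ a2
      have a6 := u5 χ _ (z5 χ a2 _ (by omega))
      have a7 := u4 χ a3
      have a8 := ub χ
      simp only [List.mem_cons, List.not_mem_nil, or_false] at a4
      rcases z4 χ a2 with ⟨b1, b2⟩ | ⟨b1, b2⟩ <;> rw [b1] at a6 ⊢ <;> omega
    have e1 := z6 t (by omega)
    simp only [hu] at e1
    have e2 : ∑ χ ∈ B'.X ∪ B'.Y, s χ * u χ = 0 := by exact_mod_cast e1
    have e3 := Finset.sum_le_card_nsmul _ _ _ neg
    have e4 : u (triv G) = 1 := by have := hu (triv G); rw [triv_apply] at this; exact_mod_cast this.symm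
    have e5 : s (triv G) = 1 := by have := z4 _ z2; have := dg_triv (G := G); omega
    rw [← Finset.add_sum_erase _ _ z2, e4, e5] at e2
    rw [Finset.card_erase_of_mem z2, z1] at e3
    simp at e3
    omega
  by_contra hne
  push Not at hne
  rcases k1 with k1 | k1
  · rw [← k3 10 (by norm_num)] at k1
    obtain ⟨χ, -, a⟩ := cnt_pos.mp (Nat.pos_of_ne_zero k1)
    have a1 := u5 χ 0 (by
      rw [van_of_dvd (p := 5) (by norm_num) (by omega) (by omega) (by omega)]; simp)
    have a2 := u4 χ (by omega)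
    omega
  have x2 : x ^ 2 ≠ 1 := fun e => by have := hx ▸ orderOf_dvd_of_pow_eq_one e; omega
  obtain ⟨m, -, hm⟩ := exists_conj_of_relIndex (by norm_num) hx B'.he
    (Subgroup.pow_mem _ (Subgroup.mem_zpowers x) 2) x2
  choose v hv using int_of_conj_pow hm (by
    rw [hx]
    have : ∀ m < 5, m.Coprime 5 → ∃ k < 4, 2 ^ k % 5 = m := by decide
    exact fun m h1 h2 => (this m h1 h2).imp fun _ h => h.2)
  set S := Finset.univ.filter fun χ : IrrCharacter G => ¬ 5 ∣ dg χ
  have s1 : S.card ≤ 10 := by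
    have e1 := Finset.card_nsmul_le_sum S (fun χ => v χ ^ 2) 1 fun χ h => by
      have := modEq_of_val (irr_chr χ) (p := 5) (k := 1) (by norm_num)
        (by rw [pow_one, ← hx, pow_orderOf_eq_one]) (hv χ)
      have h2 := (Finset.mem_filter.mp h).2
      have h3 : v χ ≠ 0 := fun e => by
        rw [e] at this
        exact h2 (by exact_mod_cast (Int.modEq_zero_iff_dvd.mp this))
      exact (one_le_sq_iff_one_le_abs _).mpr (Int.one_le_abs h3)
    have e2 := Finset.sum_le_sum_of_subset_of_nonneg (f := fun χ => v χ ^ 2) (Finset.subset_univ S)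
      fun _ _ _ => sq_nonneg _
    rw [col_sq hv, hD] at e2
    simp at e1
    omega
  have s2 : (B.X ∪ B.Y).card = 7 := by rw [Finset.card_union_of_disjoint B.disj, B.cardX, B.cardY]
  have s3 : (B.X ∪ B.Y) ∪ S = Finset.univ := by
    refine Finset.eq_univ_of_forall fun χ => ?_
    by_cases e : 11 ∣ dg χ
    · have := hne χ
      exact Finset.mem_union_right _ (Finset.mem_filter.mpr ⟨Finset.mem_univ _, by omega⟩)
    · exact Finset.mem_union_left _ (Finset.mem_union.mpr (B.mem_of_not_dvd hC' e))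
  have s4 := Finset.card_union_add_card_inter (B.X ∪ B.Y) S
  rw [s3, Finset.card_univ, ← Nat.card_eq_fintype_card] at s4
  set W := (B.X ∪ B.Y).filter fun χ => dg χ ∈ [1, 6, 12, 16, 27, 32, 54, 72, 144]
  have s5 : W.card ≤ ((B.X ∪ B.Y) ∩ S).card := Finset.card_le_card fun χ h => by
    obtain ⟨a1, a2⟩ := Finset.mem_filter.mp h
    simp only [List.mem_cons, List.not_mem_nil, or_false] at a2
    exact Finset.mem_inter.mpr ⟨a1, Finset.mem_filter.mpr ⟨Finset.mem_univ _, by omega⟩⟩
  have s6 := sum_eq_cnt W _ (by decide) (fun χ h => (Finset.mem_filter.mp h).2) fun _ => 1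
  have s7 : ∀ d ∈ [1, 6, 12, 16, 27, 32, 54, 72, 144], cnt W d = cnt (B.X ∪ B.Y) d := fun d h =>
    cnt_congr fun χ e => by simp only [W, Finset.mem_filter, e, h, and_true]
  have s8 := cnt_one (hna hG) (Finset.mem_union.mpr B.one_mem)
  simp only [List.forall_mem_cons, List.not_mem_nil, IsEmpty.forall_iff, implies_true] at s7
  simp only [List.map, List.sum_cons, List.sum_nil, ← k3 _ (by norm_num : 6 ≠ 1),
    ← k3 _ (by norm_num : 12 ≠ 1), ← k3 _ (by norm_num : 16 ≠ 1), ← k3 _ (by norm_num : 27 ≠ 1),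
    ← k3 _ (by norm_num : 32 ≠ 1), ← k3 _ (by norm_num : 54 ≠ 1), ← k3 _ (by norm_num : 72 ≠ 1),
    ← k3 _ (by norm_num : 144 ≠ 1)] at k1
  simp only [List.map, List.sum_cons, List.sum_nil, smul_eq_mul, mul_one, Finset.sum_const] at s6
  omega

theorem degs : (∃ χ : IrrCharacter Spor.M12, 33 ∣ dg χ) ∧ ∃ χ : IrrCharacter Spor.M12, 55 ∣ dg χ := by
  have d : ∀ e ∈ H96.Geo.M12.cls, (e.o = 5 → e.z = 10) ∧ (e.o = 11 → e.z = 11) ∧
    (e.o = 2 → e.z ≤ 240) := by decide +kernel
  haveI := H15.isSimple_M12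
  refine degs_of H15.card_M12 (length_le_of_table H96.Geo.M12.table) fun g => ?_
  obtain ⟨e, he, h1, h2⟩ := cent_of_table H96.Geo.M12.table g
  rw [h1, h2]
  exact d e he

end M12
end H17.Ord
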