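import Mathlib
import Cfsg.Agent.Base
import Cfsg.Agent.Lib.Ord.Flt2
import Cfsg.Agent.Lib.Ord.M22B

/-! Congruences in the ring of algebraic integers for the principal block of defect one. -/

set_option autoImplicit false
set_option linter.unusedSectionVars false
set_option linter.style.haveILetI false

open Cfsg H4.Sv H17.Ord

namespace H34.Deg
variable {G : Type*} [Group G] [Finite G]

/-- congruence modulo `p` times an algebraic integer -/
def Cg (p : ℕ) (u v : ℂ) : Prop := ∃ r : ℂ, IsIntegral ℤ r ∧ u = v + p * r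

theorem int_cast (z : ℤ) : IsIntegral ℤ (z : ℂ) := isIntegral_algebraMap (R := ℤ) (x := z)

theorem Cg.dvd {p : ℕ} (hp : p ≠ 0) {a b : ℤ} (h : Cg p a b) : (p : ℤ) ∣ a - b := by
  obtain ⟨r, h1, h2⟩ := h
  have hp0 : (p : ℂ) ≠ 0 := by exact_mod_cast hp
  have h3 : (((a - b : ℤ) / p : ℚ) : ℂ) = r := by
    push_cast; field_simp; linear_combination h2
  obtain ⟨w, hw⟩ := H8.exists_int_of_isIntegral_rat (q := (a - b : ℤ) / p) (by rw [h3]; exact h1)
  have hp1 : (p : ℚ) ≠ 0 := by exact_mod_cast hp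
  have : ((a - b : ℤ) : ℚ) = p * w := by rw [← hw]; field_simp
  exact ⟨w, by exact_mod_cast this⟩

theorem Cg.of_modEq {p : ℕ} {u : ℂ} {a b : ℤ} (h : Cg p u a) (k : a ≡ b [ZMOD p]) : Cg p u b := by
  obtain ⟨r, h1, h2⟩ := h
  obtain ⟨w, hw⟩ := k.symm.dvd
  refine ⟨r + w, h1.add (int_cast w), ?_⟩
  have : (a : ℂ) - b = p * w := by exact_mod_cast hw
  linear_combination h2 + this

theorem cg_pow {χ : G → ℂ} (hχ : IsCharacter G χ) {p k : ℕ} (hp : p.Prime) {g : G}
    {z : ℤ} (hz : χ g = z) : Cg p (χ (g ^ p ^ k)) z := by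
  obtain ⟨m, ω, -, hω, hsum⟩ := H6.char_pow_eq_sum hχ (orderOf_pos g).ne' (pow_orderOf_eq_one g)
  obtain ⟨r, hr⟩ := H31.exists_sum_pow_prime_pow (R := integralClosure ℤ ℂ) hp k Finset.univ
    (fun i => ⟨ω i, H8.isIntegral_of_pow_eq_one (orderOf_pos g) (hω i)⟩)
  have h1 := congrArg Subtype.val hr
  have h2 := hsum 1
  simp only [pow_one] at h2
  push_cast at h1
  simp only [← h2, ← hsum, hz] at h1
  refine Cg.of_modEq (a := z ^ p ^ k) ⟨-r, r.2.neg, by push_cast; linear_combination -h1⟩ ?_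
  haveI := Fact.mk hp
  rw [← ZMod.intCast_eq_intCast_iff]
  push_cast
  exact ZMod.pow_card_pow _

theorem exists_sing {p q : ℕ} (hp : p.Prime) (hq : q.Prime) (hpq : p ≠ q) {s : G}
    (hs : orderOf s = q) (h : p ∣ Nat.card (Subgroup.centralizer ({s} : Set G))) :
    ∃ g : G, p ∣ orderOf g ∧ g ^ p ^ (q - 1) = s := by
  haveI := Fact.mk hp
  obtain ⟨⟨y, hy⟩, o⟩ := exists_prime_orderOf_dvd_card' p h
  rw [Subgroup.orderOf_mk] at o
  have c : Commute y s := Subgroup.mem_centralizer_singleton_iff.mp hy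
  have cp := (Nat.coprime_primes hp hq).mpr hpq
  refine ⟨y * s, ?_, ?_⟩
  · rw [c.orderOf_mul_eq_mul_orderOf_of_coprime (by rwa [o, hs]), o]
    exact dvd_mul_right _ _
  · rw [c.mul_pow, orderOf_dvd_iff_pow_eq_one.mp (by
      rw [o]; exact dvd_pow_self p (by have := hq.two_le; omega)), one_mul]
    nth_rewrite 2 [← pow_one s]
    rw [pow_eq_pow_iff_modEq, hs, ← Nat.totient_prime hq]
    exact Nat.ModEq.pow_totient cp

section
variable {p : ℕ} [hp : Fact p.Prime] {P : Subgroup G} {e : ℕ}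

theorem val_cg (B : PB G p P e) {q : ℕ} (hq : q.Prime) (hpq : p ≠ q) {s : G}
    (hs : orderOf s = q) (h : p ∣ Nat.card (Subgroup.centralizer ({s} : Set G)))
    {χ : IrrCharacter G} (hχ : χ ∈ B.X ∨ χ ∈ B.Y) : Cg p ((χ : G → ℂ) s) (dg χ : ℤ) := by
  obtain ⟨g, hg, rfl⟩ := exists_sing hp.out hq hpq hs h
  have hX : ∀ χ ∈ B.X, Cg p ((χ : G → ℂ) (g ^ p ^ (q - 1))) (dg χ : ℤ) := fun χ hχ =>
    (cg_pow (irr_chr χ) hp.out (B.valX χ hχ g hg)).of_modEq (B.degX χ hχ).symm
  refine hχ.elim (hX χ) fun hχ => ?_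
  choose! r r1 r2 using hX
  have k1 := B.rel χ hχ _ (hs ▸ fun e => hpq ((Nat.prime_dvd_prime_iff_eq hp.out hq).mp e))
  have k2 := congrArg (Int.cast : ℤ → ℂ) (B.deg_eq hχ)
  have k3 : (B.δ : ℂ) * B.δ = 1 := by rcases B.dsgn with k | k <;> simp [k]
  rw [Finset.sum_congr rfl fun ψ k => by rw [r2 ψ k, mul_add, mul_left_comm],
    Finset.sum_add_distrib, ← Finset.mul_sum] at k1
  refine ⟨B.δ * ∑ ψ ∈ B.X, B.ε ψ * r ψ, (int_cast _).mul
    (IsIntegral.sum _ fun ψ k => (int_cast _).mul (r1 ψ k)), ?_⟩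
  push_cast at k1 k2 ⊢
  linear_combination B.δ * k1 - B.δ * k2 - ((χ : G → ℂ) (g ^ p ^ (q - 1)) - dg χ) * k3

/-- a rational character of the principal block has a large degree -/
theorem le_of_rat [IsSimpleGroup G] (B : PB G p P e) {q : ℕ} (hq : q.Prime) (hpq : p ≠ q)
    (h : q ∣ Nat.card (Subgroup.centralizer (P : Set G))) {χ : IrrCharacter G}
    (hχ : χ ∈ B.X ∨ χ ∈ B.Y) (h1 : dg χ ≠ 1) (hz : ∀ g, ∃ z : ℤ, (χ : G → ℂ) g = z) :
    p * (q - 1) ≤ dg χ := by
  obtain ⟨y, hy, y1, -⟩ := exists_elt_cen B.card hq hpq h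
  have cK : Nat.card (Subgroup.zpowers y) = q := by rw [Nat.card_zpowers, hy]
  by_contra hlt
  obtain ⟨q, rfl⟩ : ∃ k, q = k + 1 := ⟨q - 1, by have := hq.pos; omega⟩
  rw [Nat.add_sub_cancel, not_le] at hlt
  obtain ⟨m, hm⟩ := card_mul_fd_const (Subgroup.zpowers y) (χ := χ)
    (c := dg χ - p * (q + 1)) fun v hv v1 => by
      obtain ⟨z, hz⟩ := hz v
      have o : orderOf v = q + 1 := ((Nat.dvd_prime hq).mp
        (cK ▸ Subgroup.orderOf_dvd_natCard _ hv)).resolve_left fun e => v1 (orderOf_eq_one_iff.mp e)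
      have k1 := (hz ▸ val_cg B hq hpq o (by
        rw [← B.card]
        exact Subgroup.card_dvd_of_le fun x hx => Subgroup.mem_centralizer_singleton_iff.mpr
          (Subgroup.zpowers_le.mpr y1 hv x hx)) hχ).dvd hp.out.ne_zero
      have k2 := (modEq_of_val (irr_chr χ) (k := 1) hq (by rw [pow_one, ← o, pow_orderOf_eq_one])
        hz).dvd
      obtain ⟨w, hw⟩ := (Nat.isCoprime_iff_coprime.mpr
        ((Nat.coprime_primes hp.out hq).mpr hpq)).mul_dvd k1 k2
      have k3 := H87.norm_le_deg (irr_chr χ) v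
      rw [hz, Complex.norm_intCast] at k3
      have k4 : |z| ≤ dg χ := by exact_mod_cast k3
      have k5 : z ≠ dg χ := fun e => v1 (eq_one_of_apply_eq (χ := χ)
        (fun e => h1 (e ▸ dg_triv)) (by rw [hz, e]; simp))
      have k6 : (dg χ : ℤ) < p * q := by exact_mod_cast hlt
      have k7 : (0 : ℤ) < p := by exact_mod_cast hp.out.pos
      rw [abs_le] at k4
      push_cast at hw
      obtain rfl : w = -1 := by
        have k8 := mul_nonneg k7.le (Int.natCast_nonneg q)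
        have : w < 0 := by
          by_contra k
          nlinarith [not_lt.mp k, lt_of_le_of_ne k4.2 k5]
        have : -2 < w := by
          by_contra k
          nlinarith [not_lt.mp k]
        omega
      rw [hz]
      congr 1
      linear_combination hw
  rw [cK] at hm
  have k6 : (dg χ : ℤ) < p * q := by exact_mod_cast hlt
  push_cast at hm
  nlinarith [Int.natCast_nonneg m, Int.natCast_nonneg q]

end

theorem cubic_sums {ι : Type*} (s : Finset ι) (ω : ι → ℂ) (h : ∀ i, ω i ^ 3 = 1) {ζ : ℂ}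
    (hζ : ζ ^ 2 + ζ + 1 = 0) : ∃ a b c : ℕ, s.card = a + b + c ∧
      ∑ i ∈ s, ω i = a + b * ζ + c * ζ ^ 2 ∧ ∑ i ∈ s, ω i ^ 2 = a + b * ζ ^ 2 + c * ζ ∧
      ∏ i ∈ s, ω i = ζ ^ b * (ζ ^ 2) ^ c := by
  classical
  induction s using Finset.induction_on with
  | empty => exact ⟨0, 0, 0, by simp⟩
  | insert i s hi ih =>
    obtain ⟨a, b, c, h1, h2, h3, h4⟩ := ih
    rw [Finset.card_insert_of_notMem hi, Finset.sum_insert hi, Finset.sum_insert hi,
      Finset.prod_insert hi, h1, h2, h3, h4]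
    have : (ω i - 1) * (ω i - ζ) * (ω i - ζ ^ 2) = 0 := by
      linear_combination h i + (-ω i ^ 2 + ζ * ω i - ζ + 1) * hζ
    simp only [mul_eq_zero, sub_eq_zero] at this
    rcases this with (e | e) | e <;> rw [e]
    · exact ⟨a + 1, b, c, by omega, by push_cast; ring, by push_cast; ring, by ring⟩
    · exact ⟨a, b + 1, c, by omega, by push_cast; ring, by push_cast; ring, by ring⟩
    · exact ⟨a, b, c + 1, by omega, by push_cast; ring,
        by push_cast; linear_combination (ζ ^ 2 - ζ) * hζ, by ring⟩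

/-- an element of order three on which `χ` is congruent to its degree modulo `11` and `23` -/
theorem le_of_three [IsSimpleGroup G] (hna : ∃ a b : G, a * b ≠ b * a) {χ : IrrCharacter G}
    (h1 : dg χ ≠ 1) {s : G} (hs : orderOf s = 3)
    (h : ∀ p ∈ ([11, 23] : List ℕ), Cg p ((χ : G → ℂ) s) (dg χ : ℤ) ∧ Cg p ((χ : G → ℂ) (s * s)) (dg χ : ℤ)) :
    506 ≤ dg χ := by
  obtain ⟨ζ, hζ⟩ : ∃ ζ : ℂ, ζ ^ 2 + ζ + 1 = 0 := by
    have := (Complex.isPrimitiveRoot_exp 3 (by norm_num)).geom_sum_eq_zero (by norm_num)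
    simp only [Finset.sum_range_succ, Finset.range_zero, Finset.sum_empty, pow_zero, pow_one] at this
    exact ⟨_, by linear_combination this⟩
  have z3 : ζ ^ 3 = 1 := by linear_combination (ζ - 1) * hζ
  have zi : IsIntegral ℤ ζ := H8.isIntegral_of_pow_eq_one (by norm_num) z3
  have z1 : ζ ≠ 1 := by rintro rfl; norm_num at hζ
  obtain ⟨m, ω, hω, hsum, hdet⟩ := exists_eig_det (irr_chr χ) s
  obtain ⟨a, b, c, k1, k2, k3, k4⟩ := cubic_sums Finset.univ ω (hs ▸ hω) hζ
  have e0 := hsum 0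
  have e1 := hsum 1
  have e2 := hsum 2
  simp only [pow_zero, pow_one, Finset.sum_const, nsmul_eq_mul, mul_one, k1] at e0 e1
  rw [dg_cast] at e0
  rw [k2] at e1
  rw [k3, sq] at e2
  have hP : _root_.commutator G = ⊤ := H36.commutator_eq_top_of_simple fun h => by
    obtain ⟨a, b, hab⟩ := hna
    exact hab (h.is_comm.comm a b)
  have e3 : H31.detHom (χ : G → ℂ) s = 1 :=
    Abelianization.commutator_subset_ker _ (hP ▸ Subgroup.mem_top s)
  have dv : ∀ p ∈ ([11, 23] : List ℕ), (p : ℤ) ∣ 3 * b - 0 ∧ (p : ℤ) ∣ 3 * c - 0 := fun p hp => by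
    obtain ⟨⟨r, r1, r2⟩, ⟨t, t1, t2⟩⟩ := h p hp
    have p0 : p ≠ 0 := by rintro rfl; simp at hp
    rw [e1] at r2
    rw [e2] at t2
    push_cast at r2 t2 e0
    refine ⟨Cg.dvd p0 ⟨r * ζ ^ 2 + t * ζ, (r1.mul (zi.pow 2)).add (t1.mul zi), ?_⟩,
      Cg.dvd p0 ⟨r * ζ + t * ζ ^ 2, (r1.mul zi).add (t1.mul (zi.pow 2)), ?_⟩⟩ <;> push_cast
    · linear_combination ζ ^ 2 * r2 + ζ * t2 - e0 + ((dg χ : ℂ) - a - c) * hζ - (2 * b + c * ζ) * z3
    · linear_combination ζ * r2 + ζ ^ 2 * t2 - e0 + ((dg χ : ℂ) - a - b) * hζ - (2 * c + b * ζ) * z3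
  have d1 := dv 11 (by simp)
  have d2 := dv 23 (by simp)
  have g0 : dg χ = a + b + c := by exact_mod_cast e0
  rw [e3, k4, ← pow_mul, ← pow_add] at hdet
  by_contra hlt
  have : b = 0 ∧ c = 0 ∨ b = 253 ∧ c = 0 ∨ b = 0 ∧ c = 253 := by omega
  rcases this with ⟨rfl, rfl⟩ | ⟨rfl, rfl⟩ | ⟨rfl, rfl⟩
  · have := eq_one_of_apply_eq (χ := χ) (fun e => h1 (e ▸ dg_triv)) (x := s) (by rw [e1, g0]; simp)
    rw [this, orderOf_one] at hs
    omega
  · rw [show 253 + 2 * 0 = 3 * 84 + 1 from rfl, pow_succ, pow_mul, z3] at hdet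
    exact z1 (by simpa using hdet.symm)
  · rw [show 0 + 2 * 253 = 3 * 168 + 2 from rfl, pow_add, pow_mul, z3] at hdet
    have : ζ ^ 2 = 1 := by simpa using hdet.symm
    exact z1 (by linear_combination z3 - ζ * this)

/-- an element of prime order `r` of `C(P)` centralised by an element of order `q` -/
theorem exists_fixed {H : Type*} [Group H] [Finite H] {T : Subgroup H} {r q a : ℕ} (hr : r.Prime)
    (hq : q.Prime) (hT : Nat.card T = r ^ a) (ha : r ^ a % q ≠ 1) {y : H} (hy : orderOf y = q)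
    (h : y ∈ Subgroup.normalizer (T : Set H)) : ∃ s ∈ T, orderOf s = r ∧ Commute y s := by
  haveI := Fact.mk hq
  set φ := T.normalizerMonoidHom ⟨y, h⟩
  have k1 : IsPGroup q (Subgroup.zpowers φ) := IsPGroup.of_card_dvd_pow (n := 1) (by
    rw [Nat.card_zpowers, pow_one, ← hy]
    exact (orderOf_map_dvd _ _).trans (Subgroup.orderOf_mk _ _).dvd)
  have k2 := k1.card_modEq_card_fixedPoints T
  obtain ⟨t, t1, t2⟩ : ∃ t ∈ MulAction.fixedPoints (Subgroup.zpowers φ) T, t ≠ 1 := by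
    by_contra! k
    have : MulAction.fixedPoints (Subgroup.zpowers φ) T = {1} :=
      Set.eq_singleton_iff_unique_mem.mpr ⟨fun g => smul_one g, k⟩
    rw [this, hT, Nat.card_unique] at k2
    exact ha (Eq.trans k2 (Nat.mod_eq_of_lt hq.one_lt))
  have k3 : Commute y t := by
    have : y * t * y⁻¹ = t := congrArg Subtype.val (t1 ⟨φ, Subgroup.mem_zpowers φ⟩)
    exact mul_inv_eq_iff_eq_mul.mp this
  obtain ⟨k, -, hk⟩ := (Nat.dvd_prime_pow hr).mp (hT ▸ orderOf_dvd_natCard t)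
  rcases k with _ | k
  · exact absurd (orderOf_eq_one_iff.mp hk) t2
  refine ⟨t ^ r ^ k, T.pow_mem t.2 _, ?_, k3.pow_right _⟩
  have := pow_pos hr.pos k
  rw [orderOf_pow_of_dvd this.ne' (by rw [Subgroup.orderOf_coe, hk]; exact pow_dvd_pow r k.le_succ),
    Subgroup.orderOf_coe, hk, pow_succ, Nat.mul_div_cancel_left _ this]

theorem exists_norm {p : ℕ} [hp : Fact p.Prime] {P : Subgroup G} {e : ℕ} (B : PB G p P e)
    {r q a m : ℕ} (hr : r.Prime) (hq : q.Prime)
    (hc : Nat.card (Subgroup.centralizer (P : Set G)) = r ^ a * m) (hm : ¬ r ∣ m) (he : q ∣ e)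
    (ha : r ^ a % q ≠ 1) : ∃ s : G, orderOf s = r ∧
      p ∣ Nat.card (Subgroup.centralizer ({s} : Set G)) ∧
        q ∣ Nat.card (Subgroup.centralizer ({s} : Set G)) := by
  haveI := Fact.mk hq
  haveI := Fact.mk hr
  set N := Subgroup.normalizer (P : Set G)
  set C := (Subgroup.centralizer (P : Set G)).subgroupOf N
  haveI : C.Normal := Subgroup.normal_subgroupOf_centralizer_normalizer _
  have c1 : Nat.card C = r ^ a * m := by
    rw [← hc, Nat.card_congr (Subgroup.subgroupOfEquivOfLe (H86.Cen_le_Nor P)).toEquiv]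
  obtain ⟨T⟩ : Nonempty (Sylow r C) := inferInstance
  have c2 : Nat.card ((T : Subgroup C).map C.subtype) = r ^ a := by
    rw [Subgroup.card_map_of_injective C.subtype_injective]
    exact H36.card_sylow_eq_pow T (c1 ▸ dvd_mul_right _ _) (by
      rw [c1, pow_succ, Nat.mul_dvd_mul_iff_left (pow_pos hr.pos a)]; exact hm)
  have c3 : q ∣ Nat.card (Subgroup.normalizer
      (((T : Subgroup C).map C.subtype : Subgroup N) : Set N)) := by
    have := Subgroup.relIndex_sup_right (Subgroup.normalizer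
      (((T : Subgroup C).map C.subtype : Subgroup N) : Set N)) C
    rw [T.normalizer_sup_eq_top, Subgroup.relIndex_top_right] at this
    exact (he.trans (B.he.symm.trans this).dvd).trans (Subgroup.relIndex_dvd_card _ _)
  obtain ⟨⟨y, hy⟩, o⟩ := exists_prime_orderOf_dvd_card' q c3
  rw [Subgroup.orderOf_mk] at o
  obtain ⟨s, s1, s2, s3⟩ := exists_fixed hr hq c2 ha o hy
  obtain ⟨t, -, rfl⟩ := s1
  refine ⟨t.1.1, by rw [Subgroup.orderOf_coe]; exact s2, ?_, ?_⟩
  · rw [← B.card]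
    exact Subgroup.card_dvd_of_le fun y hy => Subgroup.mem_centralizer_singleton_iff.mpr (t.2 y hy)
  · rw [← o, ← Subgroup.orderOf_coe]
    exact Subgroup.orderOf_dvd_natCard _
      (Subgroup.mem_centralizer_singleton_iff.mpr (congrArg Subtype.val s3))

theorem not_side3 [IsSimpleGroup G] (hna : ∃ a b : G, a * b ≠ b * a) {N : ℕ} (hG : Nat.card G = N)
    (hN : ¬ 11 ^ 2 ∣ N) {P : Subgroup G} {e c : ℕ} (B : PB G 23 P e)
    (hc : Nat.card (Subgroup.centralizer (P : Set G)) = 23 * c) (h : c = 3 ∨ c = 9)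
    (he : e % 11 = 0) (ho : ∀ d ∈ divs (N / 23 / c), d % 2 = 1 → 46 ≤ d →
      d % 23 ∈ [1, 22, 11, 12] → d % 11 = 0 ∧ d < 506) : False := by
  obtain ⟨s, hs, s1, s2⟩ : ∃ s : G, orderOf s = 3 ∧
      23 ∣ Nat.card (Subgroup.centralizer ({s} : Set G)) ∧
        11 ∣ Nat.card (Subgroup.centralizer ({s} : Set G)) := by
    rcases h with rfl | rfl
    exacts [exists_norm B (a := 1) (m := 23) Nat.prime_three (by norm_num) hc (by norm_num)
      (Nat.dvd_of_mod_eq_zero he) (by norm_num), exists_norm B (a := 2) (m := 23) Nat.prime_three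
      (by norm_num) hc (by norm_num) (Nat.dvd_of_mod_eq_zero he) (by norm_num)]
  obtain ⟨χ, c1, c2, c3, c4, c5, c6⟩ := B.exists_odd hna (by norm_num) hG hc
  have e1 := Nat.le_of_dvd (by norm_num) B.e_dvd
  have e2 := B.e_pos
  have k1 := ho _ c3 c2 (c5 (by omega)) (by
    simp only [List.mem_cons, List.not_mem_nil, or_false] at c6 ⊢; omega)
  have key : ∀ v : G, orderOf v = 3 → Nat.card (Subgroup.centralizer ({s} : Set G)) ∣
      Nat.card (Subgroup.centralizer ({v} : Set G)) →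
      Cg 11 ((χ : G → ℂ) v) (dg χ : ℤ) ∧ Cg 23 ((χ : G → ℂ) v) (dg χ : ℤ) := fun v hv k => by
    refine ⟨?_, val_cg B Nat.prime_three (by norm_num) hv (s1.trans k) c1⟩
    obtain ⟨g, hg, rfl⟩ := exists_sing (by norm_num) Nat.prime_three (by norm_num) hv (s2.trans k)
    refine (cg_pow (irr_chr χ) (by norm_num) (z := 0) ?_).of_modEq (by unfold Int.ModEq; omega)
    rw [van_of_dvd (p := 11) (by norm_num) (hG ▸ hN) (Nat.dvd_of_mod_eq_zero k1.1) hg]
    simp
  have a1 := key s hs dvd_rfl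
  have a2 := key (s * s) (by rw [← sq, Nat.Coprime.orderOf_pow (by rw [hs]; norm_num), hs])
    (cent_le_sq s)
  have := le_of_three hna (by omega) hs (χ := χ) (by
    simp only [List.forall_mem_cons, List.not_mem_nil, IsEmpty.forall_iff, implies_true, and_true]
    exact ⟨⟨a1.1, a2.1⟩, a1.2, a2.2⟩)
  omega

end H34.Deg
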