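import Mathlib
import Cfsg.Agent.Base
import Cfsg.Agent.Lib.Ord.Flt

/-! Numerical checks for orders dividing the order of `M₂₂` or of `M₂₄`. -/

set_option autoImplicit false

open H4.Sv H17.Ord

namespace H34.Deg

def tw (q c : ℕ) : Bool :=
  (List.range 11).any fun a => c % 2 ^ a == 0 && c / 2 ^ a % 2 == 1 && 2 ^ a % q != 1

def r3 (p c : ℕ) (o : List ℕ) : Bool := [3, 5, 7, 11, 23].any fun q => c % q == 0 && q != p &&
  o.any fun d => o.count d == 1 && decide (d < p * (q - 1))

def mm (p e c : ℕ) : ℕ :=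
  if e % 5 == 0 && tw 5 c && p != 5 then 2 * p * 5 else if c % 2 == 0 then p * 2 else 2

noncomputable def ko (n p e c : ℕ) (o : List ℕ) : Bool := r3 p c o || n % 2 == 0 && good p e o &&
  (divs n).all fun C => C % mm p e c != 0 || (cols n p e c C (fl [5, 7, 11, 23] p C) o).isEmpty

noncomputable def kp (n p : ℕ) (S : ℕ → ℕ → Bool) (f : ℕ → Bool) : Bool :=
  optsAll n p fun e c => S e c || feasF n p e c f (ko n p e c)

def side (n e c : ℕ) : Bool := e % 11 == 0 && c != 1 && (tw 11 c || c == 3 || c == 9) &&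
  (divs (n / 23 / c)).all fun d => !(d % 2 == 1 && decide (46 ≤ d) &&
    [1, 22, 11, 12].contains (d % 23)) || d % 11 == 0 && decide (d < 506)

theorem tw_spec {q c : ℕ} (p : ℕ) (hp : p % 2 = 1) (h : tw q c = true) :
    ∃ a m, p * c = 2 ^ a * m ∧ ¬ 2 ∣ m ∧ 2 ^ a % q ≠ 1 := by
  obtain ⟨a, -, h⟩ := List.any_eq_true.mp h
  simp only [Bool.and_eq_true, beq_iff_eq, bne_iff_ne] at h
  refine ⟨a, p * (c / 2 ^ a), ?_, ?_, h.2⟩
  · rw [mul_left_comm, Nat.mul_div_cancel' (Nat.dvd_of_mod_eq_zero h.1.1)]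
  · rw [Nat.prime_two.dvd_mul]; omega

theorem f23 : ∀ m ∈ divs 10644480, 23 * m ∈ [6072, 45540, 425040, 850080, 6120576, 10200960,
    20401920, 244823040] ∨ kp (23 * m) 23 (side (23 * m)) (fun d => d != 11 || m ≤ 528) = true := by
  decide +kernel

theorem f11 : ∀ m ∈ divs 40320, 11 * m ∈ [660, 4620, 7920, 15840, 36960, 73920, 110880, 443520] ∨
    kp (11 * m) 11 (fun _ _ => false) (fun _ => true) = true := by
  decide +kernel

theorem f7 : ∀ t ∈ [(5, 9108), (11, 38640), (7, 121440), (11, 556416), (7, 660), (7, 5280),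
    (7, 10560)], kp (t.1 * t.2) t.1 (fun _ _ => false) (fun _ => true) = true := by
  decide +kernel

theorem g23 : kp 20401920 23 (fun e c => side 20401920 e c || e == 22 && c == 1)
    (fun d => d != 11) = true := by decide +kernel

theorem g11 : kp 20401920 11 (fun _ c => c % 2 == 1 || c % 23 == 0)
    (fun d => [0, 1, 22].contains (d % 23)) = true := by decide +kernel

theorem h11 : kp 110880 11 (fun _ c => c % 7 == 0) (fun _ => true) = true := by decide +kernel

theorem h7 : kp 110880 7 (fun _ c => c % 11 != 0) (fun _ => true) = true := by decide +kernel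

end H34.Deg
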