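import Mathlib
import Cfsg.Agent.Base
import Cfsg.Agent.Lib.Ord.DgA
import Cfsg.Agent.Lib.Ord.DgB
import Cfsg.Agent.Lib.Ord.DegM12

/-! Orders of simple groups dividing the order of `M₂₂` or of `M₂₄`. -/

set_option autoImplicit false
set_option linter.unusedSectionVars false
set_option linter.style.haveILetI false

open Cfsg H4.Sv H17.Ord

namespace H34.Deg
variable {G : Type*} [Group G] [Finite G] [IsSimpleGroup G]

theorem of_kp (hna : ∃ a b : G, a * b ≠ b * a) {n p : ℕ} [hp : Fact p.Prime] (hG : Nat.card G = n)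
    (hn : n ∣ 244823040) (h2 : p ≠ 2) {S : ℕ → ℕ → Bool} {f : ℕ → Bool} (h : kp n p S f = true)
    {P : Subgroup G} {e c : ℕ} (B : PB G p P e)
    (hc : Nat.card (Subgroup.centralizer (P : Set G)) = p * c)
    (hf : ∀ χ : IrrCharacter G, f (dg χ) = true) : S e c = true := by
  classical
  obtain ⟨he, k⟩ := B.opts hna hG hc h
  refine (Bool.or_eq_true _ _ ▸ k).resolve_right fun k => ?_
  obtain ⟨o, h, o1, k⟩ := B.sieveF hna h2 hG hc (fun χ _ _ => hf χ) k
  simp only [ko, r3, Bool.and_eq_true, beq_iff_eq, List.all_eq_true, Bool.or_eq_true, bne_iff_ne,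
    List.isEmpty_iff, List.any_eq_true, decide_eq_true_eq] at h
  rcases h with ⟨q, q1, ⟨q2, q3⟩, d, d1, d2, d3⟩ | h
  · have d4 : d ≠ 1 := by rintro rfl; exact o1 d1
    obtain ⟨χ, c1, rfl, c2⟩ := cnt_eq_one ((k d d4).trans d2)
    rw [Finset.mem_union] at c1
    exact (le_of_rat B ((by decide : ∀ q ∈ [3, 5, 7, 11, 23], q.Prime) q q1) q3.symm
      (hc ▸ (Nat.dvd_of_mod_eq_zero q2).mul_left _) c1 d4
      (B.int_of_unique c1 fun ψ k => c2 ψ (Finset.mem_union.mpr k))).not_gt d3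
  obtain ⟨s, hs, k1⟩ : ∃ s : G, orderOf s = 2 ∧
      mm p e c ∣ Nat.card (Subgroup.centralizer ({s} : Set G)) := by
    unfold mm
    split_ifs with k1 k2
    · simp only [Bool.and_eq_true, beq_iff_eq, bne_iff_ne] at k1
      obtain ⟨a, m, a1, a2, a3⟩ := tw_spec p (hp.out.eq_two_or_odd.resolve_left h2) k1.1.2
      obtain ⟨s, s1, s2, -⟩ := B.exists_invol_norm h2 Nat.prime_five (hc.trans a1) a2
        (Nat.dvd_of_mod_eq_zero k1.1.1) a3 (by norm_num) k1.2
      exact ⟨s, s1, s2⟩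
    · obtain ⟨s, s1, -, s2⟩ := exists_elt_cen B.card Nat.prime_two h2
        (hc ▸ (Nat.dvd_of_mod_eq_zero (beq_iff_eq.mp k2)).mul_left _)
      exact ⟨s, s1, s2⟩
    · obtain ⟨s, hs⟩ := exists_prime_orderOf_dvd_card' (G := G) 2
        (hG ▸ Nat.dvd_of_mod_eq_zero h.1.1)
      exact ⟨s, hs, hs ▸ orderOf_dvd_cent s⟩
  obtain ⟨u, hu, -⟩ := exists_invol_col hna hs
  obtain ⟨L, -, -, l⟩ := B.mem_fl hna hG (fun q hq k => (by decide : ∀ q ∈ [5, 7, 11, 23],
    ¬ q ^ 2 ∣ 244823040) q hq (k.trans hn)) he hc k h.1.2 hs rfl hu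
  rcases h.2 _ (mem_divs (hG ▸ Nat.card_pos.ne') (hG ▸ Subgroup.card_subgroup_dvd_card _)) with k2 | k2
  · exact k2 (Nat.mod_eq_zero_of_dvd k1)
  · exact List.not_mem_nil (k2 ▸ l)

theorem not_side (hna : ∃ a b : G, a * b ≠ b * a) {n : ℕ} (hG : Nat.card G = n)
    (hn : n ∣ 244823040) {P : Subgroup G} {e c : ℕ} (B : PB G 23 P e)
    (hc : Nat.card (Subgroup.centralizer (P : Set G)) = 23 * c) : ¬ side n e c = true := fun h => by
  simp only [side, Bool.and_eq_true, beq_iff_eq, List.all_eq_true, Bool.or_eq_true, bne_iff_ne,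
    decide_eq_true_eq, Bool.not_eq_true', ← Bool.not_eq_true, List.contains_iff_mem] at h
  have k : ¬ 11 ^ 2 ∣ n := fun k => absurd (k.trans hn) (by norm_num)
  have ho : ∀ d ∈ divs (n / 23 / c), d % 2 = 1 → 46 ≤ d → d % 23 ∈ [1, 22, 11, 12] →
      d % 11 = 0 ∧ d < 506 := fun d h1 h2 h3 h4 => (h.2 d h1).resolve_left fun k => k ⟨⟨h2, h3⟩, h4⟩
  rcases or_assoc.mp h.1.2 with k1 | k1
  · obtain ⟨a, m, a1, a2, a3⟩ := tw_spec 23 rfl k1
    exact B.not_side hna hG k hc a1 a2 h.1.1.1 a3 h.1.1.2 fun d h1 h2 h3 h4 =>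
      (ho d h1 h2 h3 h4).imp_right le_of_lt
  · exact not_side3 hna hG k B hc k1 h.1.1.1 ho

theorem ne_of_mem (hna : ∃ a b : G, a * b ≠ b * a) :
    Nat.card G ∉ [45540, 425040, 850080, 6120576, 4620, 36960, 73920] := fun h => by
  obtain ⟨t, t1, t2⟩ := (by decide : ∀ n ∈ [45540, 425040, 850080, 6120576, 4620, 36960, 73920],
    ∃ t ∈ [(5, 9108), (11, 38640), (7, 121440), (11, 556416), (7, 660), (7, 5280), (7, 10560)],
      n = t.1 * t.2 ∧ ¬ t.1 ∣ t.2 ∧ t.1 ≠ 2 ∧ t.1 * t.2 ∣ 244823040 ∧ t.1 ∈ [5, 7, 11]) _ h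
  haveI := Fact.mk ((by decide : ∀ q ∈ [5, 7, 11], q.Prime) _ t2.2.2.2.2)
  obtain ⟨P, e, c, hc, ⟨B⟩⟩ := exists_PB hna t.1 t2.1 t2.2.1
  exact absurd (of_kp hna t2.1 t2.2.2.2.1 t2.2.2.1 (f7 t t1) B hc fun _ => rfl) (by simp)

theorem ne_110880 : Nat.card G ≠ 110880 := fun hG => by
  have hna := noncomm_of_not_prime (G := G) (by rw [hG]; norm_num)
  obtain ⟨P, e, c, hc, ⟨B⟩⟩ := exists_PB hna 11 (m := 10080) hG (by norm_num)
  obtain ⟨Q, e', c', hc', ⟨B'⟩⟩ := exists_PB hna 7 (m := 15840) hG (by norm_num)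
  have k1 := of_kp hna hG (by norm_num) (by norm_num) h11 B hc fun _ => rfl
  have k2 := of_kp hna hG (by norm_num) (by norm_num) h7 B' hc' fun _ => rfl
  simp only [beq_iff_eq, bne_iff_ne] at k1 k2
  have := dvd_cen_symm B.card (by norm_num) B'.card B'.ind (by omega)
  omega

theorem ne_eleven (hna : ∃ a b : G, a * b ≠ b * a) (h1 : Nat.card G ∣ 244823040)
    (h2 : 23 ∣ Nat.card G) (h3 : 12144 < Nat.card G) (χ : IrrCharacter G) : dg χ ≠ 11 := by
  have := dg_ne_half (p := 23) hna h2 (fun k => absurd (k.trans h1) (by norm_num)) h3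
    (by norm_num) χ
  omega

theorem ne_20401920 : Nat.card G ≠ 20401920 := fun hG => by
  have hna := noncomm_of_not_prime (G := G) (by rw [hG]; norm_num)
  obtain ⟨P, e, c, hc, ⟨B⟩⟩ := exists_PB hna 23 (m := 887040) hG (by norm_num)
  have k1 := of_kp hna hG (by norm_num) (by norm_num) g23 B hc fun χ => bne_iff_ne.mpr
    (ne_eleven hna (by rw [hG]; norm_num) (by rw [hG]; norm_num) (by rw [hG]; norm_num) χ)
  simp only [Bool.or_eq_true, Bool.and_eq_true, beq_iff_eq] at k1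
  obtain ⟨rfl, rfl⟩ := k1.resolve_left (not_side hna hG (by norm_num) B hc)
  have hC := selfcent_of_card B.card hc
  obtain ⟨Q, e', c', hc', ⟨B'⟩⟩ := exists_PB hna 11 (m := 1854720) hG (by norm_num)
  have k2 := of_kp hna hG (by norm_num) (by norm_num) g11 B' hc' fun χ => by
    have := B.res hC χ
    simp only [List.contains_iff_mem, List.mem_cons, List.not_mem_nil, or_false] at this ⊢
    omega
  have k3 := B.not_dvd_cen hC (by norm_num) B'.card
  simp only [beq_iff_eq, Bool.or_eq_true] at k2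
  obtain ⟨x, x1, hx⟩ := B.exists_sing
  obtain rfl : Subgroup.zpowers x = P := Subgroup.eq_of_le_of_card_ge
    (Subgroup.zpowers_le.mpr x1) (by rw [Nat.card_zpowers, hx, B.card])
  obtain ⟨g, -, hg⟩ := exists_conj_of_relIndex (by norm_num) hx B.he (v := x ^ 5)
    (Subgroup.npow_mem_zpowers x 5) fun h => absurd (orderOf_dvd_iff_pow_eq_one.mpr h) (by
      rw [hx]; norm_num)
  have g1 : ∀ k, g ^ k * x * (g ^ k)⁻¹ = x ^ 5 ^ k := fun k => by
    induction k with
    | zero => simp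
    | succ k ih =>
      rw [pow_succ' 5, pow_mul, ← hg, conj_pow, ← ih]
      group
  have g2 := g1 (orderOf g)
  rw [pow_orderOf_eq_one, one_mul, inv_one, mul_one] at g2
  nth_rewrite 1 [← pow_one x] at g2
  rw [pow_eq_pow_iff_modEq, hx, ← ZMod.natCast_eq_natCast_iff, Nat.cast_one, Nat.cast_pow,
    eq_comm, ← orderOf_dvd_iff_pow_eq_one, (orderOf_eq_iff (n := 22) (by norm_num)).mpr
      (by decide)] at g2
  have := (g2.trans (orderOf_dvd_cent g)).trans
    (card_cent_dvd B'.card B'.ind ((by norm_num : 11 ∣ 22).trans g2))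
  omega

theorem card_of_dvd_M22 (hna : ¬ IsMulCommutative G) (h1 : Nat.card G ∣ 443520)
    (h2 : 11 ∣ Nat.card G) : Nat.card G = 443520 ∨ Nat.card G = 7920 ∨ Nat.card G = 660 := by
  replace hna : ∃ a b : G, a * b ≠ b * a := by
    by_contra! h
    exact hna ⟨⟨h⟩⟩
  obtain ⟨m, hG⟩ := h2
  have hm : m ∣ 40320 := Nat.dvd_of_mul_dvd_mul_left (by norm_num : 0 < 11) (hG ▸ h1)
  have k1 := ne_of_mem hna
  have k2 := ne_110880 (G := G)
  have k3 := card_ne_15840 (G := G)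
  obtain ⟨P, e, c, hc, ⟨B⟩⟩ := exists_PB hna 11 hG fun k => absurd (k.trans hm) (by norm_num)
  have := (f11 m (mem_divs (by norm_num) hm)).resolve_right fun h => absurd
    (of_kp hna hG (hG ▸ h1.trans (by norm_num)) (by norm_num) h B hc fun _ => rfl) (by simp)
  simp only [List.mem_cons, List.not_mem_nil, or_false] at this k1
  omega

theorem card_of_dvd_M24 (hna : ¬ IsMulCommutative G) (h1 : Nat.card G ∣ 244823040)
    (h2 : 23 ∣ Nat.card G) :
    Nat.card G = 244823040 ∨ Nat.card G = 10200960 ∨ Nat.card G = 6072 := by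
  replace hna : ∃ a b : G, a * b ≠ b * a := by
    by_contra! h
    exact hna ⟨⟨h⟩⟩
  have k0 := ne_eleven hna h1 h2
  obtain ⟨m, hG⟩ := h2
  have hm : m ∣ 10644480 := Nat.dvd_of_mul_dvd_mul_left (by norm_num : 0 < 23) (hG ▸ h1)
  have k1 := ne_of_mem hna
  have k2 := ne_20401920 (G := G)
  obtain ⟨P, e, c, hc, ⟨B⟩⟩ := exists_PB hna 23 hG fun k => absurd (k.trans hm) (by norm_num)
  have := (f23 m (mem_divs (by norm_num) hm)).resolve_right fun h =>
    not_side hna hG (hG ▸ h1) B hc (of_kp hna hG (hG ▸ h1) (by norm_num) h B hc fun χ => by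
      rw [Bool.or_eq_true, bne_iff_ne, decide_eq_true_eq, or_iff_not_imp_right]
      exact fun k => k0 (by omega) χ)
  simp only [List.mem_cons, List.not_mem_nil, or_false] at this k1
  omega

end H34.Deg
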