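import Mathlib
import Cfsg.Agent.Base
import Cfsg.Agent.Lib.Ord.DgC
import Cfsg.Agent.Lib.Ord.M23C
import Cfsg.Agent.Lib.M24Geom.ClsM24
import Cfsg.Prelude.Def_DegreeGraph

/-! Character degrees of the Mathieu groups. -/

set_option autoImplicit false
set_option linter.unusedSectionVars false
set_option linter.style.haveILetI false

open Cfsg H4.Sv H17.Ord

namespace H34.Deg
universe u
variable {G : Type u} [Group G] [Finite G]

theorem exists_deg {M S : Type*} [Group M] [Finite M] [Group S] [Finite S] (e : M ≃* S)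
    (h : degreeGraph G = degreeGraph M) {p q : ℕ} (hp : p.Prime) (hq : q.Prime) (hpq : p ≠ q)
    (k : ∃ χ : IrrCharacter S, p * q ∣ dg χ) : ∃ φ : IrrCharacter G, p * q ∣ dg φ := by
  obtain ⟨χ, k⟩ := k
  have e1 := dg_cast (⟨_, H6.isIrrCharacter_comp_equiv e χ.2⟩ : IrrCharacter M)
  change (χ : S → ℂ) (e 1) = _ at e1
  rw [map_one, dg_cast, Nat.cast_inj] at e1
  obtain ⟨-, -, -, _, ⟨φ, rfl⟩, k⟩ : (degreeGraph G).Adj p q :=
    h ▸ ⟨hpq, hp, hq, _, ⟨_, rfl⟩, e1 ▸ k⟩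
  exact ⟨φ, k⟩

theorem simple_or {p m n n' d : ℕ} [Fact p.Prime] (hG : Nat.card G = p * m) (hm : ¬ p ∣ m)
    (hmm : ∀ r b, r.Prime → 0 < b → r ^ b ∣ m → ¬ p ∣ r ^ b - 1)
    (h : ∀ (H : Type u) [Group H] [Finite H] [IsSimpleGroup H], ¬ IsMulCommutative H →
      Nat.card H ∣ p * m → p ∣ Nat.card H → Nat.card H = p * m ∨ Nat.card H = n ∨ Nat.card H = n')
    (hd : ∃ ψ : IrrCharacter G, d ∣ dg ψ) (h1 : p ∣ d) (h2 : n' < d ^ 2)
    (h3 : d.Coprime (p * m / n')) : IsSimpleGroup G ∨ ∃ (L : Subgroup G) (K : Subgroup L)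
      (_ : L.Normal) (_ : K.Normal), K ≤ Subgroup.center L ∧ IsSimpleGroup (L ⧸ K) ∧
        Nat.card (L ⧸ K) = n := by
  obtain ⟨ψ, hd⟩ := hd
  obtain ⟨L, K, _, _, k1, k2, k3, k4⟩ := exists_quasi hG hm hmm ψ.2 (h1.trans hd)
  have e1 := K.card_mul_index
  have e2 := L.card_mul_index
  rw [hG, ← e1, mul_right_comm] at e2
  rcases h _ k4 (Dvd.intro_left _ e2) k3 with k | k | k
  · left
    have e0 : 0 < p * m := hG ▸ Nat.card_pos
    have e3 : Nat.card K * L.index = 1 := Nat.eq_of_mul_eq_mul_right e0 (by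
      rwa [one_mul, show K.index = p * m from k] at *)
    have e4 := Subgroup.index_eq_one.mp (Nat.eq_one_of_mul_eq_one_left e3)
    have e5 := Subgroup.card_eq_one.mp (Nat.eq_one_of_mul_eq_one_right e3)
    subst e4 e5
    exact (Subgroup.topEquiv.symm.trans QuotientGroup.quotientBot.symm).isSimpleGroup
  · exact Or.inr ⟨L, K, inferInstance, inferInstance, k1, k2, k⟩
  · rw [← Subgroup.index] at k
    have := sq_le_of_coprime k1 ψ.2 hd (Nat.Coprime.coprime_dvd_right (Dvd.intro_left (Nat.card K)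
      (by rw [← e2, ← k, Nat.mul_div_cancel _ (Nat.pos_of_ne_zero Subgroup.index_ne_zero_of_finite)]))
      h3)
    omega

theorem deg_of_prod {S : Type*} [Group S] [Finite S] [IsSimpleGroup S]
    (hna : ¬ (Nat.card S).Prime) (h1 : HasCyclicSchurMultiplier S 1)
    (h2 : ∀ φ : MulAut S, ∃ s, ∀ x, φ x = s * x * s⁻¹) {L : Subgroup G} [L.Normal]
    {K : Subgroup L} [K.Normal] (hK : K ≤ Subgroup.center L) (e : (L ⧸ K) ≃* S) {d : ℕ}
    (hd : ∃ φ : IrrCharacter G, d ∣ dg φ) (hc : d.Coprime (Nat.card G / Nat.card S)) :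
    ∃ β : IrrCharacter S, d ∣ dg β := by
  obtain ⟨φ, hd⟩ := hd
  obtain ⟨C, ⟨f⟩⟩ := exists_prod (fun hc => by
    obtain ⟨a, b, h⟩ := noncomm_of_not_prime hna
    exact h (hc.is_comm.comm a b)) h1 h2 hK e
  rw [Nat.card_congr f.toEquiv, Nat.card_prod, Nat.mul_div_cancel _ Nat.card_pos] at hc
  obtain ⟨α, β, k1, k2, k3⟩ := (H6.isIrrCharacter_prod_iff _).mp
    (H6.isIrrCharacter_comp_equiv f.symm φ.2)
  have k4 := congrFun k3 1
  simp only [map_one, Prod.fst_one, Prod.snd_one] at k4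
  rw [dg_cast φ, show α 1 = charDegree α from dg_cast ⟨α, k1⟩,
    show β 1 = charDegree β from dg_cast ⟨β, k2⟩, ← Nat.cast_mul, Nat.cast_inj] at k4
  exact ⟨⟨β, k2⟩, (hc.coprime_dvd_right (dg_dvd ⟨α, k1⟩)).dvd_of_dvd_mul_left (k4 ▸ hd)⟩

theorem sum_cnt_le (D : List ℕ) (hn : D.Nodup) :
    (D.map fun d => d ^ 2 * cnt (G := G) Finset.univ d).sum ≤ Nat.card G := by
  classical
  have s2 := sum_dg_sq_le (Finset.univ.filter fun θ : IrrCharacter G => dg θ ∈ D)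
  rw [sum_eq_cnt _ D hn (fun θ h => (Finset.mem_filter.mp h).2) (· ^ 2)] at s2
  refine le_of_eq_of_le (congrArg _ (List.map_congr_left fun d h => ?_)) s2
  rw [smul_eq_mul, mul_comm]
  exact congrArg (· * _) (cnt_congr fun θ e => by simp only [Finset.mem_filter, e, h, and_true])

variable [IsSimpleGroup G]

theorem degs11 (hG : Nat.card G = 7920) :
    (∃ χ : IrrCharacter G, 5 * 11 ∣ dg χ) ∧ ¬ ∃ χ : IrrCharacter G, 3 * 11 ∣ dg χ := by
  constructor
  · obtain ⟨χ, -, h⟩ := cnt_pos.mp ((M11.degrees hG 55).trans (by simp)).ge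
    exact ⟨χ, h.symm.dvd⟩
  · rintro ⟨χ, h⟩
    have k1 := M11.degrees hG (dg χ)
    have k2 := (cnt_pos (S := Finset.univ)).mpr ⟨χ, Finset.mem_univ _, rfl⟩
    split_ifs at k1 <;> omega

theorem degs22 (hG : Nat.card G = 443520) :
    (∃ χ : IrrCharacter G, 5 * 11 ∣ dg χ) ∧ ∃ χ : IrrCharacter G, 3 * 11 ∣ dg χ := by
  obtain ⟨M⟩ := M22.nonempty_main hG
  have k : ∀ d : ℕ, ∀ n : ℕ, cnt (G := G) Finset.univ d = n + 1 → ∀ m, m ∣ d →
      ∃ χ : IrrCharacter G, m ∣ dg χ := fun d n h m hm => by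
    obtain ⟨χ, -, h⟩ := cnt_pos.mp (n.succ_pos.trans_eq h.symm)
    exact ⟨χ, h ▸ hm⟩
  rcases M22.degrees hG M with h | h
  · exact ⟨k 55 0 (h _) _ dvd_rfl, k 66 1 (h _) _ (by norm_num)⟩
  · exact ⟨k 55 0 (h _) _ dvd_rfl, k 99 0 (h _) _ (by norm_num)⟩

theorem degs23 (hG : Nat.card G = 10200960) :
    (∃ χ : IrrCharacter G, 11 * 23 ∣ dg χ) ∧ ¬ ∃ χ : IrrCharacter G, 7 * 23 ∣ dg χ := by
  classical
  have na := M23.hna hG
  obtain ⟨P, ⟨B⟩, hC⟩ := M23.exists23 hG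
  obtain ⟨Q, ⟨A⟩, hA⟩ := M23.exists11 hG B hC
  have a2 := fun d h k => (A.cnt_univ hA k).trans ((M23.degA hG B hC A hA).1 d h)
  have b2 := fun d h k => (B.cnt_univ hC k).trans ((M23.degB hG B hC A hA).1 d h)
  have a3 : ∀ χ : IrrCharacter G, dg χ = 1 ∨ 11 ∣ dg χ ∨ dg χ ∈ M23.A0 := fun χ => by
    rw [or_iff_not_imp_left, or_iff_not_imp_left, ← List.count_pos_iff]
    exact fun h k => a2 _ h k ▸ cnt_pos.mpr ⟨χ, Finset.mem_univ _, rfl⟩
  simp only [M23.A0, List.mem_cons, List.not_mem_nil, or_false] at a3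
  obtain ⟨R, e, c, hc, ⟨D⟩⟩ := exists_PB na 5 (m := 2040192) hG (by norm_num)
  obtain ⟨he, k⟩ := D.opts na hG hc M23.c5
  have k1 := B.not_dvd_cen hC (by norm_num) D.card
  have k2 := A.not_dvd_cen hA (by norm_num) D.card
  simp only [Bool.or_eq_true, beq_iff_eq] at k
  obtain ⟨o, o1, o0, o2⟩ := D.sieveF na (by norm_num) hG hc (fun χ _ _ => by
    rw [M23.f23_of hG B hC, List.contains_iff_mem.mpr (A.res hA χ)]; rfl)
    (k.resolve_left (by omega))
  obtain ⟨o', ho, o3⟩ := List.any_eq_true.mp o1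
  obtain ⟨d, d1, d2⟩ := (by decide : ∀ o ∈ M23.L5, ∃ d ∈ o, d ∈ [126, 644, 2024]) _ ho
  obtain ⟨χ, -, c1⟩ := cnt_pos.mp (o2 d (by rintro rfl; simp at d2) ▸
    List.count_pos_iff.mpr ((List.isPerm_iff.mp o3).mem_iff.mp d1))
  have c2 : dg χ = 2024 := by
    have := a3 χ
    simp only [List.mem_cons, List.not_mem_nil, or_false] at d2
    omega
  refine ⟨⟨χ, by rw [c2]; norm_num⟩, fun ⟨ψ, h⟩ => ?_⟩
  have s1 := sum_dg_sq_le {ψ}
  rw [Finset.sum_singleton, hG] at s1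
  have c3 : dg ψ = 1771 := by
    have := a3 ψ
    have := dg_pos ψ
    have : dg ψ < 3542 := by nlinarith
    omega
  have s2 := sum_cnt_le (G := G) [896, 990, 1771, 2024] (by decide)
  have s4 := (cnt_pos (S := Finset.univ)).mpr ⟨χ, Finset.mem_univ _, c2⟩
  have s5 := (cnt_pos (S := Finset.univ)).mpr ⟨ψ, Finset.mem_univ _, c3⟩
  have s6 : _ = 2 := b2 896 (by norm_num) (by norm_num)
  have s7 : _ = 2 := b2 990 (by norm_num) (by norm_num)
  simp only [List.map, List.sum_cons, List.sum_nil, s6, s7, hG] at s2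
  omega

theorem c24 : optsAll 244823040 23 (fun e c => c != 1 || e == 11) = true ∧
    optsAll 244823040 11 (fun e c => c != 1 || e == 10) = true ∧
    optsAll 244823040 5 (fun e c => c != 12 || e == 4) = true ∧
    feasF 244823040 5 4 12 (fun d => d != 11 && [0, 1, 22, 11, 12].contains (d % 23) &&
      [0, 1, 10].contains (d % 11)) (fun o => o.any (· % 253 == 0) && o.any (· % 161 == 0)) = true := by
  decide +kernel

theorem degs24_of (hG : Nat.card G = 244823040) (T : ∀ g : G, ∀ t ∈ [(23, 1), (11, 1), (5, 12)],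
    orderOf g = t.1 → Nat.card (Subgroup.centralizer ({g} : Set G)) = t.1 * t.2) :
    (∃ χ : IrrCharacter G, 11 * 23 ∣ dg χ) ∧ ∃ χ : IrrCharacter G, 7 * 23 ∣ dg χ := by
  classical
  have na := noncomm_of_not_prime (G := G) (by rw [hG]; norm_num)
  have key : ∀ t ∈ [(23, 1), (11, 1), (5, 12)], ∀ [Fact t.1.Prime] {P : Subgroup G} {e : ℕ},
      PB G t.1 P e → Nat.card (Subgroup.centralizer (P : Set G)) = t.1 * t.2 := fun t h _ P e B => by
    obtain ⟨x, x1, hx⟩ := B.exists_sing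
    obtain rfl : Subgroup.zpowers x = P := Subgroup.eq_of_le_of_card_ge
      (Subgroup.zpowers_le.mpr x1) (by rw [Nat.card_zpowers, hx, B.card])
    rw [Subgroup.zpowers_eq_closure, Subgroup.centralizer_closure, T x t h hx]
  obtain ⟨P, e, -, -, ⟨B⟩⟩ := exists_PB na 23 (m := 10644480) hG (by norm_num)
  obtain ⟨Q, e', -, -, ⟨A⟩⟩ := exists_PB na 11 (m := 22256640) hG (by norm_num)
  obtain ⟨R, e'', -, -, ⟨D⟩⟩ := exists_PB na 5 (m := 48964608) hG (by norm_num)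
  have k1 := key (23, 1) (by simp) B
  have k2 := key (11, 1) (by simp) A
  have k3 := key (5, 12) (by simp) D
  obtain rfl : e = 11 := by simpa using (B.opts na hG k1 c24.1).2
  obtain rfl : e' = 10 := by simpa using (A.opts na hG k2 c24.2.1).2
  obtain rfl : e'' = 4 := by simpa using (D.opts na hG k3 c24.2.2.1).2
  obtain ⟨o, o1, o0, o2⟩ := D.sieveF na (by norm_num) hG k3 (fun χ _ _ => by
    have := A.res (selfcent_of_card A.card k2) χ
    rw [List.contains_iff_mem.mpr (B.res (selfcent_of_card B.card k1) χ), bne_iff_ne.mpr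
      (ne_eleven na hG.dvd (by rw [hG]; norm_num) (by rw [hG]; norm_num) χ)]
    simp only [List.contains_iff_mem, List.mem_cons, List.not_mem_nil, or_false, Bool.true_and]
      at this ⊢
    omega) c24.2.2.2
  simp only [Bool.and_eq_true, List.any_eq_true, beq_iff_eq] at o1
  have k : ∀ m, (∃ d ∈ o, d % m = 0) → ∃ χ : IrrCharacter G, m ∣ dg χ := fun m ⟨d, d1, d2⟩ => by
    obtain ⟨χ, -, rfl⟩ := cnt_pos.mp (o2 d (by rintro rfl; exact o0 d1) ▸ List.count_pos_iff.mpr d1)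
    exact ⟨χ, Nat.dvd_of_mod_eq_zero d2⟩
  exact ⟨k _ o1.1, k _ o1.2⟩

theorem degs24 : (∃ χ : IrrCharacter M24, 11 * 23 ∣ dg χ) ∧
    ∃ χ : IrrCharacter M24, 7 * 23 ∣ dg χ := by
  have d : ∀ e ∈ H96.Geo.M24.cls, ∀ t ∈ [(23, 1), (11, 1), (5, 12)], e.o = t.1 →
    e.z = t.1 * t.2 := by decide +kernel
  haveI := H15.isSimple_M24
  refine degs24_of H15.card_M24 fun g => ?_
  obtain ⟨e, he, h1, h2⟩ := cent_of_table H96.Geo.M24.table g
  rw [h1, h2]
  exact d e he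

end H34.Deg
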