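import Mathlib
import Cfsg.Agent.Base
import Cfsg.Agent.Lib.Ord.M24A

/-! Numerical checks for simple groups of order 244823040: the principal `23`-block. -/

set_option autoImplicit false

open H4.Sv

namespace H17.Ord.M24

def fq (q d : ℕ) : Bool := Nat.beq (Nat.mod d q) 0

noncomputable def no (O : List (ℕ × Ty)) (I : ℕ → List (ℕ × Ty)) (p W : ℕ) (u : List ℕ) : Bool :=
  run O I (fun _ _ _ => false) p W 244823039 u

noncomputable def chkB (cs ini : List ℤ) : Bool :=
  idx (fq 23) T7 D O7 fun O7 I7 _ => idx (fq 23) T5 D O5 fun O5 I5 _ =>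
    srch 244823040 (fun l s sq => fN s.natAbs fun E => bif Nat.beq (Nat.mod 10644480 E) 0 then
      (bif f11 E && Nat.ble (sq + 2 * (E * E)) 244823040 then
        fM (E :: E :: l.map Int.natAbs) fun b => bif no O7 I7 7 5 b then true else
          bif no O5 I5 5 11 b then true else srt b fun b => anyL (leq b) SB else true) else true)
      cs (10 - ini.length) ini (1 + ini.sum) (1 + (ini.map fun a => a.natAbs ^ 2).sum)

def cB : List ℤ := [-12672, -10395, 5544, -3840, 3520, -1540, 990, -528, -252, 231, -45]

set_option maxHeartbeats 0 in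
theorem sB1 : chkB (cB ++ [-22]) [5544, -22] = true := by decide +kernel

set_option maxHeartbeats 0 in
theorem sB2 : chkB cB [5544, 990, 990] = true := by decide +kernel

set_option maxHeartbeats 0 in
theorem sB3 : chkB cB [5544, 3520] = true := by decide +kernel

end H17.Ord.M24
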