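import Mathlib
import Cfsg.Agent.Base
import Cfsg.Agent.Lib.Ord.M24B

/-! Numerical checks for simple groups of order 244823040: all degrees. -/

set_option autoImplicit false

open H4.Sv

namespace H17.Ord.M24

def cA : List ℤ := [15456, -12880, 12420, -8832, 7360, -5796, 4830, 3312, -2760, 1288, -1242, 1035,
  -736, -483, 276, -230, 23]

set_option maxHeartbeats 0 in
theorem sA : (idx (fq 253) T7 D O7 fun O7 I7 _ => idx (fq 253) T5 D O5 fun O5 I5 _ =>
    srch 90320402 (fun l s _ => bif s == 161 then srt (l.map Int.natAbs) fun a =>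
      bif anyL (leq a) AL then true else allL (fun b _ => fM (a ++ b) fun u =>
        bif no O7 I7 7 5 u then true else no O5 I5 5 11 u) SB else true)
      cA 7 [] 0 0) = true := by decide +kernel

def m5 (d : ℕ) : ℕ := Nat.mod (Nat.mul d d) 5

noncomputable def K5 (u : List ℕ) (b : ℕ) (acc : List ℕ) : Bool :=
  bif fq (8855 * 8855) b then Nat.beq b 0 && srt (acc ++ u) fun v => anyL (leq v) (FG ++ FB)
    else true

noncomputable def K7 (O : List (ℕ × Ty)) (J : ℕ → List (ℕ × Ty)) (Q : List Ty) (u : List ℕ)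
    (y : ℕ) (acc : List ℕ) : Bool :=
  bif Nat.blt 59 (Nat.add (sm m5 acc) y) then true else fM (app acc u) fun v =>
    run O J (fun W b acc => pu (K5 v) (W + 1) Q W b acc) 5 11 244823039 v

noncomputable def chkA (A : List (List ℕ)) : Bool :=
  idx (fq 253) T7 D O7 fun O7 I7 Q7 => idx (fq 253) T5 D O5 fun O I5 _ => idx (fq 1771) T5 D O5 fun O' J5 Q5 =>
    allL (fun a _ => allL (fun b _ => fM (a ++ b) fun u =>
      bif no O7 I7 7 5 u then true else bif no O I5 5 11 u then true else
        fN (sm m5 u) fun y => run O7 I7 (fun W b acc =>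
          pu (fun _ => K7 O' J5 Q5 u y) (W + 1) Q7 W b acc) 7 5 244823039 u) SB) A

set_option maxHeartbeats 0 in
theorem sC1 : chkA (AL.take 9) = true := by decide +kernel

end H17.Ord.M24
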