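import Mathlib
import Cfsg.Agent.Base
import Cfsg.Agent.Lib.Ord.M24C

/-! Numerical checks for simple groups of order 244823040: all degrees, continued. -/

set_option autoImplicit false

namespace H17.Ord.M24

set_option maxHeartbeats 0 in
theorem sC2 : chkA ((AL.drop 9).take 4) = true := by decide +kernel

set_option maxHeartbeats 0 in
theorem sC3 : chkA ((AL.drop 9).drop 4) = true := by decide +kernel

end H17.Ord.M24
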