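import Mathlib
import Cfsg.Agent.Base
import Cfsg.Agent.Lib.Ord.Flt

/-! Numerical checks for the prime 11 in simple groups of order 244823040, part one. -/

set_option autoImplicit false

open H4.Sv

namespace H17.Ord.M24.E11

def f23 (d : ℕ) : Bool :=
  [0, 1, 22, 11, 12].contains (d % 23) && (d != 11 && Nat.ble (d * d) 244823040)

noncomputable def fc (p C d : ℕ) : Bool :=
  f23 d && !(cnd 244823040 C (fl [5, 7, 11, 23] p C) d).isEmpty

noncomputable def emp (p e c C : ℕ) (o : List ℕ) : Bool :=
  (cols 244823040 p e c C (fl [5, 7, 11, 23] p C) o).isEmpty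

noncomputable def kill (p e c C : ℕ) : Bool :=
  feasF 244823040 p e c (fc p C) fun o => good p e o && emp p e c C o

noncomputable def kill2 (p e c : ℕ) : Bool :=
  feasF 244823040 p e c f23 fun o => good p e o &&
    (divs 10395).all fun k => emp p e c (1024 * k) o

def hc (n h0 C : ℕ) : Bool :=
  (divs n).any fun h => h % h0 == 0 && (C % h == 0 && C / h % 11 == 1)

theorem eqns : True := by
  have := @f23.eq_1; have := @fc.eq_1; have := @emp.eq_1; have := @kill.eq_1
  have := @kill2.eq_1; have := @hc.eq_1; trivial

theorem c7 : optsAll 244823040 7 (fun e c => c % 11 != 0 || c % 23 == 0 || kill2 7 e c) = true := by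
  decide +kernel

theorem c11 : optsAll 244823040 11 (fun e c => c % 7 == 0 || c % 23 == 0 || (e == 10 && c == 1) ||
    (e == 10 && c == 12) || (e == 5 && c == 2) || (e == 5 && c == 24) || (e == 5 && c == 288) ||
    kill2 11 e c) = true := by decide +kernel

theorem c288 : ((divs 10644480).all fun C => C % 110 != 0 || kill 11 5 288 C) = true := by
  decide +kernel

theorem c24 : ((divs 10644480).all fun C => !hc 1320 440 C || kill 11 5 24 C) = true := by
  decide +kernel

theorem c2 : ((divs 10644480).all fun C => !hc 110 110 C || C == 73920 || C == 887040 ||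
    kill 11 5 2 C) = true := by
  decide +kernel

theorem c45 : ((divs 10644480).all fun C => C % 110 != 0 || !fc 11 C 45) = true := by
  decide +kernel

theorem c3840 : ((divs 10644480).all fun C => !hc 1320 440 C || C == 15840 || C == 295680 ||
    C == 887040 || !fc 11 C 3840) = true := by
  decide +kernel

end H17.Ord.M24.E11
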