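import Mathlib
import Cfsg.Agent.Base
import Cfsg.Agent.Lib.Ord.M24Ea

/-! Numerical checks for the prime 11 in simple groups of order 244823040, part two. -/

set_option autoImplicit false

open H4.Sv

namespace H17.Ord.M24.E11

theorem k73920 : optsAll 244823040 7 (fun e c => c % 11 == 0 || c % 23 == 0 || c % 2 == 1 ||
    kill 7 e c 73920) = true := by decide +kernel

theorem k295680 : optsAll 244823040 7 (fun e c => c % 11 == 0 || c % 23 == 0 || c % 2 == 1 ||
    kill 7 e c 295680) = true := by decide +kernel

theorem k887040 : optsAll 244823040 7 (fun e c => c % 11 == 0 || c % 23 == 0 || c % 2 == 1 ||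
    kill 7 e c 887040) = true := by decide +kernel

end H17.Ord.M24.E11
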