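import Mathlib
import Cfsg.Agent.Base
import Cfsg.Agent.Lib.Ord.M24Ea

/-! Numerical checks for the prime 11 in simple groups of order 244823040, part three. -/

set_option autoImplicit false

open H4.Sv

namespace H17.Ord.M24.E11

theorem c12 : ((divs 1854720).all fun d => !f23 d || d == 45 || d == 3840 || Nat.blt d 22 ||
    (wt 11 10 d * d) % 23 == 0 || (wt 11 10 d * d) % 23 == 1) = true := by decide +kernel

theorem c15840 : cnd 244823040 15840 (fl [5, 7, 11, 23] 11 15840) 3840 = [-120] := by
  decide +kernel

end H17.Ord.M24.E11
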