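import Mathlib
import Cfsg.Agent.Base
import Cfsg.Agent.Lib.Ord.Flt2

/-! An involution centralising a Sylow subgroup of prime order and a large part of its
normaliser. -/

set_option autoImplicit false
set_option linter.unusedSectionVars false
set_option linter.style.haveILetI false

open Cfsg H4.Sv MulAction Subgroup

namespace H17.Ord.M24.E11
variable {G : Type*} [Group G] [Finite G]

theorem card_mod {p : ℕ} [Fact p.Prime] {Y S : Subgroup G} (hY : IsPGroup p Y)
    (hn : Y ≤ normalizer (S : Set G)) :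
    Nat.card S ≡ Nat.card ↥(S ⊓ centralizer (Y : Set G)) [MOD p] := by
  let φ : Y →* MulAut S := S.normalizerMonoidHom.comp (Subgroup.inclusion hn)
  let _ : MulAction Y S := MulAction.compHom S φ
  have h := hY.card_modEq_card_fixedPoints S
  have e : Nat.card (fixedPoints Y S) = Nat.card ↥(S ⊓ centralizer (Y : Set G)) := by
    refine Nat.card_congr ⟨fun x => ⟨x.1.1, x.1.2, fun y hy => ?_⟩,
      fun x => ⟨⟨x.1, x.2.1⟩, fun y => Subtype.ext ?_⟩, fun _ => rfl, fun _ => rfl⟩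
    · have := congrArg Subtype.val (x.2 ⟨y, hy⟩)
      exact mul_inv_eq_iff_eq_mul.1 this
    · exact mul_inv_eq_iff_eq_mul.2 (x.2.2 y y.2)
  rwa [e] at h

theorem aux {S : Subgroup G} {q a k : ℕ} (hq : q.Prime) (hS : Nat.card S = 2 ^ a) (a0 : 0 < a)
    (ha : ∀ j < a, 2 ^ j % q ≠ 2 ^ a % q) (hq2 : q ≠ 2)
    (h1 : q ∣ Nat.card (normalizer (S : Set G))) (h2 : 2 ^ k ∣ Nat.card (normalizer (S : Set G))) :
    ∃ s ∈ S, orderOf s = 2 ∧ 2 ^ k * q ∣ Nat.card (centralizer ({s} : Set G)) := by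
  haveI := Fact.mk hq
  obtain ⟨⟨y, hy⟩, o⟩ := exists_prime_orderOf_dvd_card' q h1
  rw [Subgroup.orderOf_mk] at o
  have k1 := card_mod (p := q) (Y := zpowers y) (S := S)
    (IsPGroup.of_card (n := 1) (by rw [Nat.card_zpowers, o, pow_one])) (zpowers_le.mpr hy)
  obtain ⟨j, hj, k2⟩ := (Nat.dvd_prime_pow Nat.prime_two).mp
    (hS ▸ card_dvd_of_le (inf_le_left : S ⊓ centralizer (zpowers y : Set G) ≤ S))
  have k3 : S ≤ centralizer (zpowers y : Set G) := by
    rcases hj.lt_or_eq with hj | rfl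
    · rw [hS, k2] at k1
      exact absurd k1.symm (ha j hj)
    · exact inf_eq_left.mp (eq_of_le_of_card_ge inf_le_left (by rw [hS, k2]))
  obtain ⟨U, hU⟩ := Sylow.exists_subgroup_card_pow_prime 2 h2
  have c1 : Nat.card (U.map (normalizer (S : Set G)).subtype) = 2 ^ k := by
    rw [card_map_of_injective (subtype_injective _), hU]
  have k4 := card_mod (p := 2) (S := S) (IsPGroup.of_card c1) (map_subtype_le U)
  have k5 : 2 ∣ Nat.card ↥(S ⊓ centralizer (U.map (normalizer (S : Set G)).subtype : Set G)) :=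
    (k4.dvd_iff dvd_rfl).mp (hS ▸ dvd_pow_self 2 a0.ne')
  obtain ⟨⟨s, s0⟩, o'⟩ := exists_prime_orderOf_dvd_card' 2 k5
  rw [Subgroup.orderOf_mk] at o'
  obtain ⟨s1, s2⟩ := s0
  refine ⟨s, s1, o', Nat.Coprime.mul_dvd_of_dvd_of_dvd
    (((Nat.coprime_primes Nat.prime_two hq).mpr hq2.symm).pow_left k) ?_ ?_⟩
  · rw [← c1]
    exact card_dvd_of_le fun x hx => mem_centralizer_singleton_iff.mpr (s2 x hx)
  · rw [← o]
    exact Subgroup.orderOf_dvd_natCard _
      (mem_centralizer_singleton_iff.mpr (k3 s1 y (mem_zpowers y)))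

theorem cen_invol {p : ℕ} [hp : Fact p.Prime] {P : Subgroup G} {e : ℕ} (B : PB G p P e)
    (h2 : p ≠ 2) {q a m k : ℕ} (hq : q.Prime)
    (hc : Nat.card (centralizer (P : Set G)) = 2 ^ a * m) (he : q ∣ e) (hm : ¬ 2 ∣ m) (a0 : 0 < a)
    (ha : ∀ j < a, 2 ^ j % q ≠ 2 ^ a % q) (hq2 : q ≠ 2) (hpq : p ≠ q) (hk : 2 ^ k ∣ 2 ^ a * e) :
    ∃ s : G, orderOf s = 2 ∧ ∃ h r : ℕ, Nat.card (centralizer ({s} : Set G)) = h * r ∧
      r % p = 1 ∧ 2 ^ k * q * p ∣ h ∧ h ∣ 2 ^ a * m * e := by
  set N := normalizer (P : Set G) with hN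
  set C := (centralizer (P : Set G)).subgroupOf N
  haveI : C.Normal := normal_subgroupOf_centralizer_normalizer _
  have c1 : Nat.card C = 2 ^ a * m := by
    rw [← hc, Nat.card_congr (subgroupOfEquivOfLe (H86.Cen_le_Nor P)).toEquiv]
  have c0 : Nat.card N = 2 ^ a * m * e := by
    rw [← c1, ← B.he]; exact (card_mul_index C).symm
  obtain ⟨T⟩ : Nonempty (Sylow 2 C) := inferInstance
  set S := (T : Subgroup C).map C.subtype
  have c2 : Nat.card S = 2 ^ a := by
    rw [card_map_of_injective C.subtype_injective]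
    exact H36.card_sylow_eq_pow T (c1 ▸ dvd_mul_right _ _) (by
      rw [c1, pow_succ, Nat.mul_dvd_mul_iff_left (by positivity)]; exact hm)
  have c3 : C.relIndex (normalizer (S : Set N)) = e := by
    have := relIndex_sup_right (normalizer (S : Set N)) C
    rw [T.normalizer_sup_eq_top, relIndex_top_right] at this
    exact this.symm.trans B.he
  have c4 : 2 ^ a * e ∣ Nat.card (normalizer (S : Set N)) := by
    rw [← card_mul_index (C.subgroupOf (normalizer (S : Set N))), ← c3, ← c2,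
      ← Nat.card_congr (subgroupOfEquivOfLe (le_normalizer : S ≤ _)).toEquiv]
    exact Nat.mul_dvd_mul (card_dvd_of_le fun x hx =>
      mem_subgroupOf.mpr (map_subtype_le (T : Subgroup C) (mem_subgroupOf.mp hx))) dvd_rfl
  obtain ⟨t, t1, t2, t3⟩ := aux hq c2 a0 ha hq2 ((he.mul_left _).trans c4) (hk.trans c4)
  have t4 : (t : G) ∈ centralizer (P : Set G) := map_subtype_le (T : Subgroup C) t1
  have t5 : P ≤ centralizer ({(t : G)} : Set G) := fun y hy =>
    mem_centralizer_singleton_iff.mpr (t4 y hy)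
  obtain ⟨r, r1, r2⟩ := card_over B.card B.ind t5
  refine ⟨t, by rw [Subgroup.orderOf_coe, t2], _, r, r1, r2, ?_, c0 ▸ card_dvd_of_le inf_le_left⟩
  refine Nat.Coprime.mul_dvd_of_dvd_of_dvd (Nat.Coprime.mul_left
    (((Nat.coprime_primes Nat.prime_two hp.out).mpr h2.symm).pow_left k)
    ((Nat.coprime_primes hq hp.out).mpr hpq.symm)) (t3.trans ?_) ?_
  · rw [← card_map_of_injective (K := centralizer ({t} : Set N)) N.subtype_injective]
    refine card_dvd_of_le ?_
    rintro _ ⟨x, hx, rfl⟩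
    exact ⟨x.2, mem_centralizer_singleton_iff.mpr
      (congrArg Subtype.val (mem_centralizer_singleton_iff.mp hx))⟩
  · rw [← B.card]
    exact card_dvd_of_le (le_inf le_normalizer t5)

end H17.Ord.M24.E11
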