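import Mathlib
import Cfsg.Agent.Base
import Cfsg.Agent.Lib.Ord.M24Eb
import Cfsg.Agent.Lib.Ord.M24Ec
import Cfsg.Agent.Lib.Ord.M24Ed

/-! In a simple group of order 244823040 the Sylow 11-subgroup is self-centralising with
automiser of order 10. -/

set_option autoImplicit false
set_option linter.unusedSectionVars false
set_option linter.style.haveILetI false

open Cfsg H4.Sv MulAction

namespace H17.Ord.M24
variable {G : Type*} [Group G] [Finite G] [IsSimpleGroup G]

namespace E11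

theorem fact7 : Fact (Nat.Prime 7) := ⟨by norm_num⟩

attribute [local instance] fact7

theorem hna (hG : Nat.card G = 244823040) : ∃ a b : G, a * b ≠ b * a :=
  noncomm_of_not_prime (by rw [hG]; norm_num)

theorem hc_of {n h0 C h r : ℕ} (hn : n ≠ 0) (h1 : C = h * r) (h2 : r % 11 = 1) (h3 : h0 ∣ h)
    (h4 : h ∣ n) : hc n h0 C = true := by
  have : 0 < h := Nat.pos_of_dvd_of_pos h4 (Nat.pos_of_ne_zero hn)
  simp only [hc, List.any_eq_true, Bool.and_eq_true, beq_iff_eq]
  exact ⟨h, mem_divs hn h4, Nat.mod_eq_zero_of_dvd h3, by rw [h1, Nat.mul_mod_right],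
    by rw [h1, Nat.mul_div_cancel_left _ this, h2]⟩

variable (hG : Nat.card G = 244823040) {P : Subgroup G} (B : PB G 23 P 11)
  (hC : Subgroup.centralizer (P : Set G) = P)
include hG B hC

theorem f23_of (χ : IrrCharacter G) : f23 (dg χ) = true := by
  have := dg_ne_half (p := 23) (hna hG) (by rw [hG]; norm_num) (by rw [hG]; norm_num)
    (by rw [hG]; norm_num) (by norm_num) χ
  have h2 := sum_dg_sq_le {χ}
  rw [Finset.sum_singleton, hG, sq] at h2
  rw [f23, List.contains_iff_mem.mpr (B.res hC χ), Bool.true_and, Bool.and_eq_true, bne_iff_ne,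
    Nat.ble_eq]
  exact ⟨by omega, h2⟩

theorem cent_dvd {s : G} (hs : orderOf s = 2) :
    Nat.card (Subgroup.centralizer ({s} : Set G)) ∣ 10644480 :=
  ((Nat.Prime.coprime_iff_not_dvd (by norm_num)).mpr
    (B.not_dvd_cent hC hs Nat.prime_two (by norm_num))).symm.dvd_of_dvd_mul_left
      ((Subgroup.card_subgroup_dvd_card _).trans hG.dvd)

section
variable {p : ℕ} [Fact p.Prime] {Q : Subgroup G} {e c C : ℕ} (B' : PB G p Q e)
include B'

theorem fc_of {s : G} (hs : orderOf s = 2)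
    (hc : Nat.card (Subgroup.centralizer ({s} : Set G)) = C) {χ : IrrCharacter G}
    (h : χ ∈ B'.X ∨ χ ∈ B'.Y) (h1 : dg χ ≠ 1) : fc p C (dg χ) = true := by
  obtain ⟨u, hu, -⟩ := exists_invol_col (hna hG) hs
  have := mem_cnd (hna hG) hG hs hc hu (f := fl [5, 7, 11, 23] p C) h1
    (B'.fl_of (by rw [hG]; decide) hs hc hu χ h)
  rw [fc, f23_of hG B hC, Bool.true_and, Bool.not_eq_true', List.isEmpty_eq_false_iff]
  exact List.ne_nil_of_mem this

theorem not_emp (he : 1 < e) (hc : Nat.card (Subgroup.centralizer (Q : Set G)) = p * c)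
    [DecidableEq (IrrCharacter G)] {o : List ℕ}
    (k : ∀ d, d ≠ 1 → cnt (B'.X ∪ B'.Y) d = o.count d) (hg : good p e o = true) {s : G}
    (hs : orderOf s = 2) (hc' : Nat.card (Subgroup.centralizer ({s} : Set G)) = C)
    (h : emp p e c C o = true) : False := by
  obtain ⟨u, hu, -⟩ := exists_invol_col (hna hG) hs
  obtain ⟨L, -, -, l⟩ := B'.mem_fl (hna hG) hG (by decide) he hc k hg hs hc' hu
  rw [emp, List.isEmpty_iff] at h
  exact List.not_mem_nil (h ▸ l)

theorem not_kill (h2 : p ≠ 2) (he : 1 < e)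
    (hc : Nat.card (Subgroup.centralizer (Q : Set G)) = p * c) {s : G}
    (hs : orderOf s = 2) (hc' : Nat.card (Subgroup.centralizer ({s} : Set G)) = C)
    (h : kill p e c C = true) : False := by
  classical
  obtain ⟨o, h, -, k⟩ := B'.sieveF (hna hG) h2 hG hc
    (fun χ h h1 => fc_of hG B hC B' hs hc' h h1) h
  rw [Bool.and_eq_true] at h
  exact not_emp hG B hC B' he hc k h.1 hs hc' h.2

theorem not_kill2 (h2 : p ≠ 2) (he : 1 < e)
    (hc : Nat.card (Subgroup.centralizer (Q : Set G)) = p * c)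
    (h : kill2 p e c = true) : False := by
  classical
  obtain ⟨o, h, -, k⟩ := B'.sieveF (hna hG) h2 hG hc (fun χ _ _ => f23_of hG B hC χ) h
  rw [Bool.and_eq_true, List.all_eq_true] at h
  obtain ⟨s, hs, j, hj⟩ := exists_two_central (G := G) (k := 10) (by norm_num)
    (by rw [hG]; norm_num)
  have := cent_dvd hG B hC hs
  rw [hj, show 10644480 = 2 ^ 10 * 10395 by norm_num, Nat.mul_dvd_mul_iff_left (by norm_num)] at this
  exact not_emp hG B hC B' he hc k h.1 hs hj (h.2 j (mem_divs (by norm_num) this))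

end

theorem not11 {R : Subgroup G} {e c : ℕ} (D : PB G 7 R e)
    (hc : Nat.card (Subgroup.centralizer (R : Set G)) = 7 * c) : c % 11 ≠ 0 := by
  obtain ⟨he, k⟩ := D.opts (hna hG) hG hc c7
  have k2 := B.not_dvd_cen hC (by norm_num) D.card
  simp only [Bool.or_eq_true, beq_iff_eq, bne_iff_ne] at k
  rcases k with (k | k) | k
  · exact k
  · omega
  · exact (not_kill2 hG B hC D (by norm_num) he hc k).elim

theorem not_big {s : G} (hs : orderOf s = 2) {C : ℕ}
    (hc' : Nat.card (Subgroup.centralizer ({s} : Set G)) = C)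
    (h : C = 73920 ∨ C = 295680 ∨ C = 887040) : False := by
  obtain ⟨R, e, c, hc, ⟨D⟩⟩ := exists_PB (hna hG) 7 (m := 34974720) hG (by norm_num)
  have k1 := not11 hG B hC D hc
  have k2 := B.not_dvd_cen hC (by norm_num) D.card
  obtain ⟨g, g1, g2⟩ := exists_sing_pow (q := 7) (by norm_num) (by norm_num) hs (by omega)
  have k3 : 2 ∣ 7 * c := by
    rw [← hc, ← hs, ← g2]
    exact ((orderOf_pow_dvd _).trans (orderOf_dvd_cent g)).trans (card_cent_dvd D.card D.ind g1)
  have key : ∀ {C' : ℕ}, C = C' → optsAll 244823040 7 (fun e c => c % 11 == 0 || c % 23 == 0 ||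
      c % 2 == 1 || kill 7 e c C') = true → False := fun h1 h2 => by
    obtain ⟨he, k⟩ := D.opts (hna hG) hG hc h2
    simp only [Bool.or_eq_true, beq_iff_eq] at k
    exact not_kill hG B hC D (by norm_num) he hc hs (hc'.trans h1) (k.resolve_left (by omega))
  rcases h with h | h | h
  · exact key h k73920
  · exact key h k295680
  · exact key h k887040

theorem has3840 {Q : Subgroup G} (A : PB G 11 Q 10)
    (hc : Nat.card (Subgroup.centralizer (Q : Set G)) = 11 * 12)
    (h45 : ∀ χ, χ ∈ A.X ∨ χ ∈ A.Y → dg χ ≠ 45) :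
    ∃ χ, (χ ∈ A.X ∨ χ ∈ A.Y) ∧ dg χ = 3840 := by
  classical
  by_contra! h
  obtain ⟨-, L, D, N, k⟩ := A.num (hna hG) (by norm_num) hG hc
  have k0 := k _ L.coe_toList
  have k1 : ∀ χ ∈ A.X ∪ A.Y, (wt 11 10 (dg χ) * dg χ) % 23 = 0 ∨
      (wt 11 10 (dg χ) * dg χ) % 23 = 1 := fun χ hχ => by
    by_cases h1 : dg χ = 1
    · rw [h1]; decide
    have k2 : dg χ ∈ degs 11 10 L.toList :=
      List.count_pos_iff.mp (k0 _ h1 ▸ cnt_pos.mpr ⟨χ, hχ, rfl⟩)
    have k3 : dg χ ∣ 1854720 ∧ 22 ≤ dg χ := by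
      rcases List.mem_append.mp k2 with k2 | k2
      · obtain ⟨a, a1, a2⟩ := List.mem_map.mp k2
        rw [Multiset.mem_toList] at a1
        exact a2 ▸ ⟨N.dvd a a1, (N.stan (by norm_num)).1 a a1⟩
      · rw [List.eq_of_mem_replicate k2, Multiset.sum_toList, ← N.deq]
        exact ⟨N.ddvd, (N.stan (by norm_num)).2⟩
    have := List.all_eq_true.mp c12 _ (mem_divs (by norm_num) k3.1)
    have k4 := h45 χ (Finset.mem_union.mp hχ)
    have k5 := h χ (Finset.mem_union.mp hχ)
    simp only [f23_of hG B hC, Bool.not_true, Bool.false_or, Bool.or_eq_true, beq_iff_eq,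
      Nat.blt_eq] at this
    omega
  have k2 := A.rel_blk (by norm_num) (PB.reg_one (G := G) (p := 11))
  simp only [dg_cast] at k2
  have k3 : ∑ χ ∈ A.X ∪ A.Y, wt 11 10 (dg χ) * (dg χ : ℤ) = 0 := by exact_mod_cast k2
  have k4 := Finset.sum_int_mod (A.X ∪ A.Y) 23 fun χ => wt 11 10 (dg χ) * (dg χ : ℤ)
  have k5 : ∑ χ ∈ A.X ∪ A.Y, wt 11 10 (dg χ) * (dg χ : ℤ) % 23 ≤ (A.X ∪ A.Y).card • (1 : ℤ) :=
    Finset.sum_le_card_nsmul _ _ _ fun χ hχ => by have := k1 χ hχ; omega
  have k6 : wt 11 10 (dg (triv G)) * (dg (triv G) : ℤ) % 23 ≤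
      ∑ χ ∈ A.X ∪ A.Y, wt 11 10 (dg χ) * (dg χ : ℤ) % 23 :=
    Finset.single_le_sum (f := fun χ => wt 11 10 (dg χ) * (dg χ : ℤ) % 23)
      (fun χ hχ => by have := k1 χ hχ; omega) (Finset.mem_union.mpr A.one_mem)
  rw [Finset.card_union_of_disjoint A.disj, A.cardX, A.cardY] at k5
  rw [dg_triv, show wt 11 10 1 = 1 by decide] at k6
  rw [k3] at k4
  norm_num at k5 k6
  omega

theorem not15840 {Q : Subgroup G} (A : PB G 11 Q 10) {s : G} (hs : orderOf s = 2)
    (hc : Nat.card (Subgroup.centralizer ({s} : Set G)) = 15840) {χ : IrrCharacter G}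
    (h : χ ∈ A.X ∨ χ ∈ A.Y) (h1 : dg χ = 3840) : False := by
  classical
  obtain ⟨u, hu, u1, -⟩ := exists_invol_col (hna hG) hs
  have k1 := mem_cnd (hna hG) hG hs hc hu (f := fl [5, 7, 11, 23] 11 15840) (χ := χ) (by omega)
    (A.fl_of (by rw [hG]; decide) hs hc hu χ h)
  rw [h1, c15840, List.mem_singleton] at k1
  have k2 := A.rel_blk (by norm_num) (g := s) (by rw [hs]; norm_num)
  simp only [hu] at k2
  have k3 : ∑ ψ ∈ A.X ∪ A.Y, wt 11 10 (dg ψ) * u ψ = 0 := by exact_mod_cast k2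
  have m1 : triv G ∈ A.X ∪ A.Y := Finset.mem_union.mpr A.one_mem
  have m2 : χ ∈ (A.X ∪ A.Y).erase (triv G) :=
    Finset.mem_erase.mpr ⟨fun e => by rw [e, dg_triv] at h1; omega, Finset.mem_union.mpr h⟩
  have k4 : ∑ ψ ∈ A.X ∪ A.Y, u ψ ^ 2 ≤ 15840 := by
    have := col_sq hu
    rw [hc] at this
    exact (Finset.sum_le_sum_of_subset_of_nonneg (Finset.subset_univ _)
      fun _ _ _ => sq_nonneg _).trans this.le
  rw [← Finset.add_sum_erase _ _ m1, ← Finset.add_sum_erase _ _ m2, u1, k1] at k3 k4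
  rw [dg_triv, h1, show wt 11 10 1 = 1 by decide, show wt 11 10 3840 = 1 by decide] at k3
  have k5 := sq_sum_le_card_mul_sum_sq (s := ((A.X ∪ A.Y).erase (triv G)).erase χ)
    (f := fun ψ => wt 11 10 (dg ψ) * u ψ)
  have k6 : ∑ ψ ∈ ((A.X ∪ A.Y).erase (triv G)).erase χ, (wt 11 10 (dg ψ) * u ψ) ^ 2 ≤
      ∑ ψ ∈ ((A.X ∪ A.Y).erase (triv G)).erase χ, u ψ ^ 2 := Finset.sum_le_sum fun ψ _ => by
    have := sq_nonneg (u ψ)
    rw [mul_pow, wt]
    split_ifs <;> norm_num
    exact this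
  rw [Finset.card_erase_of_mem m2, Finset.card_erase_of_mem m1,
    Finset.card_union_of_disjoint A.disj, A.cardX, A.cardY] at k5
  rw [show ∑ ψ ∈ ((A.X ∪ A.Y).erase (triv G)).erase χ, wt 11 10 (dg ψ) * u ψ = 119 by omega] at k5
  norm_num at k5 k4
  omega

theorem not12 {Q : Subgroup G} (A : PB G 11 Q 10)
    (hc : Nat.card (Subgroup.centralizer (Q : Set G)) = 11 * 12) : False := by
  obtain ⟨s, hs, h, r, k1, k2, k3, k4⟩ := cen_invol (q := 5) (a := 2) (m := 33) (k := 3) A
    (by norm_num) (by norm_num) hc (by norm_num) (by norm_num) (by norm_num) (by decide)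
    (by norm_num) (by norm_num) (by norm_num)
  have k5 := mem_divs (by norm_num) (cent_dvd hG B hC hs)
  have k6 := hc_of (n := 1320) (h0 := 440) (by norm_num) k1 k2 k3 k4
  have k7 : Nat.card (Subgroup.centralizer ({s} : Set G)) % 110 = 0 :=
    Nat.mod_eq_zero_of_dvd (k1 ▸ (Dvd.dvd.trans (by norm_num) k3).mul_right r)
  obtain ⟨χ, c1, c2⟩ := has3840 hG B hC A hc fun χ h h2 => by
    have := List.all_eq_true.mp c45 _ k5
    rw [k7, ← h2, fc_of hG B hC A hs rfl h (by omega)] at this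
    exact absurd this (by decide)
  have := List.all_eq_true.mp c3840 _ k5
  rw [k6, ← c2, fc_of hG B hC A hs rfl c1 (by omega)] at this
  simp only [Bool.not_true, Bool.false_or, Bool.or_false, Bool.or_eq_true, beq_iff_eq] at this
  rcases this with (h1 | h1) | h1
  · exact not15840 hG B hC A hs h1 c1 c2
  · exact not_big hG B hC hs rfl (by omega)
  · exact not_big hG B hC hs rfl (by omega)

end E11

open E11 in
theorem exists11 (hG : Nat.card G = 244823040) {P : Subgroup G} (B : PB G 23 P 11)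
    (hC : Subgroup.centralizer (P : Set G) = P) :
    ∃ Q : Subgroup G, Nonempty (PB G 11 Q 10) ∧ Subgroup.centralizer (Q : Set G) = Q := by
  obtain ⟨Q, e, c, hc, ⟨A⟩⟩ := exists_PB (hna hG) 11 (m := 22256640) hG (by norm_num)
  obtain ⟨he, k⟩ := A.opts (hna hG) hG hc c11
  simp only [Bool.or_eq_true, Bool.and_eq_true, beq_iff_eq] at k
  have k1 := B.not_dvd_cen hC (by norm_num) A.card
  rcases k with ((((((k | k) | ⟨rfl, rfl⟩) | ⟨rfl, rfl⟩) | ⟨rfl, rfl⟩) | ⟨rfl, rfl⟩) |
    ⟨rfl, rfl⟩) | k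
  · haveI := fact7
    obtain ⟨R, e', c', hc', ⟨D⟩⟩ := exists_PB (hna hG) 7 (m := 34974720) hG (by norm_num)
    have k2 := not11 hG B hC D hc'
    have k3 := dvd_cen_symm A.card (by norm_num) D.card D.ind (by omega)
    omega
  · omega
  · exact ⟨Q, ⟨A⟩, selfcent_of_card A.card hc⟩
  · exact (not12 hG B hC A hc).elim
  · obtain ⟨s, hs, h, r, k1, k2, k3, k4⟩ := cen_invol (q := 5) (a := 1) (m := 11) (k := 1) A
      (by norm_num) (by norm_num) hc (by norm_num) (by norm_num) (by norm_num) (by decide)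
      (by norm_num) (by norm_num) (by norm_num)
    have := List.all_eq_true.mp c2 _ (mem_divs (by norm_num) (cent_dvd hG B hC hs))
    rw [hc_of (n := 110) (h0 := 110) (by norm_num) k1 k2 k3 k4] at this
    simp only [Bool.not_true, Bool.false_or, Bool.or_eq_true, beq_iff_eq] at this
    rcases this with h1 | h1
    · exact (not_big hG B hC hs rfl (by omega)).elim
    · exact (not_kill hG B hC A (by norm_num) he hc hs rfl h1).elim
  · obtain ⟨s, hs, h, r, k1, k2, k3, k4⟩ := cen_invol (q := 5) (a := 3) (m := 33) (k := 3) A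
      (by norm_num) (by norm_num) hc (by norm_num) (by norm_num) (by norm_num) (by decide)
      (by norm_num) (by norm_num) (by norm_num)
    have := List.all_eq_true.mp c24 _ (mem_divs (by norm_num) (cent_dvd hG B hC hs))
    rw [hc_of (n := 1320) (h0 := 440) (by norm_num) k1 k2 k3 k4] at this
    exact (not_kill hG B hC A (by norm_num) he hc hs rfl this).elim
  · obtain ⟨s, hs, k2, -⟩ := A.exists_invol_norm (q := 5) (a := 5) (m := 99) (by norm_num)
      (by norm_num) hc (by norm_num) (by norm_num) (by norm_num) (by norm_num) (by norm_num)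
    have := List.all_eq_true.mp c288 _ (mem_divs (by norm_num) (cent_dvd hG B hC hs))
    rw [Nat.mod_eq_zero_of_dvd k2] at this
    exact (not_kill hG B hC A (by norm_num) he hc hs rfl this).elim
  · exact (not_kill2 hG B hC A (by norm_num) he hc k).elim

end H17.Ord.M24
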