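import Mathlib
import Cfsg.Agent.Base
import Cfsg.Agent.Lib.Ord.Blk2
import Cfsg.Agent.Lib.LocStruct.SylowIn
import Cfsg.Agent.Lib.Transfer.Control

/-! Principal `5`-blocks with inertial index `4` of small groups. -/

set_option autoImplicit false
set_option linter.unusedSectionVars false
set_option linter.style.haveILetI false

open Cfsg H84
open H86 (Cen Nor)
open scoped ComplexConjugate

namespace H17.Ord.F5

variable {G : Type*} [Group G] [Finite G]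

local instance fact5 : Fact (Nat.Prime 5) := ⟨by norm_num⟩

theorem pb {y u : G} (hy : orderOf y = 5) (hu : u * y * u⁻¹ = y ^ 2) (h : ¬ 25 ∣ Nat.card G) :
    Nonempty (PB G 5 (Subgroup.zpowers y) 4) := by
  have hP : Nat.card (Subgroup.zpowers y) = 5 := by rw [Nat.card_zpowers, hy]
  have hi : ¬ 5 ∣ (Subgroup.zpowers y).index := fun k => h (by
    rw [← (Subgroup.zpowers y).card_mul_index, hP]; exact mul_dvd_mul_left 5 k)
  obtain ⟨B⟩ := nonempty_PB hP hi rfl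
  have hn : u ∈ Nor (Subgroup.zpowers y) := mem_Nor_of_conj hP (Subgroup.mem_zpowers y)
    (by rintro rfl; simp at hy) (hu ▸ Subgroup.npow_mem_zpowers y 2)
  have k := ((Cen (Subgroup.zpowers y)).subgroupOf (Nor (Subgroup.zpowers y))).pow_index_mem ⟨u, hn⟩
  refine nonempty_PB hP hi ?_
  by_contra he
  have k2 : (Cen (Subgroup.zpowers y)).relIndex (Nor (Subgroup.zpowers y)) ∣ 2 := by
    have a := B.e_dvd
    have b := Nat.le_of_dvd (by norm_num) a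
    revert a b he
    generalize (Cen (Subgroup.zpowers y)).relIndex (Nor (Subgroup.zpowers y)) = e
    intro he a b
    interval_cases e <;> simp_all
  obtain ⟨j, hj⟩ := k2
  have k3 : y * u ^ 2 = u ^ 2 * y := by
    have := Subgroup.pow_mem _ k j
    rw [← pow_mul] at this
    exact (show u ^ 2 ∈ Cen _ from hj ▸ this) y (Subgroup.mem_zpowers y)
  have k4 : y ^ 3 = 1 := by
    have : u ^ 2 * y * (u ^ 2)⁻¹ = y ^ 4 := by
      rw [show u ^ 2 * y * (u ^ 2)⁻¹ = u * (u * y * u⁻¹) * u⁻¹ by simp [sq, mul_assoc], hu, ← conj_pow, hu, ← pow_mul]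
    rw [← k3, mul_inv_cancel_right, pow_succ, eq_comm, mul_eq_right] at this
    exact this
  have := orderOf_dvd_of_pow_eq_one k4
  rw [hy] at this
  omega

theorem idx {p : ℕ} [Fact p.Prime] {P : Subgroup G} {e c : ℕ} (B : PB G p P e)
    (hc : Nat.card (Cen P) = p * c) :
    ∃ r, r % p = 1 ∧ (Nor P).index = r ∧ Nat.card G = r * (p * c * e) := by
  obtain ⟨r, h1, h2⟩ := card_over_normalizer B.card B.ind (H := ⊤) le_top
  rw [Subgroup.card_top, ← (Nor P).card_mul_index] at h1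
  exact ⟨r, h2, Nat.eq_of_mul_eq_mul_left Nat.card_pos h1,
    Nat.eq_of_mul_eq_mul_left Nat.card_pos h1 ▸ (B.index_mul hc).symm⟩

variable {P : Subgroup G}

theorem sum4 (hP : Nat.card P = 5) [Fintype P] {ψ : IrrCharacter G} {k : G} (hk : k ∈ Cen P)
    (hr : ¬ 5 ∣ orderOf k) (hv : ∀ g, 5 ∣ orderOf g → (ψ : G → ℂ) g = -1) :
    ∑ x : P, (ψ : G → ℂ) (x * k) = (ψ : G → ℂ) k - 4 := by
  classical
  rw [← Finset.add_sum_erase _ _ (Finset.mem_univ 1), OneMemClass.coe_one, one_mul,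
    Finset.sum_congr rfl (g := fun _ => (-1 : ℂ)), Finset.sum_const,
    Finset.card_erase_of_mem (Finset.mem_univ _), Finset.card_univ, ← Nat.card_eq_fintype_card, hP]
  · norm_num [sub_eq_add_neg]
  · intro x hx
    exact hv _ (H35.dvd_orderOf_mul (H35.isPElt_of_mem (isPGroup_of_card hP) x.2)
      (fun h => (Finset.mem_erase.mp hx).1 (Subtype.ext h)) hr (commute_of_mem_Cen x.2 hk))

theorem sum0 (hP : Nat.card P = 5) [Fintype P] {ψ : IrrCharacter G} (hd : dg ψ = 4)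
    (hv : ∀ g, 5 ∣ orderOf g → (ψ : G → ℂ) g = -1) (g : G) :
    ∑ x : P, (ψ : G → ℂ) (x * g) = 0 :=
  sum_mul_eq_zero (irr_chr ψ) P (by
    have := sum4 hP (one_mem _) PB.reg_one hv
    simpa [dg_cast, hd] using this) g

theorem ker4 (hP : Nat.card P = 5) {ψ : IrrCharacter G} (hd : dg ψ = 4)
    (hv : ∀ g, 5 ∣ orderOf g → (ψ : G → ℂ) g = -1) {k : G} (hk : k ∈ Cen P)
    (hr : ¬ 5 ∣ orderOf k) : (ψ : G → ℂ) k = 4 := by
  haveI := Fintype.ofFinite P
  exact sub_eq_zero.mp ((sum4 hP hk hr hv).symm.trans (sum0 hP hd hv k))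

variable (B : PB G 5 P 4) [DecidableEq (IrrCharacter G)]

theorem val {χ : IrrCharacter G} (h : χ ∈ B.X ∪ B.Y) : (dg χ % 5 = 1 ∨ dg χ % 5 = 4) ∧
    ∀ g, 5 ∣ orderOf g → (χ : G → ℂ) g = wt 5 4 (dg χ) := by
  obtain ⟨Z, s, -, -, h1, h2, h3, -⟩ := B.full rfl
  have k := (h1 χ).mpr (Finset.mem_union.mp h)
  refine ⟨(h2 χ k).imp And.right And.right, fun g hg => ?_⟩
  rw [h3 χ k g hg]
  rcases h2 χ k with ⟨a, b⟩ | ⟨a, b⟩ <;> simp [wt, a, b]

theorem card5 : (B.X ∪ B.Y).card = 5 := by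
  rw [Finset.card_union_of_disjoint B.disj, B.cardX, B.cardY]

theorem nums (D : List ℕ) (hn : D.Nodup) (hD : ∀ χ ∈ B.X ∪ B.Y, dg χ ∈ D) :
    (D.map fun d => cnt (B.X ∪ B.Y) d).sum = 5 ∧ 0 < cnt (B.X ∪ B.Y) 1 ∧
      (D.map fun d => (cnt (B.X ∪ B.Y) d : ℤ) * (wt 5 4 d * d)).sum = 0 := by
  refine ⟨?_, cnt_pos.mpr ⟨_, Finset.mem_union.mpr B.one_mem, dg_triv⟩, ?_⟩
  · have := sum_eq_cnt (A := ℕ) _ D hn hD fun _ => 1
    simp only [smul_eq_mul, mul_one, Finset.sum_const, card5 B] at this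
    exact this.symm
  · have k := B.rel_blk (by norm_num) PB.reg_one
    simp only [dg_cast] at k
    have k2 := sum_eq_cnt _ D hn hD fun d => wt 5 4 d * d
    simp only [nsmul_eq_mul] at k2
    rw [← k2]
    exact_mod_cast k

theorem enum {D : List ℕ} (hD : ∀ χ ∈ B.X ∪ B.Y, dg χ ∈ D) {i j k l m : ℕ}
    (h1 : ∀ d ∈ [i, j, k, l, m], d ∈ D)
    (h2 : ∀ d ∈ D, cnt (B.X ∪ B.Y) d = [i, j, k, l, m].count d) :
    ∃ a b c d e : IrrCharacter G, (dg a = i ∧ dg b = j ∧ dg c = k ∧ dg d = l ∧ dg e = m) ∧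
      [a, b, c, d, e].Nodup ∧ (∀ χ, χ ∈ [a, b, c, d, e] ↔ χ ∈ B.X ∪ B.Y) ∧
      ∀ f : IrrCharacter G → ℂ, ∑ χ ∈ B.X ∪ B.Y, f χ = f a + f b + f c + f d + f e := by
  obtain ⟨L, k1, k2, k3⟩ := exists_enum_aux [i, j, k, l, m] (B.X ∪ B.Y) fun d => by
    by_cases h : d ∈ D
    · exact h2 d h
    · rw [List.count_eq_zero_of_not_mem fun k => h (h1 d k), cnt_eq_zero]
      exact fun χ k e => h (e ▸ hD χ k)
  simp only [List.map_eq_cons_iff, List.map_eq_nil_iff] at k1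
  obtain ⟨a, _, rfl, ha, b, _, rfl, hb, c, _, rfl, hc, d, _, rfl, hd, e, _, rfl, he, rfl⟩ := k1
  refine ⟨a, b, c, d, e, ⟨ha, hb, hc, hd, he⟩, k2, k3, fun f => ?_⟩
  rw [show B.X ∪ B.Y = [a, b, c, d, e].toFinset from Finset.ext fun χ => by
    rw [List.mem_toFinset, k3], List.sum_toFinset _ k2]
  simp [add_assoc]

/-- an irreducible character that is `1` on the singular elements lies in the principal block -/
theorem mem_of_one {ξ : IrrCharacter G} (h : ∀ g, 5 ∣ orderOf g → (ξ : G → ℂ) g = 1) :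
    ξ ∈ B.X ∪ B.Y := by
  classical
  haveI := Fintype.ofFinite G
  by_contra hn
  have k1 : ∑ g, ∑ χ ∈ B.X ∪ B.Y, wt 5 4 (dg χ) * ((χ : G → ℂ) g * conj ((ξ : G → ℂ) g)) = 0 := by
    rw [Finset.sum_comm]
    refine Finset.sum_eq_zero fun χ hχ => ?_
    have := H6.sum_irr_mul_conj χ.2 ξ.2 1
    rw [if_neg fun e => hn ((Subtype.ext e : χ = ξ) ▸ hχ)] at this
    simp only [mul_one] at this
    rw [← Finset.mul_sum, this, mul_zero]
  rw [Finset.sum_congr rfl fun g _ => show _ = ((if 5 ∣ orderOf g then 5 else 0 : ℕ) : ℂ) by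
    split_ifs with k
    · rw [Finset.sum_congr rfl (g := fun _ => 1) fun χ hχ => by
        rw [(val B hχ).2 g k, h g k]
        rcases (val B hχ).1 with a | a <;> simp [wt, a], Finset.sum_const, card5 B]
      simp
    · simp only [← mul_assoc, ← Finset.sum_mul, B.rel_blk (by norm_num) k, zero_mul, Nat.cast_zero],
    ← Nat.cast_sum, Nat.cast_eq_zero, Finset.sum_eq_zero_iff] at k1
  obtain ⟨x, -, hx⟩ := B.exists_sing
  simpa [hx] using k1 x (Finset.mem_univ _)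

def nsq (q b : ℤ) : Bool := q ≤ 0 || (q < b * b || (Nat.sqrt q.toNat) ^ 2 != q.toNat)

theorem eqns : True := by
  have := @nsq.eq_1
  trivial

theorem not_nsq {m : ℕ} (h0 : 0 < m) {q b : ℤ} (h : (m : ℤ) * m = q) (b0 : 0 ≤ b) (hb : b ≤ m) :
    nsq q b = false := by
  subst h
  have : (0 : ℤ) < m * m := by positivity
  have : b * b ≤ m * m := mul_self_le_mul_self b0 hb
  rw [nsq, ← Nat.cast_mul, Int.toNat_natCast, Nat.sqrt_eq, sq]
  simp
  omega

omit B in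
theorem exists_inv (hP : Nat.card P = 5) (hC : Cen P = P) (h : 2 ∣ Nat.card (Nor P)) :
    ∃ t : G, orderOf t = 2 ∧ Inv P t t := by
  obtain ⟨t, t1, t2⟩ := H1.exists_mem_orderOf_eq_prime (H := Nor P) Nat.prime_two h
  have tt : t * t = 1 := by rw [← sq, ← t2, pow_orderOf_eq_one]
  have ti : t⁻¹ = t := inv_eq_of_mul_eq_one_right tt
  refine ⟨t, t2, IsConj.refl t, fun v hv => ?_⟩
  by_contra k
  have k1 := conj_mem_of_Nor t1 hv
  have k2 : t ∈ Cen P := by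
    rw [isCen_of_card hP (P.mul_mem k1 hv) (mt eq_inv_of_mul_eq_one_left k) t]
    have := (commute_of_mem_Cen hv (le_Cen_of_card hP k1)).eq
    rw [ti] at this ⊢
    refine Eq.symm (show t * (t * v * t * v) = t * v * t * v * t from ?_)
    rw [← mul_assoc, ← mul_assoc, ← mul_assoc, tt, one_mul]
    calc v * t * v = v * t * v * (t * t) := by rw [tt, mul_one]
      _ = v * (t * v * t) * t := by group
      _ = _ := by rw [this]
  have := H1.orderOf_dvd_card_of_mem (hC ▸ k2)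
  rw [t2, hP] at this
  omega

theorem col (hC : Cen P = P) (hG : Nat.card G = 720) {t : G} (t2 : orderOf t = 2)
    (hi : Inv P t t) : ∃ (v : IrrCharacter G → ℤ) (m : ℕ), 0 < m ∧
      (∀ χ, -(dg χ : ℤ) ≤ v χ ∧ v χ ≤ dg χ) ∧ (∀ χ ∈ B.X ∪ B.Y, dg χ = 4 → v χ = 0) ∧
      (∀ a b, a ≠ b → 5 * (v a ^ 2 + v b ^ 2) ≤ m) ∧
      ∑ χ ∈ B.X ∪ B.Y, wt 5 4 (dg χ) * (v χ : ℂ) = 0 ∧
      (m : ℂ) * m = 3600 * ∑ χ ∈ B.X ∪ B.Y, wt 5 4 (dg χ) * ((v χ : ℂ) * v χ / dg χ) := by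
  haveI := Fintype.ofFinite P
  have tt : t * t = 1 := by rw [← sq, ← t2, pow_orderOf_eq_one]
  choose v v1 _ v3 using fun χ : IrrCharacter G => int_of_invol χ tt
  have n0 : 0 < nInv P t := Nat.card_pos_iff.mpr ⟨⟨⟨t, hi⟩⟩, inferInstance⟩
  have n5 : 5 ≤ nInv P t := by
    obtain ⟨L⟩ := nonempty_log B.card B.ind
    have : 5 ∣ nInv P t * nInv P t := ⟨_, (nInv_mul L (by norm_num) t t 0).trans (mul_comm _ _)⟩
    exact Nat.le_of_dvd n0 ((Nat.prime_five.dvd_mul.mp this).elim id id)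
  have q := B.pair_sq (c := 1) (by norm_num) (by rw [show Subgroup.centralizer _ = P from hC,
    B.card]) t2 t2
  have l := B.rel_blk (by norm_num) (g := t) (by rw [t2]; norm_num)
  simp only [v1, hG] at q l
  refine ⟨v, _, Nat.mul_pos n0 (Nat.card_pos (α := Subgroup.centralizer ({t} : Set G))), v3,
    fun χ hχ k => ?_, fun a b h => ?_, l, ?_⟩
  · have := sum0 B.card k (fun g hg => by rw [(val B hχ).2 g hg, k]; simp [wt]) t
    rw [Finset.sum_congr rfl (g := fun _ => (v χ : ℂ)) fun x _ => by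
      obtain ⟨a, ha⟩ := isConj_iff.mp (hi.mul_right B.card (by norm_num) (P.inv_mem x.2)).1
      rw [← v1, ← irr_cls χ t a, ha, mul_inv_eq_iff_eq_mul.mp (hi.2 _ (P.inv_mem x.2)),
        inv_inv]] at this
    simpa using this
  · have := sq_add_sq_le h (v1 _) (v1 _)
    push_cast
    exact mul_le_mul (by exact_mod_cast n5) this (by positivity) (by positivity)
  · push_cast at q ⊢
    linear_combination q

theorem opts (hG : Nat.card G = 720) {ψ : IrrCharacter G} (hψ : ψ ∈ B.X ∪ B.Y) (hd : dg ψ = 4) :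
    (∀ χ ∈ B.X ∪ B.Y, dg χ ∈ [1, 4, 6, 9, 16, 24]) ∧
    ((∀ d ∈ [1, 4, 6, 9, 16, 24], cnt (B.X ∪ B.Y) d = [1, 1, 1, 1, 4].count d) ∨
      (∀ d ∈ [1, 4, 6, 9, 16, 24], cnt (B.X ∪ B.Y) d = [1, 1, 6, 4, 4].count d) ∨
      (∀ d ∈ [1, 4, 6, 9, 16, 24], cnt (B.X ∪ B.Y) d = [1, 6, 6, 4, 9].count d) ∨
      (∀ d ∈ [1, 4, 6, 9, 16, 24], cnt (B.X ∪ B.Y) d = [1, 16, 4, 4, 9].count d)) := by
  have hD : ∀ χ ∈ B.X ∪ B.Y, dg χ ∈ [1, 4, 6, 9, 16, 24] := fun χ hχ => by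
    have c := sum_dg_sq_le {χ}
    rw [Finset.sum_singleton, hG] at c
    exact (by decide : ∀ d < 27, d ∣ 144 → d % 5 = 1 ∨ d % 5 = 4 → d ∈ [1, 4, 6, 9, 16, 24]) _
      (by nlinarith) (B.dvd_cof (m := 144) hG (Finset.mem_union.mp hχ)) (val B hχ).1
  obtain ⟨a1, a2, a3⟩ := nums B _ (by decide) hD
  have a4 : 0 < cnt (B.X ∪ B.Y) 4 := cnt_pos.mpr ⟨ψ, hψ, hd⟩
  refine ⟨hD, ?_⟩
  simp [wt] at a1 a3 ⊢
  generalize cnt (B.X ∪ B.Y) 9 = i at *
  generalize cnt (B.X ∪ B.Y) 16 = j at *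
  generalize cnt (B.X ∪ B.Y) 24 = k at *
  have : i ≤ 3 ∧ j ≤ 3 ∧ k ≤ 3 := by omega
  obtain ⟨_, _, _⟩ := this
  interval_cases i <;> interval_cases j <;> interval_cases k <;> omega

theorem not_lin (hC : Cen P = P) (hr : (Nor P).index ≠ 1) {ψ a b c d e : IrrCharacter G}
    (hψ : dg ψ = 4) (hf : ∀ g, (ψ : G → ℂ) g = 4 → g = 1) (ha : dg a = 1) (hb : dg b = 1)
    (hc : dg c = 1) (hd : dg d = 1) (hm : ∀ χ, χ ∈ [a, b, c, d, e] ↔ χ ∈ B.X ∪ B.Y)
    (hs : ∀ f : IrrCharacter G → ℂ, ∑ χ ∈ B.X ∪ B.Y, f χ = f a + f b + f c + f d + f e) :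
    False := by
  obtain rfl : ψ = e := by
    have := (hm ψ).mpr (Finset.mem_union.mpr (B.mem_of_not_dvd hC (by rw [hψ]; norm_num)))
    simp only [List.mem_cons, List.not_mem_nil, or_false] at this
    rcases this with rfl | rfl | rfl | rfl | rfl <;> first | rfl | omega
  have k1 : ∀ g ∈ _root_.commutator G, ¬ 5 ∣ orderOf g → g = 1 := fun g hg k => by
    have k2 := B.rel_blk (by norm_num) k
    have k3 : ∀ χ : IrrCharacter G, dg χ = 1 → (χ : G → ℂ) g = 1 := fun χ h =>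
      H6.char_commutator_of_one_eq_one (irr_chr χ) (by rw [dg_cast, h, Nat.cast_one]) hg
    rw [hs, k3 a ha, k3 b hb, k3 c hc, k3 d hd, ha, hb, hc, hd, hψ] at k2
    simp [wt] at k2
    exact hf g (by linear_combination -k2)
  obtain ⟨S, rfl⟩ := exists_sylow_eq B.card B.ind
  have k2 : IsPGroup 5 (_root_.commutator G) := H69.isPGroup_iff_mem.mpr fun g hg => by
    have := k1 _ (H35.pReg_mem 5 hg) (H35.not_dvd_orderOf_pReg 5 g)
    rw [← H35.pPart_mul_pReg 5 g, this, mul_one]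
    exact H35.isPElt_iff_pow.mp (H35.isPElt_pPart 5 g)
  haveI := Subgroup.Normal.of_commutator_le G (k2.le_sylow_of_normal S)
  exact hr (by rw [show Nor (S : Subgroup G) = ⊤ from Subgroup.normalizer_eq_top _,
    Subgroup.index_top])

theorem n2 {m : ℕ} (m0 : 0 < m) {x y z : ℤ} (hx : -((1 : ℕ) : ℤ) ≤ x ∧ x ≤ (1 : ℕ))
    (hy : -((1 : ℕ) : ℤ) ≤ y ∧ y ≤ (1 : ℕ)) (l : x + y + z = 0)
    (q : (m : ℤ) * m = 3600 * (x * x) + 3600 * (y * y) + 600 * (z * z)) : False := by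
  obtain rfl : z = -(x + y) := by omega
  have := not_nsq m0 q le_rfl (by positivity)
  obtain ⟨_, _⟩ := hx
  obtain ⟨_, _⟩ := hy
  clear q l
  revert this
  interval_cases x <;> interval_cases y <;> decide +kernel

theorem n3 {m : ℕ} (m0 : 0 < m) {x y z : ℤ} (hx : -((1 : ℕ) : ℤ) ≤ x ∧ x ≤ (1 : ℕ))
    (hy : -((6 : ℕ) : ℤ) ≤ y ∧ y ≤ (6 : ℕ)) (hz : -((6 : ℕ) : ℤ) ≤ z ∧ z ≤ (6 : ℕ))
    (q : (m : ℤ) * m = 3600 * (x * x) + 600 * (y * y) + 600 * (z * z) -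
      400 * ((x + y + z) * (x + y + z))) : False := by
  have := not_nsq m0 q le_rfl (by positivity)
  have := (by decide +kernel : ∀ x ∈ Finset.Icc (-((1 : ℕ) : ℤ)) (1 : ℕ),
    ∀ y ∈ Finset.Icc (-((6 : ℕ) : ℤ)) (6 : ℕ), ∀ z ∈ Finset.Icc (-((6 : ℕ) : ℤ)) (6 : ℕ),
    nsq (3600 * (x * x) + 600 * (y * y) + 600 * (z * z) - 400 * ((x + y + z) * (x + y + z))) 0 =
      true) x (Finset.mem_Icc.mpr hx) y (Finset.mem_Icc.mpr hy) z (Finset.mem_Icc.mpr hz)
  simp_all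

theorem n4 {m : ℕ} (m0 : 0 < m) {x y : ℤ} (hx : -((1 : ℕ) : ℤ) ≤ x ∧ x ≤ (1 : ℕ))
    (hy : -((16 : ℕ) : ℤ) ≤ y ∧ y ≤ (16 : ℕ)) (h : 5 * (y ^ 2 + (x + y) ^ 2) ≤ m)
    (q : (m : ℤ) * m = 3600 * (x * x) + 225 * (y * y) - 400 * ((x + y) * (x + y))) : False := by
  have := not_nsq m0 q (by positivity) h
  obtain ⟨_, _⟩ := hx
  obtain ⟨_, _⟩ := hy
  clear q h
  revert this
  interval_cases x <;> interval_cases y <;> decide +kernel

omit B in
theorem not720 (h1 : Nat.card G ∣ 2160) (h2 : 16 ∣ Nat.card G) {y u : G} (hy : orderOf y = 5)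
    (hu : u * y * u⁻¹ = y ^ 2) {ψ : IrrCharacter G} (hd : dg ψ = 4)
    (hf : ∀ g, (ψ : G → ℂ) g = 4 → g = 1) (hv : ∀ g, 5 ∣ orderOf g → (ψ : G → ℂ) g = -1) :
    False := by
  obtain ⟨B⟩ := pb hy hu fun k => absurd (k.trans h1) (by norm_num)
  generalize Subgroup.zpowers y = P at B
  have hC : Cen P = P := B.selfcent_of fun k hk hr => hf k (ker4 B.card hd hv hk hr)
  obtain ⟨r, r1, r2, hG⟩ := idx B (c := 1) (by rw [hC, B.card])
  obtain rfl : r = 36 := by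
    rw [hG] at h1 h2
    exact (by decide : ∀ r < 109, r * (5 * 1 * 4) ∣ 2160 → 16 ∣ r * (5 * 1 * 4) → r % 5 = 1 →
      r = 36) r (by have := Nat.le_of_dvd (by norm_num) h1; omega) h1 h2 r1
  obtain ⟨t, t2, hi⟩ := exists_inv B.card hC (by
    have := (Nor P).card_mul_index
    rw [r2, hG] at this
    omega)
  obtain ⟨v, m, m0, v3, v0, mb, l, q⟩ := col B hC hG t2 hi
  obtain ⟨hD, k⟩ := opts B hG (Finset.mem_union.mpr (B.mem_of_not_dvd hC
    (by rw [hd]; norm_num))) hd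
  rcases k with k | k | k | k <;>
    obtain ⟨a, b, c, d, e, ⟨ha, hb, hc, hd', he⟩, hn, hm, hs⟩ := enum B hD (by decide) k
  · exact not_lin B hC (by omega) hd hf ha hb hc hd' hm hs
  all_goals
    have d0 := v0 d ((hm _).mp (by simp)) hd'
    rw [hs, ha, hb, hc, hd', he, d0] at q l
  · rw [v0 e ((hm _).mp (by simp)) he] at q l
    refine n2 m0 (ha ▸ v3 a) (hb ▸ v3 b) (z := v c) ?_ ?_ <;> apply Int.cast_injective (α := ℂ)
    · simpa [wt] using l
    · simp [wt] at q ⊢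
      linear_combination q
  · have l : (v a + v b + v c : ℂ) = v e := by simp [wt] at l; linear_combination l
    refine n3 m0 (ha ▸ v3 a) (hb ▸ v3 b) (hc ▸ v3 c) (Int.cast_injective (α := ℂ) ?_)
    simp [wt, ← l] at q ⊢
    linear_combination q
  · rw [v0 c ((hm _).mp (by simp)) hc] at q l
    have l : (v a + v b : ℂ) = v e := by simp [wt] at l; linear_combination l
    refine n4 m0 (ha ▸ v3 a) (hb ▸ v3 b) ?_ (Int.cast_injective (α := ℂ) ?_)
    · rw [show v a + v b = v e by exact_mod_cast l]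
      exact mb b e (by rintro rfl; omega)
    · simp [wt, ← l] at q ⊢
      linear_combination q

end H17.Ord.F5
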