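import Mathlib
import Cfsg.Agent.Base
import Cfsg.Agent.Lib.Ord.M24Fa

/-! A group with `36` Sylow `5`-subgroups whose principal `5`-block has no degree divisible
by `16`. -/

set_option autoImplicit false
set_option linter.unusedSectionVars false
set_option linter.style.haveILetI false

open Cfsg H84 H69
open H86 (Cen Nor)

namespace H17.Ord.F5

variable {G : Type*} [Group G] [Finite G] {P : Subgroup G}

attribute [local instance] fact5

theorem syl {p : ℕ} [Fact p.Prime] (hP : Nat.card P = p) (hi : ¬ p ∣ P.index) {L : Subgroup G}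
    (h : P ≤ L) : IsSylowIn p P L :=
  isSylowIn_of_not_dvd_relIndex (isPGroup_of_card hP) h fun k =>
    hi (k.trans (Subgroup.relIndex_dvd_index_of_le h))

variable (B : PB G 5 P 4)
include B

theorem reg_of {S : Subgroup G} (hS : IsPGroup 2 S) {g : G} (hg : g ∈ S) : ¬ 5 ∣ orderOf g :=
  fun k => by
    obtain ⟨n, hn⟩ := isPGroup_iff_mem.mp hS g hg
    exact absurd (Nat.prime_five.dvd_of_dvd_pow (k.trans (orderOf_dvd_of_pow_eq_one hn)))
      (by norm_num)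

theorem lin_ne [DecidableEq (IrrCharacter G)] : cnt (B.X ∪ B.Y) 1 ≠ 3 := fun h => by
  let Λ : Subgroup (G →* ℂˣ) :=
    { carrier := {f | ∀ g, 5 ∣ orderOf g → f g = 1}
      one_mem' := fun _ _ => rfl
      mul_mem' := fun a b g k => by rw [MonoidHom.mul_apply, a g k, b g k, one_mul]
      inv_mem' := fun a g k => by rw [MonoidHom.inv_apply, a g k, inv_one] }
  have k1 : Nat.card Λ = 3 := by
    rw [← h, cnt, ← Nat.card_eq_finsetCard]
    refine Nat.card_congr (Equiv.ofBijective (fun f => ⟨⟨_, H6.isIrrCharacter_hom f.1⟩,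
      Finset.mem_filter.mpr ⟨mem_of_one B fun g k => by simp [f.2 g k],
        charDegree_eq_of (by simp)⟩⟩) ⟨fun a b e => Subtype.ext (MonoidHom.ext fun g =>
          Units.ext (congrFun (congrArg (fun x => x.1.1) e) g)), fun χ => ?_⟩)
    obtain ⟨a, b⟩ := Finset.mem_filter.mp χ.2
    obtain ⟨f, hf⟩ := H6.exists_hom_of_char_one_eq_one (irr_chr χ.1)
      (by rw [dg_cast, b, Nat.cast_one])
    refine ⟨⟨f, fun g k => Units.ext ?_⟩, Subtype.ext (Subtype.ext hf.symm)⟩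
    have := (val B a).2 g k
    rw [hf, b] at this
    simpa [wt] using this
  haveI : Finite Λ := Nat.finite_of_card_ne_zero (by omega)
  have k2 : ∀ f : Λ, f = 1 := fun f => by
    have k3 : f ^ 3 = 1 := k1 ▸ pow_card_eq_one'
    have k4 : ∀ x ∈ P, f.1 x = 1 := fun x hx => by
      by_cases e : x = 1
      · rw [e, map_one]
      · exact f.2 x (B.ord hx e).symm.dvd
    have k5 : f ^ 4 = 1 := Subtype.ext (MonoidHom.ext fun g => by
      obtain ⟨n, hn, a, ha, rfl⟩ := (syl B.card B.ind (L := f.1.ker) k4).frattini (g := g)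
        (by rw [Subgroup.normalizer_eq_top]; trivial)
      have k6 : a ^ 4 ∈ Cen P :=
        B.he ▸ ((Cen P).subgroupOf (Nor P)).pow_index_mem ⟨a, ha⟩
      have k7 := ((map_mul _ _ _).symm.trans (congrArg f.1 (H35.pPart_mul_pReg 5 (a ^ 4))))
      obtain ⟨x, hx, ho⟩ := B.exists_sing
      have k8 := f.2 _ (H35.dvd_orderOf_mul ⟨1, by rw [ho, pow_one]⟩ (by rintro rfl; simp at ho)
        (H35.not_dvd_orderOf_pReg 5 (a ^ 4)) (commute_of_mem_Cen hx (H35.pReg_mem 5 k6)))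
      rw [map_mul, k4 x hx, one_mul] at k8
      rw [k8, k4 _ (pPart_mem_of_mem_Cen B.card B.ind k6), one_mul, map_pow] at k7
      show f.1 (n * a) ^ 4 = 1
      rw [map_mul, show f.1 n = 1 from hn, one_mul, ← k7])
    rw [pow_succ, k3, one_mul] at k5
    exact k5
  rw [Nat.card_eq_one_iff_unique.mpr ⟨⟨fun a b => (k2 a).trans (k2 b).symm⟩, ⟨1⟩⟩] at k1
  omega

theorem syl_ker {O S : Subgroup G} [O.Normal] (h5 : ¬ 5 ∣ Nat.card O)
    (hS : IsSylowIn 2 S (Cen P)) (h64 : Nat.card S = 64) (hO : S ≤ O)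
    (h : ¬ 512 ∣ Nat.card O) : IsSylowIn 2 S O := by
  refine isSylowIn_of_normalizer hO ?_
  have nO : ∀ L : Subgroup G, L ≤ 𝐍(O) := fun L => by rw [Subgroup.normalizer_eq_top]; exact le_top
  have hP : P ≤ 𝐍(S) := le_normalizer_of_le_centralizer (Subgroup.le_centralizer_iff.mp hS.le)
  have hM : 𝐍(S) ≤ 𝐍(O ⊓ 𝐍(S)) := le_normalizer_inf (nO _) Subgroup.le_normalizer
  obtain ⟨Q, hQ⟩ := exists_isSylowIn 2 (O ⊓ 𝐍(S))
  have k1 : 5 ∣ Nat.card ↥(𝐍(S) ⊓ 𝐍(Q)) := by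
    have := H1.card_sup_dvd_of_le_normalizer (H := 𝐍(S) ⊓ 𝐍(Q)) (inf_le_left.trans hM)
    rw [sup_comm, hQ.frattini_sup inf_le_right hM] at this
    exact (Nat.prime_five.dvd_mul.mp ((B.card ▸ Subgroup.card_dvd_of_le hP).trans this)).resolve_right
      fun k => h5 (k.trans (Subgroup.card_dvd_of_le inf_le_left))
  obtain ⟨x, hx, ho⟩ := H1.exists_mem_orderOf_eq_prime Nat.prime_five k1
  obtain ⟨g, hg, k2⟩ := (syl B.card B.ind hP).exists_cj_le (R := Subgroup.zpowers x)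
    (isPGroup_of_card (by rw [Nat.card_zpowers, ho])) (Subgroup.zpowers_le.mpr hx.1)
  have k3 := k2 (cj_mem g (Subgroup.mem_zpowers x))
  have x1 : g * x * g⁻¹ ≠ 1 := by
    rw [Ne, mul_inv_eq_one, mul_eq_left]
    rintro rfl
    simp at ho
  have hQ' := hQ.cj_of_mem_normalizer (hM hg)
  have k4 : S ≤ Q ^ᶜ g := hQ'.le_of_le_normalizer hS.isP (le_inf hO Subgroup.le_normalizer)
    (hQ'.le.trans inf_le_right)
  have k5 := H4.card_modEq_card_inf_centralizer (Q := Q ^ᶜ g) (q := 5) (k := 1)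
    (cj_normalizer Q g ▸ cj_mem g hx.2) (by rw [pow_one, ← B.ord k3 x1, pow_orderOf_eq_one])
  rw [cent_eq_Cen B.card k3 x1, hS.max _ (le_inf k4 hS.le) inf_le_right (hQ'.isP.to_inf_left),
    h64] at k5
  obtain ⟨n, hn⟩ := IsPGroup.iff_card.mp hQ'.isP
  have k6 := Subgroup.card_dvd_of_le (hQ'.le.trans inf_le_left)
  have k7 := Subgroup.card_le_of_le k4
  refine hQ'.of_card_le hS.isP (le_inf hO Subgroup.le_normalizer) ?_
  rw [hn] at k5 k6 k7 ⊢
  have : n < 9 := by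
    by_contra k
    exact h ((pow_dvd_pow 2 (not_lt.mp k)).trans k6)
  rw [h64] at k7 ⊢
  revert k5 k7
  interval_cases n <;> decide

theorem notH [DecidableEq (IrrCharacter G)] {c : ℕ} (hc : c = 1 ∨ c = 3)
    (hC : Nat.card (Cen P) = 5 * (64 * c)) (hr : (Nor P).index = 36)
    (h : ∀ χ ∈ B.X ∪ B.Y, 2 * dg χ ∣ 36 * 4) : False := by
  classical
  obtain ⟨r, -, r2, hG⟩ := idx B hC
  obtain rfl : r = 36 := r2.symm.trans hr
  have hD : ∀ χ ∈ B.X ∪ B.Y, dg χ ∈ [1, 4, 6, 9, 24, 36] := fun χ hχ =>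
    (by decide : ∀ d < 73, 2 * d ∣ 36 * 4 → d % 5 = 1 ∨ d % 5 = 4 → d ∈ [1, 4, 6, 9, 24, 36]) _
      (by have := Nat.le_of_dvd (by norm_num) (h χ hχ); omega) (h χ hχ) (val B hχ).1
  obtain ⟨a1, a2, a3⟩ := nums B _ (by decide) hD
  have a4 := lin_ne B
  obtain ⟨ψ, hψ, hd⟩ : ∃ ψ ∈ B.X ∪ B.Y, dg ψ = 4 := by
    rw [← cnt_pos]
    simp [wt] at a1 a3
    generalize cnt (B.X ∪ B.Y) 9 = i at *
    generalize cnt (B.X ∪ B.Y) 36 = j at *
    generalize cnt (B.X ∪ B.Y) 24 = k at *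
    have : i ≤ 4 ∧ j ≤ 4 ∧ k ≤ 4 := by omega
    obtain ⟨_, _, _⟩ := this
    interval_cases i <;> interval_cases j <;> interval_cases k <;> omega
  have hv : ∀ g, 5 ∣ orderOf g → (ψ : G → ℂ) g = -1 := fun g k => by
    rw [(val B hψ).2 g k, hd]; simp [wt]
  have m4 : ∀ g, g ∈ H6.charKer (ψ : G → ℂ) ↔ (ψ : G → ℂ) g = 4 := fun g => by
    rw [H6.mem_charKer (irr_chr ψ), dg_cast, hd, Nat.cast_ofNat]
  haveI := H6.charKer_normal (ψ : G → ℂ)
  generalize H6.charKer (ψ : G → ℂ) = O at m4 this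
  obtain ⟨φ, p1, p2⟩ := H6.exists_irr_quotient ψ.2 O fun x k => ((m4 x).mp k).trans (by
    rw [dg_cast, hd, Nat.cast_ofNat])
  have n4 : ∀ g ∈ O, ¬ 5 ∣ orderOf g := fun g hg k => by
    have := (hv g k).symm.trans ((m4 g).mp hg)
    norm_num at this
  have h5 : ¬ 5 ∣ Nat.card O := fun k => by
    obtain ⟨x, hx, ho⟩ := H1.exists_mem_orderOf_eq_prime Nat.prime_five k
    exact n4 x hx ho.symm.dvd
  obtain ⟨S, hS⟩ := exists_isSylowIn 2 (Cen P)
  have h64 : Nat.card S = 64 := by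
    rw [hS.card_eq_pow_factorization, hC]
    rcases hc with rfl | rfl <;> decide +kernel
  have hO : S ≤ O := fun g hg => (m4 g).mpr (ker4 B.card hd hv (hS.le hg) (reg_of B hS.isP hg))
  have k1 : O ⊓ Nor P ≤ Cen P := fun g hg x hx => by
    by_contra k
    have k2 : x⁻¹ * (g * x * g⁻¹) ∈ P := P.mul_mem (P.inv_mem hx) (conj_mem_of_Nor hg.2 hx)
    refine n4 _ ?_ (B.ord k2 fun e => k ?_).symm.dvd
    · rw [show x⁻¹ * (g * x * g⁻¹) = x⁻¹ * g * x⁻¹⁻¹ * g⁻¹ by group]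
      exact O.mul_mem (Subgroup.Normal.conj_mem inferInstance g hg.1 _) (O.inv_mem hg.1)
    · rw [inv_mul_eq_one, eq_mul_inv_iff_mul_eq] at e
      exact e
  have hN := (Nor P).card_mul_index
  have k2 := H1.card_sup_mul_card_inf_of_normal (Nor P) O
  obtain ⟨i, hi⟩ := Subgroup.card_subgroup_dvd_card (Nor P ⊔ O)
  obtain ⟨j, hj⟩ := Subgroup.card_dvd_of_le (inf_comm O (Nor P) ▸ k1)
  have k3 : Nat.card O ∣ 36 * (5 * (64 * c)) := by
    rw [hr, hG] at hN
    refine ⟨i * j, Nat.eq_of_mul_eq_mul_left (Nat.card_pos (α := Nor P)) ?_⟩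
    rw [← mul_assoc _ (Nat.card O), ← k2, mul_mul_mul_comm, ← hi, ← hj, hG, hC]
    nlinarith
  have hS' := syl_ker B h5 hS h64 hO fun k => by
    have := k.trans k3
    rcases hc with rfl | rfl <;> omega
  have k4 := hS'.not_dvd_relIndex
  have k5 := H1.card_mul_relIndex_of_le hO
  have k6 := O.card_mul_index
  rw [← k5, h64, hG] at k6
  have k7 : S.relIndex O * O.index = 720 * c := by nlinarith
  obtain ⟨y, hy, ho⟩ := B.exists_sing
  have y1 : y ≠ 1 := by rintro rfl; simp at ho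
  obtain ⟨u, hu⟩ := isConj_iff.mp (B.isConj_full hy y1 (g := y ^ 2) (by
    rw [Nat.Coprime.orderOf_pow (by rw [ho]; norm_num), ho]))
  refine not720 (G := G ⧸ O) ?_ ?_ (y := y) (u := u) ?_ ?_ (ψ := ⟨φ, p1⟩) ?_ ?_ ?_
  · refine (Dvd.intro_left _ k7).trans ?_
    rcases hc with rfl | rfl <;> norm_num
  · refine (Nat.Coprime.pow_left 4 ((Nat.Prime.coprime_iff_not_dvd Nat.prime_two).mpr
      k4)).dvd_of_dvd_mul_left ?_
    exact k7 ▸ Dvd.dvd.mul_right (by norm_num) c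
  · refine orderOf_eq_prime ?_ fun e => n4 y ((QuotientGroup.eq_one_iff y).mp e) ho.symm.dvd
    rw [← QuotientGroup.mk_pow, ← ho, pow_orderOf_eq_one, QuotientGroup.mk_one]
  · exact congrArg (QuotientGroup.mk' O) hu
  · exact charDegree_eq_of ((p2 1).trans (by rw [dg_cast, hd]))
  · intro g hg
    obtain ⟨g, rfl⟩ := QuotientGroup.mk_surjective g
    exact (QuotientGroup.eq_one_iff g).mpr ((m4 g).mpr ((p2 g).symm.trans hg))
  · intro g hg
    obtain ⟨g, rfl⟩ := QuotientGroup.mk_surjective g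
    exact (p2 g).trans (hv g (hg.trans (orderOf_map_dvd (QuotientGroup.mk' O) g)))

end H17.Ord.F5
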