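import Mathlib
import Cfsg.Agent.Base
import Cfsg.Agent.Lib.Ord.M24Fb

/-! Sylow arguments around the centraliser of an element of order `5`. -/

set_option autoImplicit false
set_option linter.unusedSectionVars false
set_option linter.style.haveILetI false

open Cfsg H84 H69
open H86 (Cen Nor)

namespace H17.Ord.F5

variable {G : Type*} [Group G] [Finite G]

attribute [local instance] fact5

theorem conj_pow_two {y u : G} (hu : u * y * u⁻¹ = y ^ 2) (k : ℕ) :
    u ^ k * y * (u ^ k)⁻¹ = y ^ 2 ^ k := by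
  induction k with
  | zero => simp
  | succ k ih =>
    rw [pow_succ' u, show u * u ^ k * y * (u * u ^ k)⁻¹ = u * (u ^ k * y * (u ^ k)⁻¹) * u⁻¹ by group,
      ih, ← conj_pow, hu, ← pow_mul, ← pow_succ']

theorem seven_dvd {c : ℕ} (hc : c = 1 ∨ c = 3) (hG : Nat.card G = 105 * c) {y : G}
    (hy : orderOf y = 5) (h : Nor (Subgroup.zpowers y) ≤ Cen (Subgroup.zpowers y)) :
    ∃ x : G, orderOf x = 7 ∧ Commute x y := by
  haveI : Fact (Nat.Prime 7) := ⟨by norm_num⟩
  have hP : Nat.card (Subgroup.zpowers y) = 5 := by rw [Nat.card_zpowers, hy]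
  have k0 := (Subgroup.zpowers y).card_mul_index
  rw [hP, hG] at k0
  obtain ⟨S, hS⟩ := exists_sylow_eq hP (by omega)
  rw [← hS] at h k0
  have k1 := (MonoidHom.ker_transferSylow_isComplement' S h).index_eq_card
  have nK : ∀ g, g ∈ 𝐍((MonoidHom.transferSylow S h).ker) := fun g => by
    rw [Subgroup.normalizer_eq_top]; trivial
  generalize (MonoidHom.transferSylow S h).ker = K at k1 nK
  obtain ⟨x, hx, ho⟩ := H1.exists_mem_orderOf_eq_prime (H := K) (p := 7) Fact.out (by omega)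
  have hQ : Nat.card (Subgroup.zpowers x) = 7 := by rw [Nat.card_zpowers, ho]
  have hi : ¬ 7 ∣ (Subgroup.zpowers x).index := by
    have := (Subgroup.zpowers x).card_mul_index
    rw [hQ, hG] at this
    omega
  have hK := Subgroup.zpowers_le.mpr hx
  obtain ⟨r, r1, r2⟩ := card_over hQ hi hK
  obtain ⟨j, hj⟩ := Subgroup.card_dvd_of_le (le_inf Subgroup.le_normalizer hK)
  obtain rfl : r = 1 := by
    rw [hj, hQ, ← k1, show S.index = 7 * (3 * c) by omega, mul_assoc,
      mul_right_inj' (by norm_num)] at r1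
    have : r ∣ 9 := (Dvd.intro_left _ r1.symm).trans (by rcases hc with rfl | rfl <;> norm_num)
    have := Nat.le_of_dvd (by norm_num) this
    interval_cases r <;> omega
  have k2 : K ≤ 𝐍(Subgroup.zpowers x) := inf_eq_right.mp
    (Subgroup.eq_of_le_of_card_ge inf_le_right (by omega))
  obtain ⟨n, hn, a, ha, e⟩ := (syl hQ hi hK).frattini (nK y)
  have k3 := H4.card_modEq_card_inf_centralizer (q := 5) (k := 1) (e ▸ mul_mem (k2 hn) ha)
    (by rw [pow_one, ← hy, pow_orderOf_eq_one])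
  have k4 := Subgroup.card_dvd_of_le (inf_le_left (a := Subgroup.zpowers x)
    (b := Subgroup.centralizer {y}))
  rw [hQ] at k3 k4
  have k5 := Subgroup.eq_of_le_of_card_ge (inf_le_left (a := Subgroup.zpowers x)
    (b := Subgroup.centralizer {y})) (by
      rcases (Nat.dvd_prime Fact.out).mp k4 with k | k
      · rw [k] at k3; exact absurd k3 (by decide)
      · omega)
  exact ⟨x, ho, Subgroup.mem_centralizer_singleton_iff.mp
    (inf_eq_left.mp k5 (Subgroup.mem_zpowers x))⟩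

theorem seven_dvd' {c : ℕ} (hc : c = 1 ∨ c = 3) (hG : Nat.card G = 420 * c) {y u : G}
    (hy : orderOf y = 5) (hu : u * y * u⁻¹ = y ^ 2) : ∃ x : G, orderOf x = 7 ∧ Commute x y := by
  obtain ⟨B⟩ := pb hy hu (by omega)
  obtain ⟨n, hn⟩ : 4 ∣ orderOf u := by
    have := conj_pow_two hu (orderOf u)
    rw [pow_orderOf_eq_one, one_mul, inv_one, mul_one, eq_comm, ← pow_one y, ← pow_mul, one_mul,
      pow_eq_pow_iff_modEq, hy, ← Nat.div_add_mod (orderOf u) 4, pow_add, pow_mul] at this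
    have k := ((Nat.ModEq.pow (orderOf u / 4) (by decide : 1 ≡ 2 ^ 4 [MOD 5])).mul_right _).trans this
    have := Nat.mod_lt (orderOf u) (by norm_num : 0 < 4)
    rw [one_pow, one_mul] at k
    apply Nat.dvd_of_mod_eq_zero
    generalize orderOf u % 4 = i at *
    revert k
    interval_cases i <;> decide
  have n0 : n ≠ 0 := by rintro rfl; exact (orderOf_pos u).ne' hn
  have hw : Nat.card (Subgroup.zpowers (u ^ n)) = 2 ^ (Nat.card G).factorization 2 := by
    rw [Nat.card_zpowers, orderOf_pow_of_dvd n0 ⟨4, by rw [hn, mul_comm]⟩, hn,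
      Nat.mul_div_cancel _ (Nat.pos_of_ne_zero n0), hG]
    rcases hc with rfl | rfl <;> decide +kernel
  obtain ⟨A, nA, k1⟩ : ∃ A : Subgroup G, A.Normal ∧ A.IsComplement' (Subgroup.zpowers (u ^ n)) :=
    ⟨_, MonoidHom.normal_ker _, IsCyclic.isComplement' (p := 2) (P := Sylow.ofCard _ hw) (by
      rw [hG, Nat.minFac_eq_two_iff]; omega) (Subgroup.isCyclic_zpowers _)⟩
  have k2 : A.index = 4 := by
    rw [k1.symm.index_eq_card, hw, hG]
    rcases hc with rfl | rfl <;> decide +kernel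
  have k3 := A.card_mul_index
  rw [k2, hG] at k3
  have hA : y ∈ A := H1.mem_of_coprime_index (by rw [hy, k2]; norm_num)
  obtain ⟨x, h1, h2⟩ := seven_dvd (G := A) hc (by omega) (y := ⟨y, hA⟩)
    (by rw [Subgroup.orderOf_mk, hy]) fun g hg => by
      have k4 : (g : G) ∈ Nor (Subgroup.zpowers y) := by
        have := map_subtype_normalizer (Subgroup.zpowers (⟨y, hA⟩ : A)) ▸
          Subgroup.mem_map_of_mem A.subtype hg
        rw [MonoidHom.map_zpowers] at this
        exact this.2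
      have k5 : (g : G) ^ 4 ∈ Cen (Subgroup.zpowers y) :=
        B.he ▸ ((Cen _).subgroupOf (Nor (Subgroup.zpowers y))).pow_index_mem ⟨g, k4⟩
      obtain ⟨m, hm⟩ := exists_pow_eq_self_of_coprime (x := g) (n := 4)
        (Nat.Coprime.coprime_dvd_right (orderOf_dvd_natCard g) (by
          rw [show Nat.card A = 105 * c by omega]; rcases hc with rfl | rfl <;> norm_num))
      rw [← hm]
      refine Subgroup.pow_mem _ ?_ m
      rw [show Cen _ = _ from centralizer_zpowers _] at k5 ⊢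
      exact Subgroup.mem_centralizer_singleton_iff.mpr
        (Subtype.ext (Subgroup.mem_centralizer_singleton_iff.mp k5))
  exact ⟨x, by rw [Subgroup.orderOf_coe, h1], congrArg Subtype.val h2⟩

theorem not21 {P S : Subgroup G} [S.Normal] (B : PB G 5 P 4) {c : ℕ} (hc : c = 1 ∨ c = 3)
    (hC : Nat.card (Cen P) = 5 * (64 * c)) (hr : (Nor P).index = 21) (hS : S ≤ Cen P)
    (h64 : Nat.card S = 64) : False := by
  obtain ⟨r, -, r2, hG⟩ := idx B hC
  obtain rfl : r = 21 := r2.symm.trans hr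
  obtain ⟨y, hy, ho⟩ := B.exists_sing
  have y1 : y ≠ 1 := by rintro rfl; simp at ho
  obtain ⟨u, hu⟩ := isConj_iff.mp (B.isConj_full hy y1 (g := y ^ 2) (by
    rw [Nat.Coprime.orderOf_pow (by rw [ho]; norm_num), ho]))
  have k1 := S.card_mul_index
  have hS2 : IsPGroup 2 S := IsPGroup.of_card (n := 6) h64
  have hy' : orderOf (y : G ⧸ S) = 5 := by
    refine orderOf_eq_prime ?_ fun e => reg_of B hS2 ((QuotientGroup.eq_one_iff y).mp e) ho.symm.dvd
    rw [← QuotientGroup.mk_pow, ← ho, pow_orderOf_eq_one, QuotientGroup.mk_one]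
  obtain ⟨x, h1, h2⟩ := seven_dvd' (G := G ⧸ S) hc (by rw [h64, hG] at k1; show S.index = _; omega)
    hy' (u := u) (congrArg (QuotientGroup.mk' S) hu)
  obtain ⟨x, rfl⟩ := QuotientGroup.mk_surjective x
  have k2 : x * y * x⁻¹ * y⁻¹ ∈ S := (QuotientGroup.eq_one_iff _).mp (by
    rw [QuotientGroup.mk_mul, QuotientGroup.mk_mul, QuotientGroup.mk_mul, h2.eq]
    simp)
  have k3 : x * y * x⁻¹ ∈ P := mem_of_isPElt_of_mem_Nor B.card B.ind
    (H35.IsPElt.conj ⟨1, by rw [ho, pow_one]⟩ x) (Subgroup.centralizer_le_normalizer _ (by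
      rw [← inv_mul_cancel_right (x * y * x⁻¹) y]
      exact mul_mem (hS k2) (le_Cen_of_card B.card hy)))
  have k4 : x * y * x⁻¹ * y⁻¹ = 1 := by
    by_contra k
    exact reg_of B hS2 k2 (B.ord (P.mul_mem k3 (P.inv_mem hy)) k).symm.dvd
  have k5 : x ∈ Cen P := by
    rw [← cent_eq_Cen B.card hy y1, Subgroup.mem_centralizer_singleton_iff]
    exact commutatorElement_eq_one_iff_mul_comm.mp k4
  have := (h1 ▸ orderOf_map_dvd (QuotientGroup.mk' S) x).trans (H1.orderOf_dvd_card_of_mem k5)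
  omega

theorem two_central {S U T : Subgroup G} (hT : Nat.card T = 1024) (h1 : S ≤ U) (h2 : U ≤ T)
    (h3 : U ≤ 𝐍(S)) (hU : 512 ∣ Nat.card U) (hS : Nat.card S = 64) :
    ∃ z ∈ S, orderOf z = 2 ∧ T ≤ Subgroup.centralizer {z} := by
  have hT2 : IsPGroup 2 T := IsPGroup.of_card (n := 10) hT
  suffices h : ∃ D ≤ S, D ≠ ⊥ ∧ T ≤ 𝐍(D) by
    obtain ⟨D, d1, d2, d3⟩ := h
    have hD := hT2.to_le (d1.trans (h1.trans h2))
    obtain ⟨z, z1, z2⟩ := exists_orderOf_eq_prime hD.to_inf_left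
      (inf_centralizer_ne_bot hD hT2 d3 d2)
    exact ⟨z, d1 z1.1, z2, fun g hg => Subgroup.mem_centralizer_singleton_iff.mpr (z1.2 g hg)⟩
  by_cases k : T ≤ U
  · exact ⟨S, le_rfl, by rintro rfl; simp at hS, k.trans h3⟩
  obtain ⟨t, t1, t2⟩ := SetLike.not_le_iff_exists.mp k
  have k1 := H1.card_mul_relIndex_of_le h2
  have k2 : U.relIndex T = 2 := by
    obtain ⟨j, hj⟩ := hU
    have : U.relIndex T ≠ 1 := fun e => k (Subgroup.relIndex_eq_one.mp e)
    rw [hj, hT, mul_assoc] at k1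
    exact ((Nat.dvd_prime Nat.prime_two).mp (Dvd.intro_left j (by omega))).resolve_left this
  have m : ∀ a ∈ T, ∀ b ∈ T, a * b ∈ U ↔ (a ∈ U ↔ b ∈ U) := fun a ha b hb =>
    Subgroup.mul_mem_iff_of_index_two k2 (a := ⟨a, ha⟩) (b := ⟨b, hb⟩)
  have e1 : ∀ g ∈ U, S ^ᶜ g = S := fun g hg => cj_eq_of_mem_normalizer (h3 hg)
  have e2 : ∀ g ∈ T, g ∉ U → S ^ᶜ g = S ^ᶜ t := fun g hg k => by
    rw [← mul_inv_cancel_left t g, ← cj_cj, e1 _ ((m _ (T.inv_mem t1) g hg).mpr (by simp [t2, k]))]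
  have e3 : S ^ᶜ t ≤ U := fun x hx => by
    obtain ⟨a, ha, rfl⟩ := mem_cj'.mp hx
    rw [m _ (T.mul_mem t1 (h2 (h1 ha))) _ (T.inv_mem t1), m _ t1 _ (h2 (h1 ha))]
    simp [h1 ha]
  refine ⟨S ^ᶜ t ⊓ S, inf_le_right, fun e => ?_, fun g hg => cj_eq_self_iff.mp ?_⟩
  · have k3 := H1.card_sup_mul_card_inf_of_le_normalizer (e3.trans h3)
    have k4 := Subgroup.card_le_of_le (sup_le e3 h1)
    rw [e, card_cj, hS, Subgroup.card_bot] at k3
    rw [k2] at k1
    omega
  · rw [cj_inf, cj_cj]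
    by_cases k : g ∈ U
    · rw [e1 g k, e2 _ (T.mul_mem hg t1) (by rw [m g hg t t1]; simp [k, t2])]
    · rw [e2 g hg k, e1 _ (by rw [m g hg t t1]; simp [k, t2]), inf_comm]

end H17.Ord.F5
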