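import Mathlib
import Cfsg.Agent.Base
import Cfsg.Agent.Lib.Ord.M24E
import Cfsg.Agent.Lib.Ord.M24Fc

/-! In a simple group of order 244823040 an element of order `5` does not have a centraliser of
order `960`. -/

set_option autoImplicit false
set_option linter.unusedSectionVars false
set_option linter.style.haveILetI false

open Cfsg H4.Sv H84 H69
open H86 (Cen Nor)
open scoped ComplexConjugate

namespace H17.Ord.M24
open E11 F5

namespace F192

attribute [local instance] F5.fact5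

local instance fact11 : Fact (Nat.Prime 11) := ⟨by norm_num⟩

def DL : List ℕ := [528, 736, 3312, 4048, 6336, 8096, 8832, 9856, 12144, 12672, 15456]

def uu (d : ℕ) : ℤ := [3, 6, -3, 3, -4, 6, -8, -24, -1, -8, 6].getD (DL.idxOf d) 0

theorem eqns : True := by
  have := @DL.eq_1
  have := @uu.eq_1
  trivial

theorem kz : feasF 244823040 5 4 192 f23 (fun o => good 5 4 o &&
    (cols 244823040 5 4 192 967680 (fl [5, 7, 11, 23] 5 967680) o).all fun A =>
      A.contains (5796, 756) && (A.contains (5544, 504) && A.contains (2024, 344))) = true := by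
  decide +kernel

theorem kd : ∀ d ∈ divs 244823040, f23 d = true → d % 11 ∈ [0, 1, 10, 10, 1] →
    ∀ v ∈ Finset.Icc (-30 : ℤ) 30, v ∣ 768 → (d : ℤ) ≡ v [ZMOD 5] → (255024 * v) % d = 0 →
      255024 * v / d % 2 = 1 → d ∈ DL ∧ v = uu d := by
  decide +kernel

theorem fin0 : ((List.range 12).all fun b => (List.range 12).all fun c => (List.range 4).all fun g =>
    (List.range 2).all fun k => (58 * b + 61 * c + 8 * g + 6 * k) % 64 != 0 ||
    Nat.blt 11 (b + c + g + k) || (List.range 14).all fun a => (List.range 7).all fun e =>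
    (List.range 3).all fun h => (List.range 2).all fun j =>
    (122 * a + 4 * e + 104 * h + 16 * j) % 128 != 0 || Nat.blt 13 (a + e + h + j) ||
    (List.range 15).all fun d => (List.range 4).all fun f => (List.range 2).all fun i =>
    a + b + c + d + e + f + g + h + i + j + k == 0 || Nat.blt 244823040 (a * 278784 + b * 541696 +
      c * 10969344 + d * 16386304 + e * 40144896 + f * 65545216 + g * 78004224 + h * 97140736 +
      i * 147476736 + j * 160579584 + k * 238887936) || (a * 9 + b * 36 + c * 9 + d * 9 + e * 16 +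
      f * 36 + g * 64 + h * 576 + i + j * 64 + k * 36) % 64 != 0) = true := by
  decide +kernel

theorem fin1 {a b c d e f g h i j k : ℕ} (h0 : 0 < a + b + c + d + e + f + g + h + i + j + k)
    (h1 : b + c + g + k ≤ 11) (h2 : a + e + h + j ≤ 13)
    (h3 : a * 278784 + b * 541696 + c * 10969344 + d * 16386304 + e * 40144896 + f * 65545216 +
      g * 78004224 + h * 97140736 + i * 147476736 + j * 160579584 + k * 238887936 ≤ 244823040)
    (h4 : (64 : ℤ) ∣ a * 9 + b * 36 + c * 9 + d * 9 + e * 16 + f * 36 + g * 64 + h * 576 + i +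
      j * 64 + k * 36)
    (h5 : (64 : ℤ) ∣ -(b * 6) - c * 3 + g * 8 + k * 6)
    (h6 : (128 : ℤ) ∣ -(a * 6) + e * 4 - h * 24 + j * 16) : False := by
  have k1 := fin0
  simp only [List.all_eq_true, List.mem_range, Bool.or_eq_true, bne_iff_ne, Nat.blt_eq,
    beq_iff_eq] at k1
  have k2 := (k1 b (by omega) c (by omega) g (by omega) k (by omega)).resolve_left (by omega)
  have k3 := (k2 a (by omega) e (by omega) h (by omega) j (by omega)).resolve_left (by omega)
  have k4 := k3 d (by omega) f (by omega) i (by omega)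
  omega

theorem lin (n : ℕ → ℕ) (f : ℕ → ℤ) (c : List ℤ) (h : DL.map f = c) :
    (DL.map fun d => n d • f d).sum = (List.zipWith (fun d x => (n d : ℤ) * x) DL c).sum := by
  rw [← h, List.zipWith_map_right, List.zipWith_self]
  simp only [nsmul_eq_mul]

theorem fin2 (n : ℕ → ℕ) (h0 : 0 < (DL.map fun d => n d • (1 : ℤ)).sum)
    (h1 : (DL.map fun d => n d • if 11 ∣ d then (0 : ℤ) else 1).sum ≤ (11 : ℕ))
    (h2 : (DL.map fun d => n d • if 23 ∣ d then (0 : ℤ) else 1).sum ≤ (13 : ℕ))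
    (h3 : (DL.map fun d => n d • (d : ℤ) ^ 2).sum ≤ 244823040)
    (h4 : 64 ∣ (DL.map fun d => n d • (uu d * uu d)).sum)
    (h5 : ((1 : ℕ) * 64 : ℤ) ∣ (DL.map fun d => n d • (wt 11 10 d * uu d)).sum)
    (h6 : ((2 : ℕ) * 64 : ℤ) ∣ (DL.map fun d => n d • (wt 23 11 d * uu d)).sum) : False := by
  rw [lin n _ [1, 1, 1, 1, 1, 1, 1, 1, 1, 1, 1] (by decide +kernel)] at h0
  rw [lin n _ [0, 1, 1, 0, 0, 0, 1, 0, 0, 0, 1] (by decide +kernel)] at h1
  rw [lin n _ [1, 0, 0, 0, 1, 0, 0, 1, 0, 1, 0] (by decide +kernel)] at h2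
  rw [lin n _ [278784, 541696, 10969344, 16386304, 40144896, 65545216, 78004224, 97140736,
    147476736, 160579584, 238887936] (by decide +kernel)] at h3
  rw [lin n _ [9, 36, 9, 9, 16, 36, 64, 576, 1, 64, 36] (by decide +kernel)] at h4
  rw [lin n _ [0, -6, -3, 0, 0, 0, 8, 0, 0, 0, 6] (by decide +kernel)] at h5
  rw [lin n _ [-6, 0, 0, 0, 4, 0, 0, -24, 0, 16, 0] (by decide +kernel)] at h6
  simp only [DL, List.zipWith_cons_cons, List.zipWith_nil_left, List.sum_cons, List.sum_nil,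
    Nat.cast_ofNat, Nat.cast_one] at h0 h1 h2 h3 h4 h5 h6
  rw [show (2 * 64 : ℤ) = 128 from rfl] at h6
  rw [one_mul] at h5
  exact fin1 (a := n 528) (b := n 736) (c := n 3312) (d := n 4048) (e := n 6336) (f := n 8096)
    (g := n 8832) (h := n 9856) (i := n 12144) (j := n 12672) (k := n 15456)
    (by clear * - h0; omega) (by clear * - h1; omega) (by clear * - h2; omega)
    (by clear * - h3; omega) (by clear * - h4; omega) (by clear * - h5; omega)
    (by clear * - h6; omega)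

variable {G : Type*} [Group G] [Finite G] [IsSimpleGroup G] (hG : Nat.card G = 244823040)
  {P : Subgroup G} (B : PB G 23 P 11) (hC : Subgroup.centralizer (P : Set G) = P)
  {Q : Subgroup G} (A : PB G 11 Q 10) (hA : Subgroup.centralizer (Q : Set G) = Q)
  {R : Subgroup G} (D : PB G 5 R 4) (hc : Nat.card (Subgroup.centralizer (R : Set G)) = 5 * 192)
include hG B hC A hA D hc

theorem even_cc {S : Subgroup G} (hS : S ≤ Cen R) (h64 : Nat.card S = 64) {y : G} (hy : y ∈ R)
    (h1 : y ≠ 1) (χ : IrrCharacter G) : ∃ w : ℤ, centralChar (χ : G → ℂ) y = (2 * w : ℤ) := by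
  classical
  have ho := D.ord hy h1
  have hy5 := cent_eq_Cen D.card hy h1
  have hi : (Subgroup.centralizer ({y} : Set G)).index = 255024 := by
    have := (Cen R).card_mul_index
    rw [show Nat.card (Cen R) = _ from hc, hG] at this
    rw [hy5]
    omega
  have hu : ∀ χ : IrrCharacter G, ∃ u : ℤ, (χ : G → ℂ) y = u ∧ (u = 0 ∨ u ∣ 768) := fun χ => by
    by_cases k : 5 ∣ dg χ
    · exact ⟨0, (van_of_dvd Nat.prime_five D.not_sq_dvd k ho.symm.dvd).trans Int.cast_zero.symm,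
        Or.inl rfl⟩
    · exact (D.val_dvd hc hy h1 k).imp fun u h => ⟨h.1, Or.inr h.2⟩
  choose u u1 u2 using hu
  choose w hw using fun χ => hi ▸ dvd_central χ (u1 χ)
  have cc : ∀ χ : IrrCharacter G, centralChar (χ : G → ℂ) y = w χ := fun χ => by
    rw [centralChar, hi, u1, dg_cast, div_eq_iff (Nat.cast_ne_zero.mpr (dg_pos χ).ne'), mul_comm (w χ : ℂ)]
    exact_mod_cast hw χ
  by_contra hχ
  obtain ⟨T, hT⟩ : ∃ T : Finset (IrrCharacter G), ∀ χ, χ ∈ T ↔ w χ % 2 = 1 :=
    ⟨Finset.univ.filter fun χ => w χ % 2 = 1, by simp⟩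
  have t0 : χ ∈ T := by
    rw [hT]
    by_contra k
    exact hχ ⟨w χ / 2, by rw [cc]; congr 1; omega⟩
  obtain ⟨M, hM⟩ := H33.exists_isPModular 2
  haveI := H33.isMaximal_of hM
  have t1 : ∀ χ ∈ T, ∀ ψ ∈ blockOf M (χ : G → ℂ), ψ ∈ T := fun χ k ψ h => by
    have := h y
    rw [cc, cc, ← Int.cast_sub, H33.memLocalIdeal_intCast_iff hM] at this
    rw [hT] at k ⊢
    omega
  have t2 : ∀ χ ∈ T, dg χ ∈ DL ∧ u χ = uu (dg χ) := fun χ k => by
    have a := sq_le_cent u1 χ
    have b := hw χ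
    have c : (dg χ : ℤ) ≠ 0 := Nat.cast_ne_zero.mpr (dg_pos χ).ne'
    rw [hy5, show Nat.card (Cen R) = _ from hc] at a
    rw [hT] at k
    push_cast at a b
    refine kd _ (mem_divs (by norm_num) (hG ▸ dg_dvd χ)) (f23_of hG B hC χ) (A.res hA χ) _
      (Finset.mem_Icc.mpr ⟨by nlinarith, by nlinarith⟩) ((u2 χ).resolve_left fun e => ?_)
      (modEq_of_val (k := 1) (irr_chr χ) Nat.prime_five (by rw [pow_one, ← ho, pow_orderOf_eq_one])
        (u1 χ)) (by rw [b, Int.mul_emod_right]) (by rwa [b, Int.mul_ediv_cancel_left _ c])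
    rw [e, mul_zero, eq_comm, mul_eq_zero_iff_left c] at b
    omega
  have t3 : ∀ f : ℕ → ℤ, ∑ χ ∈ T, f (dg χ) * u χ =
      (DL.map fun d => cnt T d • (f d * uu d)).sum := fun f => by
    rw [← sum_eq_cnt T DL (by decide) (fun χ k => (t2 χ k).1) fun d => f d * uu d]
    exact Finset.sum_congr rfl fun χ k => by rw [(t2 χ k).2]
  have r2 : ¬ 2 ∣ orderOf y := by rw [ho]; norm_num
  have t4 : ∀ {x : G} {n : ℤ}, ¬ 2 ∣ orderOf x →
      ∑ χ ∈ T, (u χ : ℂ) * conj ((χ : G → ℂ) x) = n → (64 : ℤ) ∣ n := fun hx h => by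
    have := dvd_union hM t1 (IsPGroup.of_card (n := 6) h64) r2 (fun s hs => hS hs y hy) hx
      (by simpa only [u1] using h)
    rwa [h64] at this
  have t5 : ∀ {p : ℕ} [Fact p.Prime] {P : Subgroup G} {e : ℕ} (B : PB G p P e), 1 < e →
      Subgroup.centralizer (P : Set G) = P → ¬ p ∣ 5 → ¬ 2 ∣ p →
      (((p - 1) / e : ℕ) * 64 : ℤ) ∣ ∑ χ ∈ T, wt p e (dg χ) * u χ := fun B he hC k k' => by
    obtain ⟨x, -, hx⟩ := B.exists_sing
    obtain ⟨n, n1, n2⟩ := B.col_wt he hC (fun χ => if χ ∈ T then u χ else 0) (fun θ a θ' b => by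
      have e1 : u θ' = u θ := by
        have := B.regY θ' b θ a y (ho ▸ k)
        rw [u1, u1] at this
        exact_mod_cast this
      have e2 : w θ' = w θ := mul_left_cancel₀ (Nat.cast_ne_zero.mpr (dg_pos θ).ne') (by
        rw [← hw, ← B.dgY b a, ← hw, e1])
      simp only [hT, e1, e2]) hx.symm.dvd
    simp only [Int.cast_ite, Int.cast_zero, ite_mul, mul_ite, zero_mul, mul_zero,
      Finset.sum_ite_mem, Finset.univ_inter] at n1 n2
    exact n2 ▸ mul_dvd_mul_left _ (t4 (hx ▸ k') n1)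
  have t7 := sum_eq_cnt (A := ℤ) T DL (by decide) fun χ k => (t2 χ k).1
  have t6 : ∀ {p : ℕ} [Fact p.Prime] {P : Subgroup G} {e : ℕ} (B : PB G p P e),
      Subgroup.centralizer (P : Set G) = P → (DL.map fun d => cnt T d •
        if p ∣ d then (0 : ℤ) else 1).sum ≤ (e + (p - 1) / e : ℕ) := fun B hC => by
    rw [← t7]
    refine le_trans ?_ (Nat.cast_le.mpr (le_of_eq (show (B.X ∪ B.Y).card = _ by
      rw [Finset.card_union_of_disjoint B.disj, B.cardX, B.cardY])))
    simp only [← ite_not (_ ∣ _), Finset.sum_boole, Nat.cast_le]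
    exact Finset.card_le_card fun χ k =>
      Finset.mem_union.mpr (B.mem_of_not_dvd hC (Finset.mem_filter.mp k).2)
  refine fin2 (cnt T) ?_ (t6 A hA) (t6 B hC) ?_ ?_ ?_ ?_
  · rw [← t7]
    simpa using ⟨χ, t0⟩
  · rw [← t7]
    exact_mod_cast (sum_dg_sq_le T).trans hG.le
  · rw [← t3]
    refine t4 r2 ?_
    push_cast
    exact Finset.sum_congr rfl fun χ k => by rw [u1, map_intCast, ← (t2 χ k).2]
  · exact t3 _ ▸ t5 A (by norm_num) hA (by norm_num) (by norm_num)
  · exact t3 _ ▸ t5 B (by norm_num) hC (by norm_num) (by norm_num)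

theorem not_big {z : G} (hz : orderOf z = 2)
    (h : Nat.card (Subgroup.centralizer ({z} : Set G)) = 967680) : False := by
  classical
  obtain ⟨o, h1, -, k⟩ := D.sieveF (hna hG) (by norm_num) hG hc (fun χ _ _ => f23_of hG B hC χ) kz
  rw [Bool.and_eq_true, List.all_eq_true] at h1
  obtain ⟨u, hu, u1, -⟩ := exists_invol_col (hna hG) hz
  obtain ⟨L, -, -, l⟩ := D.mem_fl (hna hG) hG (by decide) (by norm_num) hc k h1.1 hz h hu
  have := h1.2 _ l
  simp only [Bool.and_eq_true, List.contains_iff_mem, List.mem_map, pr, Prod.mk.injEq] at this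
  obtain ⟨⟨a, -, a1, a2⟩, ⟨b, -, b1, b2⟩, c, -, c1, c2⟩ := this
  have n : ∀ χ, 11 ∣ dg χ → χ ∉ A.X ∪ A.Y := fun χ k e =>
    (Finset.mem_union.mp e).elim (fun e => A.not_dvd_X e k) fun e => A.not_dvd_Y e k
  have m1 : a ∈ A.X ∪ A.Y := Finset.mem_union.mpr (A.mem_of_not_dvd hA (by rw [a1]; norm_num))
  have m2 : triv G ∈ (A.X ∪ A.Y).erase a := Finset.mem_erase.mpr
    ⟨by rintro rfl; rw [dg_triv] at a1; omega, Finset.mem_union.mpr A.one_mem⟩
  have k1 : ∑ χ ∈ A.X ∪ A.Y, wt 11 10 (dg χ) * u χ = 0 := by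
    have := A.rel_blk (by norm_num) (g := z) (by rw [hz]; norm_num)
    simp only [hu] at this
    exact_mod_cast this
  have k2 : ∑ χ ∈ insert b (insert c (A.X ∪ A.Y)), u χ ^ 2 ≤ 967680 :=
    (Finset.sum_le_univ_sum_of_nonneg fun χ => sq_nonneg _).trans ((col_sq hu).trans (by
      rw [h]; rfl)).le
  rw [Finset.sum_insert (by
    rw [Finset.mem_insert, not_or]
    exact ⟨by rintro rfl; omega, n b (by omega)⟩), Finset.sum_insert (n c (by omega))] at k2
  rw [← Finset.add_sum_erase _ _ m1, ← Finset.add_sum_erase _ _ m2, a2, u1] at k1 k2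
  have k3 : ∑ χ ∈ ((A.X ∪ A.Y).erase a).erase (triv G), 168 * (wt 11 10 (dg χ) * u χ) ≤
      ∑ χ ∈ ((A.X ∪ A.Y).erase a).erase (triv G), (u χ ^ 2 + 7056) :=
    Finset.sum_le_sum fun χ _ => by
      unfold wt
      split_ifs <;> simp <;> nlinarith [sq_nonneg (u χ - 84), sq_nonneg (u χ + 84)]
  rw [← Finset.mul_sum, Finset.sum_add_distrib, Finset.sum_const, Finset.card_erase_of_mem m2,
    Finset.card_erase_of_mem m1, Finset.card_union_of_disjoint A.disj, A.cardX, A.cardY] at k3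
  rw [a1, dg_triv] at k1
  rw [b2, c2] at k2
  simp [wt] at k1 k3
  omega

theorem loc {S : Subgroup G} (hS : S ≤ Cen R) (h64 : Nat.card S = 64) {y u : G} (hy : y ∈ R)
    (h1 : y ≠ 1) (hu : u * y * u⁻¹ = y ^ 2) {E Y : Subgroup G} (hE : IsPGroup 2 E) (k1 : E ≤ Y)
    (k2 : Cen E ≤ Y) (k3 : Y ≤ Nor E) (k4 : y ∈ Y) (k5 : u ∈ Y) (k6 : S ≤ Y)
    (n1 : ¬ 11 ∣ Nat.card Y) (n2 : ¬ 23 ∣ Nat.card Y) (h : Y ≤ 𝐍(S) ∨ 1024 ∣ Nat.card Y) :
    512 ∣ Nat.card Y ∧ (1024 ∣ Nat.card Y → Nat.card Y = 967680) := by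
  classical
  have hY := (Subgroup.card_subgroup_dvd_card Y).trans hG.dvd
  obtain ⟨F⟩ := pb (G := Y) (y := ⟨y, k4⟩) (u := ⟨u, k5⟩)
    (by rw [Subgroup.orderOf_mk, D.ord hy h1]) (Subtype.ext hu) fun k => by
      have := k.trans hY; omega
  have e1 := map_subtype_centralizer (Subgroup.zpowers (⟨y, k4⟩ : Y))
  rw [MonoidHom.map_zpowers, Subgroup.subtype_apply, ← eq_zpowers_of_card D.card hy h1] at e1
  generalize Subgroup.zpowers (⟨y, k4⟩ : Y) = V at F e1
  have e2 : S.subgroupOf Y ≤ Cen V := by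
    rw [subgroupOf_le_iff k6]
    exact e1 ▸ le_inf k6 hS
  obtain ⟨c, c1, c2⟩ : ∃ c, (c = 1 ∨ c = 3) ∧ Nat.card (Cen V) = 5 * (64 * c) := by
    have a1 := Subgroup.card_dvd_of_le e2
    have a2 := Subgroup.card_dvd_of_le (le_Cen_of_card F.card)
    have a3 := Subgroup.card_dvd_of_le (e1.le.trans inf_le_right)
    rw [card_subgroupOf k6, h64] at a1
    rw [F.card] at a2
    rw [card_map_subtype, hc] at a3
    obtain ⟨c, c1⟩ : 5 * 64 ∣ Nat.card (Cen V) :=
      Nat.Coprime.mul_dvd_of_dvd_of_dvd (by norm_num) a2 a1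
    refine ⟨c, (Nat.dvd_prime Nat.prime_three).mp (Nat.dvd_of_mul_dvd_mul_left (k := 5 * 64)
      (by norm_num) (c1 ▸ a3)), by rw [c1, mul_assoc]⟩
  obtain ⟨r, r1, r2, r3⟩ := idx F c2
  have e3 : ∀ χ ∈ F.X ∪ F.Y, 2 * dg χ ∣ r * 4 := fun χ k =>
    r2 ▸ D.loc_dvd hy h1 (even_cc hG B hC A hA D hc hS h64 hy h1) hE k1 k2 k3 F (by
      rcases (val F k).1 with a | a <;> simp [wt, a]) (val F k).2
  have e4 : r ∣ 756 ∧ r * c ∣ 756 := by
    have a : Nat.card Y ∣ 967680 := by
      rw [show 244823040 = 11 * (23 * 967680) from rfl] at hY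
      exact ((Nat.Prime.coprime_iff_not_dvd (by norm_num)).mpr n2).symm.dvd_of_dvd_mul_left
        (((Nat.Prime.coprime_iff_not_dvd (by norm_num)).mpr n1).symm.dvd_of_dvd_mul_left hY)
    have : r * c ∣ 756 := Nat.dvd_of_mul_dvd_mul_left (k := 1280) (by norm_num) (by
      rw [show 1280 * (r * c) = Nat.card Y by rw [r3]; ring]; exact a)
    exact ⟨(dvd_mul_right _ _).trans this, this⟩
  have e5 := (by decide +kernel : ∀ r ∈ divs 756, r % 5 = 1 → r ∈ [1, 6, 21, 36, 126, 756]) r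
    (mem_divs (by norm_num) e4.1) r1
  simp only [List.mem_cons, List.not_mem_nil, or_false] at e5
  rcases e5 with rfl | rfl | rfl | rfl | rfl | rfl
  · obtain ⟨a1, -, a3⟩ := nums F [1] (by decide) fun χ k => by
      have := Nat.le_of_dvd (by norm_num) (e3 χ k)
      have := (val F k).1
      rw [List.mem_singleton]
      omega
    simp only [List.map_cons, List.map_nil, List.sum_cons, List.sum_nil, add_zero] at a1 a3
    rw [a1] at a3
    exact absurd a3 (by decide)
  · omega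
  · haveI : (S.subgroupOf Y).Normal := Subgroup.normal_subgroupOf_of_le_normalizer
      (h.resolve_right (by omega))
    exact (not21 F c1 c2 r2 e2 ((card_subgroupOf k6).trans h64)).elim
  · exact (notH F c1 c2 r2 e3).elim
  · omega
  · have := Nat.le_of_dvd (by norm_num) e4.2
    omega

end F192

open F192 in
theorem not192 {G : Type*} [Group G] [Finite G] [IsSimpleGroup G] (hG : Nat.card G = 244823040)
    {P : Subgroup G} (B : PB G 23 P 11) (hC : Subgroup.centralizer (P : Set G) = P)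
    {Q : Subgroup G} (A : PB G 11 Q 10) (hA : Subgroup.centralizer (Q : Set G) = Q)
    {R : Subgroup G} (D : PB G 5 R 4)
    (hc : Nat.card (Subgroup.centralizer (R : Set G)) = 5 * 192) : False := by
  haveI := F5.fact5
  obtain ⟨S, hS⟩ := exists_isSylowIn 2 (Cen R)
  have h64 : Nat.card S = 64 := by
    rw [hS.card_eq_pow_factorization, show Nat.card (Cen R) = _ from hc]
    decide +kernel
  obtain ⟨y, hy, ho⟩ := D.exists_sing
  have y1 : y ≠ 1 := by rintro rfl; simp at ho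
  obtain ⟨v, hv⟩ := isConj_iff.mp (D.isConj_full hy y1 (g := y ^ 2) (by
    rw [Nat.Coprime.orderOf_pow (by rw [ho]; norm_num), ho]))
  obtain ⟨a, ha, n, hn, rfl⟩ := hS.frattini' (normalizer_le_normalizer_centralizer R
    (mem_Nor_of_conj D.card hy y1 (hv ▸ R.pow_mem hy 2)))
  rw [show a * n * y * (a * n)⁻¹ = a * (n * y * n⁻¹) * a⁻¹ by group,
    conj_eq_of_mem_centralizer hn hy] at hv
  obtain ⟨k, m, m1, m2⟩ := Nat.exists_eq_two_pow_mul_odd (orderOf_pos a).ne'
  have hu : a ^ (m * m) * y * (a ^ (m * m))⁻¹ = y ^ 2 := by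
    obtain ⟨j, rfl⟩ := m1
    rw [conj_pow_two hv, pow_eq_pow_iff_modEq, ho,
      show (2 * j + 1) * (2 * j + 1) = 4 * (j * j + j) + 1 by ring, pow_succ, pow_mul]
    exact (((by decide : 2 ^ 4 ≡ 1 [MOD 5]).pow _).mul_right 2).trans (by rw [one_pow, one_mul])
  have u1 : Subgroup.zpowers (a ^ (m * m)) ≤ 𝐍(S) := Subgroup.zpowers_le.mpr (pow_mem ha _)
  have u2 : IsPGroup 2 (Subgroup.zpowers (a ^ (m * m))) :=
    H35.isPElt_iff_zpowers.mp (H35.isPElt_of_pow_eq_one (k := k) (by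
      rw [← pow_mul, mul_assoc, mul_comm m (m * _), mul_comm m, ← m2, pow_mul, pow_orderOf_eq_one,
        one_pow]))
  generalize a ^ (m * m) = u at hu u1 u2
  obtain ⟨U, hU, k1⟩ := exists_isSylowIn_le (isPGroup_sup_of_le_normalizer_right u2 hS.isP u1)
    (sup_le u1 Subgroup.le_normalizer)
  obtain ⟨T, hT, k2⟩ := exists_isSylowIn_le hU.isP (L := ⊤) le_top
  have yS : y ∈ 𝐂(S) := Subgroup.le_centralizer_iff.mp hS.le hy
  have n : ∀ {q : ℕ}, q.Prime → 2 ^ 6 % q ≠ 1 → (∀ s : G, orderOf s = 2 →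
      ¬ q ∣ Nat.card (Subgroup.centralizer ({s} : Set G))) → ¬ q ∣ Nat.card 𝐍(S) :=
    fun hq k1 k2 k => by
      obtain ⟨x, hx, xo⟩ := H1.exists_mem_orderOf_eq_prime hq k
      obtain ⟨s, -, s1, s2⟩ := exists_fixed_of_normalizes hq h64 k1 xo hx
      exact k2 s s1 (xo ▸ H1.orderOf_dvd_card_of_mem
        (Subgroup.mem_centralizer_singleton_iff.mpr s2))
  have n1 := fun (s : G) (h : orderOf s = 2) => A.not_dvd_cent hA h Nat.prime_two (by norm_num)
  have n2 := fun (s : G) (h : orderOf s = 2) => B.not_dvd_cent hC h Nat.prime_two (by norm_num)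
  have c2 : Nat.card T = 1024 := by
    rw [hT.card_eq_pow_factorization, Subgroup.card_top, hG]
    decide +kernel
  obtain ⟨z, z1, z2, z3⟩ := two_central c2 (le_sup_right.trans k1) k2 hU.le (by
    rw [hU.card_eq_pow_factorization]
    exact pow_dvd_pow 2 ((Nat.prime_two.pow_dvd_iff_le_factorization (k := 9) Nat.card_pos.ne').mp
      (loc hG B hC A hA D hc hS.le h64 hy y1 hu hS.isP Subgroup.le_normalizer
        (Subgroup.centralizer_le_normalizer _) le_rfl (Subgroup.centralizer_le_normalizer _ yS)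
        (u1 (Subgroup.mem_zpowers u)) Subgroup.le_normalizer (n (by norm_num) (by norm_num) n1)
        (n (by norm_num) (by norm_num) n2) (Or.inl le_rfl)).1)) h64
  have c3 := c2 ▸ Subgroup.card_dvd_of_le z3
  exact not_big hG B hC A hA D hc z2 ((loc hG B hC A hA D hc hS.le h64 hy y1 hu
    (E := Subgroup.zpowers z) (H35.isPElt_iff_zpowers.mp ⟨1, by rw [z2, pow_one]⟩)
    (Subgroup.zpowers_le.mpr (Subgroup.mem_centralizer_singleton_iff.mpr rfl))
    (centralizer_zpowers z).le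
    ((centralizer_zpowers z).ge.trans (Subgroup.centralizer_le_normalizer _))
    (Subgroup.mem_centralizer_singleton_iff.mpr (yS z z1).symm)
    (z3 (k2 (k1 (Subgroup.mem_sup_left (Subgroup.mem_zpowers u)))))
    ((le_sup_right.trans (k1.trans k2)).trans z3) (n1 z z2) (n2 z z2) (Or.inr c3)).2 c3)

end H17.Ord.M24
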