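import Mathlib
import Cfsg.Agent.Base
import Cfsg.Agent.Lib.Ord.M24Ea

/-! Numerical checks for the primes 5 and 7 in simple groups of order 244823040. -/

set_option autoImplicit false

open H4.Sv

namespace H17.Ord.M24.B57

def g (d : ℕ) : Bool := E11.f23 d && [0, 1, 10].contains (d % 11)

def o5 : List ℕ := [1771, 2024, 5544, 5796]

def o7 : List ℕ := [990, 990, 1035, 2024]

noncomputable def cl (p e c C : ℕ) (o : List ℕ) : List (List (ℕ × ℤ)) :=
  cols 244823040 p e c C (fl [5, 7, 11, 23] p C) o

def look (d : ℕ) (B : List (ℕ × ℤ)) : ℤ := (B.lookup d).getD 0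

def bil (A B : List (ℕ × ℤ)) : ℤ :=
  244823040 + (A.map fun x => wt 5 4 x.1 * (x.2 * look x.1 B * (244823040 / x.1 : ℕ))).sum

noncomputable def K5 (c : ℕ) (o : List ℕ) : Bool :=
  good 5 4 o && (decide o.Nodup && (divs 967680).all fun C => C % 10 != 0 ||
    Nat.blt 244823040 (C * C) || (cl 5 4 c C o).all fun A => (divs 945).all fun k =>
      (cl 5 4 c (1024 * k) o).all fun B => bil A B ^ 2 != bil A A * bil B B)

theorem eqns : True := by
  have := @g.eq_1; have := @o5.eq_1; have := @o7.eq_1; have := @cl.eq_1; have := @look.eq_1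
  have := @bil.eq_1; have := @K5.eq_1; trivial

theorem c12 : feasF 244823040 5 4 12 g (fun o => o5.isPerm o || K5 12 o) = true := by
  decide +kernel

theorem c7 : optsAll 244823040 7 (fun e c => 59927040 % (c * c) != 0 || e == 6 ||
    (e == 3 && c == 6) || feasF 244823040 7 e c g fun o => !o.contains 2024 ||
      (e == 3 && c == 48 && o7.isPerm o)) = true := by
  decide +kernel

end H17.Ord.M24.B57
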