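import Mathlib
import Cfsg.Agent.Base
import Cfsg.Agent.Lib.Ord.M24Ha

/-! Numerical checks for the primes 5 and 7 in simple groups of order 244823040, part two. -/

set_option autoImplicit false

open H4.Sv

namespace H17.Ord.M24.B57

theorem c5 : optsAll 244823040 5 (fun e c => c % 11 == 0 || c % 23 == 0 ||
    (e == 4 && (c == 192 || c == 12)) ||
    feasF 244823040 5 e c g fun o => e == 4 && K5 c o) = true := by
  decide +kernel

end H17.Ord.M24.B57
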