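import Mathlib
import Cfsg.Agent.Base
import Cfsg.Agent.Lib.Ord.M24Ha

/-! Numerical checks for the primes 5 and 7 in simple groups of order 244823040, part three. -/

set_option autoImplicit false

open H4.Sv

namespace H17.Ord.M24.B57

theorem c70 : ((divs 967680).all fun C => C % 70 != 0 || (cl 5 4 12 C o5).all fun A =>
    (cl 7 3 48 C o7).all fun B => !subm 5 B A ||
      decide ((C : ℤ) < 1 + nrm A + nrm (B.filter fun x => x.1 % 5 == 0))) = true := by
  decide +kernel

theorem c76 : optsAll 244823040 7 (fun e c => 59927040 % (c * c) != 0 || e != 6 || c == 3 ||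
    c == 24) = true := by
  decide +kernel

end H17.Ord.M24.B57
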