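import Mathlib
import Cfsg.Agent.Base
import Cfsg.Agent.Lib.Ord.Flt2

/-! Counting products of conjugates in the section of an element of prime order. -/

set_option autoImplicit false
set_option linter.unusedSectionVars false
set_option linter.style.haveILetI false

open Cfsg H84 H35
open scoped ComplexConjugate

namespace H17.Ord
variable {G : Type*} [Group G] [Finite G] {p : ℕ} [hp : Fact p.Prime] {P : Subgroup G} {e : ℕ}

theorem PB.sec (B : PB G p P e) {c : ℕ}
    (hc : Nat.card (Subgroup.centralizer (P : Set G)) = p * c) :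
    ∃ (x : G) (S : Finset G) (M : Ideal AlgInt), orderOf x = p ∧ S.card = c ∧
      (∀ g ∈ S, p ∣ orderOf g) ∧
      (∀ v ∈ Subgroup.centralizer (P : Set G), ∀ g ∈ S, v * g * v⁻¹ ∈ S) ∧
      (∀ χ, χ ∈ principalBlock M G ↔ χ ∈ B.X ∨ χ ∈ B.Y) ∧
      ∀ f : G → ℂ, IsClassFunction G f →
        c * blockPart (principalBlock M G) f x = ∑ g ∈ S, f g := by
  classical
  haveI := Fintype.ofFinite G
  obtain ⟨L⟩ := nonempty_log (P := P) B.card B.ind
  obtain ⟨M, hM, hB⟩ := B.blk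
  haveI := H33.isMaximal_of hM
  obtain ⟨x, hx, o⟩ := B.exists_sing
  have x1 : x ≠ 1 := by rintro rfl; exact hp.out.one_lt.ne (orderOf_one.symm.trans o)
  have y1 : p ∣ orderOf x := o ▸ dvd_rfl
  have hC : Subgroup.centralizer (P : Set G) = Subgroup.centralizer {x} :=
    (isCen_of_card B.card hx x1).eq
  have lx : L.l x ≠ 0 := fun h => (L.l_eq_zero x (L.le_Cen hx)).mp h y1
  let φ : Subgroup.centralizer ({x} : Set G) →* Multiplicative (ZMod p) :=
    MonoidHom.mk' (fun g => Multiplicative.ofAdd (L.l g)) fun a b => by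
      rw [← ofAdd_add, Subgroup.coe_mul, L.l_mul _ (hC.ge a.2) _ (hC.ge b.2)]
  have hφ : ∀ g, g ∈ φ.ker ↔ L.l g = 0 := fun g => Iff.rfl
  have hi : φ.ker.index = p := by
    rw [Subgroup.index_ker, MonoidHom.range_eq_top.mpr, Subgroup.card_top,
      Nat.card_congr Multiplicative.toAdd, Nat.card_zmod]
    intro j
    obtain ⟨y, hy⟩ := L.bij.2 j.toAdd
    exact ⟨⟨y, hC.le (L.le_Cen y.2)⟩, congrArg Multiplicative.ofAdd hy⟩
  have hk : Nat.card φ.ker = c := by
    have := φ.ker.index_mul_card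
    rw [hi, ← congrArg (fun H : Subgroup G => Nat.card H) hC, hc] at this
    exact Nat.eq_of_mul_eq_mul_left hp.out.pos this
  have hpc : ¬ p ∣ Nat.card φ.ker := fun h => B.not_sq_dvd (by
    rw [hk] at h
    exact (sq p ▸ Nat.mul_dvd_mul_left p h).trans (hc ▸ Subgroup.card_subgroup_dvd_card _))
  let F : φ.ker → G := fun n => x * ((n : Subgroup.centralizer ({x} : Set G)) : G)
  have hF : Function.Injective F := fun n n' h => Subtype.ext (Subtype.ext (mul_left_cancel h))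
  have hS : ∀ g, g ∈ Finset.univ.image F ↔
      g ∈ Subgroup.centralizer (P : Set G) ∧ L.l g = L.l x := fun g => by
    simp only [Finset.mem_image, Finset.mem_univ, true_and]
    constructor
    · rintro ⟨n, rfl⟩
      refine ⟨mul_mem (L.le_Cen hx) (hC.ge n.1.2), ?_⟩
      rw [L.l_mul _ (L.le_Cen hx) _ (hC.ge n.1.2), (hφ _).mp n.2, add_zero]
    · rintro ⟨h1, h2⟩
      have c1 := mul_mem (inv_mem (L.le_Cen hx)) h1
      refine ⟨⟨⟨x⁻¹ * g, hC.le c1⟩, (hφ _).mpr ?_⟩, mul_inv_cancel_left _ _⟩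
      have := L.l_mul _ (L.le_Cen hx) _ c1
      rw [mul_inv_cancel_left, h2] at this
      exact left_eq_add.mp this
  refine ⟨x, Finset.univ.image F, M, o, ?_, fun g hg => ?_, fun v hv g hg => ?_, hB, fun f hf => ?_⟩
  · rw [Finset.card_image_of_injective _ hF, Finset.card_univ, ← Nat.card_eq_fintype_card, hk]
  · obtain ⟨h1, h2⟩ := (hS g).mp hg
    by_contra h
    exact lx (h2 ▸ (L.l_eq_zero g h1).mpr h)
  · obtain ⟨h1, h2⟩ := (hS g).mp hg
    refine (hS _).mpr ⟨mul_mem (mul_mem hv h1) (inv_mem hv), ?_⟩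
    have k := L.l_mul _ hv _ (inv_mem hv)
    rw [mul_inv_cancel, L.l_one] at k
    rw [L.l_mul _ (mul_mem hv h1) _ (inv_mem hv), L.l_mul _ hv _ h1, h2]
    linear_combination -k
  · rw [Finset.sum_image fun a _ b _ h => hF h, ← hk]
    exact H33.blockPart_principal_section hM (u := x) ⟨1, by rw [pow_one, o]⟩
      hpc ⟨1, by rw [hi, pow_one]⟩ hf

/-- a character that is a non-zero constant on the `p`-singular elements is in the block -/
theorem PB.mem_of_const (B : PB G p P e) {χ : IrrCharacter G} {z : ℂ} (hz : z ≠ 0)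
    (h : ∀ g, p ∣ orderOf g → (χ : G → ℂ) g = z) : χ ∈ B.X ∨ χ ∈ B.Y := by
  have h1 : p ∣ Nat.card (Subgroup.centralizer (P : Set G)) :=
    B.card ▸ Subgroup.card_dvd_of_le (le_Cen_of_card B.card)
  obtain ⟨c, hc⟩ := h1
  obtain ⟨x, S, M, -, s1, s2, -, s4, s5⟩ := B.sec hc
  by_contra k
  haveI := Fintype.ofFinite G
  have k1 := s5 _ (irr_cls χ)
  rw [H84.blockPart_irr_of_not_mem (fun h => k ((s4 χ).mp h)), Finset.sum_congr rfl
    fun g hg => h g (s2 g hg), Finset.sum_const, s1, nsmul_eq_mul] at k1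
  have c0 : c ≠ 0 := by rintro rfl; exact Nat.card_pos.ne' hc
  simp [c0, hz] at k1

/-- the number of products of conjugates of `a` and `b` in the section is a multiple of `|V|` -/
theorem PB.sec_dvd (B : PB G p P e) (he : 1 < e) {c : ℕ}
    (hc : Nat.card (Subgroup.centralizer (P : Set G)) = p * c) {a b : G}
    (ha : ¬ p ∣ orderOf a) (hb : ¬ p ∣ orderOf b) {V : Subgroup G}
    (hV : V ≤ Subgroup.centralizer (P : Set G))
    (hf : ∀ v ∈ V, ∀ a', IsConj a a' → v * a' = a' * v → v = 1) [DecidableEq (IrrCharacter G)] :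
    ∃ m : ℕ, (((p - 1) / e : ℕ) : ℂ) * (Nat.card V * m) *
      (Nat.card (Subgroup.centralizer ({a} : Set G)) *
        Nat.card (Subgroup.centralizer ({b} : Set G))) =
    c * (Nat.card G * ∑ χ ∈ B.X ∪ B.Y,
      wt p e (dg χ) * (conj ((χ : G → ℂ) a) * conj ((χ : G → ℂ) b) / dg χ)) := by
  classical
  haveI := Fintype.ofFinite G
  obtain ⟨x, S, M, o, -, -, s3, hB, s5⟩ := B.sec hc
  obtain ⟨θ, hθ⟩ := B.Y_nonempty
  have y1 : p ∣ orderOf x := o ▸ dvd_rfl
  have k1 := s5 _ (H31.isClassFunction_classCoeff a b)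
  let T := {q : G × G // IsConj a q.1 ∧ IsConj b q.2 ∧ q.1 * q.2 ∈ S}
  have k2 : ∑ g ∈ S, H31.classCoeff a b g = Nat.card T := by
    unfold H31.classCoeff
    rw [← Finset.sum_coe_sort, ← Nat.card_sigma]
    refine Nat.card_congr (Equiv.ofBijective
      (fun q => ⟨q.2.1, q.2.2.1, q.2.2.2.1, by rw [q.2.2.2.2]; exact q.1.2⟩) ⟨?_, ?_⟩)
    · rintro ⟨n, q, h⟩ ⟨n', q', h'⟩ e
      obtain rfl : q = q' := congrArg Subtype.val e
      obtain rfl : n = n' := Subtype.ext (h.2.2.symm.trans h'.2.2)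
      rfl
    · rintro ⟨q, h1, h2, h3⟩
      exact ⟨⟨⟨_, h3⟩, q, h1, h2, rfl⟩, rfl⟩
  letI : MulAction V T :=
    { smul := fun v q => ⟨((v : G) * q.1.1 * (v : G)⁻¹, (v : G) * q.1.2 * (v : G)⁻¹),
        q.2.1.trans (isConj_iff.mpr ⟨v, rfl⟩), q.2.2.1.trans (isConj_iff.mpr ⟨v, rfl⟩), by
          have := s3 _ (hV v.2) _ q.2.2.2
          simpa only [mul_assoc, inv_mul_cancel_left] using this⟩
      one_smul := fun q => Subtype.ext (Prod.ext (by simp [HSMul.hSMul]) (by simp [HSMul.hSMul]))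
      mul_smul := fun v w q => Subtype.ext (Prod.ext (by simp [HSMul.hSMul, mul_assoc])
        (by simp [HSMul.hSMul, mul_assoc])) }
  have k3 : ∀ q : T, MulAction.stabilizer V q = ⊥ := fun q => eq_bot_iff.mpr fun v h => by
    have k : (v : G) * q.1.1 * (v : G)⁻¹ = q.1.1 := congrArg (fun r : T => r.1.1) h
    exact Subtype.ext (hf _ v.2 _ q.2.1 (mul_inv_eq_iff_eq_mul.mp k))
  have k4 := Nat.card_congr (MulAction.selfEquivOrbitsQuotientProd k3)
  rw [Nat.card_prod] at k4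
  refine ⟨Nat.card (Quotient (MulAction.orbitRel V T)), ?_⟩
  have hF : ∀ θ' ∈ B.Y, conj ((θ' : G → ℂ) a) * conj ((θ' : G → ℂ) b) / dg θ' =
      conj ((θ : G → ℂ) a) * conj ((θ : G → ℂ) b) / dg θ := fun θ' h => by
    rw [B.regY _ h _ hθ a ha, B.regY _ h _ hθ b hb, B.dgY h hθ]
  rw [← Nat.cast_sum, k2, k4, H33.blockPart_classCoeff,
    show bset (principalBlock M G) = B.X ∪ B.Y by ext χ; rw [mem_bset, hB, Finset.mem_union],
    Finset.sum_union B.disj, Finset.sum_congr rfl fun χ h => by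
      rw [B.valX χ h _ y1, dg_cast, mul_comm, mul_div_assoc],
    Finset.sum_congr (s₁ := B.Y) rfl fun χ h => by
      rw [mul_div_right_comm, dg_cast, hF χ h], ← Finset.mul_sum, B.sumY x y1] at k1
  rw [B.sum_wt he (θ := θ) _ hF]
  have i1 := congrArg (Nat.cast : ℕ → ℂ) (Subgroup.centralizer ({a} : Set G)).index_mul_card
  have i2 := congrArg (Nat.cast : ℕ → ℂ) (Subgroup.centralizer ({b} : Set G)).index_mul_card
  have g0 : (Nat.card G : ℂ) ≠ 0 := H6.card_ne_zero
  push_cast at k1 i1 i2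
  rw [div_mul_eq_mul_div, ← mul_div_assoc, div_eq_iff g0] at k1
  apply mul_left_cancel₀ g0
  generalize (Nat.card G : ℂ) = N at *
  generalize ∑ χ ∈ B.X, (B.ε χ : ℂ) * (conj ((χ : G → ℂ) a) * conj ((χ : G → ℂ) b) / dg χ) = Q at *
  generalize conj ((θ : G → ℂ) a) * conj ((θ : G → ℂ) b) / dg θ = R at *
  generalize (Nat.card (Subgroup.centralizer ({a} : Set G)) : ℂ) = C1 at *
  generalize (Nat.card (Subgroup.centralizer ({b} : Set G)) : ℂ) = C2 at *
  generalize ((Subgroup.centralizer ({a} : Set G)).index : ℂ) = I1 at *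
  generalize ((Subgroup.centralizer ({b} : Set G)).index : ℂ) = I2 at *
  linear_combination (((p - 1) / e : ℕ) : ℂ) * (-C1 * C2 * k1 +
    c * (Q - B.δ * R) * (I2 * C2 * i1 + N * i2))

end H17.Ord
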