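import Mathlib
import Cfsg.Agent.Base
import Cfsg.Agent.Lib.Ord.M24E
import Cfsg.Agent.Lib.Ord.M24Hb
import Cfsg.Agent.Lib.Ord.M24Hc
import Cfsg.Agent.Lib.Ord.Sec

/-! The primes 5 and 7 in a simple group of order 244823040. -/

set_option autoImplicit false
set_option linter.unusedSectionVars false
set_option linter.style.haveILetI false

open Cfsg H4.Sv Subgroup
open scoped ComplexConjugate

namespace H17.Ord.M24.B57
variable {G : Type*} [Group G] [Finite G]

theorem fact5 : Fact (Nat.Prime 5) := ⟨by norm_num⟩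

attribute [local instance] fact5 E11.fact7

theorem exists_t {Q : Subgroup G} (A : PB G 11 Q 10) (hA : centralizer (Q : Set G) = Q) :
    ∃ t : G, orderOf t = 2 ∧ 10 ∣ Nat.card (centralizer ({t} : Set G)) ∧
      Nat.card (centralizer ({t} : Set G)) * Nat.card (centralizer ({t} : Set G)) ≤ Nat.card G := by
  obtain ⟨x, hx, o⟩ := A.exists_sing
  have x1 : x ≠ 1 := by rintro rfl; simp at o
  have hQ := H84.eq_zpowers_of_card A.card hx x1
  have he := A.he
  have ne : ∀ {i j : ℕ}, ¬ i ≡ j [MOD 11] → x ^ i ≠ x ^ j := fun h k =>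
    h (o ▸ pow_eq_pow_iff_modEq.mp k)
  have eq : ∀ {i j : ℕ}, i ≡ j [MOD 11] → x ^ i = x ^ j := fun h =>
    pow_eq_pow_iff_modEq.mpr (o ▸ h)
  rw [hQ] at he
  obtain ⟨n, -, hn⟩ := exists_conj_of_relIndex (p := 11) (by norm_num) o he (v := x ^ 2)
    (pow_mem (mem_zpowers x) 2) (by simpa using ne (i := 2) (j := 0) (by decide))
  have h1 : ∀ k : ℕ, n ^ k * x * (n ^ k)⁻¹ = x ^ 2 ^ k := fun k => by
    induction k with
    | zero => simp
    | succ k ih =>
      rw [pow_succ 2, pow_mul, ← ih, conj_pow, ← hn, pow_succ n]; group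
  have hc : ∀ k : G, k * x = x * k → k ∈ Q := fun k hk => by
    rw [← hA, hQ]
    rintro _ ⟨j, rfl⟩
    exact ((Commute.symm hk).zpow_left j).eq
  have h2 : n ^ 110 = 1 := by
    have := hc (n ^ 10) (mul_inv_eq_iff_eq_mul.mp ((h1 10).trans
      ((eq (j := 1) (by decide)).trans (pow_one x))))
    rw [show 110 = 10 * 11 from rfl, pow_mul, ← A.card]
    exact orderOf_dvd_iff_pow_eq_one.mp (Q.orderOf_dvd_natCard this)
  have h3 : ∀ k : ℕ, ¬ 2 ^ k ≡ 1 [MOD 11] → n ^ k ≠ 1 := fun k hk h => ne hk (by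
    rw [← h1, h]; simp)
  have t2 : orderOf (n ^ 55) = 2 :=
    orderOf_eq_prime (by rw [← pow_mul, h2]) (h3 _ (by decide))
  have w5 : orderOf (n ^ 22) = 5 :=
    orderOf_eq_prime (by rw [← pow_mul, h2]) (h3 _ (by decide))
  have inv : n ^ 55 * x * (n ^ 55)⁻¹ = x ^ 10 := (h1 55).trans (eq (by decide))
  refine ⟨n ^ 55, t2, Nat.Coprime.mul_dvd_of_dvd_of_dvd (m := 2) (n := 5) (by norm_num)
    (t2 ▸ orderOf_dvd_cent _) (w5 ▸ Subgroup.orderOf_dvd_natCard _
      (mem_centralizer_singleton_iff.mpr (by rw [← pow_add, ← pow_add]))), ?_⟩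
  generalize n ^ 55 = t at *
  have inj : Function.Injective fun k : G =>
      ((k : G ⧸ centralizer ({t} : Set G)), ((k * x : G) : G ⧸ centralizer ({t} : Set G))) := by
    intro a b h
    have k1 := mem_centralizer_singleton_iff.mp (QuotientGroup.eq.mp (congrArg Prod.fst h))
    have k2 := mem_centralizer_singleton_iff.mp (QuotientGroup.eq.mp (congrArg Prod.snd h))
    rw [← inv_mul_eq_one]
    rw [show (a * x)⁻¹ * (b * x) = x⁻¹ * (a⁻¹ * b) * x by group] at k2
    generalize a⁻¹ * b = k at *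
    have k3 : x * t * x⁻¹ = x ^ 2 * t := by
      have : x⁻¹ = x ^ 10 := by
        rw [inv_eq_iff_mul_eq_one, ← pow_succ', eq (j := 0) (by decide), pow_zero]
      have k4 : t * x⁻¹ * t⁻¹ = x := by
        rw [show t * x⁻¹ * t⁻¹ = (t * x * t⁻¹)⁻¹ by group, inv, ← this, inv_inv]
      calc x * t * x⁻¹ = x * (t * x⁻¹ * t⁻¹) * t := by group
        _ = x ^ 2 * t := by rw [k4, sq]
    have k5 : Commute k (x ^ 2) := by
      have k6 : k * (x * t * x⁻¹) = (x * t * x⁻¹) * k := by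
        calc k * (x * t * x⁻¹) = x * (x⁻¹ * k * x * t) * x⁻¹ := by group
          _ = (x * t * x⁻¹) * k := by rw [k2]; group
      rw [k3, mul_assoc, ← k1, ← mul_assoc, ← mul_assoc] at k6
      exact mul_right_cancel k6
    have k7 : k ∈ zpowers x := hQ ▸ hc k (by
      have := (k5.pow_right 6).eq
      rwa [← pow_mul, eq (j := 1) (by decide), pow_one] at this)
    obtain ⟨j, rfl⟩ := (mem_powers_iff_mem_zpowers.mpr k7)
    simp only at k1 ⊢
    have k8 : x ^ (10 * j) = x ^ j := by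
      rw [pow_mul, ← inv, conj_pow, ← k1, mul_inv_cancel_right]
    have k9 : 10 * j ≡ j [MOD 11] := o ▸ pow_eq_pow_iff_modEq.mp k8
    rw [eq (j := 0) (by unfold Nat.ModEq at k9 ⊢; omega), pow_zero]
  have k1 := Nat.card_le_card_of_injective _ inj
  rw [Nat.card_prod, ← index_eq_card] at k1
  have k2 := (centralizer ({t} : Set G)).index_mul_card
  have k3 : 0 < Nat.card G := Nat.card_pos
  generalize (centralizer ({t} : Set G)).index = I at *
  generalize Nat.card (centralizer ({t} : Set G)) = C at *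
  generalize Nat.card G = N at *
  subst k2
  refine Nat.le_of_mul_le_mul_left ?_ k3
  nlinarith [Nat.mul_le_mul_right (C * C) k1]

theorem look_eq (v : IrrCharacter G → ℤ) {χ : IrrCharacter G} : ∀ {L : List (IrrCharacter G)},
    χ ∈ L → (∀ ψ ∈ L, dg ψ = dg χ → ψ = χ) → look (dg χ) (L.map (pr v)) = v χ
  | a :: L, h, k => by
    by_cases e : dg a = dg χ
    · obtain rfl := k a List.mem_cons_self e
      simp [look, pr]
    · have := look_eq v ((List.mem_cons.mp h).resolve_left fun h => e (h ▸ rfl))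
        fun ψ h => k ψ (List.mem_cons_of_mem _ h)
      rw [← this]
      simp only [look, pr, List.map_cons, List.lookup_cons]
      rw [show (dg χ == dg a) = false from beq_false_of_ne (Ne.symm e)]

variable [IsSimpleGroup G] (hG : Nat.card G = 244823040)
include hG

theorem bil_eq {R : Subgroup G} {c : ℕ} (D : PB G 5 R 4)
    (hc : Nat.card (centralizer (R : Set G)) = 5 * c) {s s' : G} (hs : orderOf s = 2)
    (hs' : orderOf s' = 2) {u v : IrrCharacter G → ℤ} (hu : ∀ χ : IrrCharacter G, (χ : G → ℂ) s = u χ)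
    (hv : ∀ χ : IrrCharacter G, (χ : G → ℂ) s' = v χ) {L L' : List (IrrCharacter G)} (hn : L.Nodup)
    (hL : ∀ χ, χ ∈ L ↔ (χ ∈ D.X ∨ χ ∈ D.Y) ∧ χ ≠ triv G)
    (hL' : ∀ χ, χ ∈ L' ↔ (χ ∈ D.X ∨ χ ∈ D.Y) ∧ χ ≠ triv G)
    (inj : ∀ χ ∈ L, ∀ ψ ∈ L, dg ψ = dg χ → ψ = χ) :
    ((nInv R s * Nat.card (centralizer ({s} : Set G)) : ℕ) : ℤ) *
      (nInv R s' * Nat.card (centralizer ({s'} : Set G)) : ℕ) =
      5 * c * bil (L.map (pr u)) (L'.map (pr v)) := by
  classical
  have k := D.pair_sq (by norm_num) hc hs hs'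
  have e : D.X ∪ D.Y = (triv G :: L).toFinset := by
    ext χ
    rw [Finset.mem_union, List.mem_toFinset, List.mem_cons, hL]
    by_cases h : χ = triv G
    · simp [h, D.one_mem]
    · simp [h]
  rw [e, List.sum_toFinset _ (List.nodup_cons.mpr ⟨fun h => ((hL _).mp h).2 rfl, hn⟩),
    List.map_cons, List.sum_cons, triv_apply, triv_apply, dg_triv, mul_add, ← List.sum_map_mul_left,
    List.map_congr_left (g := fun χ => ((wt 5 4 (dg χ) * (u χ * look (dg χ) (L'.map (pr v)) *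
      (244823040 / dg χ : ℕ)) : ℤ) : ℂ)) fun χ h => by
        rw [look_eq v ((hL' χ).mpr ((hL χ).mp h)) fun ψ k => inj χ h ψ ((hL ψ).mpr ((hL' ψ).mp k)),
          hu, hv, Int.cast_mul, Int.cast_mul, Int.cast_mul, Int.cast_natCast,
          Nat.cast_div (hG ▸ dg_dvd χ) (by exact_mod_cast (dg_pos χ).ne'), hG]
        push_cast
        ring, hG, show wt 5 4 1 = 1 by decide] at k
  have k2 : ((bil (L.map (pr u)) (L'.map (pr v)) : ℤ) : ℂ) = 244823040 + (L.map fun χ =>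
      ((wt 5 4 (dg χ) * (u χ * look (dg χ) (L'.map (pr v)) * (244823040 / dg χ : ℕ)) : ℤ) : ℂ)).sum := by
    rw [bil, Int.cast_add, Int.cast_list_sum, List.map_map, List.map_map]; rfl
  have : (((nInv R s * Nat.card (centralizer ({s} : Set G)) : ℕ) : ℤ) *
      (nInv R s' * Nat.card (centralizer ({s'} : Set G)) : ℕ) : ℂ) =
      ((5 * c * bil (L.map (pr u)) (L'.map (pr v)) : ℤ) : ℂ) := by
    rw [Int.cast_mul, k2]
    push_cast at k ⊢
    linear_combination k
  exact_mod_cast this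

variable {P : Subgroup G} (B : PB G 23 P 11) (hC : centralizer (P : Set G) = P)
  {Q : Subgroup G} (A : PB G 11 Q 10) (hA : centralizer (Q : Set G) = Q)
include B hC A hA

theorem g_of (χ : IrrCharacter G) : g (dg χ) = true := by
  have := A.res hA χ
  rw [g, E11.f23_of hG B hC, Bool.true_and, List.contains_iff_mem]
  simp only [List.mem_cons, List.not_mem_nil, or_false] at this ⊢
  omega

theorem cent_dvd {s : G} (hs : orderOf s = 2) : Nat.card (centralizer ({s} : Set G)) ∣ 967680 :=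
  ((Nat.Prime.coprime_iff_not_dvd (by norm_num)).mpr
    (A.not_dvd_cent hA hs Nat.prime_two (by norm_num))).symm.dvd_of_dvd_mul_left
      (E11.cent_dvd hG B hC hs)

theorem not_K5 {R : Subgroup G} {c : ℕ} (D : PB G 5 R 4)
    (hc : Nat.card (centralizer (R : Set G)) = 5 * c) [DecidableEq (IrrCharacter G)] {o : List ℕ}
    (k : ∀ d, d ≠ 1 → cnt (D.X ∪ D.Y) d = o.count d) (h : K5 c o = true) : False := by
  have hna := E11.hna hG
  simp only [K5, Bool.and_eq_true, decide_eq_true_eq, List.all_eq_true, Bool.or_eq_true,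
    bne_iff_ne, Nat.blt_eq] at h
  obtain ⟨h1, h2, h3⟩ := h
  obtain ⟨t, ht, t1, t2⟩ := exists_t A hA
  obtain ⟨s, hs, j, hj⟩ := exists_two_central (G := G) (k := 10) (by norm_num)
    (by rw [hG]; norm_num)
  have j1 := cent_dvd hG B hC A hA hs
  rw [hj, show 967680 = 2 ^ 10 * 945 by norm_num, Nat.mul_dvd_mul_iff_left (by norm_num)] at j1
  obtain ⟨u, hu, -⟩ := exists_invol_col hna ht
  obtain ⟨v, hv, -⟩ := exists_invol_col hna hs
  obtain ⟨L, l1, l2, l3⟩ := D.mem_fl hna hG (by decide) (by norm_num) hc k h1 ht rfl hu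
  obtain ⟨L', m1, m2, m3⟩ := D.mem_fl hna hG (by decide) (by norm_num) hc k h1 hs hj hv
  have inj : ∀ χ, (χ ∈ D.X ∨ χ ∈ D.Y) ∧ χ ≠ triv G → ∀ ψ, (ψ ∈ D.X ∨ ψ ∈ D.Y) ∧ ψ ≠ triv G →
      dg ψ = dg χ → ψ = χ := fun χ a ψ b e => by
    have := k (dg χ) fun h => a.2 (eq_triv_of_dg hna h)
    exact Finset.card_le_one.mp (this.le.trans (List.nodup_iff_count_le_one.mp h2 _)) ψ
      (Finset.mem_filter.mpr ⟨Finset.mem_union.mpr b.1, e⟩) χ
      (Finset.mem_filter.mpr ⟨Finset.mem_union.mpr a.1, rfl⟩)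
  have e1 := bil_eq hG D hc ht hs hu hv l1 l2 m2 fun χ a ψ b => inj χ ((l2 χ).mp a) ψ ((l2 ψ).mp b)
  have e2 := bil_eq hG D hc ht ht hu hu l1 l2 l2 fun χ a ψ b => inj χ ((l2 χ).mp a) ψ ((l2 ψ).mp b)
  have e3 := bil_eq hG D hc hs hs hv hv m1 m2 m2 fun χ a ψ b => inj χ ((m2 χ).mp a) ψ ((m2 ψ).mp b)
  have c0 : (5 * c : ℤ) ≠ 0 := by
    have : 0 < 5 * c := hc ▸ Nat.card_pos
    omega
  refine ((h3 _ (mem_divs (by norm_num) (cent_dvd hG B hC A hA ht))).resolve_left
    (by rw [hG] at t2; omega)) _ l3 j (mem_divs (by norm_num) j1) _ m3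
    (mul_left_cancel₀ (mul_ne_zero c0 c0) ?_)
  rw [sq, mul_mul_mul_comm, ← e1, mul_mul_mul_comm _ _ (bil _ _), ← e2, ← e3]
  ring

theorem five : ∃ R : Subgroup G, Nonempty (PB G 5 R 4) ∧
    (Nat.card (centralizer (R : Set G)) = 5 * 192 ∨ Nat.card (centralizer (R : Set G)) = 5 * 12) := by
  classical
  obtain ⟨R, e, c, hc, ⟨D⟩⟩ := exists_PB (E11.hna hG) 5 (m := 48964608) hG (by norm_num)
  obtain ⟨he, k⟩ := D.opts (E11.hna hG) hG hc c5
  have k1 := B.not_dvd_cen hC (by norm_num) D.card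
  have k2 := A.not_dvd_cen hA (by norm_num) D.card
  simp only [Bool.or_eq_true, Bool.and_eq_true, beq_iff_eq] at k
  rcases k with ((k | k) | ⟨rfl, rfl | rfl⟩) | k
  · omega
  · omega
  · exact ⟨R, ⟨D⟩, Or.inl hc⟩
  · exact ⟨R, ⟨D⟩, Or.inr hc⟩
  · obtain ⟨o, h, -, k3⟩ := D.sieveF (E11.hna hG) (by norm_num) hG hc
      (fun χ _ _ => g_of hG B hC A hA χ) k
    rw [Bool.and_eq_true, beq_iff_eq] at h
    obtain ⟨rfl, h⟩ := h
    exact (not_K5 hG B hC A hA D hc k3 h).elim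

variable {R : Subgroup G} (D : PB G 5 R 4) (hc : Nat.card (centralizer (R : Set G)) = 5 * 12)
include D hc

theorem cnt5 [DecidableEq (IrrCharacter G)] (d : ℕ) (hd : d ≠ 1) :
    cnt (D.X ∪ D.Y) d = o5.count d := by
  obtain ⟨o, h, -, k⟩ := D.sieveF (E11.hna hG) (by norm_num) hG hc
    (fun χ _ _ => g_of hG B hC A hA χ) c12
  rw [Bool.or_eq_true, List.isPerm_iff] at h
  rw [k d hd, (h.resolve_right (not_K5 hG B hC A hA D hc k)).count_eq]

omit B hC A hA [IsSimpleGroup G] hG in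
theorem reg5 {y : G} (hy : 7 ∣ orderOf y) : ¬ 5 ∣ orderOf y := fun h => by
  have := hy.trans ((orderOf_dvd_cent y).trans (card_cent_dvd D.card D.ind h))
  omega

/-- the character of degree 2024 and the sums over the principal `5`-block -/
theorem exists2024 [DecidableEq (IrrCharacter G)] : ∃ χ, (χ ∈ D.X ∨ χ ∈ D.Y) ∧ dg χ = 2024 ∧
    (∀ y, 7 ∣ orderOf y → (χ : G → ℂ) y = 1) ∧ ∀ y b, 7 ∣ orderOf y → ∑ ψ ∈ D.X ∪ D.Y,
      wt 5 4 (dg ψ) * (conj ((ψ : G → ℂ) y) * conj ((ψ : G → ℂ) b) / dg ψ) =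
        1 - conj ((χ : G → ℂ) b) / 2024 := by
  obtain ⟨L, l1, -, l3, l4⟩ := D.enum_blk (E11.hna hG) (o := o5) (by decide)
    (cnt5 hG B hC A hA D hc)
  simp only [o5, List.map_eq_cons_iff, List.map_eq_nil_iff] at l1
  obtain ⟨a, _, rfl, a1, b, _, rfl, b1, χ, _, rfl, c1, d, _, rfl, d1, e, _, rfl, e1, rfl⟩ := l1
  obtain rfl := eq_triv_of_dg (E11.hna hG) a1
  have v : ∀ {ψ : IrrCharacter G} {y : G}, 7 ∣ dg ψ → 7 ∣ orderOf y → (ψ : G → ℂ) y = 0 :=
    fun h k => van_of_dvd (by norm_num) (by rw [hG]; norm_num) h k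
  have v1 := fun y => v (ψ := b) (y := y) (by rw [b1]; norm_num)
  have v2 := fun y => v (ψ := d) (y := y) (by rw [d1]; norm_num)
  have v3 := fun y => v (ψ := e) (y := y) (by rw [e1]; norm_num)
  have w1 : wt 5 4 1 = 1 := by decide
  have w2 : wt 5 4 2024 = -1 := by decide
  have k : ∀ y, 7 ∣ orderOf y → (χ : G → ℂ) y = 1 := fun y hy => by
    have := D.rel_blk (by norm_num) (reg5 D hc hy)
    rw [l4] at this
    simp only [List.map_cons, List.sum_cons, List.map_nil, List.sum_nil, v1 y hy, v2 y hy,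
      v3 y hy, a1, c1, w1, w2, triv_apply] at this
    push_cast at this
    linear_combination -this
  refine ⟨χ, (l3 χ).mp (by simp), c1, k, fun y g hy => ?_⟩
  rw [l4]
  simp only [List.map_cons, List.sum_cons, List.map_nil, List.sum_nil, v1 y hy, v2 y hy,
    v3 y hy, a1, c1, w1, w2, triv_apply, k y hy, map_zero,
    map_one]
  push_cast
  ring

variable {S : Subgroup G} {e c : ℕ} (E : PB G 7 S e)
  (hc7 : Nat.card (centralizer (S : Set G)) = 7 * c)
include E hc7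

/-- products of an element of order `7` and an element `b` in the section of an element of
order `5` -/
theorem count7 {V : Subgroup G} (hV : V ≤ centralizer (R : Set G))
    (hf : ∀ v ∈ V, ∀ y, orderOf y = 7 → v * y = y * v → v = 1) : ∃ χ, (χ ∈ D.X ∨ χ ∈ D.Y) ∧
      (χ ∈ E.X ∨ χ ∈ E.Y) ∧ dg χ = 2024 ∧ Nat.card V * (c * c) ∣ 59927040 ∧
      ∀ (b : G) (z : ℤ), ¬ 5 ∣ orderOf b → (χ : G → ℂ) b = z →
        ((Nat.card V * (c * Nat.card (centralizer ({b} : Set G))) : ℕ) : ℤ) ∣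
          207360 * (2024 - z) := by
  classical
  obtain ⟨χ, c1, c2, c3, c4⟩ := exists2024 hG B hC A hA D hc
  obtain ⟨y, hy, o⟩ := E.exists_sing
  have y1 : y ≠ 1 := by rintro rfl; simp at o
  have cy : Nat.card (centralizer ({y} : Set G)) = 7 * c := by
    rw [← hc7, show centralizer (S : Set G) = centralizer {y} from
      (H84.isCen_of_card E.card hy y1).eq]
  have k : ∀ (b : G) (z : ℤ), ¬ 5 ∣ orderOf b → (χ : G → ℂ) b = z →
      ((Nat.card V * (c * Nat.card (centralizer ({b} : Set G))) : ℕ) : ℤ) ∣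
        207360 * (2024 - z) := fun b z hb hz => by
    obtain ⟨m, hm⟩ := D.sec_dvd (by norm_num) hc (a := y) (by rw [o]; norm_num) hb hV
      fun v hv y' h => hf v hv y' (o ▸ (isConj_iff.mp h).elim fun g k => by
        rw [← k, ← MulAut.conj_apply, MulEquiv.orderOf_eq])
    rw [c4 y b o.symm.dvd, hz, map_intCast, cy, hG] at hm
    refine ⟨m, ?_⟩
    have : ((207360 * (2024 - z) : ℤ) : ℂ) =
        ((Nat.card V * (c * Nat.card (centralizer ({b} : Set G))) : ℕ) : ℤ) * m := by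
      push_cast at hm ⊢
      linear_combination (-1 / 7 : ℂ) * hm
    exact_mod_cast this
  refine ⟨χ, c1, E.mem_of_const one_ne_zero c3, c2, ?_, k⟩
  obtain ⟨m, hm⟩ := k y 1 (by rw [o]; norm_num) (by rw [c3 y o.symm.dvd, Int.cast_one])
  rw [cy] at hm
  refine Int.natCast_dvd_natCast.mp ⟨m, ?_⟩
  push_cast at hm ⊢
  linarith

omit E hc7 in
theorem not70 [DecidableEq (IrrCharacter G)] (E : PB G 7 S 3)
    (hc7 : Nat.card (centralizer (S : Set G)) = 7 * 48)
    (k7 : ∀ d, d ≠ 1 → cnt (E.X ∪ E.Y) d = o7.count d) {χ : IrrCharacter G}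
    (c1 : χ ∈ D.X ∨ χ ∈ D.Y) (c2 : χ ∈ E.X ∨ χ ∈ E.Y) (c3 : dg χ = 2024) {s : G}
    (hs : orderOf s = 2) : ¬ 70 ∣ Nat.card (centralizer ({s} : Set G)) := fun h => by
  have hna := E11.hna hG
  obtain ⟨u, hu, -⟩ := exists_invol_col hna hs
  obtain ⟨L, l1, l2, l3⟩ := D.mem_fl hna hG (by decide) (by norm_num) hc (cnt5 hG B hC A hA D hc)
    (by decide) hs rfl hu
  obtain ⟨L', m1, m2, m3⟩ := E.mem_fl hna hG (by decide) (by norm_num) hc7 k7 (by decide) hs rfl hu
  have k := List.all_eq_true.mp c70 _ (mem_divs (by norm_num) (cent_dvd hG B hC A hA hs))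
  rw [Nat.mod_eq_zero_of_dvd h, bne_self_eq_false, Bool.false_or] at k
  have k1 := List.all_eq_true.mp (List.all_eq_true.mp k _ l3) _ m3
  rw [subm_of u m1 fun ψ a b => ?_, Bool.not_true, Bool.false_or, decide_eq_true_eq] at k1
  · exact k1.not_ge (nrm_le₂ hu l1 (fun h => ((l2 _).mp h).2 rfl) m1 (fun h => ((m2 _).mp h).2 rfl)
      fun ψ a => ((l2 ψ).mp a).1.elim D.not_dvd_X D.not_dvd_Y)
  · obtain ⟨a1, a2⟩ := (m2 ψ).mp a
    have k2 : dg ψ ∈ o7 := List.count_pos_iff.mp (k7 _ (fun h => a2 (eq_triv_of_dg hna h)) ▸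
      cnt_pos.mpr ⟨ψ, Finset.mem_union.mpr a1, rfl⟩)
    simp only [o7, List.mem_cons, List.not_mem_nil, or_false] at k2
    obtain ⟨φ, -, -, k3⟩ := cnt_eq_one (k7 2024 (by norm_num))
    obtain rfl : ψ = χ := (k3 ψ (Finset.mem_union.mpr a1) (by omega)).trans
      (k3 χ (Finset.mem_union.mpr c2) c3).symm
    exact (l2 ψ).mpr ⟨c1, a2⟩

theorem seven : (e = 6 ∧ (c = 3 ∨ c = 24)) ∨ (e = 3 ∧ c = 6) := by
  classical
  obtain ⟨χ, c1, c2, c3, c4, -⟩ := count7 hG B hC A hA D hc E hc7 (V := ⊥) bot_le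
    fun v hv _ _ _ => hv
  rw [card_bot, one_mul] at c4
  have k0 := (E.opts (E11.hna hG) hG hc7 c76).2
  obtain ⟨he, k⟩ := E.opts (E11.hna hG) hG hc7 c7
  simp only [Nat.mod_eq_zero_of_dvd c4, Bool.or_eq_true, Bool.and_eq_true, beq_iff_eq, bne_iff_ne,
    ne_eq, not_true, false_or] at k k0
  rcases k with (k | k) | k
  · exact Or.inl ⟨k, by omega⟩
  · exact Or.inr k
  obtain ⟨o, h, -, k7⟩ := E.sieveF (E11.hna hG) (by norm_num) hG hc7
    (fun χ _ _ => g_of hG B hC A hA χ) k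
  rw [List.contains_iff_mem.mpr (List.count_pos_iff.mp (k7 2024 (by norm_num) ▸
    cnt_pos.mpr ⟨χ, Finset.mem_union.mpr c2, c3⟩))] at h
  simp only [Bool.not_true, Bool.false_or, Bool.and_eq_true, beq_iff_eq, List.isPerm_iff] at h
  obtain ⟨⟨rfl, rfl⟩, h⟩ := h
  obtain ⟨U, hU⟩ := Sylow.exists_subgroup_card_pow_prime 2 (G := centralizer (R : Set G)) (n := 2)
    (by rw [hc]; norm_num)
  have hV : Nat.card (U.map (centralizer (R : Set G)).subtype) = 2 ^ 2 := by
    rw [card_map_of_injective (subtype_injective _), hU]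
  have hR := map_subtype_le U
  generalize U.map (centralizer (R : Set G)).subtype = V at hV hR
  obtain ⟨-, -, -, -, k, -⟩ := count7 hG B hC A hA D hc E hc7 hR fun v hv y y1 y2 => by
    by_contra v1
    obtain ⟨j, -, hj⟩ := (Nat.dvd_prime_pow Nat.prime_two).mp (hV ▸ V.orderOf_dvd_natCard hv)
    obtain ⟨j, rfl⟩ := Nat.exists_eq_succ_of_ne_zero (n := j) fun h => v1 (by simpa [h] using hj)
    have hs : orderOf (v ^ 2 ^ j) = 2 := by
      rw [orderOf_pow' _ (by positivity), hj, Nat.gcd_eq_right (pow_dvd_pow _ j.le_succ), pow_succ',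
        Nat.mul_div_cancel _ (by positivity)]
    refine not70 hG B hC A hA D hc E hc7 (fun d hd => (k7 d hd).trans (h.count_eq d).symm) c1 c2 c3 hs
      (Nat.Coprime.mul_dvd_of_dvd_of_dvd (m := 10) (n := 7) (by norm_num)
        (Nat.Coprime.mul_dvd_of_dvd_of_dvd (m := 2) (n := 5) (by norm_num)
          (hs.symm.dvd.trans (orderOf_dvd_cent _)) (D.card ▸ card_dvd_of_le fun x hx => ?_))
        (y1 ▸ Subgroup.orderOf_dvd_natCard _ (mem_centralizer_singleton_iff.mpr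
          ((Commute.symm y2).pow_right _).eq)))
    exact mem_centralizer_singleton_iff.mpr (hR (pow_mem hv _) x hx)
  rw [hV] at k
  norm_num at k

end H17.Ord.M24.B57
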