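import Mathlib
import Cfsg.Agent.Base
import Cfsg.Agent.Lib.Ord.M24H
import Cfsg.Agent.Lib.Ord.NB

/-! A simple group of order 244823040 has no rational element of order 7 with centraliser of
order 21. -/

set_option autoImplicit false
set_option linter.unusedSectionVars false
set_option linter.style.haveILetI false

open Cfsg H4.Sv Subgroup

namespace H17.Ord.M24.B57

def g3 (d : ℕ) : Bool := g d && (d % 7 == 0 || (d % 7 != 3 && d % 7 != 4 && d % 27 != 0))

theorem c63 : feasF 244823040 23 11 1 g3 (fun _ => false) = true := by decide +kernel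

variable {G : Type*} [Group G] [Finite G] [IsSimpleGroup G]

attribute [local instance] fact5 E11.fact7

theorem not63 (hG : Nat.card G = 244823040) {P : Subgroup G} (B : PB G 23 P 11)
    (hC : centralizer (P : Set G) = P) {Q : Subgroup G} (A : PB G 11 Q 10)
    (hA : centralizer (Q : Set G) = Q) {S : Subgroup G} (E : PB G 7 S 6)
    (hc : Nat.card (centralizer (S : Set G)) = 7 * 3) : False := by
  classical
  obtain ⟨L, l1, l2, -, -⟩ := E.blocks hc
  have hm : (H86.Cen S).index = 11658240 := by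
    have := (H86.Cen S).index_mul_card
    rw [show Nat.card (H86.Cen S) = 7 * 3 from hc, hG] at this
    omega
  obtain ⟨x, hx, o⟩ := E.exists_sing
  have key : ∀ χ : IrrCharacter G, ¬ 7 ∣ dg χ →
      dg χ % 7 ≠ 3 ∧ dg χ % 7 ≠ 4 ∧ ¬ 27 ∣ dg χ := fun χ h => by
    by_cases k : χ ∈ E.X ∪ E.Y
    · obtain ⟨Z, s, -, -, z1, z2, z3, -⟩ := E.full rfl
      have k1 := (z1 χ).mpr (Finset.mem_union.mp k)
      have k2 := dvd_central χ (z3 χ k1 x o.symm.dvd)
      rw [cent_eq_Cen E.card hx (by rintro rfl; simp at o), hm] at k2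
      refine ⟨by rcases z2 χ k1 with a | a <;> omega, by rcases z2 χ k1 with a | a <;> omega,
        fun a => ?_⟩
      have := (Int.natCast_dvd_natCast.mpr a).trans k2
      rcases z2 χ k1 with a | a <;> rw [a.1] at this <;> norm_num at this
    · obtain ⟨D, d1, d2⟩ := l2 χ h k
      have k1 := Multiset.single_le_sum (s := L.map fun D => D.k * D.θ ^ 2)
        (fun _ _ => Nat.zero_le _) _ (Multiset.mem_map_of_mem _ d1)
      have k0 : D.k ≠ 0 := fun a => by have := D.fk; simp [a] at this
      have k2 : D.θ = 1 := by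
        rcases (Nat.dvd_prime Nat.prime_three).mp D.θ_dvd with a | a
        · exact a
        · rw [a] at k1; omega
      have k3 : dg χ ∣ 11658240 * (D.k * D.θ) :=
        (D.dvd χ (Finset.mem_union.mp d2)).trans (Nat.mul_dvd_mul_right hm.dvd _)
      rw [k2] at k1 k3
      have k4 : ¬ 27 ∣ dg χ := fun a => by
        have := a.trans k3
        omega
      rcases Finset.mem_union.mp d2 with a | a
      · have := D.degX χ a
        rw [k2, Int.ModEq] at this
        rcases D.sgn χ a with b | b <;> rw [b] at this <;> omega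
      · have := D.degY χ a
        rw [k2, Int.ModEq] at this
        rcases D.dsgn with b | b <;> rw [b] at this <;> omega
  have hf : ∀ χ : IrrCharacter G, g3 (dg χ) = true := fun χ => by
    rw [g3, g_of hG B hC A hA, Bool.true_and]
    simp only [Bool.or_eq_true, Bool.and_eq_true, beq_iff_eq, bne_iff_ne]
    by_cases h : 7 ∣ dg χ
    · exact Or.inl (by omega)
    · have := key χ h
      exact Or.inr (by omega)
  obtain ⟨o, h, -⟩ := B.sieveF (c := 1) (E11.hna hG) (by norm_num) hG (by rw [hC, B.card])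
    (fun χ _ _ => hf χ) c63
  exact Bool.false_ne_true h

theorem cen57_of (hG : Nat.card G = 244823040) {P : Subgroup G} (B : PB G 23 P 11)
    (hC : centralizer (P : Set G) = P) {Q : Subgroup G} (A : PB G 11 Q 10)
    (hA : centralizer (Q : Set G) = Q)
    (h5 : ∀ {R : Subgroup G}, PB G 5 R 4 → Nat.card (centralizer (R : Set G)) = 5 * 192 → False)
    (h7 : ∀ {R : Subgroup G}, PB G 5 R 4 → Nat.card (centralizer (R : Set G)) = 5 * 12 →
      ∀ {S : Subgroup G}, PB G 7 S 6 → Nat.card (centralizer (S : Set G)) = 7 * 24 → False) :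
    (∃ R : Subgroup G, Nonempty (PB G 5 R 4) ∧ Nat.card (centralizer (R : Set G)) = 5 * 12) ∧
      ∃ R : Subgroup G, Nonempty (PB G 7 R 3) ∧ Nat.card (centralizer (R : Set G)) = 7 * 6 := by
  obtain ⟨R, ⟨D⟩, hc⟩ := five hG B hC A hA
  replace hc := hc.resolve_left (h5 D)
  obtain ⟨S, e, c, hc7, ⟨E⟩⟩ := exists_PB (E11.hna hG) 7 (m := 34974720) hG (by norm_num)
  rcases seven hG B hC A hA D hc E hc7 with ⟨rfl, rfl | rfl⟩ | ⟨rfl, rfl⟩
  · exact (not63 hG B hC A hA E hc7).elim
  · exact (h7 D hc E hc7).elim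
  · exact ⟨⟨R, ⟨D⟩, hc⟩, S, ⟨E⟩, hc7⟩

end H17.Ord.M24.B57
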