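import Mathlib
import Cfsg.Agent.Base
import Cfsg.Agent.Lib.Ord.M24Ha
import Cfsg.Agent.Lib.Ord.Cov

/-! A search for the values of involutions on a principal `7`-block with seven characters. -/

set_option autoImplicit false

open H4.Sv

namespace H17.Ord.M24.B76
open B57

/-- centraliser order, norm left, values at the degrees 2024 and 5544 -/
abbrev Tp := ℕ × ℕ × ℤ × ℤ

/-- value at the distinguished character of degree 2024 and the other degrees with values -/
abbrev Cl := ℤ × List (ℕ × ℤ)

def cn (C b d : ℕ) : List ℤ :=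
  (mults (d / Nat.gcd d (244823040 / C)) (min (d - 1) (Nat.sqrt b)) d).filter (fl [5, 7] 7 C d)

noncomputable def lf (C D : ℕ) (v w g : ℤ) (Z : List ℤ) (acc : List (ℕ × ℤ)) (b : ℕ) (s q : ℤ) :
    List Cl :=
  fI (Int.neg (Int.mul w s)) fun z => fN (Nat.mul z.natAbs z.natAbs) fun y =>
    bif Nat.ble y b then fI (Int.mul 168 (Int.add q (Int.mul g (Int.ofNat y)))) fun r =>
      bif Nat.beq (Nat.mod r.natAbs (Nat.mul C C)) 0 then
        (bif sqOK 1 6 C r && Z.contains z then [(v, (D, z) :: acc.reverse)] else []) else []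
    else []

noncomputable def c7 (D : ℕ) (o : List ℕ) (t : Tp) : List Cl :=
  fN t.1 fun C => fL (cn C t.2.1 D) fun Z => fI (wt 7 6 D) fun w =>
    fI (wt 7 6 D * (244823040 / D : ℕ)) fun g =>
      fR (wt 7 6) (fun d => wt 7 6 d * (244823040 / d : ℕ)) (cn C t.2.1) o fun R =>
        dfs (lf C D t.2.2.1 w g Z) R [] t.2.1 (1 + t.2.2.1)
          (244823040 + t.2.2.1 * t.2.2.1 * 120960)

def bl (A B : Cl) : ℤ := 244823040 + A.1 * B.1 * 120960 +
  (List.zipWith (fun x y => wt 7 6 x.1 * (x.2 * y.2 * (244823040 / x.1 : ℕ))) A.2 B.2).sum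

noncomputable def cr (A B : Cl) : Bool :=
  fI (bl A B) fun x => decide (0 ≤ x) && x * x == bl A A * bl B B

def TF : List Tp := [(13440, 670, 64, -56), (40320, 12150, -76, 84), (161280, 1510, 64, -336),
  (967680, 15510, 344, 504)]

def TS : List Tp := [(2688, 2574, 8, 0), (4032, 3918, 8, 0), (8064, 7950, 8, 0), (12096, 11982, 8, 0)]

def TZ : List Tp := [(9216, 4342, -24, -24), (9216, 5302, 40, -24), (138240, 57270, 104, -216)]

def TT : List Tp := [(1920, 750, 24, -16), (2880, 510, -16, 24), (2880, 910, 4, -36),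
  (2880, 310, 24, 24), (3840, 1270, 24, 24), (5760, 3390, -16, 24), (5760, 3190, 24, 24),
  (8640, 3270, 44, -36), (11520, 8950, 24, 24)]

noncomputable def chkF (D : ℕ) (o : List ℕ) : Bool :=
  TF.all fun t => (c7 D o t).all fun A =>
    decide (52 * (t.2.1 - nrm (A.2.filter fun x => x.1 % 23 == 0)) < 4 * (1 + t.2.2.2) ^ 2)

noncomputable def chk (D : ℕ) (o : List ℕ) (X Y : List Tp) : Bool :=
  fS (TS.flatMap (c7 D o)) fun S => bif S.isEmpty then true else
    fS (X.flatMap (c7 D o)) fun X => fS (S.flatMap fun a => (X.filter (cr a)).map (a, ·)) fun P =>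
      bif P.isEmpty then true else fS (Y.flatMap (c7 D o)) fun Y =>
        P.all fun a => Y.all fun y => !(cr a.1 y && cr a.2 y)

def f5 (V C d : ℕ) (u : ℤ) : Bool :=
  fl [5, 7, 11, 23] 5 C d u && (d != 2024 || (207360 * (2024 - u)) % (V * (24 * C) : ℕ) == 0)

noncomputable def ty (V : ℕ) (T : List Tp) (C : ℕ) : Bool :=
  (cols 244823040 5 4 12 C (f5 V C) o5).all fun B => decide (60 * (C * C : ℕ) < bil B B) ||
    T.contains (C, (C - 1 - nrm B).toNat, look 2024 B, look 5544 B)

def hs (C : ℕ) : Bool := [112, 336, 1008].any fun h => C % h == 0 && C / h % 7 == 1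

noncomputable def ok (x : ℕ × List ℕ × Bool) : Bool :=
  chkF x.1 x.2.1 && bif x.2.2 then chk x.1 x.2.1 TZ TT else chk x.1 x.2.1 TT TZ

def Ob : List (ℕ × List ℕ × Bool) := [(253, [22, 230, 1035, 1035], false),
  (1518, [736, 22, 230, 1035], true), (253, [22, 1035, 1518, 253], true),
  (253, [736, 22, 1518, 1518], true), (253, [12144, 9108, 736, 22], true),
  (253, [3795, 5060, 22, 1035], true), (1035, [3312, 736, 5060, 22], true),
  (1518, [22, 1035, 2024, 1518], true), (2024, [12144, 9108, 22, 1035], true),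
  (1035, [9108, 5060, 5060, 22], true), (253, [3520, 736, 736, 230], true),
  (2024, [3520, 736, 230, 1035], true), (1035, [3520, 3795, 230, 1035], true),
  (253, [3520, 1035, 2024, 253], false), (253, [3520, 3312, 1035, 1035], true),
  (253, [3520, 3795, 1035, 1518], false), (1518, [3520, 3312, 736, 1035], true),
  (1518, [3520, 736, 3795, 1518], true), (2024, [3520, 736, 3795, 5060], true),
  (1518, [3520, 1035, 2024, 2024], true), (1518, [3520, 9108, 5060, 1035], true),
  (1518, [6336, 6336, 12144, 1035], true), (1035, [3520, 3795, 3795, 5060], true)]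

def O7 : List (ℕ × List ℕ × Bool) := (253, [736, 5060, 22, 2024], false) ::
  (1518, [736, 3795, 5060, 22], false) :: (2024, [5060, 22, 1035, 2024], false) ::
  (253, [3520, 736, 253, 253], true) :: (253, [3520, 736, 2024, 1518], true) :: Ob

theorem eqns : True := by
  have := @cn.eq_1; have := @lf.eq_1; have := @c7.eq_1; have := @bl.eq_1; have := @cr.eq_1
  have := @TF.eq_1; have := @TS.eq_1; have := @TZ.eq_1; have := @TT.eq_1; have := @chkF.eq_1
  have := @chk.eq_1; have := @f5.eq_1; have := @ty.eq_1; have := @hs.eq_1; have := @ok.eq_1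
  have := @Ob.eq_1; have := @O7.eq_1; trivial

end H17.Ord.M24.B76
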