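import Mathlib
import Cfsg.Agent.Base
import Cfsg.Agent.Lib.Ord.M24Ja

/-! Numerical checks for a principal `7`-block with seven characters, part one. -/

set_option autoImplicit false
set_option maxHeartbeats 0

open H4.Sv

namespace H17.Ord.M24.B76
open B57

theorem tF : ((divs 967680).all fun C => C % 70 != 0 || ty 5 TF C) = true := by decide +kernel

theorem tS : ((divs 967680).all fun C => C % 70 == 0 || !hs C || ty 20 TS C) = true := by
  decide +kernel

theorem tZ : ((divs 945).all fun k => k % 35 == 0 || ty 20 TZ (1024 * k)) = true := by
  decide +kernel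

theorem tT : ((divs 967680).all fun C => C % 70 == 0 || C % 10 != 0 ||
    Nat.blt 244823040 (C * C) || ty 20 TT C) = true := by decide +kernel

theorem c76 : feasF 244823040 7 6 24 g (fun o => !o.contains 2024 ||
    O7.any fun x => (2024 :: x.1 :: x.2.1).isPerm o) = true := by decide +kernel

end H17.Ord.M24.B76
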