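import Mathlib
import Cfsg.Agent.Base
import Cfsg.Agent.Lib.Ord.M24Ja

/-! Numerical checks for a principal `7`-block with seven characters, part five. -/

set_option autoImplicit false
set_option maxHeartbeats 0

open H4.Sv

namespace H17.Ord.M24.B76
open B57

theorem k3 : ok (2024, [5060, 22, 1035, 2024], false) = true := by decide +kernel

end H17.Ord.M24.B76
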