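import Mathlib
import Cfsg.Agent.Base
import Cfsg.Agent.Lib.Ord.M24I
import Cfsg.Agent.Lib.Ord.M24Jb
import Cfsg.Agent.Lib.Ord.M24Jc
import Cfsg.Agent.Lib.Ord.M24Jd
import Cfsg.Agent.Lib.Ord.M24Je
import Cfsg.Agent.Lib.Ord.M24Jf
import Cfsg.Agent.Lib.Ord.M24Jg
import Cfsg.Agent.Lib.Ord.M24Jh

/-! A simple group of order 244823040 has no rational element of order 7 with centraliser of
order 168: soundness of the searches. -/

set_option autoImplicit false
set_option linter.unusedSectionVars false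
set_option linter.style.haveILetI false

open Cfsg H4.Sv Subgroup

namespace H17.Ord.M24
namespace B76
open B57

theorem mem_c7 {D C b m : ℕ} {v w z : ℤ} {A : List (ℕ × ℤ)}
    (h2 : ∀ a ∈ A, a.2 ∈ cn C b a.1) (h3 : z ∈ cn C b D) (h4 : wt 7 6 D * wt 7 6 D = 1)
    (h5 : 1 + v + lin 7 6 ((D, z) :: A) = 0) (h6 : nrm ((D, z) :: A) ≤ b) (hC : 0 < C)
    (h7 : ((m * C) ^ 2 : ℕ) = 168 * bl (v, (D, z) :: A) (v, (D, z) :: A)) :
    (v, (D, z) :: A) ∈ c7 D (A.map (·.1)) (C, b, v, w) := by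
  simp only [lin, nrm, bl, List.map_cons, List.sum_cons, List.zipWith_self] at h5 h6 h7
  have k1 : (((A.map fun a => a.2.natAbs * a.2.natAbs).sum : ℕ) : ℤ) =
      (A.map fun a => a.2 * a.2).sum := by
    rw [Nat.cast_list_sum, List.map_map]
    congr 2
    funext a
    simp
  have k2 : ((z.natAbs * z.natAbs : ℕ) : ℤ) = z * z := Int.natAbs_mul_self
  have := mem_dfs (K := lf C D v (wt 7 6 D) (wt 7 6 D * (244823040 / D : ℕ)) (cn C b D))
    (w := wt 7 6) (g := fun d => wt 7 6 d * (244823040 / d : ℕ)) (V := cn C b)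
    (x := (v, (D, z) :: A)) A h2 [] (b - (A.map fun a => a.2.natAbs * a.2.natAbs).sum) (1 + v)
    (244823040 + v * v * 120960) ?_
  · rw [c7, fN_eq, fL_eq, fI_eq, fI_eq, fR_eq, List.map_map]
    rw [Nat.sub_add_cancel (by omega)] at this
    exact this
  · have e1 : Int.neg (Int.mul (wt 7 6 D) (1 + v + (A.map fun a => wt 7 6 a.1 * a.2).sum)) = z := by
      change -(wt 7 6 D * _) = z
      linear_combination (-wt 7 6 D) * h5 + z * h4
    have e2 : Int.mul 168 (Int.add (244823040 + v * v * 120960 +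
        (A.map fun a => wt 7 6 a.1 * (244823040 / a.1 : ℕ) * (a.2 * a.2)).sum)
        (Int.mul (wt 7 6 D * (244823040 / D : ℕ)) (Int.ofNat (Nat.mul z.natAbs z.natAbs)))) =
        ((m * C) ^ 2 : ℕ) := by
      have : (A.map fun a => wt 7 6 a.1 * (244823040 / a.1 : ℕ) * (a.2 * a.2)) =
          A.map fun x => wt 7 6 x.1 * (x.2 * x.2 * (244823040 / x.1 : ℕ)) :=
        List.map_congr_left fun a _ => by ring
      change 168 * (_ + _ * ((z.natAbs * z.natAbs : ℕ) : ℤ)) = _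
      rw [h7, this, k2]
      ring
    rw [lf, fI_eq, e1, fN_eq, Nat.ble_eq.mpr (by rw [Nat.mul_eq]; omega), cond_true, fI_eq, e2,
      show Nat.beq (Nat.mod _ _) 0 = true from Nat.beq_eq.mpr (Nat.mod_eq_zero_of_dvd
        ⟨m * m, by rw [Int.natAbs_natCast, Nat.mul_eq]; ring⟩), cond_true,
      sqOK_of (m := m) one_pos hC (fun h => absurd h (by decide)) (by rw [one_mul]), List.contains_iff_mem.mpr h3]
    simp

theorem chk_sound {D : ℕ} {o : List ℕ} {X Y : List Tp} (h : chk D o X Y = true) {a x y : Cl}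
    (ha : a ∈ TS.flatMap (c7 D o)) (hx : x ∈ X.flatMap (c7 D o)) (hy : y ∈ Y.flatMap (c7 D o))
    (h1 : cr a x = true) (h2 : cr a y = true) (h3 : cr x y = true) : False := by
  have k : (a, x) ∈ (TS.flatMap (c7 D o)).flatMap fun a =>
      ((X.flatMap (c7 D o)).filter (cr a)).map (a, ·) :=
    List.mem_flatMap.mpr ⟨a, ha, List.mem_map_of_mem (List.mem_filter.mpr ⟨hx, h1⟩)⟩
  rw [chk, fS_eq, List.isEmpty_eq_false_iff_exists_mem.mpr ⟨a, ha⟩, cond_false, fS_eq, fS_eq,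
    List.isEmpty_eq_false_iff_exists_mem.mpr ⟨_, k⟩, cond_false, fS_eq] at h
  have := List.all_eq_true.mp (List.all_eq_true.mp h _ k) _ hy
  rw [h2, h3] at this
  exact absurd this (by decide)

theorem cr_of {A B : Cl} {a b : ℕ} (h1 : (a : ℤ) * b = 168 * bl A B) (h2 : (a : ℤ) * a = 168 * bl A A)
    (h3 : (b : ℤ) * b = 168 * bl B B) : cr A B = true := by
  rw [cr, fI_eq, Bool.and_eq_true, decide_eq_true_eq, beq_iff_eq]
  have : (0 : ℤ) ≤ a * b := by positivity
  refine ⟨by omega, mul_left_cancel₀ (a := 168 * 168) (by norm_num) ?_⟩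
  linear_combination (-(a * b) - 168 * bl A B) * h1 + (b * b) * h2 + (168 * bl A A) * h3

variable {G : Type*} [Group G] [Finite G]

theorem nInv_le (P : Subgroup G) (s : G) : nInv P s ≤ Nat.card (centralizer (P : Set G)) := by
  rcases isEmpty_or_nonempty {a // Inv P s a} with h | ⟨⟨b, hb⟩⟩
  · simp [nInv]
  · exact Nat.card_le_card_of_injective (fun a : {a // Inv P s a} =>
      (⟨a.1 * b, a.2.mul_mem hb⟩ : centralizer (P : Set G)))
      fun a a' h => Subtype.ext (mul_right_cancel (congrArg Subtype.val h))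

theorem enum_first [DecidableEq (IrrCharacter G)] {S : Finset (IrrCharacter G)}
    {χ : IrrCharacter G} (h1 : χ ∈ S) {D : List ℕ} (h : ∀ d, cnt S d = (dg χ :: D).count d) :
    ∃ L : List (IrrCharacter G), L.map dg = D ∧ (χ :: L).Nodup ∧ ∀ ψ, ψ ∈ χ :: L ↔ ψ ∈ S := by
  obtain ⟨L, k1, k2, k3⟩ := exists_enum_aux D (S.erase χ) fun d => by
    have := h d
    unfold cnt at this ⊢
    rw [Finset.filter_erase, List.count_cons] at *
    by_cases e : dg χ = d
    · rw [Finset.card_erase_of_mem (Finset.mem_filter.mpr ⟨h1, e⟩), this]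
      simp [e]
    · rw [Finset.erase_eq_of_notMem (by simp [e]), this]
      simp [e]
  refine ⟨L, k1, List.nodup_cons.mpr ⟨by simp [k3], k2⟩, fun ψ => ?_⟩
  rw [List.mem_cons, k3, Finset.mem_erase]
  constructor
  · rintro (rfl | k)
    exacts [h1, k.2]
  · exact fun k => (eq_or_ne ψ χ).imp_right fun e => ⟨e, k⟩

attribute [local instance] fact5 E11.fact7

theorem exists_s {S : Subgroup G} (E : PB G 7 S 6)
    (hc7 : Nat.card (centralizer (S : Set G)) = 7 * 24) :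
    ∃ s : G, orderOf s = 2 ∧ hs (Nat.card (centralizer ({s} : Set G))) = true := by
  have c0 : Nat.card (normalizer (S : Set G)) = 1008 := by
    have := card_mul_index ((centralizer (S : Set G)).subgroupOf (normalizer (S : Set G)))
    rw [Nat.card_congr (subgroupOfEquivOfLe (H86.Cen_le_Nor S)).toEquiv, hc7] at this
    exact this.symm.trans (congrArg (7 * 24 * ·) E.he)
  obtain ⟨U, hU⟩ := Sylow.exists_subgroup_card_pow_prime 2 (G := normalizer (S : Set G)) (n := 4)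
    (by rw [c0]; norm_num)
  have c1 : Nat.card (U.map (normalizer (S : Set G)).subtype) = 2 ^ 4 := by
    rw [card_map_of_injective (subtype_injective _), hU]
  have c2 := map_subtype_le U
  generalize U.map (normalizer (S : Set G)).subtype = V at c1 c2
  have k4 := E11.card_mod (p := 2) (S := centralizer (S : Set G)) (IsPGroup.of_card c1)
    (c2.trans ((normal_subgroupOf_iff_le_normalizer (H86.Cen_le_Nor S)).mp
      (normal_subgroupOf_centralizer_normalizer _)))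
  obtain ⟨⟨s, s0⟩, o⟩ := exists_prime_orderOf_dvd_card' 2
    ((k4.dvd_iff dvd_rfl).mp (by rw [hc7]; norm_num))
  rw [Subgroup.orderOf_mk] at o
  obtain ⟨s1, s2⟩ := s0
  have t5 : S ≤ centralizer ({s} : Set G) := fun y hy =>
    mem_centralizer_singleton_iff.mpr (s1 y hy)
  obtain ⟨r, r1, r2⟩ := card_over E.card E.ind t5
  have d1 : 2 ^ 4 * 7 ∣ Nat.card ↥(normalizer (S : Set G) ⊓ centralizer ({s} : Set G)) :=
    Nat.Coprime.mul_dvd_of_dvd_of_dvd (by norm_num) (c1 ▸ card_dvd_of_le (le_inf c2 fun x hx =>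
      mem_centralizer_singleton_iff.mpr (s2 x hx))) (E.card ▸ card_dvd_of_le (le_inf le_normalizer t5))
  have d2 : Nat.card ↥(normalizer (S : Set G) ⊓ centralizer ({s} : Set G)) ∣ 2 ^ 4 * 7 * 3 ^ 2 :=
    (card_dvd_of_le inf_le_left).trans c0.dvd
  obtain ⟨j, hj⟩ := d1
  rw [hj] at r1
  rw [hj, Nat.mul_dvd_mul_iff_left (by norm_num), Nat.dvd_prime_pow Nat.prime_three] at d2
  obtain ⟨i, hi, rfl⟩ := d2
  refine ⟨s, o, ?_⟩
  simp only [r1, hs, List.any_cons, List.any_nil, Bool.or_eq_true, Bool.and_eq_true, beq_iff_eq]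
  interval_cases i <;> omega

variable [IsSimpleGroup G] (hG : Nat.card G = 244823040)
include hG

theorem mem_cn {s : G} (hs : orderOf s = 2) {C b : ℕ}
    (hC : Nat.card (centralizer ({s} : Set G)) = C) {u : IrrCharacter G → ℤ}
    (hu : ∀ χ : IrrCharacter G, (χ : G → ℂ) s = u χ) {χ : IrrCharacter G} (h1 : dg χ ≠ 1)
    (hf : fl [5, 7] 7 C (dg χ) (u χ) = true) (k1 : u χ * u χ ≤ b) : u χ ∈ cn C b (dg χ) := by
  obtain ⟨z, z1, z2, z3, z4⟩ := invol_val (E11.hna hG) h1 hs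
  obtain rfl : z = u χ := by exact_mod_cast z1.symm.trans (hu χ)
  have k2 := dvd_central χ (hu χ)
  have k3 : (centralizer ({s} : Set G)).index = 244823040 / C := by
    rw [← hG, ← hC, ← (centralizer ({s} : Set G)).index_mul_card, Nat.mul_div_cancel _ Nat.card_pos]
  have d0 := dg_pos χ
  have g0 := Nat.gcd_pos_of_pos_left (244823040 / C) d0
  refine List.mem_filter.mpr ⟨mem_mults (Nat.div_pos (Nat.gcd_le_left _ d0) g0) ?_ ?_ z2, hf⟩
  · rw [k3, ← Int.natAbs_dvd_natAbs, Int.natAbs_mul, Int.natAbs_natCast, Int.natAbs_natCast] at k2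
    rw [← Int.natAbs_dvd_natAbs, Int.natAbs_natCast]
    refine (Nat.coprime_div_gcd_div_gcd g0).dvd_of_dvd_mul_left
      (Nat.dvd_of_mul_dvd_mul_left g0 ?_)
    rwa [← mul_assoc, Nat.mul_div_cancel' (Nat.gcd_dvd_left _ _),
      Nat.mul_div_cancel' (Nat.gcd_dvd_right _ _)]
  · refine le_min (by omega) (Nat.le_sqrt.mpr ?_)
    zify
    rwa [abs_mul_abs_self]

section
variable {S : Subgroup G} (E : PB G 7 S 6) (hc7 : Nat.card (centralizer (S : Set G)) = 7 * 24)
  [DecidableEq (IrrCharacter G)] {χ : IrrCharacter G} (c2 : dg χ = 2024)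
  {L : List (IrrCharacter G)} (l2 : (χ :: triv G :: L).Nodup)
  (l3 : ∀ ψ, ψ ∈ χ :: triv G :: L ↔ ψ ∈ E.X ∪ E.Y)
include E hc7 c2 l2 l3

theorem bl_eq {s s' : G} (hs : orderOf s = 2) (hs' : orderOf s' = 2) {u v : IrrCharacter G → ℤ}
    (hu : ∀ χ : IrrCharacter G, (χ : G → ℂ) s = u χ)
    (hv : ∀ χ : IrrCharacter G, (χ : G → ℂ) s' = v χ) :
    ((nInv S s * Nat.card (centralizer ({s} : Set G)) : ℕ) : ℤ) *
      (nInv S s' * Nat.card (centralizer ({s'} : Set G)) : ℕ) =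
      168 * bl (u χ, L.map (pr u)) (v χ, L.map (pr v)) := by
  have k := E.pair_sq (by norm_num) hc7 hs hs'
  rw [show E.X ∪ E.Y = (χ :: triv G :: L).toFinset from Finset.ext fun ψ => by
      rw [List.mem_toFinset, l3], List.sum_toFinset _ l2, List.map_cons, List.sum_cons,
    List.map_cons, List.sum_cons, triv_apply, triv_apply, dg_triv, ← add_assoc, mul_add (Nat.card G : ℂ),
    ← List.sum_map_mul_left, List.map_congr_left (g := fun χ => ((wt 7 6 (dg χ) *
      (u χ * v χ * (244823040 / dg χ : ℕ)) : ℤ) : ℂ)) fun χ h => by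
        rw [hu, hv, Int.cast_mul, Int.cast_mul, Int.cast_mul, Int.cast_natCast,
          Nat.cast_div (hG ▸ dg_dvd χ) (by exact_mod_cast (dg_pos χ).ne'), hG]
        push_cast
        ring, hG, c2, show wt 7 6 1 = 1 by decide, show wt 7 6 2024 = 1 by decide, hu, hv] at k
  have k2 : ((bl (u χ, L.map (pr u)) (v χ, L.map (pr v)) : ℤ) : ℂ) =
      244823040 + u χ * v χ * 120960 + (L.map fun χ =>
        ((wt 7 6 (dg χ) * (u χ * v χ * (244823040 / dg χ : ℕ)) : ℤ) : ℂ)).sum := by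
    rw [bl, List.zipWith_map, List.zipWith_self, Int.cast_add, Int.cast_list_sum, List.map_map,
      Int.cast_add, Int.cast_mul, Int.cast_mul]
    rfl
  apply Int.cast_injective (α := ℂ)
  rw [Int.cast_mul, Int.cast_mul, k2]
  push_cast at k ⊢
  linear_combination k

theorem cr_eq {s s' : G} (hs : orderOf s = 2) (hs' : orderOf s' = 2) {u v : IrrCharacter G → ℤ}
    (hu : ∀ χ : IrrCharacter G, (χ : G → ℂ) s = u χ)
    (hv : ∀ χ : IrrCharacter G, (χ : G → ℂ) s' = v χ) :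
    cr (u χ, L.map (pr u)) (v χ, L.map (pr v)) = true :=
  cr_of (bl_eq hG E hc7 c2 l2 l3 hs hs' hu hv) (bl_eq hG E hc7 c2 l2 l3 hs hs hu hu)
    (bl_eq hG E hc7 c2 l2 l3 hs' hs' hv hv)

theorem col7 {D : ℕ} {o : List ℕ} (l1 : L.map dg = D :: o) {s : G} (hs : orderOf s = 2)
    {u : IrrCharacter G → ℤ} (hu : ∀ χ : IrrCharacter G, (χ : G → ℂ) s = u χ) {b : ℕ}
    (hb : nrm (L.map (pr u)) ≤ b) (w : ℤ) : (u χ, L.map (pr u)) ∈
      c7 D o (Nat.card (centralizer ({s} : Set G)), b, u χ, w) := by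
  have hm : ∀ ψ ∈ L, u ψ ∈ cn (Nat.card (centralizer ({s} : Set G))) b (dg ψ) := fun ψ h =>
    mem_cn hG hs rfl hu (fun k => (List.nodup_cons.mp (List.nodup_cons.mp l2).2).1
      (eq_triv_of_dg (E11.hna hG) k ▸ h)) (E.fl_of (by rw [hG]; decide) hs rfl hu ψ
        (Finset.mem_union.mp ((l3 ψ).mp (by simp [h])))) (le_trans (List.single_le_sum (fun x hx => by
          obtain ⟨a, -, rfl⟩ := List.mem_map.mp hx
          exact mul_self_nonneg _) _ (List.mem_map_of_mem (f := fun x : ℕ × ℤ => x.2 * x.2)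
            (List.mem_map_of_mem (f := pr u) h))) hb)
  have k := E.rel_blk (by norm_num) (g := s) (by rw [hs]; norm_num)
  have k7 := bl_eq hG E hc7 c2 l2 l3 hs hs hu hu
  rw [show E.X ∪ E.Y = (χ :: triv G :: L).toFinset from Finset.ext fun ψ => by
      rw [List.mem_toFinset, l3], List.sum_toFinset _ l2, List.map_cons, List.sum_cons,
    List.map_cons, List.sum_cons, triv_apply, dg_triv, c2, show wt 7 6 1 = 1 by decide,
    show wt 7 6 2024 = 1 by decide] at k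
  simp only [hu] at k
  have k' : 1 + u χ + lin 7 6 (L.map (pr u)) = 0 := by
    apply Int.cast_injective (α := ℂ)
    rw [lin, List.map_map, Int.cast_add, Int.cast_list_sum, List.map_map]
    push_cast at k ⊢
    refine Eq.trans ?_ k
    rw [add_comm 1, add_assoc, one_mul, one_mul]
    congr 4
    funext a
    simp [pr]
  obtain ⟨θ, L, rfl, rfl, rfl⟩ := List.map_eq_cons_iff.mp l1
  have := mem_c7 (w := w) (A := L.map (pr u)) (fun a ha => by
    obtain ⟨ψ, h, rfl⟩ := List.mem_map.mp ha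
    exact hm ψ (List.mem_cons_of_mem _ h)) (hm θ List.mem_cons_self) (by
      rcases Finset.mem_union.mp ((l3 θ).mp (by simp)) with k | k
      · rw [E.wt_X (by norm_num) k]
        rcases E.sgn θ k with k | k <;> rw [k] <;> rfl
      · rw [E.wt_Y (by norm_num) k]
        rcases E.dsgn with k | k <;> rw [k] <;> rfl) k' hb Nat.card_pos
    (by rw [sq, Nat.cast_mul]; exact k7)
  rw [List.map_map] at this
  exact this

end

variable {P : Subgroup G} (B : PB G 23 P 11) (hC : centralizer (P : Set G) = P)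
  {Q : Subgroup G} (A : PB G 11 Q 10) (hA : centralizer (Q : Set G) = Q)
  {R : Subgroup G} (D : PB G 5 R 4) (hc : Nat.card (centralizer (R : Set G)) = 5 * 12)
include B hC A hA D hc

theorem uniq {χ ψ : IrrCharacter G} (h1 : χ ∈ D.X ∨ χ ∈ D.Y) (h2 : ψ ∈ D.X ∨ ψ ∈ D.Y)
    (h : dg ψ = dg χ) : ψ = χ := by
  classical
  by_cases e : dg χ = 1
  · rw [eq_triv_of_dg (E11.hna hG) e, eq_triv_of_dg (E11.hna hG) (h.trans e)]
  exact Finset.card_le_one.mp ((cnt5 hG B hC A hA D hc _ e).le.trans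
    (List.nodup_iff_count_le_one.mp (by decide) _)) ψ
    (Finset.mem_filter.mpr ⟨Finset.mem_union.mpr h2, h⟩) χ
    (Finset.mem_filter.mpr ⟨Finset.mem_union.mpr h1, rfl⟩)

theorem mem_o5 {ψ : IrrCharacter G} (h1 : ψ ∈ D.X ∨ ψ ∈ D.Y) (h2 : ψ ≠ triv G) :
    dg ψ = 1771 ∨ dg ψ = 2024 ∨ dg ψ = 5544 ∨ dg ψ = 5796 := by
  classical
  have : dg ψ ∈ o5 := List.count_pos_iff.mp (cnt5 hG B hC A hA D hc _
    (fun h => h2 (eq_triv_of_dg (E11.hna hG) h)) ▸ cnt_pos.mpr ⟨ψ, Finset.mem_union.mpr h1, rfl⟩)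
  simpa [o5] using this

theorem ty_of {χ : IrrCharacter G} (c1 : χ ∈ D.X ∨ χ ∈ D.Y) (c2 : dg χ = 2024) {s : G}
    (hs : orderOf s = 2) {u : IrrCharacter G → ℤ} (hu : ∀ χ : IrrCharacter G, (χ : G → ℂ) s = u χ)
    {V : ℕ} (hV : ((V * (24 * Nat.card (centralizer ({s} : Set G))) : ℕ) : ℤ) ∣
      207360 * (2024 - u χ)) {T : List Tp} (h : ty V T (Nat.card (centralizer ({s} : Set G))) = true) :
    ∃ L : List (IrrCharacter G), L.Nodup ∧ (∀ χ, χ ∈ L ↔ (χ ∈ D.X ∨ χ ∈ D.Y) ∧ χ ≠ triv G) ∧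
      (Nat.card (centralizer ({s} : Set G)), ((Nat.card (centralizer ({s} : Set G)) : ℤ) - 1 -
        nrm (L.map (pr u))).toNat, u χ, look 5544 (L.map (pr u))) ∈ T := by
  classical
  obtain ⟨L, l1, l2, l3⟩ := D.mem_cols (E11.hna hG) (by norm_num) hG hc (cnt5 hG B hC A hA D hc)
    (by decide) hs rfl hu (f := f5 V (Nat.card (centralizer ({s} : Set G)))) fun ψ k => by
      rw [f5, D.fl_of (by rw [hG]; decide) hs rfl hu ψ k, Bool.true_and, Bool.or_eq_true,
        bne_iff_ne, beq_iff_eq, or_iff_not_imp_left, not_not]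
      intro e
      rw [uniq hG B hC A hA D hc c1 k (e.trans c2.symm)]
      exact Int.emod_eq_zero_of_dvd hV
  have inj : ∀ a ∈ L, ∀ b ∈ L, dg b = dg a → b = a := fun a ha b hb =>
    uniq hG B hC A hA D hc ((l2 a).mp ha).1 ((l2 b).mp hb).1
  have m : χ ∈ L := (l2 χ).mpr ⟨c1, fun k => by rw [k, dg_triv] at c2; omega⟩
  have k := List.all_eq_true.mp h _ l3
  have k1 := bil_eq hG D hc hs hs hu hu l1 l2 l2 inj
  have k2 := Nat.mul_le_mul_right (Nat.card (centralizer ({s} : Set G))) (hc ▸ nInv_le R s)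
  have k3 := Nat.mul_le_mul k2 k2
  rw [Bool.or_eq_true, decide_eq_true_eq, List.contains_iff_mem, ← c2, look_eq u m (inj χ m)] at k
  refine ⟨L, l1, l2, k.resolve_left ?_⟩
  rw [← Nat.cast_mul] at k1
  rw [mul_mul_mul_comm (5 * 12)] at k3
  omega

variable {S : Subgroup G} (E : PB G 7 S 6) (hc7 : Nat.card (centralizer (S : Set G)) = 7 * 24)
include E hc7

theorem dv5 : ∃ χ, (χ ∈ D.X ∨ χ ∈ D.Y) ∧ (χ ∈ E.X ∨ χ ∈ E.Y) ∧ dg χ = 2024 ∧
    ∀ (b : G) (z : ℤ), ¬ 5 ∣ orderOf b → (χ : G → ℂ) b = z →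
      ((5 * (24 * Nat.card (centralizer ({b} : Set G))) : ℕ) : ℤ) ∣ 207360 * (2024 - z) := by
  obtain ⟨χ, c1, c2, c3, -, k⟩ := count7 hG B hC A hA D hc E hc7 (H84.le_Cen_of_card D.card)
    fun v hv y y1 y2 => by
      by_contra v1
      have o : orderOf v = 5 := ((Nat.dvd_prime (by norm_num)).mp
        (D.card ▸ R.orderOf_dvd_natCard hv)).resolve_left (by simpa using v1)
      have := Commute.orderOf_mul_eq_mul_orderOf_of_coprime y2 (by rw [o, y1]; norm_num)
      exact reg5 D hc (y := v * y) (by rw [this, y1]; simp) (by rw [this, o]; simp)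
  rw [D.card] at k
  exact ⟨χ, c1, c2, c3, k⟩

theorem dv20 (hF : ∀ s : G, orderOf s = 2 → ¬ 70 ∣ Nat.card (centralizer ({s} : Set G)))
    {χ : IrrCharacter G} (c1 : χ ∈ D.X ∨ χ ∈ D.Y) (c3 : dg χ = 2024) {b : G} {z : ℤ}
    (hb : ¬ 5 ∣ orderOf b) (hz : (χ : G → ℂ) b = z) :
    ((20 * (24 * Nat.card (centralizer ({b} : Set G))) : ℕ) : ℤ) ∣ 207360 * (2024 - z) := by
  obtain ⟨U, hU⟩ := Sylow.exists_subgroup_card_pow_prime 2 (G := centralizer (R : Set G)) (n := 2)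
    (by rw [hc]; norm_num)
  have hV : Nat.card (U.map (centralizer (R : Set G)).subtype) = 2 ^ 2 := by
    rw [card_map_of_injective (subtype_injective _), hU]
  have hR := map_subtype_le U
  generalize U.map (centralizer (R : Set G)).subtype = V at hV hR
  obtain ⟨ψ, d1, -, d3, -, k⟩ := count7 hG B hC A hA D hc E hc7 hR fun v hv y y1 y2 => by
    by_contra v1
    obtain ⟨j, -, hj⟩ := (Nat.dvd_prime_pow Nat.prime_two).mp (hV ▸ V.orderOf_dvd_natCard hv)
    obtain ⟨j, rfl⟩ := Nat.exists_eq_succ_of_ne_zero (n := j) fun h => v1 (by simpa [h] using hj)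
    have hs : orderOf (v ^ 2 ^ j) = 2 := by
      rw [orderOf_pow' _ (by positivity), hj, Nat.gcd_eq_right (pow_dvd_pow _ j.le_succ), pow_succ',
        Nat.mul_div_cancel _ (by positivity)]
    refine hF _ hs (Nat.Coprime.mul_dvd_of_dvd_of_dvd (m := 10) (n := 7) (by norm_num)
        (Nat.Coprime.mul_dvd_of_dvd_of_dvd (m := 2) (n := 5) (by norm_num)
          (hs.symm.dvd.trans (orderOf_dvd_cent _)) (D.card ▸ card_dvd_of_le fun x hx => ?_))
        (y1 ▸ Subgroup.orderOf_dvd_natCard _ (mem_centralizer_singleton_iff.mpr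
          ((Commute.symm y2).pow_right _).eq)))
    exact mem_centralizer_singleton_iff.mpr (hR (pow_mem hv _) x hx)
  obtain ⟨φ, e1, -, e3, k'⟩ := dv5 hG B hC A hA D hc E hc7
  obtain rfl := uniq hG B hC A hA D hc c1 d1 (d3.trans c3.symm)
  obtain rfl := uniq hG B hC A hA D hc c1 e1 (e3.trans c3.symm)
  obtain ⟨m, hm⟩ := k b z hb hz
  obtain ⟨n, hn⟩ := k' b z hb hz
  have c0 : ((24 * Nat.card (centralizer ({b} : Set G)) : ℕ) : ℤ) ≠ 0 :=
    Nat.cast_ne_zero.mpr (Nat.mul_pos (by norm_num) Nat.card_pos).ne'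
  rw [hV] at hm
  generalize 24 * Nat.card (centralizer ({b} : Set G)) = c at *
  have : 4 * m = 5 * n := mul_left_cancel₀ c0 (by push_cast at hm hn; linarith)
  obtain ⟨j, rfl⟩ : ∃ j, n = 4 * j := ⟨n / 4, by omega⟩
  refine ⟨j, ?_⟩
  rw [hn]
  push_cast
  ring

variable [DecidableEq (IrrCharacter G)] {χ : IrrCharacter G} (c1 : χ ∈ D.X ∨ χ ∈ D.Y)
  (c2 : dg χ = 2024) {L : List (IrrCharacter G)} (l2 : (χ :: triv G :: L).Nodup)
  (l3 : ∀ ψ, ψ ∈ χ :: triv G :: L ↔ ψ ∈ E.X ∪ E.Y) {d : ℕ} {o : List ℕ} (l1 : L.map dg = d :: o)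
include c1 c2 l2 l3 l1

theorem col {s : G} (hs : orderOf s = 2) {u : IrrCharacter G → ℤ}
    (hu : ∀ χ : IrrCharacter G, (χ : G → ℂ) s = u χ) {V : ℕ}
    (hV : ((V * (24 * Nat.card (centralizer ({s} : Set G))) : ℕ) : ℤ) ∣ 207360 * (2024 - u χ))
    {T : List Tp} (h : ty V T (Nat.card (centralizer ({s} : Set G))) = true) :
    ∃ t ∈ T, (u χ, L.map (pr u)) ∈ c7 d o t ∧ ∃ M : List (IrrCharacter G), (M ++ L).Nodup ∧
      (∀ ψ, ψ ∈ M ↔ (ψ ∈ D.X ∨ ψ ∈ D.Y) ∧ ψ ≠ triv G) ∧ t.2.2.2 = look 5544 (M.map (pr u)) ∧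
      (t.2.1 : ℤ) = Nat.card (centralizer ({s} : Set G)) - 1 - nrm (M.map (pr u)) := by
  obtain ⟨M, m1, m2, m3⟩ := ty_of hG B hC A hA D hc c1 c2 hs hu hV h
  obtain ⟨n1, n2⟩ := List.nodup_cons.mp l2
  obtain ⟨n3, n4⟩ := List.nodup_cons.mp n2
  have n5 : (M ++ L).Nodup := m1.append n4 fun ψ a b => by
    obtain ⟨a1, a2⟩ := (m2 ψ).mp a
    have k1 := mem_o5 hG B hC A hA D hc a1 a2
    have k2 : ¬ 7 ∣ dg ψ := (Finset.mem_union.mp ((l3 ψ).mp (by simp [b]))).elim E.not_dvd_X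
      E.not_dvd_Y
    exact n1 (uniq hG B hC A hA D hc c1 a1 (by omega) ▸ List.mem_cons_of_mem _ b)
  have k := nrm_le hu n5 fun k => (List.mem_append.mp k).elim (fun k => ((m2 _).mp k).2 rfl) n3
  have k0 : 0 ≤ nrm (L.map (pr u)) := List.sum_nonneg fun x hx => by
    obtain ⟨a, -, rfl⟩ := List.mem_map.mp hx
    exact mul_self_nonneg _
  rw [nrm, List.map_append, List.map_append, List.sum_append, ← nrm, ← nrm] at k
  exact ⟨_, m3, col7 hG E hc7 c2 l2 l3 l1 hs hu (by omega) _, M, n5, m2, rfl, by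
    change ((_ : ℤ).toNat : ℤ) = _
    omega⟩

theorem notF (h : chkF d o = true) (k5 : ∀ (b : G) (z : ℤ), ¬ 5 ∣ orderOf b → (χ : G → ℂ) b = z →
      ((5 * (24 * Nat.card (centralizer ({b} : Set G))) : ℕ) : ℤ) ∣ 207360 * (2024 - z))
    (s : G) (hs : orderOf s = 2) : ¬ 70 ∣ Nat.card (centralizer ({s} : Set G)) := fun h70 => by
  obtain ⟨u, hu, u1, -⟩ := exists_invol_col (E11.hna hG) hs
  have k := List.all_eq_true.mp tF _ (mem_divs (by norm_num) (B57.cent_dvd hG B hC A hA hs))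
  rw [Nat.mod_eq_zero_of_dvd h70, bne_self_eq_false, Bool.false_or] at k
  obtain ⟨t, t1, t2, M, m1, m2, m3, m4⟩ := col hG B hC A hA D hc E hc7 c1 c2 l2 l3 l1 hs hu
    (k5 s _ (by rw [hs]; norm_num) (hu χ)) k
  have k1 := of_decide_eq_true (List.all_eq_true.mp (List.all_eq_true.mp h t t1) _ t2)
  obtain ⟨ψ, p1, p2⟩ := cnt_pos.mp (show 0 < cnt (D.X ∪ D.Y) 5544 by
    rw [cnt5 hG B hC A hA D hc _ (by norm_num)]; decide)
  rw [Finset.mem_union] at p1
  have p3 : ψ ≠ triv G := fun e => by rw [e, dg_triv] at p2; omega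
  rw [← p2, look_eq u ((m2 ψ).mpr ⟨p1, p3⟩) fun φ a => uniq hG B hC A hA D hc p1 ((m2 φ).mp a).1]
    at m3
  have q1 : triv G ∈ B.X ∪ B.Y := Finset.mem_union.mpr B.one_mem
  have q2 : ψ ∈ (B.X ∪ B.Y).erase (triv G) := Finset.mem_erase.mpr ⟨p3, Finset.mem_union.mpr
    (B.mem_of_not_dvd hC (by rw [p2]; norm_num))⟩
  have k2 := B.rel_blk (by norm_num) (g := s) (by rw [hs]; norm_num)
  simp only [hu] at k2
  have k3 : ∑ φ ∈ B.X ∪ B.Y, wt 23 11 (dg φ) * u φ = 0 := by exact_mod_cast k2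
  rw [← Finset.add_sum_erase _ _ q1, ← Finset.add_sum_erase _ _ q2, u1, dg_triv, p2,
    show wt 23 11 1 = 2 by decide, show wt 23 11 5544 = 2 by decide] at k3
  have k4 : (((B.X ∪ B.Y).erase (triv G)).erase ψ).card = 11 := by
    rw [Finset.card_erase_of_mem q2, Finset.card_erase_of_mem q1,
      Finset.card_union_of_disjoint B.disj, B.cardX, B.cardY]
  have k9 : ∀ φ ∈ ((B.X ∪ B.Y).erase (triv G)).erase ψ, φ ≠ ψ ∧ φ ≠ triv G ∧ ¬ 23 ∣ dg φ :=
    fun φ a => by
      simp only [Finset.mem_erase, Finset.mem_union] at a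
      exact ⟨a.1, a.2.1, a.2.2.elim B.not_dvd_X B.not_dvd_Y⟩
  generalize ((B.X ∪ B.Y).erase (triv G)).erase ψ = F at k3 k4 k9
  have k5 := sq_sum_le_card_mul_sum_sq (s := F) (f := fun φ => wt 23 11 (dg φ) * u φ)
  have k6 : ∑ φ ∈ F, (wt 23 11 (dg φ) * u φ) ^ 2 ≤ ∑ φ ∈ F, 4 * (u φ * u φ) :=
    Finset.sum_le_sum fun φ _ => by
      have := mul_self_nonneg (u φ)
      rw [mul_pow, wt]
      split_ifs <;> norm_num <;> linarith
  have n0 := (List.nodup_cons.mp (List.nodup_cons.mp l2).2).1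
  have k7 := nrm_le hu (L := (M ++ L.filter fun φ => dg φ % 23 == 0) ++ F.toList)
    ((m1.sublist (List.filter_sublist.append_left M)).append F.nodup_toList fun φ a b => by
      obtain ⟨b1, b2, b3⟩ := k9 φ (Finset.mem_toList.mp b)
      rcases List.mem_append.mp a with a | a
      · have := mem_o5 hG B hC A hA D hc ((m2 φ).mp a).1 b2
        exact b1 (uniq hG B hC A hA D hc p1 ((m2 φ).mp a).1 (by omega))
      · exact b3 (Nat.dvd_of_mod_eq_zero (beq_iff_eq.mp (List.mem_filter.mp a).2)))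
    fun a => by
      rcases List.mem_append.mp a with a | a
      · exact (List.mem_append.mp a).elim (fun k => ((m2 _).mp k).2 rfl)
          fun k => n0 (List.mem_filter.mp k).1
      · exact (k9 _ (Finset.mem_toList.mp a)).2.1 rfl
  have k8 : nrm (F.toList.map (pr u)) = ∑ φ ∈ F, u φ * u φ := by
    rw [nrm, List.map_map, Finset.sum_map_toList]; rfl
  rw [nrm, List.map_append, List.map_append, List.map_append, List.map_append, List.sum_append,
    List.sum_append, ← nrm, ← nrm, ← nrm, k8] at k7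
  rw [List.filter_map, m3, m4] at k1
  rw [← Finset.mul_sum] at k6
  rw [k4, show ∑ φ ∈ F, wt 23 11 (dg φ) * u φ = -(2 * (1 + u ψ)) by omega] at k5
  have k10 : 0 ≤ ∑ φ ∈ F, u φ * u φ := Finset.sum_nonneg fun _ _ => mul_self_nonneg _
  change 52 * (_ - nrm ((L.filter fun φ => dg φ % 23 == 0).map (pr u))) < _ at k1
  push_cast at k5
  nlinarith

theorem not_ok {f : Bool} (h : ok (d, o, f) = true)
    (k5 : ∀ (b : G) (z : ℤ), ¬ 5 ∣ orderOf b → (χ : G → ℂ) b = z →
      ((5 * (24 * Nat.card (centralizer ({b} : Set G))) : ℕ) : ℤ) ∣ 207360 * (2024 - z)) :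
    False := by
  rw [ok, Bool.and_eq_true] at h
  have hF := notF hG B hC A hA D hc E hc7 c1 c2 l2 l3 l1 h.1 k5
  have key : ∀ {s : G}, orderOf s = 2 → ∀ {u : IrrCharacter G → ℤ},
      (∀ χ : IrrCharacter G, (χ : G → ℂ) s = u χ) → ∀ {T : List Tp},
      ty 20 T (Nat.card (centralizer ({s} : Set G))) = true →
      (u χ, L.map (pr u)) ∈ T.flatMap (c7 d o) := fun {s} hs {u} hu {T} h => by
    obtain ⟨t, t1, t2, -⟩ := col hG B hC A hA D hc E hc7 c1 c2 l2 l3 l1 hs hu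
      (dv20 hG B hC A hA D hc E hc7 hF c1 c2 (by rw [hs]; norm_num) (hu χ)) h
    exact List.mem_flatMap.mpr ⟨t, t1, t2⟩
  obtain ⟨s, s1, s2⟩ := exists_s E hc7
  obtain ⟨t, t1, t2, t3⟩ := exists_t A hA
  obtain ⟨z, z1, j, z2⟩ := exists_two_central (G := G) (k := 10) (by norm_num)
    (by rw [hG]; norm_num)
  have j1 := B57.cent_dvd hG B hC A hA z1
  rw [z2, show 967680 = 2 ^ 10 * 945 by norm_num, Nat.mul_dvd_mul_iff_left (by norm_num)] at j1
  obtain ⟨u, hu, -⟩ := exists_invol_col (E11.hna hG) s1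
  obtain ⟨v, hv, -⟩ := exists_invol_col (E11.hna hG) t1
  obtain ⟨w, hw, -⟩ := exists_invol_col (E11.hna hG) z1
  have a1 := List.all_eq_true.mp tS _ (mem_divs (by norm_num) (B57.cent_dvd hG B hC A hA s1))
  have a2 := List.all_eq_true.mp tT _ (mem_divs (by norm_num) (B57.cent_dvd hG B hC A hA t1))
  have a3 := List.all_eq_true.mp tZ _ (mem_divs (by norm_num) j1)
  have f1 := hF s s1
  have f2 := hF t t1
  have f3 := hF z z1
  rw [hG] at t3
  simp only [s2, Bool.or_eq_true, beq_iff_eq, bne_iff_ne, Nat.blt_eq, Bool.not_true,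
    Bool.false_eq_true, or_false] at a1 a2 a3
  have b1 := key s1 hu (a1.resolve_left (by omega))
  have b2 := key t1 hv (a2.resolve_left (by omega))
  have b3 := key z1 hw (z2 ▸ a3.resolve_left (by omega))
  have c := @cr_eq G _ _ _ hG _ E hc7 _ _ c2 _ l2 l3
  cases f
  · exact chk_sound h.2 b1 b2 b3 (c s1 t1 hu hv) (c s1 z1 hu hw) (c t1 z1 hv hw)
  · exact chk_sound h.2 b1 b3 b2 (c s1 z1 hu hw) (c s1 t1 hu hv) (c z1 t1 hw hv)

end B76

open B57 B76 in
attribute [local instance] fact5 E11.fact7 in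
theorem not624 {G : Type*} [Group G] [Finite G] [IsSimpleGroup G] (hG : Nat.card G = 244823040)
    {P : Subgroup G} (B : PB G 23 P 11) (hC : centralizer (P : Set G) = P) {Q : Subgroup G}
    (A : PB G 11 Q 10) (hA : centralizer (Q : Set G) = Q) {R : Subgroup G} (D : PB G 5 R 4)
    (hc : Nat.card (centralizer (R : Set G)) = 5 * 12) {S : Subgroup G} (E : PB G 7 S 6)
    (hc7 : Nat.card (centralizer (S : Set G)) = 7 * 24) : False := by
  classical
  obtain ⟨χ, c1, c2, c3, k5⟩ := dv5 hG B hC A hA D hc E hc7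
  obtain ⟨o, h, h1, k7⟩ := E.sieveF (E11.hna hG) (by norm_num) hG hc7
    (fun χ _ _ => g_of hG B hC A hA χ) B76.c76
  rw [List.contains_iff_mem.mpr (List.count_pos_iff.mp (k7 2024 (by norm_num) ▸
    cnt_pos.mpr ⟨χ, Finset.mem_union.mpr c2, c3⟩)), Bool.not_true, Bool.false_or,
    List.any_eq_true] at h
  obtain ⟨⟨d, o', f⟩, x1, x2⟩ := h
  rw [List.isPerm_iff] at x2
  obtain ⟨L, l1, l2, l3⟩ := enum_first (Finset.mem_union.mpr c2) (D := 1 :: d :: o') fun n => by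
    rw [c3, (List.Perm.swap 1 2024 _).count_eq]
    by_cases e : n = 1
    · rw [e, cnt_one (E11.hna hG) (Finset.mem_union.mpr E.one_mem), List.count_cons_self,
        List.count_eq_zero_of_not_mem fun k => h1 (x2.subset k)]
    · rw [k7 n e, List.count_cons_of_ne (Ne.symm e), x2.count_eq]
  obtain ⟨a, L, rfl, a1, l0⟩ := List.map_eq_cons_iff.mp l1
  obtain rfl := eq_triv_of_dg (E11.hna hG) a1
  refine not_ok hG B hC A hA D hc E hc7 c1 c3 l2 l3 l0 (f := f) ?_ k5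
  have hO : ∀ x ∈ O7, ok x = true := by
    simp only [O7, List.forall_mem_cons]
    exact ⟨k1, k2, k3, k4, B76.k5, List.all_eq_true.mp k0⟩
  exact hO _ x1

end H17.Ord.M24
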