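import Mathlib
import Cfsg.Agent.Base
import Cfsg.Agent.Lib.Ord.Col

/-! Numerical checks for simple groups of order 244823040: involution columns. -/

set_option autoImplicit false

open H4.Sv

namespace H17.Ord.M24

noncomputable def cl (p e c C : ℕ) (o : List ℕ) : List (List (ℕ × ℤ)) :=
  cols 244823040 p e c C (fl [5, 7, 11, 23] p C) o

def gv (A : List (ℕ × ℤ)) (d : ℕ) : ℤ := (A.lookup d).getD 0

def w23 (d : ℕ) : ℤ := gv [(10395, -1), (3520, 1), (252, -1), (231, 2), (45, -2)] d

def g23 (d : ℕ) : ℤ := gv [(10395, -64), (3520, 189), (252, -2640), (231, 5760), (45, -29568)] d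

noncomputable def sol (C : ℕ) (t y : ℤ) : List (List (ℕ × ℤ)) :=
  fR w23 g23 (cnd 244823040 C (fl [5, 7, 11, 23] 23 C)) [10395, 3520, 252, 231, 45] fun R =>
    fN (C - (1 + t.natAbs * t.natAbs + 2 * (y.natAbs * y.natAbs))) fun b =>
      fI (1 + 2 * y + t) fun s => fI (665280 + 1344 * (y * y) + 120 * (t * t)) fun q =>
        dfs (fun acc _ s q => bif Int.mul 864 (Int.mul s s) == q then [acc] else []) R [] b s q

def g11 (C : ℕ) (a b c e : ℤ) (d : ℕ) (z : ℤ) : Bool :=
  bif d == 45 then z == a else bif d == 252 then z == b else bif d == 1035 then z == c else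
    bif d == 5796 then z == e else fl [5, 7, 11, 23] 11 C d z

def AB : List (List ℕ) := [[230, 45, 45, 252, 1035, 5796, 1288, 4830, 483, 483],
  [3312, 45, 45, 252, 1035, 5796, 1288, 1288, 483, 483]]

set_option maxHeartbeats 0 in
theorem kB : ((divs 967680).all fun C => C % 14 != 0 ||
    (cl 7 3 6 C [990, 990, 1035, 2024]).all fun y => (cl 5 4 12 C [1771, 2024, 5544, 5796]).all
      fun x => (sol C (gv x 5544) (gv y 990)).all fun B => AB.all fun a =>
        (cols 244823040 11 10 1 C (g11 C (gv B 45) (gv B 252) (gv y 1035) (gv x 5796)) a).all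
          fun A => !A.contains (483, gv B 252 + gv B 231)) = true := by decide +kernel

end H17.Ord.M24
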