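import Mathlib
import Cfsg.Agent.Base
import Cfsg.Agent.Lib.Ord.M24D

/-! The character degrees of a simple group of order 244823040. -/

set_option autoImplicit false
set_option linter.unusedSectionVars false
set_option linter.style.haveILetI false

open Cfsg H4.Sv

namespace H17.Ord

theorem filter_split (U : Multiset ℕ) {r r₁ r₂ : ℕ → Prop} [DecidablePred r] [DecidablePred r₁]
    [DecidablePred r₂] (h : ∀ d, (r d ↔ r₁ d ∨ r₂ d) ∧ ¬ (r₁ d ∧ r₂ d)) :
    U.filter r = U.filter r₁ + U.filter r₂ := by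
  rw [← Multiset.filter_add_not r₁ (U.filter r), Multiset.filter_filter, Multiset.filter_filter]
  congr 1 <;> exact Multiset.filter_congr fun d _ => by have := h d; tauto

theorem split_a (x y : Prop) : (¬ (x ∧ y) ↔ (x ∧ ¬ y) ∨ ¬ x) ∧ ¬ ((x ∧ ¬ y) ∧ ¬ x) := by tauto

theorem Part.le {U : Multiset ℕ} {p W : ℕ} {T : List Ty0} {o : List ℕ} (h : Part U p W T o) :
    (o : Multiset ℕ) ≤ U := by
  obtain ⟨M, -, -, h⟩ := h
  exact (h ▸ Multiset.le_add_right _ _).trans (Multiset.filter_le _ _)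

def sgd (p d : ℕ) : ℤ := sg p d * d

theorem natAbs_sgd (p d : ℕ) : (sgd p d).natAbs = d := by
  unfold sgd sg; split_ifs <;> simp

theorem map_natAbs_sgd (p : ℕ) (V : Multiset ℕ) : (V.map (sgd p)).map Int.natAbs = V := by
  rw [Multiset.map_map]
  exact (Multiset.map_congr rfl fun d _ => natAbs_sgd p d).trans V.map_id'

theorem sq_sgd (p : ℕ) (V : Multiset ℕ) :
    ((V.map (sgd p)).map fun a => a.natAbs ^ 2).sum = msq V := by
  rw [Multiset.map_map, msq]
  exact congrArg _ (Multiset.map_congr rfl fun d _ => by simp [natAbs_sgd, sq])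

instance fact5 : Fact (Nat.Prime 5) := ⟨by norm_num⟩
instance fact7 : Fact (Nat.Prime 7) := ⟨by norm_num⟩
instance fact11 : Fact (Nat.Prime 11) := ⟨by norm_num⟩

namespace M24

theorem fq_iff {q d : ℕ} : fq q d = true ↔ q ∣ d := by
  rw [fq, Nat.beq_eq, Nat.dvd_iff_mod_eq_zero]; rfl

theorem dvd_mul_iff {a b : ℕ} (h : a.Coprime b) (d : ℕ) : a * b ∣ d ↔ a ∣ d ∧ b ∣ d :=
  ⟨fun k => ⟨(dvd_mul_right a b).trans k, (dvd_mul_left b a).trans k⟩,
    fun k => h.mul_dvd_of_dvd_of_dvd k.1 k.2⟩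

section num
variable {U : Multiset ℕ} {o5 o7 : List ℕ} (hU : msq U = 244823039) (hD : ∀ d ∈ U, d ∈ D)
  (k5 : o5 ∈ O5) (h5 : Part U 5 11 T5 o5) (k7 : o7 ∈ O7) (h7 : Part U 7 5 T7 o7)
include hU hD k5 h5 k7 h7

theorem chkB_sound {V : Multiset ℕ} {E : ℕ} (h1 : V.card = 10)
    (h2 : ∀ d ∈ V, d % 23 = 1 ∨ d % 23 = 22) (h3 : (1 + (V.map (sgd 23)).sum).natAbs = E)
    (h4 : E % 23 = 11 ∨ E % 23 = 12)
    (h6 : U.filter (fun d => ¬ 23 ∣ d) = V + Multiset.replicate 2 E)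
    {cs : List ℤ} {ini : List ℕ} (h : chkB cs (ini.map (sgd 23)) = true)
    (i1 : (ini : Multiset ℕ) ≤ U) (i2 : ∀ d ∈ ini, d % 23 = 1 ∨ d % 23 = 22)
    (hc : ∀ d ∈ U, d % 23 = 1 ∨ d % 23 = 22 → sgd 23 d ∈ cs) :
    ∃ b ∈ SB, U.filter (fun d => ¬ 23 ∣ d) = (b : List ℕ) := by
  have h0 := h6 ▸ Multiset.filter_le (fun d => ¬ 23 ∣ d) U
  have hE : E ∈ U := Multiset.mem_of_le h0 (by simp)
  have hV : ∀ d ∈ V, d ∈ U := fun d h => Multiset.mem_of_le h0 (Multiset.mem_add.mpr (Or.inl h))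
  have i3 := Multiset.filter_le_filter (fun d => d % 23 = 1 ∨ d % 23 = 22)
    (Multiset.le_filter.mpr ⟨i1, fun d h => by have := i2 d h; omega⟩ :
      (ini : Multiset ℕ) ≤ U.filter fun d => ¬ 23 ∣ d)
  rw [h6, Multiset.filter_add, Multiset.filter_eq_self.mpr i2, Multiset.filter_eq_self.mpr h2,
    Multiset.filter_eq_nil.mpr fun d h => by rw [Multiset.eq_of_mem_replicate h]; omega,
    add_zero] at i3
  obtain ⟨R, rfl⟩ := Multiset.le_iff_exists_add.mp i3
  obtain ⟨I7, Q7, j7, h⟩ := idx_sound h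
  obtain ⟨I5, Q5, j5, h⟩ := idx_sound h
  have e1 := congrArg msq (Multiset.filter_add_not (fun d => 23 ∣ d) U)
  have e2 := sq_sgd 23 ini
  rw [h6, msq_add, msq_add, msq_add, hU, show msq (Multiset.replicate 2 E) = 2 * (E * E) by
    simp [msq, two_mul]] at e1
  rw [Multiset.map_coe, Multiset.map_coe, Multiset.sum_coe] at e2
  obtain ⟨l, l1, l2⟩ := srch_sound _ _ _ _ _ (R.map (sgd 23)) h
    (by simp only [Multiset.card_add, Multiset.coe_card] at h1; simp; omega)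
    (fun a ha => by
      obtain ⟨d, k, rfl⟩ := Multiset.mem_map.mp ha
      exact hc d (hV d (Multiset.mem_add.mpr (Or.inr k))) (h2 d (Multiset.mem_add.mpr (Or.inr k))))
    (by rw [sq_sgd, e2]; omega)
  have e3 : ∀ d ∈ D, d % 23 = 11 ∨ d % 23 = 12 → Nat.beq (Nat.mod 10644480 d) 0 = true ∧
    f11 d = true := by decide +kernel
  have e4 : U.filter (fun d => ¬ fq 23 d = true) = (E :: E :: l.map Int.natAbs : List ℕ) := by
    simp only [fq_iff]
    rw [h6, ← Multiset.cons_coe, ← Multiset.cons_coe, ← Multiset.map_coe, l1, ← Multiset.map_coe,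
      ← Multiset.map_add, map_natAbs_sgd, add_comm R, add_comm]
    simp
  rw [Multiset.map_add, Multiset.sum_add, Multiset.map_coe, Multiset.sum_coe, ← add_assoc] at h3
  beta_reduce at l2
  rw [fN_eq, h3, (e3 E (hD E hE) h4).1, (e3 E (hD E hE) h4).2, sq_sgd, e2,
    Nat.ble_eq.mpr (by omega), fM_eq, no, no, ← hU, run_false j7 h7 e4 k7, run_false j5 h5 e4 k5]
    at l2
  obtain ⟨b, b1, b2⟩ := srt_sound (l := E :: E :: l.map Int.natAbs) l2
  refine ⟨b, mem_of_anyL b2, ?_⟩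
  simp only [fq_iff] at e4
  rw [b1, e4]

theorem exB {V : Multiset ℕ} {E : ℕ} (h1 : V.card = 10)
    (h2 : ∀ d ∈ V, d % 23 = 1 ∨ d % 23 = 22) (h3 : (1 + (V.map (sgd 23)).sum).natAbs = E)
    (h4 : E % 23 = 11 ∨ E % 23 = 12)
    (h6 : U.filter (fun d => ¬ 23 ∣ d) = V + Multiset.replicate 2 E) :
    ∃ b ∈ SB, U.filter (fun d => ¬ 23 ∣ d) = (b : List ℕ) := by
  have a1 : 5544 ∈ U := Multiset.mem_of_le h5.le ((by decide : ∀ o ∈ O5, 5544 ∈ o) _ k5)
  have a2 : ∀ d ∈ D, d % 23 = 1 ∨ d % 23 = 22 → sgd 23 d ∈ cB ++ [-22] ∧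
    (d = 22 ∨ sgd 23 d ∈ cB) := by decide +kernel
  have k := fun cs ini => chkB_sound hU hD k5 h5 k7 h7 h1 h2 h3 h4 h6 (cs := cs) (ini := ini)
  by_cases a3 : 22 ∈ U
  · exact k _ [5544, 22] sB1 ((Multiset.cons_le_of_notMem (by simp)).mpr
      ⟨a1, Multiset.singleton_le.mpr a3⟩) (by decide) fun d h h' => (a2 d (hD d h) h').1
  have a4 : ∀ d ∈ U, d % 23 = 1 ∨ d % 23 = 22 → sgd 23 d ∈ cB := fun d h h' =>
    (a2 d (hD d h) h').2.resolve_left fun e => a3 (e ▸ h)
  rcases (by decide : ∀ o ∈ O7, 22 ∈ o ∨ 3520 ∈ o ∨ [990, 990].Sublist o) _ k7 with h | h | h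
  · exact absurd (Multiset.mem_of_le h7.le h) a3
  · exact k _ [5544, 3520] sB3 ((Multiset.cons_le_of_notMem (by simp)).mpr
      ⟨a1, Multiset.singleton_le.mpr (Multiset.mem_of_le h7.le h)⟩) (by decide) a4
  · exact k _ [5544, 990, 990] sB2 ((Multiset.cons_le_of_notMem (by simp)).mpr
      ⟨a1, (Multiset.coe_le.mpr h.subperm).trans h7.le⟩) (by decide) a4

theorem exU {b : List ℕ} (hb : b ∈ SB) (h1 : U.filter (fun d => ¬ 23 ∣ d) = b)
    (h2 : (U.filter fun d => ¬ 11 ∣ d).card = 10)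
    (h3 : 1 + ((U.filter fun d => ¬ 11 ∣ d).map (sgd 11)).sum = 0) :
    ∃ u ∈ FG ++ FB, U = (u : List ℕ) := by
  have d1 := dvd_mul_iff (a := 23) (b := 11) (by norm_num)
  have d2 : ∀ d, 1771 ∣ d ↔ _ := dvd_mul_iff (a := 253) (b := 7) (by norm_num)
  have d3 := dvd_mul_iff (a := 1771) (b := 5) (by norm_num)
  set A := U.filter fun d => 23 ∣ d ∧ ¬ 11 ∣ d with hA
  have e1 : U.filter (fun d => ¬ 11 ∣ d) = A + ([252, 45, 45] : List ℕ) := by
    rw [← (by decide : ∀ b ∈ SB, b.filter (fun d => ¬ 11 ∣ d) = [252, 45, 45]) b hb,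
      ← Multiset.filter_coe, ← h1, Multiset.filter_filter]
    exact filter_split U fun d => by tauto
  have e2 : U.filter (fun d => ¬ fq 253 d = true) = A + b := by
    rw [← h1]
    exact filter_split U fun d => by rw [fq_iff, d1]; tauto
  have e3 := congrArg msq (Multiset.filter_add_not (fun d => fq 253 d = true) U)
  have e4 := (by decide +kernel : ∀ b ∈ SB, 154502637 ≤ sqs b) b hb
  rw [e2, msq_add, msq_add, hU, msq_coe] at e3
  rw [e1, Multiset.map_add, Multiset.sum_add,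
    show ((([252, 45, 45] : List ℕ) : Multiset ℕ).map (sgd 11)).sum = -162 by decide] at h3
  rw [e1, Multiset.card_add] at h2
  obtain ⟨I7, Q7, j7, h⟩ := idx_sound sA
  obtain ⟨I5, Q5, j5, h⟩ := idx_sound h
  obtain ⟨l, l1, l2⟩ := srch_sound _ _ _ _ _ (A.map (sgd 11)) h (by simp at h2 ⊢; omega)
    (fun a ha => by
      obtain ⟨d, k, rfl⟩ := Multiset.mem_map.mp ha
      obtain ⟨k1, k2⟩ := Multiset.mem_filter.mp k
      exact (by decide +kernel : ∀ d ∈ D, 23 ∣ d ∧ ¬ 11 ∣ d → sgd 11 d ∈ cA) d (hD d k1) k2)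
    (by rw [sq_sgd]; omega)
  beta_reduce at l2
  rw [beq_iff_eq.mpr (by omega), cond_true] at l2
  obtain ⟨a, a1, a2⟩ := srt_sound l2
  rw [← Multiset.map_coe, l1, Multiset.coe_nil, add_zero, map_natAbs_sgd] at a1
  rw [← a1, Multiset.coe_add] at e2
  have a3 : a ∈ AL := mem_of_anyL (by
    by_contra k
    rw [Bool.eq_false_iff.mpr k, cond_false] at a2
    have := allL_mem a2 hb
    rw [fM_eq, no, no, ← hU, run_false j7 h7 e2 k7, run_false j5 h5 e2 k5] at this
    exact Bool.false_ne_true this)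
  obtain ⟨L, a4, h⟩ : ∃ L, a ∈ L ∧ chkA L = true := by
    rw [← List.take_append_drop 9 AL, ← List.take_append_drop 4 (AL.drop 9)] at a3
    simp only [List.mem_append] at a3
    exact a3.elim (fun h => ⟨_, h, sC1⟩) fun h => h.elim (fun h => ⟨_, h, sC2⟩) fun h => ⟨_, h, sC3⟩
  clear j7 j5 a2 l2
  obtain ⟨I7, Q7, j7, h⟩ := idx_sound h
  obtain ⟨I5, Q5, j5, h⟩ := idx_sound h
  obtain ⟨J5, P5, i5, h⟩ := idx_sound h
  have h := allL_mem (allL_mem h a4) hb
  rw [fM_eq, no, no, ← hU, run_false j7 h7 e2 k7, run_false j5 h5 e2 k5, cond_false, cond_false,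
    fN_eq] at h
  obtain ⟨x, x1, x2⟩ := run_exact j7 h7 e2 k7 h
  have e5 : U.filter (fun d => ¬ fq 1771 d = true) = (x ++ (a ++ b) : List ℕ) := by
    rw [← Multiset.coe_add, x2, ← e2]
    exact filter_split U fun d => by
      simp only [fq_iff, d2]; exact split_a _ _
  have e6 := h5.sum_le m5 (fun d h => Nat.mod_eq_zero_of_dvd (h.mul_left d)) (by decide +kernel)
    (e5 ▸ Multiset.filter_le _ _)
  have e7 := (by decide : ∀ o ∈ O5, (o.map m5).sum = 4) _ k5
  rw [Multiset.map_coe, Multiset.sum_coe, List.map_append, List.sum_append] at e6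
  rw [K7, sm_eq, sm_eq, (Bool.eq_false_iff (b := Nat.blt 59 _)).mpr fun k => by
    rw [Nat.blt_eq, Nat.add_eq] at k; omega, cond_false, fM_eq, app_eq, ← hU] at x1
  obtain ⟨y, y1, y2⟩ := run_exact i5 h5 e5 k5 x1
  rw [K5, fq_iff.mpr (sq_dvd_msq fun d h => (d3 d).mpr
    ((Multiset.mem_filter.mp h).2.imp_left fq_iff.mp)), cond_true, Bool.and_eq_true,
    Nat.beq_eq] at y1
  obtain ⟨u, u1, u2⟩ := srt_sound y1.2
  refine ⟨u, mem_of_anyL u2, ?_⟩
  rw [u1, ← Multiset.coe_add, y2, ← e5, ← filter_split (r := fun d => ¬ (fq 1771 d = true ∧ 5 ∣ d))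
    U fun d => split_a _ _, eq_comm, Multiset.filter_eq_self]
  intro d h k
  have := Multiset.single_le_sum (fun _ _ => Nat.zero_le _) _ (Multiset.mem_map_of_mem
    (fun d => d * d) (Multiset.mem_filter.mpr ⟨h, k⟩ : d ∈ U.filter fun d =>
      fq 1771 d = true ∧ 5 ∣ d))
  rw [show Multiset.sum _ = 0 from y1.1, Nat.le_zero, mul_self_eq_zero] at this
  exact (by decide : 0 ∉ D) (this ▸ hD d h)

end num

/-- the local data at the primes `23`, `11`, `5`, `7` -/
structure Main (G : Type*) [Group G] [Finite G] where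
  P : Subgroup G
  Q : Subgroup G
  R : Subgroup G
  S : Subgroup G
  B : PB G 23 P 11
  A : PB G 11 Q 10
  F : PB G 5 R 4
  E : PB G 7 S 3
  hB : Subgroup.centralizer (P : Set G) = P
  hA : Subgroup.centralizer (Q : Set G) = Q
  hF : Nat.card (Subgroup.centralizer (R : Set G)) = 5 * (11 + 1)
  hE : Nat.card (Subgroup.centralizer (S : Set G)) = 7 * (5 + 1)

variable {G : Type*} [Group G] [Finite G] [IsSimpleGroup G]

theorem hna (hG : Nat.card G = 244823040) : ∃ a b : G, a * b ≠ b * a :=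
  noncomm_of_not_prime (by rw [hG]; norm_num)

variable (hG : Nat.card G = 244823040) (M : Main G)
include hG M

theorem f11_of (χ : IrrCharacter G) : f11 (dg χ) = true := by
  have := dg_ne_half (p := 23) (hna hG) (by rw [hG]; norm_num) (by rw [hG]; norm_num)
    (by rw [hG]; norm_num) (by norm_num) χ
  have k := M.A.res M.hA χ
  simp only [f11, Bool.and_eq_true, List.contains_iff_mem, bne_iff_ne, List.mem_cons,
    List.not_mem_nil, or_false] at k ⊢
  omega

theorem fD_of (χ : IrrCharacter G) : fD (dg χ) = true := by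
  rw [fD, List.contains_iff_mem.mpr (M.B.res M.hB χ), f11_of hG M, Bool.and_self]

theorem mem_D (χ : IrrCharacter G) (h : χ ≠ triv G) : dg χ ∈ D := by
  classical
  refine (cD _ (mem_divs (by norm_num) (hG ▸ dg_dvd χ)) ?_ (fD_of hG M χ)).resolve_left
    fun k => h (eq_triv_of_dg (hna hG) k)
  have := sum_dg_sq_le {χ}
  rwa [Finset.sum_singleton, sq, hG] at this

variable [DecidableEq (IrrCharacter G)]

theorem ex5 : ∃ o ∈ O5, 1 ∉ o ∧ ∀ d, d ≠ 1 → cnt (M.F.X ∪ M.F.Y) d = o.count d := by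
  obtain ⟨o, o1, o0, o2⟩ := M.F.sieveF (hna hG) (by norm_num) hG M.hF
    (fun χ _ _ => fD_of hG M χ) s5
  obtain ⟨a, a1, a2⟩ := List.any_eq_true.mp o1
  rw [List.isPerm_iff] at a2
  exact ⟨a, a1, fun h => o0 (a2.subset h), fun d h => (o2 d h).trans (a2.count_eq d).symm⟩

theorem ex7 : ∃ o ∈ O7, 1 ∉ o ∧ ∀ d, d ≠ 1 → cnt (M.E.X ∪ M.E.Y) d = o.count d := by
  obtain ⟨o, o1, o0, o2⟩ := M.E.sieveF (hna hG) (by norm_num) hG M.hE
    (fun χ _ _ => fD_of hG M χ) s7
  obtain ⟨a, a1, a2⟩ := List.any_eq_true.mp o1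
  rw [List.isPerm_iff] at a2
  exact ⟨a, a1, fun h => o0 (a2.subset h), fun d h => (o2 d h).trans (a2.count_eq d).symm⟩

theorem degs_eq : ∃ u ∈ FG ++ FB, dU G = (u : List ℕ) := by
  have na := hna hG
  obtain ⟨o5, k5, a5, b5⟩ := ex5 hG M
  obtain ⟨o7, k7, a7, b7⟩ := ex7 hG M
  have h5 := (M.F.part na hG M.hF a5 b5 (mem_D hG M) c5).1
  have h7 := (M.E.part na hG M.hE a7 b7 (mem_D hG M) c7).1
  have hU : msq (dU G) = 244823039 := by have := msq_dU (G := G); omega
  have hD : ∀ d ∈ dU G, d ∈ D := fun d h => by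
    obtain ⟨χ, k, rfl⟩ := mem_dU.mp h
    exact mem_D hG M χ k
  have t := M.B.triv_mem_X (by norm_num) na
  obtain ⟨θ, hθ⟩ := M.B.Y_nonempty
  obtain ⟨b, b1, b2⟩ := exB hU hD k5 h5 k7 h7 (V := dm (M.B.X.erase (triv G))) (E := dg θ)
    (by rw [dm, Multiset.card_map, Finset.card_val, Finset.card_erase_of_mem t, M.B.cardX])
    (fun d h => by
      obtain ⟨χ, k, rfl⟩ := Multiset.mem_map.mp h
      have := M.B.modX (Finset.mem_of_mem_erase k)
      omega)
    (by
      have := M.B.deg_eq hθ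
      rw [← Finset.add_sum_erase _ _ t, M.B.ε_triv t, dg_triv, Finset.sum_congr rfl fun χ h => by
        rw [M.B.ε_eq (by norm_num) (Finset.mem_of_mem_erase h)]] at this
      rw [dm, Multiset.map_map, show 1 + Multiset.sum (Multiset.map (sgd 23 ∘ dg)
        (M.B.X.erase (triv G)).val) = M.B.δ * dg θ from this.symm]
      rcases M.B.dsgn with k | k <;> simp [k])
    (by have := M.B.modY hθ; omega)
    (by
      have := M.B.dU_filter M.hB
      rw [dm_eq_sum, Finset.sum_union M.B.disj, ← dm_eq_sum, ← dm_eq_sum, dm_erase t,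
        Multiset.cons_add, Multiset.cons_inj_right] at this
      rw [this]
      congr 1
      exact Multiset.eq_replicate.mpr ⟨by rw [dm, Multiset.card_map, Finset.card_val, M.B.cardY],
        fun d h => by
          obtain ⟨χ, k, rfl⟩ := Multiset.mem_map.mp h
          exact M.B.dgY k hθ⟩)
  obtain ⟨Z, s, z1, -, z2, z3, -, z4⟩ := M.A.full rfl
  obtain rfl : Z = M.A.X ∪ M.A.Y := Finset.ext fun χ => by rw [z2, Finset.mem_union]
  have k := M.A.dU_filter M.hA
  refine exU hU hD k5 h5 k7 h7 b1 b2 ?_ ?_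
  · have := congrArg Multiset.card k
    rw [dm, Multiset.card_map, Finset.card_val, z1, Multiset.card_cons] at this
    omega
  · have := congrArg (fun V => (V.map (sgd 11)).sum) k
    simp only [Multiset.map_cons, Multiset.sum_cons, dm, Multiset.map_map] at this
    refine this.trans ?_
    have k1 := z4 1 PB.reg_one
    simp only [dg_cast] at k1
    refine (Finset.sum_congr rfl fun χ h => ?_).trans (show ∑ χ ∈ _, s χ * (dg χ : ℤ) = 0 by
      exact_mod_cast k1)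
    rcases z3 χ h with k | k <;> simp [sgd, sg, k.1, k.2]

end M24

end H17.Ord
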