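import Mathlib
import Cfsg.Agent.Base
import Cfsg.Agent.Lib.Ord.M24N
import Cfsg.Agent.Lib.Ord.M24K
import Cfsg.Agent.Lib.Ord.M22D

/-! A simple group of order 244823040 has a character of degree 23. -/

set_option autoImplicit false
set_option linter.unusedSectionVars false
set_option linter.style.haveILetI false

open Cfsg H4.Sv

namespace H17.Ord.M24
variable {G : Type*} [Group G] [Finite G]

def Same (u : IrrCharacter G → ℤ) (d : ℕ) : Prop := ∀ χ ψ, dg χ = d → dg ψ = d → u χ = u ψ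

theorem mem_of_cnt {S : Finset (IrrCharacter G)} {d : ℕ}
    (h : cnt (G := G) Finset.univ d ≤ cnt S d) {χ : IrrCharacter G} (k : dg χ = d) : χ ∈ S := by
  have := Finset.eq_of_subset_of_card_le
    (Finset.filter_subset_filter (fun χ => dg χ = d) (Finset.subset_univ S)) h
  exact (Finset.mem_filter.mp (this ▸ Finset.mem_filter.mpr ⟨Finset.mem_univ χ, k⟩)).1

theorem same_of_cnt (u : IrrCharacter G → ℤ) {d : ℕ} (h : cnt (G := G) Finset.univ d = 1) :
    Same u d := fun χ ψ a b => by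
  obtain ⟨φ, -, -, k⟩ := cnt_eq_one h
  rw [k χ (Finset.mem_univ _) a, k ψ (Finset.mem_univ _) b]

theorem same_of_eq {s : G} {u : IrrCharacter G → ℤ}
    (hu : ∀ χ : IrrCharacter G, (χ : G → ℂ) s = u χ) {S : Finset (IrrCharacter G)} {d : ℕ}
    (h : cnt (G := G) Finset.univ d ≤ cnt S d)
    (k : ∀ χ ∈ S, ∀ ψ ∈ S, (χ : G → ℂ) s = (ψ : G → ℂ) s) : Same u d := fun χ ψ a b => by
  have := k χ (mem_of_cnt h a) ψ (mem_of_cnt h b)
  rw [hu, hu] at this
  exact_mod_cast this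

theorem gv_map {u : IrrCharacter G → ℤ} {χ : IrrCharacter G} (h : Same u (dg χ)) :
    ∀ {L : List (IrrCharacter G)}, χ ∈ L → gv (L.map (pr u)) (dg χ) = u χ
  | ψ :: L, k => by
    rw [gv, List.map_cons, pr, List.lookup_cons]
    cases e : dg χ == dg ψ
    · exact gv_map h ((List.mem_cons.mp k).resolve_left fun k => by simp [k] at e)
    · exact h ψ χ (beq_iff_eq.mp e).symm rfl

theorem sum_dm {A : Type*} [AddCommMonoid A] (S : Finset (IrrCharacter G)) (F : ℕ → A) :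
    ∑ χ ∈ S, F (dg χ) = ((dm S).map F).sum := by rw [dm, Multiset.map_map]; rfl

theorem exists_val (u : IrrCharacter G → ℤ) :
    ∃ v : ℕ → ℤ, ∀ χ, Same u (dg χ) → u χ = v (dg χ) := by
  classical
  refine ⟨fun d => if h : ∃ χ : IrrCharacter G, dg χ = d then u h.choose else 0, fun χ h => ?_⟩
  have k : ∃ ψ : IrrCharacter G, dg ψ = dg χ := ⟨χ, rfl⟩
  beta_reduce
  rw [dif_pos k]
  exact h _ _ rfl k.choose_spec

def B0 : List ℕ := [10395, 5544, 3520, 990, 990, 770, 770, 252, 231, 231, 45, 45]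

theorem bad_facts : ∀ u ∈ FB, u.filter (fun d => ¬ 23 ∣ d) = B0 ∧
    (∃ a ∈ AB, a.Perm (u.filter fun d => ¬ 11 ∣ d)) ∧
    (∀ o ∈ O5, (∀ d ∈ o, d ∈ u) → o = [1771, 2024, 5544, 5796]) ∧
    (∀ o ∈ O7, (∀ d ∈ o, d ∈ u) → o = [990, 990, 1035, 2024]) ∧
    (∀ d ∈ [10395, 5544, 3520, 252, 1035, 5796], u.count d = 1) ∧
    (∀ d ∈ [990, 770, 231, 45], u.count d = 2) := by decide +kernel

theorem bad5 : ∀ u ∈ FB, ∀ t ∈ T5, 231 ∈ t.2.1 ++ t.2.2 → (∀ d ∈ t.2.1 ++ t.2.2,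
    ([1771, 2024, 5544, 5796] ++ (t.2.1 ++ t.2.2)).count d ≤ u.count d) →
      t.2 = ([483, 252], [231, 231]) := by decide +kernel

theorem bad7 : ∀ u ∈ FB, ∀ t ∈ T7, 45 ∈ t.2.1 ++ t.2.2 → (∀ d ∈ t.2.1 ++ t.2.2,
    ([990, 990, 1035, 2024] ++ (t.2.1 ++ t.2.2)).count d ≤ u.count d) → t.2.2 = [45, 45] := by
  decide +kernel

variable [IsSimpleGroup G] (hG : Nat.card G = 244823040) (M : Main G)
include hG M

theorem cent_dvd {s : G} (hs : orderOf s = 2) :
    Nat.card (Subgroup.centralizer ({s} : Set G)) ∣ 967680 :=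
  M22.dvd_of_not (p := 11) (by norm_num) (M22.dvd_of_not (p := 23) (by norm_num)
    ((Subgroup.card_subgroup_dvd_card _).trans hG.dvd)
    (M.B.not_dvd_cent M.hB hs Nat.prime_two (by norm_num)))
    (M.A.not_dvd_cent M.hA hs Nat.prime_two (by norm_num))

variable [DecidableEq (IrrCharacter G)]

theorem not_bad {U : List ℕ} (h : U ∈ FB) (hU : dU G = U) : False := by
  have na := hna hG
  obtain ⟨f1, ⟨a, a1, a2⟩, f3, f4, f5, f6⟩ := bad_facts U h
  obtain ⟨o5, k5, a5, b5⟩ := ex5 hG M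
  obtain ⟨o7, k7, a7, b7⟩ := ex7 hG M
  obtain ⟨h5, n5⟩ := M.F.part na hG M.hF a5 b5 (mem_D hG M) c5
  obtain ⟨h7, n7⟩ := M.E.part na hG M.hE a7 b7 (mem_D hG M) c7
  obtain rfl := f3 o5 k5 fun d k => Multiset.mem_of_le (hU ▸ h5.le) k
  obtain rfl := f4 o7 k7 fun d k => Multiset.mem_of_le (hU ▸ h7.le) k
  have c : ∀ d, d ≠ 1 → cnt (G := G) Finset.univ d = U.count d := fun d h => by
    rw [← count_dU h, hU, Multiset.coe_count]
  have ex : ∀ {S : Finset (IrrCharacter G)} {o : List ℕ}, (∀ d, d ≠ 1 → cnt S d = o.count d) →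
      ∀ d ∈ o, d ≠ 1 → ∃ χ ∈ S, dg χ = d := fun h d k k' =>
    cnt_pos.mp (h d k' ▸ List.count_pos_iff.mpr k)
  have nm : ∀ {S : Finset (IrrCharacter G)} {o : List ℕ}, (∀ d, d ≠ 1 → cnt S d = o.count d) →
      ∀ χ, dg χ ∉ o → dg χ ≠ 1 → χ ∉ S := fun h χ k k' e =>
    k (List.count_pos_iff.mp (h _ k' ▸ cnt_pos.mpr ⟨χ, e, rfl⟩))
  obtain ⟨s, hs, -, s1⟩ := exists_elt_cen M.E.card Nat.prime_two (by norm_num)
    (by rw [M.hE]; norm_num)
  obtain ⟨u, hu, u1, -⟩ := exists_invol_col na hs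
  have r : ∀ {p : ℕ}, 2 < p → ¬ p ∣ orderOf s := fun h k => by
    have := Nat.le_of_dvd two_pos (hs ▸ k); omega
  have s1' : ∀ d ∈ [10395, 5544, 3520, 252, 1035, 5796], Same u d := fun d h =>
    same_of_cnt u ((c d (by rintro rfl; simp at h)).trans (f5 d h))
  have g : ∀ d ∈ U, d ≠ 1 → ∃ χ : IrrCharacter G, dg χ = d := fun d h k =>
    (ex c d h k).imp fun _ h => h.2
  have m2 : ∀ d ∈ [990, 770, 231, 45], d ∈ U := fun d h =>
    List.count_pos_iff.mp (by rw [f6 d h]; norm_num)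
  have c2 : ∀ d ∈ [990, 770, 231, 45], cnt (G := G) Finset.univ d = 2 := fun d h =>
    (c d (by rintro rfl; simp at h)).trans (f6 d h)
  have sub : ∀ {l : List ℕ}, (l : Multiset ℕ) ≤ dU G → ∀ d, l.count d ≤ U.count d := fun h d => by
    simpa [hU] using Multiset.count_le_of_le d h
  have s45 : Same u 45 := by
    obtain ⟨χ, k⟩ := g 45 (m2 _ (by simp)) (by norm_num)
    obtain ⟨m, A, -, t, t1, t2, t3, t4⟩ := n7 χ (by omega) (nm b7 χ (by rw [k]; decide) (by omega))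
    have t5 := bad7 U h t t1 (k ▸ t2) fun d _ => sub t4 d
    refine same_of_eq hu ?_ fun χ a ψ b => A.regY χ a ψ b s (r (by norm_num))
    rw [c2 _ (by simp), ← count_dm, ← (t3 (by simp [t5])).2, t5]
    decide
  obtain ⟨s231, φ, φ1, φ2⟩ : Same u 231 ∧ ∃ φ, dg φ = 483 ∧ ∀ χ ψ, dg χ = 252 → dg ψ = 231 →
      u φ = u χ + u ψ := by
    obtain ⟨χ, k⟩ := g 231 (m2 _ (by simp)) (by norm_num)
    obtain ⟨m, A, -, t, t1, t2, t3, t4⟩ := n5 χ (by omega) (nm b5 χ (by rw [k]; decide) (by omega))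
    have t5 := bad5 U h t t1 (k ▸ t2) fun d _ => sub t4 d
    rw [t5] at t3
    obtain ⟨t6, t7⟩ := t3 (by simp)
    have t8 : cnt (G := G) Finset.univ 231 ≤ cnt A.Y 231 := by
      rw [c2 _ (by simp), ← count_dm, ← t7]; decide
    refine ⟨same_of_eq hu t8 fun χ a ψ b => A.regY χ a ψ b s (r (by norm_num)), ?_⟩
    obtain ⟨φ, p1, p2⟩ := Multiset.mem_map.mp (show 483 ∈ dm A.X from t6 ▸ by simp)
    obtain ⟨ξ, q1, q2⟩ := Multiset.mem_map.mp (show 252 ∈ dm A.X from t6 ▸ by simp)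
    have ne : φ ≠ ξ := by rintro rfl; omega
    have e : {φ, ξ} = A.X := Finset.eq_of_subset_of_card_le
      (Finset.insert_subset p1 (Finset.singleton_subset_iff.mpr q1)) (by
        rw [Finset.card_pair ne, ← Finset.card_val, ← Multiset.card_map dg, ← dm, ← t6]; rfl)
    refine ⟨φ, p2, fun χ ψ a b => ?_⟩
    have k1 := A.rel ψ (mem_of_cnt t8 b) s (r (by norm_num))
    have k2 := A.deg_eq (mem_of_cnt t8 b)
    rw [← e, Finset.sum_pair ne] at k1 k2
    rw [hu, hu, hu] at k1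
    replace k1 : A.δ * u ψ = A.ε φ * u φ + A.ε ξ * u ξ := by exact_mod_cast k1
    rw [s1' 252 (by simp) χ ξ a q2]
    rcases A.dsgn with x | x <;> rcases A.sgn φ p1 with y | y <;> rcases A.sgn ξ q1 with z | z <;>
      rw [x, y, z] at k1 k2 <;> omega
  have s990 : Same u 990 := same_of_eq hu (S := M.E.Y) (by
      rw [c2 _ (by simp), ← show cnt (M.E.X ∪ M.E.Y) 990 = 2 from b7 _ (by norm_num)]
      refine (cnt_congr fun χ k => ?_).le
      rw [Finset.mem_union, or_iff_right fun e => by have := M.E.modX e; omega])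
    fun χ a ψ b => M.E.regY χ a ψ b s (r (by norm_num))
  have s770 : Same u 770 := fun χ ψ a b =>
    M.B.reg_int M.hB (by omega) (a.trans b.symm) (r (by norm_num)) hu
  obtain ⟨v, hv⟩ := exists_val u
  have dB := M.B.dU_filter M.hB
  rw [hU, Multiset.filter_coe, f1] at dB
  have sA : ∀ d ∈ 1 :: 990 :: 770 :: 231 :: 45 :: [10395, 5544, 3520, 252, 1035, 5796],
      Same u d := by
    simp only [List.forall_mem_cons (l := _ :: _)] at s1' ⊢
    exact ⟨same_of_cnt u (cnt_one na (Finset.mem_univ _)), s990, s770, s231, s45, s1'⟩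
  have vB : ∀ χ ∈ M.B.X ∪ M.B.Y, u χ = v (dg χ) := fun χ k => hv χ (sA _ ((by decide :
    ∀ d ∈ 1 :: B0, _) _ (show dg χ ∈ 1 ::ₘ (B0 : Multiset ℕ) from dB ▸ Multiset.mem_map_of_mem _ k)))
  have v1 : v 1 = 1 := by rw [← dg_triv (G := G), ← vB _ (Finset.mem_union.mpr M.B.one_mem), u1]
  have e1 := M.B.rel_blk (by norm_num) (r (by norm_num))
  have e2 := M.B.pair_blk (by norm_num) (by decide) M.hB hs hs
  have e3 := (Finset.sum_le_sum_of_subset_of_nonneg (Finset.subset_univ (M.B.X ∪ M.B.Y))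
    fun _ _ _ => sq_nonneg _).trans (col_sq hu).le
  rw [Finset.sum_congr rfl fun χ k => by rw [hu, vB χ k],
    sum_dm _ fun d => (wt 23 11 d : ℂ) * v d, ← dB] at e1
  rw [Finset.sum_congr rfl fun χ k => by rw [hu, vB χ k],
    sum_dm _ fun d => (wt 23 11 d : ℂ) * (v d * v d / d), ← dB] at e2
  rw [Finset.sum_congr rfl fun χ k => by rw [vB χ k], sum_dm _ fun d => v d ^ 2, ← dB] at e3
  simp [B0, wt, v1] at e1 e2 e3
  replace e1 : 1 + 2 * v 990 + v 5544 + (-1 * v 10395 + (1 * v 3520 + (-1 * v 252 + (2 * v 231 +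
      (-2 * v 45 + 0))))) = v 770 := by
    apply Int.cast_injective (α := ℂ); push_cast; linear_combination e1 / 2
  replace e2 : 864 * (v 770 * v 770) = 665280 + 1344 * (v 990 * v 990) + 120 * (v 5544 * v 5544) +
      (-64 * (v 10395 * v 10395) + (189 * (v 3520 * v 3520) + (-2640 * (v 252 * v 252) +
      (5760 * (v 231 * v 231) + (-29568 * (v 45 * v 45) + 0))))) := by
    apply Int.cast_injective (α := ℂ); push_cast; linear_combination -332640 * e2
  have vv : ∀ {L : List (IrrCharacter G)} {χ}, χ ∈ L → dg χ ∈ 1 :: 990 :: 770 :: 231 :: 45 ::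
      [10395, 5544, 3520, 252, 1035, 5796] → gv (L.map (pr u)) (dg χ) = v (dg χ) := fun h k =>
    (gv_map (sA _ k) h).trans (hv _ (sA _ k))
  obtain ⟨L7, -, y1, y2⟩ := M.E.mem_fl na hG (by decide) (by norm_num) M.hE b7 (by decide) hs rfl hu
  obtain ⟨L5, -, x1, x2⟩ := M.F.mem_fl na hG (by decide) (by norm_num) M.hF b5 (by decide) hs rfl hu
  have nt : ∀ {χ : IrrCharacter G} {d}, dg χ = d → d ≠ 1 → χ ≠ triv G := fun h k e =>
    k (by rw [← h, e, dg_triv])
  have y3 : ∀ d ∈ [990, 1035], gv (L7.map (pr u)) d = v d := fun d h => by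
    obtain ⟨i1, i2, i3⟩ := (by decide : ∀ d ∈ [990, 1035], d ∈ [990, 990, 1035, 2024] ∧ d ≠ 1 ∧
      d ∈ 1 :: 990 :: 770 :: 231 :: 45 :: [10395, 5544, 3520, 252, 1035, 5796]) d h
    obtain ⟨χ, k, rfl⟩ := ex b7 d i1 i2
    exact vv ((y1 χ).mpr ⟨Finset.mem_union.mp k, nt rfl i2⟩) i3
  have x3 : ∀ d ∈ [5544, 5796], gv (L5.map (pr u)) d = v d := fun d h => by
    obtain ⟨i1, i2, i3⟩ := (by decide : ∀ d ∈ [5544, 5796], d ∈ [1771, 2024, 5544, 5796] ∧ d ≠ 1 ∧
      d ∈ 1 :: 990 :: 770 :: 231 :: 45 :: [10395, 5544, 3520, 252, 1035, 5796]) d h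
    obtain ⟨χ, k, rfl⟩ := ex b5 d i1 i2
    exact vv ((x1 χ).mpr ⟨Finset.mem_union.mp k, nt rfl i2⟩) i3
  have k := List.all_eq_true.mp kB _ (mem_divs (by norm_num) (cent_dvd hG M hs))
  rw [Nat.mod_eq_zero_of_dvd s1, bne_self_eq_false, Bool.false_or] at k
  replace k := List.all_eq_true.mp (List.all_eq_true.mp k _ y2) _ x2
  rw [y3 _ (by simp), y3 _ (by simp), x3 _ (by simp), x3 _ (by simp)] at k
  set C := Nat.card (Subgroup.centralizer ({s} : Set G)) with hC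
  have e4 := mem_dfs (K := fun acc _ s q => bif Int.mul 864 (Int.mul s s) == q then [acc] else [])
    (w := w23) (g := g23) (V := cnd 244823040 C (fl [5, 7, 11, 23] 23 C))
    (x := ([10395, 3520, 252, 231, 45].map fun d => (d, v d)).reverse)
    ([10395, 3520, 252, 231, 45].map fun d => (d, v d)) (fun x hx => by
      obtain ⟨d, hd, rfl⟩ := List.mem_map.mp hx
      obtain ⟨d1, d2⟩ := (by decide : ∀ d ∈ [10395, 3520, 252, 231, 45], d ≠ 1 ∧ d ∈ B0) d hd
      obtain ⟨χ, q, rfl⟩ := Multiset.mem_map.mp (show d ∈ dm (M.B.X ∪ M.B.Y) from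
        dB ▸ Multiset.mem_cons_of_mem d2)
      exact vB χ q ▸ mem_cnd na hG hs rfl hu d1
        (M.B.fl_of (by rw [hG]; decide) hs rfl hu χ (Finset.mem_union.mp q))) []
    (C - (1 + (v 5544).natAbs * (v 5544).natAbs + 2 * ((v 990).natAbs * (v 990).natAbs)) -
      (([10395, 3520, 252, 231, 45].map fun d => (d, v d)).map
        fun a => a.2.natAbs * a.2.natAbs).sum) (1 + 2 * v 990 + v 5544)
    (665280 + 1344 * (v 990 * v 990) + 120 * (v 5544 * v 5544)) (by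
      erw [beq_iff_eq.mpr ((congrArg (fun z => 864 * (z * z)) e1).trans e2)]
      simp)
  rw [Nat.sub_add_cancel (by
    simp only [List.map_cons, List.map_nil, List.sum_cons, List.sum_nil]
    refine Nat.le_sub_of_add_le ?_
    zify
    simp only [abs_mul_abs_self]
    nlinarith [sq_nonneg (v 770)])] at e4
  replace k := List.all_eq_true.mp (List.all_eq_true.mp k _ (by
    rw [sol, fR_eq, fN_eq, fI_eq, fI_eq]; exact e4)) a a1
  change (cols _ _ _ _ _ (g11 C (v 45) (v 252) (v 1035) (v 5796)) a).all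
    (fun A => !A.contains (483, v 252 + v 231)) = true at k
  obtain ⟨L, -, l1, l2⟩ := M.A.mem_cols (o := a) na (by norm_num) hG (c := 1) (by rw [M.hA, M.A.card])
    (fun d h => by
      rw [← count_dm, ← M.A.dU_filter M.hA, Multiset.count_cons_of_ne h, hU, Multiset.filter_coe,
        Multiset.coe_count, a2.count_eq]) ((by decide : ∀ a ∈ AB, good 11 10 a = true) a a1) hs rfl hu
    (f := g11 C (v 45) (v 252) (v 1035) (v 5796)) fun χ h => by
      have := M.A.fl_of (Q := [5, 7, 11, 23]) (by rw [hG]; decide) hs rfl hu χ h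
      have w : ∀ d ∈ [45, 252, 1035, 5796], dg χ = d → u χ = v d := fun d hd k =>
        k ▸ hv χ (sA _ (k ▸ (by decide : ∀ d ∈ [45, 252, 1035, 5796], d ∈ 1 :: 990 :: 770 :: 231 ::
          45 :: [10395, 5544, 3520, 252, 1035, 5796]) d hd))
      simp only [g11, Bool.cond_eq_ite, beq_iff_eq]
      split_ifs with k1 k2 k3 k4
      exacts [beq_iff_eq.mpr (w _ (by simp) k1), beq_iff_eq.mpr (w _ (by simp) k2),
        beq_iff_eq.mpr (w _ (by simp) k3), beq_iff_eq.mpr (w _ (by simp) k4), this]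
  have := List.all_eq_true.mp k _ l2
  obtain ⟨χ, q1⟩ := g 252 (List.count_pos_iff.mp (by rw [f5 _ (by simp)]; norm_num)) (by norm_num)
  obtain ⟨ψ, q2⟩ := g 231 (m2 _ (by simp)) (by norm_num)
  rw [← φ1, ← q1, ← q2, ← hv _ (q1 ▸ sA _ (by simp)), ← hv _ (q2 ▸ s231), ← φ2 χ ψ q1 q2,
    show (L.map (pr u)).contains (dg φ, u φ) = true from List.contains_iff_mem.mpr
      (List.mem_map_of_mem (f := pr u) ((l1 φ).mpr
      ⟨M.A.mem_of_not_dvd M.hA (by omega), nt φ1 (by norm_num)⟩))] at this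
  exact Bool.false_ne_true this

end H17.Ord.M24
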