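import Mathlib
import Cfsg.Agent.Base
import Cfsg.Agent.Lib.Ord.DgC

/-! The Sylow `23`-subgroups of a simple group of order 244823040 are self-centralizing. -/

set_option autoImplicit false

open Cfsg H4.Sv H34.Deg

namespace H17.Ord.M24

theorem k23 : kp 244823040 23 (fun e c => side 244823040 e c || e == 11 && c == 1)
    (fun d => d != 11) = true := by decide +kernel

theorem exists23 {G : Type*} [Group G] [Finite G] [IsSimpleGroup G] (hG : Nat.card G = 244823040) :
    ∃ P : Subgroup G, Nonempty (PB G 23 P 11) ∧ Subgroup.centralizer (P : Set G) = P := by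
  have hna := noncomm_of_not_prime (G := G) (by rw [hG]; norm_num)
  obtain ⟨P, e, c, hc, ⟨B⟩⟩ := exists_PB hna 23 (m := 10644480) hG (by norm_num)
  have k1 := of_kp hna hG dvd_rfl (by norm_num) k23 B hc fun χ => bne_iff_ne.mpr
    (ne_eleven hna hG.dvd (by rw [hG]; norm_num) (by rw [hG]; norm_num) χ)
  simp only [Bool.or_eq_true, Bool.and_eq_true, beq_iff_eq] at k1
  obtain ⟨rfl, rfl⟩ := k1.resolve_left (not_side hna hG dvd_rfl B hc)
  exact ⟨P, ⟨B⟩, selfcent_of_card B.card hc⟩

end H17.Ord.M24
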