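import Mathlib
import Cfsg.Agent.Base
import Cfsg.Agent.Lib.Ord.M24L
import Cfsg.Agent.Lib.Ord.M23C
import Cfsg.Agent.Lib.Ord.Gk

/-! A simple group of order 244823040 with the local data of `M₂₄` is `M₂₄`. -/

set_option autoImplicit false
set_option linter.unusedSectionVars false
set_option linter.style.haveILetI false

open Cfsg H4.Sv MulAction

namespace H17.Ord.M24

theorem fix23 {K β : Type*} [Group K] [Fintype K] [IsSimpleGroup K] [MulAction K β] [Finite β]
    [FaithfulSMul K β] (hK : Nat.card K = 10200960) (hβ : Nat.card β = 23) :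
    ∑ g : K, (Nat.card (fixedBy β g)).descFactorial 4 < 2 * Nat.card K ∧
    (∀ g : K, orderOf g = 4 → Nat.card (fixedBy β g) = 3) ∧
    ∀ g : K, orderOf g = 2 → Nat.card (fixedBy β g) = 7 := by
  classical
  have na := M23.hna hK
  obtain ⟨P, ⟨B⟩, hC⟩ := M23.exists23 hK
  obtain ⟨Q, ⟨A⟩, hA⟩ := M23.exists11 hK B hC
  obtain ⟨H, -, h2, h3, h4, h5, h6⟩ := M23.exists_perm hK B hC A hA
  suffices k : ∀ g : K, Nat.card (fixedBy β g) = Nat.card (fixedBy (K ⧸ H) g) by
    simp only [k]; exact ⟨h3, h4, h5⟩
  haveI : Nonempty β := (Nat.card_pos_iff.mp (by omega)).1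
  haveI : Nonempty (orbitRel.Quotient K β) := ⟨Quotient.mk _ (Classical.arbitrary β)⟩
  have f1 : Nat.card (fixedBy (K ⧸ H) (1 : K)) = 23 := by
    rw [fixedBy_one_eq_univ, Nat.card_univ, ← Subgroup.index, h2]
  obtain ⟨m, m1, -⟩ := exists_dec (n := 22) (H6.isCharacter_sub_of_inner_ne_zero
    (H6.isCharacter_fixedBy (G := K) β) H6.isIrrCharacter_one (by
      rw [H6.classInner_fixedBy_one]; exact_mod_cast Nat.card_pos.ne'))
    (by rw [Pi.sub_apply, fixedBy_one_eq_univ, Nat.card_univ, hβ]; norm_num) [1, 22] (by decide)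
    fun ψ h => by
      rcases h6 ψ h with rfl | k
      · simp [dg_triv]
      · have := k 1
        rw [dg_cast, f1] at this
        simp [show dg ψ = 22 from Nat.cast_injective (R := ℂ) (this.trans (by norm_num))]
  have e : ∀ g : K, (Nat.card (fixedBy β g) : ℤ) - 1 =
      m 1 + m 22 * (Nat.card (fixedBy (K ⧸ H) g) - 1) := fun g => by
    have := m1 g (fun d => if d = 1 then 1 else Nat.card (fixedBy (K ⧸ H) g) - 1) fun ψ h => by
      split_ifs with k
      · rw [eq_triv_of_dg na k, triv_apply, Int.cast_one]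
      · rcases h6 ψ (by simp at h; omega) with rfl | e
        · exact absurd dg_triv k
        · rw [e]; push_cast; rfl
    apply Int.cast_injective (α := ℂ)
    simpa using this
  have e1 := e 1
  rw [f1, fixedBy_one_eq_univ, Nat.card_univ, hβ] at e1
  by_cases k : m 22 = 0
  · obtain ⟨a, b, hab⟩ := na
    have : ∀ g : K, g = 1 := fun g => eq_of_smul_eq_smul (α := β) fun x => by
      have := e g
      rw [k] at this e1
      rw [one_smul]
      exact (Set.eq_of_subset_of_ncard_le (Set.subset_univ (fixedBy β g)) (by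
        rw [Set.ncard_univ, ← Nat.card_coe_set_eq]; omega)).ge (Set.mem_univ x)
    exact absurd ((this _).trans (this _).symm) hab
  · intro g
    have := e g
    rw [show m 22 = 1 by omega, show m 1 = 0 by omega] at this
    omega

variable {G : Type*} [Group G] [Finite G]

theorem simple_sub {P : Subgroup G} (B : PB G 23 P 11) (hC : Subgroup.centralizer (P : Set G) = P)
    {H : Subgroup G} (hH : Nat.card H = 10200960) : IsSimpleGroup H := by
  obtain ⟨S⟩ : Nonempty (Sylow 23 H) := inferInstance
  have hS : Nat.card (S : Subgroup H) = 23 := by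
    rw [S.card_eq_multiplicity, hH, show Nat.factorization 10200960 23 = 1 by decide +kernel]; rfl
  haveI : IsCyclic (S : Subgroup H) := isCyclic_of_prime_card hS
  obtain ⟨x, hx⟩ := exists_prime_orderOf_dvd_card' (G := (S : Subgroup H)) 23 hS.symm.dvd
  rw [← Subgroup.orderOf_coe, ← Subgroup.orderOf_coe] at hx
  have e1 : Nat.card (Subgroup.centralizer ((S : Subgroup H) : Set H)) = 23 := by
    have k1 := card_cent_dvd B.card B.ind hx.symm.dvd
    rw [hC, B.card] at k1
    refine le_antisymm (le_trans ?_ (Nat.le_of_dvd (by norm_num) k1))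
      (hS.ge.trans (Subgroup.card_le_of_le (Subgroup.le_centralizer _)))
    exact Nat.card_le_card_of_injective (fun y => ⟨y.1.1, Subgroup.mem_centralizer_singleton_iff.mpr
      (congrArg Subtype.val (y.2 x x.2)).symm⟩) fun a b h =>
        Subtype.ext (Subtype.ext (congrArg (Subtype.val (p := (· ∈ Subgroup.centralizer _))) h))
  have e4 : Nat.card (Subgroup.normalizer ((S : Subgroup H) : Set H)) = 23 * 11 := by
    have a1 : _ = (Subgroup.normalizer ((S : Subgroup H) : Set H)).index :=
      S.card_eq_index_normalizer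
    have a2 := card_sylow_modEq_one 23 H
    have a3 := (Subgroup.normalizer ((S : Subgroup H) : Set H)).card_mul_index
    have a4 := Subgroup.card_subgroup_dvd_card (S : Subgroup H).normalizerMonoidHom.range
    rw [IsCyclic.card_mulAut, hS, ← Subgroup.index_ker, Subgroup.normalizerMonoidHom_ker] at a4
    have a5 := ((Subgroup.centralizer ((S : Subgroup H) : Set H)).subgroupOf
      (Subgroup.normalizer ((S : Subgroup H) : Set H))).card_mul_index
    rw [Nat.card_congr (Subgroup.subgroupOfEquivOfLe
      (Subgroup.centralizer_le_normalizer _)).toEquiv, e1] at a5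
    rw [← a1, ← a5, hH] at a3
    rw [← a5]
    have a6 := Nat.le_of_dvd (by decide) a4
    rw [show Nat.totient 23 = 22 by decide] at a4 a6
    unfold Nat.ModEq at a2
    generalize ((Subgroup.centralizer ((S : Subgroup H) : Set H)).subgroupOf
      (Subgroup.normalizer ((S : Subgroup H) : Set H))).index = r at *
    interval_cases r <;> omega
  exact simple_of_selfcent (m := 443520) (by norm_num) hH S hS e1 e4 (by norm_num)
    (not_dvd_pow_sub_one (by norm_num) (by decide +kernel))

theorem iso_of_action (hG : Nat.card G = 244823040) {P : Subgroup G} (B : PB G 23 P 11)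
    (hC : Subgroup.centralizer (P : Set G) = P) {α : Type*} [MulAction G α] [FaithfulSMul G α]
    [IsPretransitive G α] (hα : Nat.card α = 24) : Nonempty (G ≃* M24) := by
  classical
  haveI : Finite α := Nat.finite_of_card_ne_zero (by omega)
  letI := Fintype.ofFinite α
  letI := Fintype.ofFinite G
  have key : ∀ a : α, _ := fun a => by
    have c2 : Nat.card (stabilizer G a) = 10200960 := by
      have := (stabilizer G a).index_mul_card
      rw [index_stabilizer_of_transitive, hα, hG] at this
      omega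
    haveI := simple_sub B hC c2
    have c3 : Nat.card (SubMulAction.ofStabilizer G a) = 23 := by
      have := fintype_card_ofStabilizer (G := G) a
      rw [← Nat.card_eq_fintype_card, ← Nat.card_eq_fintype_card, hα] at this
      omega
    haveI : FaithfulSMul (stabilizer G a) (SubMulAction.ofStabilizer G a) := ⟨fun {g k} hgk => by
      refine Subtype.ext (eq_of_smul_eq_smul (α := α) fun ω => ?_)
      by_cases e : ω = a
      · rw [e, g.2, k.2]
      · exact congrArg Subtype.val (hgk ⟨ω, e⟩)⟩
    exact fix23 c2 c3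
  have fx : ∀ (g : G) (a : α) (h : g ∈ stabilizer G a), Nat.card (fixedBy α g) =
      Nat.card (fixedBy (SubMulAction.ofStabilizer G a) (⟨g, h⟩ : stabilizer G a)) + 1 :=
    fun g a h => by
      rw [Nat.card_coe_set_eq, Nat.card_coe_set_eq, ← Set.ncard_image_of_injective _
        Subtype.val_injective, ← Set.ncard_insert_of_notMem (a := a) (by rintro ⟨b, -, e⟩; exact b.2 e)]
      congr 1
      ext b
      refine ⟨fun k => or_iff_not_imp_left.mpr fun e => ⟨⟨b, e⟩, Subtype.ext k, rfl⟩, ?_⟩
      rintro (rfl | ⟨b, k, rfl⟩)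
      exacts [h, congrArg Subtype.val k]
  have ex : ∀ g : G, 5 ≤ Nat.card (fixedBy α g) → ∃ a : α, g ∈ stabilizer G a := fun g h => by
    obtain ⟨a⟩ := (Nat.card_pos_iff.mp (show 0 < Nat.card (fixedBy α g) by omega)).1
    exact ⟨a, a.2⟩
  obtain ⟨a⟩ := (Nat.card_pos_iff.mp (show 0 < Nat.card α by omega)).1
  rw [Nat.card_eq_fintype_card] at hα
  obtain ⟨D, hD, hinv⟩ := steiner_of_48 (G := G) (α := α) (k := 5)
    (SubMulAction.ofStabilizer.isMultiplyPretransitive.mpr (multi_of_sum (key a).1))
    (by rw [hα, hG]; rfl) (fun g h => by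
      by_contra k
      obtain ⟨a, e⟩ := ex g (not_lt.mp k)
      rw [fx g a e, (key a).2.1 _ (by rw [Subgroup.orderOf_mk, h])] at k
      omega) fun g h k => by
      obtain ⟨a, e⟩ := ex g k
      rw [fx g a e, (key a).2.2 _ (by rw [Subgroup.orderOf_mk, h])]
  obtain ⟨g, -, -, φ, -⟩ := H17.aut24 hα hD
  let f : G →* setSystemAut D := (toPermHom G α).codRestrict _ fun g => mem_aut_iff.mpr (hinv g)
  have hf : Function.Bijective f := (Nat.bijective_iff_injective_and_card _).mpr
    ⟨fun a b e => toPerm_injective (congrArg Subtype.val e), by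
      rw [hG, ← Nat.card_congr φ.toEquiv, H15.card_M24]⟩
  exact ⟨(MulEquiv.ofBijective f hf).trans φ.symm⟩

theorem Main.iso [IsSimpleGroup G] (hG : Nat.card G = 244823040) (M : Main G) :
    Nonempty (G ≃* M24) := by
  classical
  letI := Fintype.ofFinite G
  have na := hna hG
  obtain ⟨U, hU, e⟩ := degs_eq hG M
  obtain ⟨f1, f2⟩ := (by decide : ∀ u ∈ FG, u.count 23 = 1 ∧
    ∀ d ∈ u, d ≤ 276 → d ∈ [1, 23, 45, 231, 252, 253]) U
    ((List.mem_append.mp hU).resolve_right fun h => not_bad hG M h e)
  obtain ⟨χ, -, d1, u1⟩ := cnt_eq_one (S := (Finset.univ : Finset (IrrCharacter G))) (d := 23)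
    (by rw [← count_dU (by norm_num), e, Multiset.coe_count, f1])
  replace u1 := fun ψ => u1 ψ (Finset.mem_univ _)
  choose r hr using int_of_unique (χ := χ) fun ψ h => u1 ψ (h.trans d1)
  have hD : ∀ θ : IrrCharacter G, dg θ ≤ 276 → dg θ ∈ [1, 23, 45, 231, 252, 253] := fun θ h => by
    by_cases k : θ = triv G
    · simp [k, dg_triv]
    · exact f2 _ (show dg θ ∈ (U : Multiset ℕ) from e ▸ mem_dU.mpr ⟨θ, k, rfl⟩) h
  obtain ⟨x, -, hx⟩ := M.B.exists_sing
  obtain ⟨y, -, hy⟩ := M.A.exists_sing
  have vx : ∀ {g : G}, 23 ∣ orderOf g → ∀ θ : IrrCharacter G, dg θ ∈ [1, 23, 45, 231, 252, 253] →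
      (θ : G → ℂ) g = (if dg θ % 23 = 0 then 0 else if dg θ % 23 = 1 then 1 else -1 : ℤ) :=
    fun h θ k => M.B.val_sg (by norm_num) M.hB
      (by simp only [List.mem_cons, List.not_mem_nil, or_false] at k; omega) h
  have vy : ∀ {g : G}, 11 ∣ orderOf g → ∀ θ : IrrCharacter G, dg θ ∈ [1, 23, 45, 231, 252, 253] →
      (θ : G → ℂ) g = (if dg θ % 11 = 0 then 0 else if dg θ % 11 = 1 then 1 else -1 : ℤ) :=
    fun h θ k => M.A.val_sg (by norm_num) M.hA
      (by simp only [List.mem_cons, List.not_mem_nil, or_false] at k; omega) h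
  have x1 := vx hx.symm.dvd χ (by simp [d1])
  have x2 := vx (g := x * x) (by rw [← sq, Nat.Coprime.orderOf_pow (by rw [hx]; norm_num), hx]) χ
    (by simp [d1])
  have y1 := vy hy.symm.dvd χ (by simp [d1])
  have y2 := vy (g := y * y) (by rw [← sq, Nat.Coprime.orderOf_pow (by rw [hy]; norm_num), hy]) χ
    (by simp [d1])
  have dec := fun (θ : G → ℂ) hθ (n : ℕ) (h1 : θ 1 = n) (hn : n ≤ 276) =>
    exists_dec hθ h1 _ (by decide) fun ψ h => hD ψ (h.trans hn)
  have N0 : (Nat.card G : ℂ) ≠ 0 := by exact_mod_cast Nat.card_pos.ne'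
  have S1 := H87.sum_sq_of_isReal χ.2 (isReal_of_int hr)
  have S2 : ∑ g, (χ : G → ℂ) (g * g) = Nat.card G := by
    have := H87.nu_eq_one_of_odd_deg χ.2 (isReal_of_int hr) (by change Odd (dg χ); rw [d1]; decide)
    rw [H87.nu_def, inv_mul_eq_one₀ N0] at this
    exact this.symm
  obtain ⟨m, m1, m2⟩ := dec _ (H84.isCharacter_alt (irr_chr χ)) 253
    (by rw [H84.alt, mul_one, dg_cast, d1]; norm_num) (by norm_num)
  have e1 := m1 1 (fun d => d) fun ψ _ => by rw [dg_cast]; rfl
  have e2 := m1 x (fun d => if d % 23 = 0 then 0 else if d % 23 = 1 then 1 else -1) (vx hx.symm.dvd)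
  have e3 := m1 y (fun d => if d % 11 = 0 then 0 else if d % 11 = 1 then 1 else -1) (vy hy.symm.dvd)
  rw [H84.alt] at e1 e2 e3
  replace e1 := Int.cast_injective ((show ((253 : ℤ) : ℂ) = _ by
    rw [mul_one, dg_cast, d1]; norm_num).trans e1)
  replace e2 := Int.cast_injective ((show ((0 : ℤ) : ℂ) = _ by rw [x1, x2, d1]; norm_num).trans e2)
  replace e3 := Int.cast_injective ((show ((0 : ℤ) : ℂ) = _ by rw [y1, y2, d1]; norm_num).trans e3)
  simp only [List.map_cons, List.map_nil, List.sum_cons, List.sum_nil] at e1 e2 e3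
  norm_num at e1 e2 e3
  have h0 : m 252 = 0 := by
    by_contra h
    obtain ⟨L, l1, l2⟩ := m2 [1, 252] (by simp; omega) (by simp)
    obtain ⟨a, b, rfl⟩ := List.length_eq_two.mp
      (show L.length = 2 by simpa using congrArg List.length l1)
    simp only [List.map_cons, List.map_nil, List.cons.injEq, and_true, List.sum_cons, List.sum_nil,
      add_zero] at l1 l2
    have : ∑ g, H84.alt (χ : G → ℂ) g = _ := Finset.sum_congr rfl fun g _ => l2 g
    simp only [H84.alt, ← Finset.sum_div, Finset.sum_sub_distrib, Finset.sum_add_distrib, S1, S2,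
      sum_eq_zero_of_ne (χ := b) (by omega), eq_triv_of_dg na l1.1, triv_apply] at this
    exact N0 (by simpa using this.symm)
  obtain ⟨L, l1, l2⟩ := m2 [253] (by simp; omega) (by simp)
  obtain ⟨ψ, rfl⟩ := List.length_eq_one_iff.mp
    (show L.length = 1 by simpa using congrArg List.length l1)
  simp only [List.map_cons, List.map_nil, List.cons.injEq, and_true, List.sum_cons, List.sum_nil,
    add_zero] at l1 l2
  have S : ∑ g, H84.sym (χ : G → ℂ) g ≠ 0 := by
    simp only [H84.sym, ← Finset.sum_div, Finset.sum_add_distrib, S1, S2]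
    simp
  clear e1 e2 e3 h0 m1 m2 m
  obtain ⟨m, m1, m2⟩ := dec _ (H84.isCharacter_sym (irr_chr χ)) 276
    (by rw [H84.sym, mul_one, dg_cast, d1]; norm_num) (by norm_num)
  have e1 := m1 1 (fun d => d) fun ψ _ => by rw [dg_cast]; rfl
  have e2 := m1 x (fun d => if d % 23 = 0 then 0 else if d % 23 = 1 then 1 else -1) (vx hx.symm.dvd)
  have e3 := m1 y (fun d => if d % 11 = 0 then 0 else if d % 11 = 1 then 1 else -1) (vy hy.symm.dvd)
  rw [H84.sym] at e1 e2 e3
  replace e1 := Int.cast_injective ((show ((276 : ℤ) : ℂ) = _ by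
    rw [mul_one, dg_cast, d1]; norm_num).trans e1)
  replace e2 := Int.cast_injective ((show ((0 : ℤ) : ℂ) = _ by rw [x1, x2, d1]; norm_num).trans e2)
  replace e3 := Int.cast_injective ((show ((1 : ℤ) : ℂ) = _ by rw [y1, y2, d1]; norm_num).trans e3)
  simp only [List.map_cons, List.map_nil, List.sum_cons, List.sum_nil] at e1 e2 e3
  norm_num at e1 e2 e3
  have h1 : m 1 ≠ 0 := fun h => by
    obtain ⟨L, l1, l2⟩ := m2 (List.replicate (m 23) 23 ++ List.replicate (m 45) 45 ++
      List.replicate (m 231) 231 ++ List.replicate (m 252) 252 ++ List.replicate (m 253) 253)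
      (by simp [List.count_replicate]; omega)
      (by simp only [List.mem_append, List.mem_replicate]
          rintro d ((((h | h) | h) | h) | h) <;> simp [h.2])
    refine S ?_
    simp only [l2]
    exact sum_list_zero (by simp [l1])
  obtain ⟨L, l3, l4⟩ := m2 [1, 23, 252] (by simp; omega) (by simp)
  obtain ⟨a, b, φ, rfl⟩ := List.length_eq_three.mp
    (show L.length = 3 by simpa using congrArg List.length l3)
  simp only [List.map_cons, List.map_nil, List.cons.injEq, and_true, List.sum_cons, List.sum_nil,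
    add_zero] at l3 l4
  obtain ⟨H, k1, k2, -⟩ := action_of_sq (φ := φ) hr (fun g => by
    rw [l4, eq_triv_of_dg na l3.1, u1 b l3.2.1, triv_apply, add_assoc]) l2 (by omega) (by omega)
    (by omega) (by omega) fun θ h => by
      have := hD θ (by omega)
      simp only [List.mem_cons, List.not_mem_nil, or_false] at this
      exact (show dg θ = 1 ∨ dg θ = 23 by omega).imp (eq_triv_of_dg na) (u1 θ)
  haveI := faithful_quot k1
  exact iso_of_action hG M.B M.hB (α := G ⧸ H) (by rw [← Subgroup.index, k2, d1])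

end H17.Ord.M24
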